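import Cfsg.Agent.S1472
import Cfsg.Agent.S1546

/-!
Owner: helper16. The field structure on the kernel of a full side and the final contradiction
(Bender–Glauberman Appendix C).
-/

set_option autoImplicit false
set_option linter.unusedSectionVars false

namespace CfsgLib.OddLocal.Final

open Subgroup

universe v

variable {G : Type v} [Group G] [Finite G]

theorem false_of_normalized {p q : ℕ} (hp : p.Prime) (hq : q.Prime) (hq2 : q ≠ 2) (hlt : q < p)
    {H U W₂ Q : Subgroup G} (hH : Cfsg.IsElementaryAbelian p H) (hHc : Nat.card H = p ^ q)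
    (hW₂H : W₂ ≤ H) (hW₂c : Nat.card W₂ = p) (hUn : U ≤ normalizer (H : Set G)) (hU : IsMulCommutative U)
    (hfree : ∀ u ∈ U, u ≠ 1 → ∀ x ∈ H, u * x = x * u → x = 1)
    (hUcard : Nat.card U * (p - 1) = p ^ q - 1) (hmod : Nat.card U % q = 1)
    (hQ : IsMulCommutative Q) (hQp : (Nat.card Q).Coprime p) (hW₂Q : W₂ ≤ normalizer (Q : Set G))
    {y : G} (hy : y ∈ Q) (hyU : W₂.map (MulAut.conj y).toMonoidHom ≤ normalizer (U : Set G)) : False := by
  classical
  have hp2 : p ≠ 2 := by have := hq.two_le; omega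
  have := Fact.mk hp
  have := Fact.mk hq
  have hN : (p ^ q - 1) / (p - 1) = Nat.card U := by
    rw [← hUcard, Nat.mul_div_cancel _ (by have := hp.two_le; omega)]
  obtain ⟨-, hdiv, hcop⟩ := Cfsg.Agent.S1546.result p q hp hq hp2 hq2
  have hpq : p % q ≠ 1 := fun e => by
    have h := Nat.dvd_iff_mod_eq_zero.mp (hdiv e)
    rw [hN, hmod] at h
    omega
  obtain ⟨hA, -⟩ := hcop hpq
  -- `H` as a module
  let hcg : CommGroup H := { (inferInstance : Group H) with mul_comm := hH.1.is_comm.comm }
  let act : U →* AddMonoid.End (Additive H) :=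
    { toFun := fun u => MonoidHom.toAdditive
        { toFun := fun x => (⟨(u : G) * x * (u : G)⁻¹, (mem_normalizer_iff.mp (hUn u.2) x).mp x.2⟩ : H)
          map_one' := Subtype.ext (by simp)
          map_mul' := fun a b => Subtype.ext (by simp [mul_assoc]) }
      map_one' := AddMonoidHom.ext fun a => Additive.toMul.injective (Subtype.ext (by
        show (1 : G) * (a.toMul : H) * (1 : G)⁻¹ = (a.toMul : H)
        simp))
      map_mul' := fun u u' => AddMonoidHom.ext fun a => Additive.toMul.injective (Subtype.ext (by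
        show ((u : G) * u') * (a.toMul : H) * ((u : G) * u')⁻¹ = u * (u' * (a.toMul : H) * (u' : G)⁻¹) * (u : G)⁻¹
        group)) }
  have act_apply : ∀ (u : U) (x : H), ((act u (Additive.ofMul x)).toMul : H) =
      (⟨(u : G) * x * (u : G)⁻¹, (mem_normalizer_iff.mp (hUn u.2) x).mp x.2⟩ : H) := fun u x => rfl
  have : Finite (AddMonoid.End (Additive H)) := Finite.of_injective
    (fun f : AddMonoid.End (Additive H) => (f : Additive H → Additive H)) DFunLike.coe_injective
  set R := Subring.closure (Set.range act) with hR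
  have hRc : ∀ f ∈ R, ∀ g ∈ R, f * g = g * f := by
    intro f hf g hg
    induction hf using Subring.closure_induction with
    | mem f hf =>
      obtain ⟨u, rfl⟩ := hf
      induction hg using Subring.closure_induction with
      | mem g hg =>
        obtain ⟨u', rfl⟩ := hg
        rw [← map_mul, ← map_mul, hU.is_comm.comm u u']
      | zero => simp
      | one => simp
      | add _ _ _ _ h1 h2 => rw [mul_add, add_mul, h1, h2]
      | neg _ _ h1 => exact (Commute.neg_right (R := AddMonoid.End (Additive H)) h1).eq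
      | mul x y _ _ h1 h2 => rw [← mul_assoc, h1, mul_assoc, h2, mul_assoc]
    | zero => simp
    | one => simp
    | add _ _ _ _ h1 h2 => rw [add_mul, mul_add, h1, h2]
    | neg _ _ h1 => exact (Commute.neg_left (R := AddMonoid.End (Additive H)) h1).eq
    | mul x y _ _ h1 h2 => rw [mul_assoc, h2, ← mul_assoc, h1, mul_assoc]
  let instR : CommRing R := { (inferInstance : Ring R) with mul_comm := fun r r' => Subtype.ext (hRc r r.2 r' r'.2) }
  have : Finite R := Finite.of_injective (fun r : R => (r : AddMonoid.End (Additive H))) Subtype.val_injective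
  -- scalars
  have hnp : ∀ a : Additive H, p • a = 0 := fun a => Additive.toMul.injective (Subtype.ext (by
    show (((a.toMul : H) ^ p : H) : G) = 1
    rw [SubmonoidClass.coe_pow]
    exact hH.2 _ a.toMul.2))
  have horder : ∀ a : Additive H, a ≠ 0 → addOrderOf a = p := fun a ha =>
    addOrderOf_eq_prime (hnp a) ha
  -- transitivity
  have hfree' : ∀ (u u' : U) (i j : ℕ) (a : Additive H), a ≠ 0 → 0 < i → i < p → 0 < j → j < p →
      i • act u a = j • act u' a → u = u' ∧ i = j := by
    intro u u' i j a ha hi hip hj hjp he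
    have h1 : i • act (u'⁻¹ * u) a = j • a := by
      have := congrArg (act u'⁻¹) he
      rw [map_nsmul, map_nsmul] at this
      rw [map_mul]
      refine this.trans ?_
      show j • (act u'⁻¹ * act u') a = _
      rw [← map_mul, inv_mul_cancel, map_one]; rfl
    have hNp : (Nat.card U).Coprime (p - 1) := hN ▸ hA
    set w := u'⁻¹ * u with hw
    have hpow : ∀ n : ℕ, (i ^ n) • act (w ^ n) a = (j ^ n) • a := by
      intro n
      induction n with
      | zero => simp
      | succ n ih =>
        rw [pow_succ' w, map_mul]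
        show i ^ (n + 1) • act w (act (w ^ n) a) = _
        rw [pow_succ, mul_comm, mul_nsmul', ← map_nsmul, ih, map_nsmul, ← mul_nsmul', mul_comm, mul_nsmul', h1,
          ← mul_nsmul', pow_succ]
    have h2 := hpow (Nat.card U)
    rw [pow_card_eq_one', map_one, AddMonoid.End.coe_one, id] at h2
    have hadd : addOrderOf a = p := horder a ha
    have h3 : i ^ Nat.card U ≡ j ^ Nat.card U [MOD p] := hadd ▸ nsmul_eq_nsmul_iff_modEq.mp h2
    have hci : i.Coprime p := ((hp.coprime_iff_not_dvd).mpr (fun h => by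
      have := Nat.le_of_dvd hi h; omega)).symm
    have hcj : j.Coprime p := ((hp.coprime_iff_not_dvd).mpr (fun h => by
      have := Nat.le_of_dvd hj h; omega)).symm
    let zi : (ZMod p)ˣ := ZMod.unitOfCoprime i hci
    let zj : (ZMod p)ˣ := ZMod.unitOfCoprime j hcj
    have hz : zi ^ Nat.card U = zj ^ Nat.card U := Units.ext (by
      simp only [Units.val_pow_eq_pow_val, zi, zj, ZMod.coe_unitOfCoprime]
      exact_mod_cast (ZMod.natCast_eq_natCast_iff _ _ _).mpr h3)
    have hzz : zi = zj := by
      refine (powCoprime (G := (ZMod p)ˣ) ?_).injective hz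
      rw [Nat.card_eq_fintype_card, ZMod.card_units]
      exact hNp.symm
    have hij : i = j := by
      have h4 := congrArg (fun z : (ZMod p)ˣ => (z : ZMod p)) hzz
      simp only [zi, zj, ZMod.coe_unitOfCoprime] at h4
      have h5 := (ZMod.natCast_eq_natCast_iff _ _ _).mp h4
      exact Nat.ModEq.eq_of_lt_of_lt h5 hip hjp
    refine ⟨?_, hij⟩
    subst hij
    have h6 : act w a = a := by
      have h7 : i • (act w a - a) = 0 := by rw [nsmul_sub, h1, sub_self]
      by_contra hne
      have := addOrderOf_dvd_iff_nsmul_eq_zero.mpr h7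
      rw [horder _ (sub_ne_zero.mpr hne)] at this
      have := Nat.le_of_dvd hi this
      omega
    by_contra hne
    have hw1 : (w : G) ≠ 1 := fun e => hne (inv_mul_eq_one.mp (Subtype.ext e : w = 1)).symm
    have h8 : (w : G) * (a.toMul : H) * (w : G)⁻¹ = (a.toMul : H) :=
      congrArg (fun b : Additive H => ((b.toMul : H) : G)) h6
    exact ha (Additive.toMul.injective (Subtype.ext (hfree w w.2 hw1 _ a.toMul.2 (mul_inv_eq_iff_eq_mul.mp h8))))
  -- the base point
  obtain ⟨x₀, hx₀W, hx₀1⟩ := W₂.bot_or_exists_ne_one.resolve_left (fun e => by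
    rw [e, card_bot] at hW₂c; exact hp.ne_one hW₂c.symm)
  set a₀ : Additive H := Additive.ofMul ⟨x₀, hW₂H hx₀W⟩ with ha₀
  have ha₀ne : a₀ ≠ 0 := fun e => hx₀1 (congrArg (fun b : Additive H => ((b.toMul : H) : G)) e)
  let ev : R →+ Additive H :=
    { toFun := fun r => (r : AddMonoid.End (Additive H)) a₀
      map_zero' := rfl
      map_add' := fun r r' => rfl }
  have orbit : ∀ a b : Additive H, a ≠ 0 → b ≠ 0 → ∃ (i : ℕ) (u : U), b = i • act u a := by
    intro a b ha hb
    let f : Fin (p - 1) × U → {c : Additive H // c ≠ 0} := fun x => ⟨(x.1.val + 1) • act x.2 a, fun e => by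
      have hne : act x.2 a ≠ 0 := fun e' => ha (by
        have := congrArg (act x.2⁻¹) e'
        rw [map_zero] at this
        change (act x.2⁻¹ * act x.2) a = 0 at this
        rwa [← map_mul, inv_mul_cancel, map_one] at this)
      have := addOrderOf_dvd_iff_nsmul_eq_zero.mpr e
      rw [horder _ hne] at this
      have := Nat.le_of_dvd (by omega) this
      have := x.1.2
      omega⟩
    have hf : Function.Injective f := fun x z e => by
      have hx := x.1.2
      have hz := z.1.2
      obtain ⟨h1, h2⟩ := hfree' x.2 z.2 (x.1.val + 1) (z.1.val + 1) a ha (by omega) (by omega) (by omega)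
        (by omega) (congrArg Subtype.val e)
      exact Prod.ext (Fin.ext (by omega)) h1
    have hc : Nat.card {c : Additive H // c ≠ 0} = p ^ q - 1 := by
      have h1 : Nat.card {c : Additive H // c ≠ 0} = ((Set.univ : Set (Additive H)) \ {0}).ncard := by
        rw [← Nat.card_coe_set_eq]
        exact Nat.card_congr (Equiv.subtypeEquivRight (fun c => by simp))
      rw [h1, Set.ncard_diff (by simp), Set.ncard_univ, Set.ncard_singleton]
      show Nat.card H - 1 = _
      rw [hHc]
    have hs : Function.Surjective f := by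
      refine (Nat.bijective_iff_injective_and_card f).mpr ⟨hf, ?_⟩ |>.2
      rw [Nat.card_prod, Nat.card_fin, hc, mul_comm, hUcard]
    obtain ⟨⟨i, u⟩, hiu⟩ := hs ⟨b, hb⟩
    exact ⟨i.val + 1, u, (congrArg Subtype.val hiu).symm⟩
  have evsurj : Function.Surjective ev := fun b => by
    by_cases hb : b = 0
    · exact ⟨0, by rw [map_zero, hb]⟩
    obtain ⟨i, u, hu⟩ := orbit a₀ b ha₀ne hb
    exact ⟨i • ⟨act u, Subring.subset_closure ⟨u, rfl⟩⟩, by rw [map_nsmul, hu]; rfl⟩
  have evinj : Function.Injective ev := fun r r' h => Subtype.ext (AddMonoidHom.ext fun a => by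
    obtain ⟨s, rfl⟩ := evsurj a
    show ((r * s : R) : AddMonoid.End (Additive H)) a₀ = ((r' * s : R) : AddMonoid.End (Additive H)) a₀
    rw [mul_comm r, mul_comm r']
    show (s : AddMonoid.End (Additive H)) (ev r) = (s : AddMonoid.End (Additive H)) (ev r')
    rw [h])
  have hker : ∀ r : R, r ≠ 0 → ∀ a, (r : AddMonoid.End (Additive H)) a = 0 → a = 0 := by
    intro r hr a ha
    by_contra hne
    refine hr (evinj ?_)
    obtain ⟨i, u, hu⟩ := orbit a a₀ hne ha₀ne
    show (r : AddMonoid.End (Additive H)) a₀ = (0 : AddMonoid.End (Additive H)) a₀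
    rw [hu, map_nsmul]
    show i • ((r : AddMonoid.End (Additive H)) * act u) a = _
    rw [hRc _ r.2 _ (Subring.subset_closure ⟨u, rfl⟩)]
    show i • act u ((r : AddMonoid.End (Additive H)) a) = _
    rw [ha, map_zero, nsmul_zero]; rfl
  have : Nontrivial R := ⟨⟨1, 0, fun e => ha₀ne (congrArg (fun r : R => (r : AddMonoid.End (Additive H)) a₀) e)⟩⟩
  have : NoZeroDivisors R := ⟨fun {r r'} h => by
    by_contra hne
    push Not at hne
    refine hne.2 (evinj ?_)
    refine hker r hne.1 _ ?_
    show ((r * r' : R) : AddMonoid.End (Additive H)) a₀ = 0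
    rw [h]; rfl⟩
  have : IsDomain R := NoZeroDivisors.to_isDomain R
  let : Fintype R := Fintype.ofFinite R
  let : Field R := Fintype.fieldOfDomain R
  let e : R ≃ Additive H := Equiv.ofBijective ev ⟨evinj, evsurj⟩
  let f : G → R := fun g => if h : g ∈ H then e.symm (Additive.ofMul ⟨g, h⟩) else 0
  let ψ : G → R := fun g => if h : g ∈ U then ⟨act ⟨g, h⟩, Subring.subset_closure ⟨_, rfl⟩⟩ else 0
  have hf : ∀ g (h : g ∈ H), ev (f g) = Additive.ofMul ⟨g, h⟩ := fun g h => by
    simp only [f, dif_pos h]
    exact e.apply_symm_apply _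
  have hcard : Fintype.card R = p ^ q := by
    rw [← Nat.card_eq_fintype_card, Nat.card_congr e]
    exact hHc
  -- the prime field is `W₂`
  have hchar : (p : R) = 0 := by
    refine evinj ?_
    rw [map_zero, show (p : R) = p • (1 : R) by rw [nsmul_eq_mul, mul_one], map_nsmul]
    exact hnp _
  have : CharP R p := (CharP.charP_iff_prime_eq_zero hp).mpr hchar
  have hprime : ∀ x ∈ H, f x ^ p = f x → x ∈ W₂ := by
    intro x hx hxp
    have hbot := (Subfield.mem_bot_iff_pow_eq_self (p := p) (x := f x)).mpr hxp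
    obtain ⟨n, hn⟩ : ∃ n : ZMod p, (ZMod.castHom dvd_rfl R) n = f x :=
      (bot_le : (⊥ : Subfield R) ≤ (ZMod.castHom dvd_rfl R).fieldRange) hbot
    have h1 : ev (f x) = n.val • a₀ := by
      rw [← hn, ← ZMod.natCast_zmod_val n, map_natCast, ← nsmul_one, map_nsmul, ZMod.natCast_zmod_val]
      rfl
    rw [hf x hx] at h1
    have h2 : x = x₀ ^ n.val := congrArg (fun b : Additive H => ((b.toMul : H) : G)) h1
    rw [h2]
    exact pow_mem hx₀W _
  refine absurd (Cfsg.Agent.S1472.result p q hA R hcard H U Q f ψ ⟨fun _ _ => Set.mem_univ _, ?_, ?_⟩ ?_ hUn ?_ ?_ ?_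
    hUcard hQ hQp (fun x hx hxp => hW₂Q (hprime x hx hxp)) y hy
    (fun x hx hxp => hyU ⟨x, hprime x hx hxp, rfl⟩)) (by omega)
  · intro g hg g' hg' h
    have := congrArg ev h
    rw [hf g hg, hf g' hg'] at this
    exact congrArg (fun b : Additive H => ((b.toMul : H) : G)) this
  · intro r _
    refine ⟨((ev r).toMul : H), SetLike.coe_mem _, evinj ?_⟩
    rw [hf _ (SetLike.coe_mem _)]
    rfl
  · intro x hx z hz
    refine evinj ?_
    rw [map_add, hf x hx, hf z hz, hf _ (H.mul_mem hx hz)]
    rfl
  · intro u hu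
    refine ⟨fun h => ha₀ne ?_, fun x hx => evinj ?_⟩
    · simp only [ψ, dif_pos hu] at h
      have h1 := congrArg (fun r : R => act (⟨u, hu⟩ : U)⁻¹ ((r : AddMonoid.End (Additive H)) a₀)) h
      change (act (⟨u, hu⟩ : U)⁻¹ * act ⟨u, hu⟩) a₀ = act (⟨u, hu⟩ : U)⁻¹ 0 at h1
      rwa [← map_mul, inv_mul_cancel, map_one, map_zero] at h1
    · rw [hf _ ((mem_normalizer_iff.mp (hUn hu) x).mp hx)]
      show _ = ((ψ u * f x : R) : AddMonoid.End (Additive H)) a₀
      simp only [ψ, dif_pos hu]
      show _ = act ⟨u, hu⟩ (ev (f x))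
      rw [hf x hx]
      rfl
  · intro u hu u' hu'
    simp only [ψ, dif_pos hu, dif_pos hu', dif_pos (U.mul_mem hu hu')]
    exact Subtype.ext (map_mul act ⟨u, hu⟩ ⟨u', hu'⟩)
  · intro u hu u' hu' h
    replace hu : u ∈ U := hu
    replace hu' : u' ∈ U := hu'
    simp only [ψ] at h
    rw [dif_pos hu, dif_pos hu'] at h
    have h' : act ⟨u, hu⟩ a₀ = act ⟨u', hu'⟩ a₀ := congrArg (fun r : R => (r : AddMonoid.End (Additive H)) a₀) h
    exact congrArg Subtype.val (hfree' ⟨u, hu⟩ ⟨u', hu'⟩ 1 1 a₀ ha₀ne Nat.one_pos hp.one_lt Nat.one_pos hp.one_lt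
      (by simpa using h')).1

end CfsgLib.OddLocal.Final
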