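import Mathlib

/-!
Owner: helper5. The numerical lemmas of the odd order endgame (blueprint v2, Steps III-a, 3 and 4).
Throughout `q < p` are odd primes, `x`, `y` the reciprocal character counts of the two sides, and `ε` collects
the negligible terms `1/g` and `P_S - w_S`.
-/

set_option autoImplicit false

namespace CfsgLib.OddLocal.FTFinal

/-- If in each region one of two integer constants is nonzero, the weight is at most the sum of the two masses. -/
theorem sum_weight_le {ι : Type*} (s : Finset ι) (w : ι → ℝ) (a z : ι → ℤ) (hw : ∀ i ∈ s, 0 ≤ w i)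
    (h : ∀ i ∈ s, a i ≠ 0 ∨ z i ≠ 0) :
    ∑ i ∈ s, w i ≤ ∑ i ∈ s, w i * (a i : ℝ) ^ 2 + ∑ i ∈ s, w i * (z i : ℝ) ^ 2 := by
  rw [← Finset.sum_add_distrib]
  refine Finset.sum_le_sum fun i hi => ?_
  have h1 : ∀ t : ℤ, t ≠ 0 → (1 : ℝ) ≤ (t : ℝ) ^ 2 := fun t ht => by
    have h0 : (0 : ℤ) < t ^ 2 := by positivity
    have h1 : (1 : ℤ) ≤ t ^ 2 := by omega
    exact_mod_cast h1
  rcases h i hi with h | h
  · nlinarith [h1 _ h, hw i hi, sq_nonneg (z i : ℝ), mul_nonneg (hw i hi) (sq_nonneg (z i : ℝ))]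
  · nlinarith [h1 _ h, hw i hi, sq_nonneg (a i : ℝ), mul_nonneg (hw i hi) (sq_nonneg (a i : ℝ))]

section

variable {p q : ℕ}

theorem prime_cases (hp : p.Prime) (h : 5 ≤ p) : p = 5 ∨ p = 7 ∨ 11 ≤ p := by
  by_contra hc
  push Not at hc
  obtain ⟨h5, h7, h11⟩ := hc
  interval_cases p <;> norm_num at *

/-- The inequality of the side `T` leaves no free character: `T` is full. -/
theorem T_full (hp : p.Prime) (hq : q.Prime) (hq3 : 3 ≤ q) (hqp : q < p) {u : ℕ} (hu : 2 * q + 1 ≤ u)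
    (hu5 : q = 3 → p = 5 → 31 ≤ u) (hu7 : q = 3 → p = 7 → 19 ≤ u) {x y ε : ℝ}
    (hy : y ≤ 1 / ((p : ℝ) - 1)) (hx : x ≤ 1 / (((q : ℝ) - 1) * (2 * p + 1)))
    (hε : ε ≤ 1 / (400 * q)) (h : (1 / (q : ℝ)) * (1 - y - 1 / u) ≤ p * x + ε) : False := by
  have hp5 : 5 ≤ p := by
    rcases Nat.lt_or_ge p 5 with h5 | h5
    · have : p = 4 := by omega
      subst this; norm_num at hp
    · exact h5
  have hqR : (3 : ℝ) ≤ q := by exact_mod_cast hq3
  have hpR : (5 : ℝ) ≤ p := by exact_mod_cast hp5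
  have huR : (2 : ℝ) * q + 1 ≤ u := by exact_mod_cast hu
  have hpx : (p : ℝ) * x ≤ p / (((q : ℝ) - 1) * (2 * p + 1)) := by
    rw [show (p : ℝ) / (((q : ℝ) - 1) * (2 * p + 1)) = p * (1 / (((q : ℝ) - 1) * (2 * p + 1))) by ring]
    gcongr
  rcases Nat.lt_or_ge q 5 with hq5 | hq5
  · have hq3' : q = 3 := by interval_cases q <;> norm_num at *
    subst hq3'
    norm_num at hε hpx h
    rcases prime_cases hp hp5 with rfl | rfl | h11
    · have : (1 : ℝ) / u ≤ 1 / 31 := by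
        have := hu5 rfl rfl
        gcongr; exact_mod_cast this
      norm_num at hy hpx this h
      linarith
    · have : (1 : ℝ) / u ≤ 1 / 19 := by
        have := hu7 rfl rfl
        gcongr; exact_mod_cast this
      norm_num at hy hpx this h
      linarith
    · have h11R : (11 : ℝ) ≤ p := by exact_mod_cast h11
      have h1 : (1 : ℝ) / u ≤ 1 / 7 := by
        have h7u : (7 : ℝ) ≤ u := by exact_mod_cast (by omega : 7 ≤ u)
        gcongr
      have h2 : y ≤ 1 / 10 := hy.trans (by gcongr; linarith)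
      have h3 : (p : ℝ) / (2 * (2 * p + 1)) ≤ 1 / 4 := by
        rw [div_le_iff₀ (by positivity)]; linarith
      norm_num at h1
      linarith
  · have h5R : (5 : ℝ) ≤ q := by exact_mod_cast hq5
    have h7 : (7 : ℝ) ≤ p := by
      have : 7 ≤ p := by
        rcases Nat.lt_or_ge p 7 with h7 | h7
        · have : p = 6 := by omega
          subst this; norm_num at hp
        · exact h7
      exact_mod_cast this
    have h1 : (1 : ℝ) / u ≤ 1 / 11 := by gcongr; linarith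
    have h2 : y ≤ 1 / 6 := hy.trans (by gcongr; linarith)
    have h3 : (p : ℝ) / (((q : ℝ) - 1) * (2 * p + 1)) ≤ 5 / (8 * q) := by
      rw [div_le_div_iff₀ (by nlinarith) (by positivity)]
      nlinarith
    have h4 : (1 / (q : ℝ)) * (1 - 1 / 6 - 1 / 11) ≤ p * x + ε := by
      refine le_trans ?_ h
      gcongr
    have h5' : (1 / (q : ℝ)) * (1 - 1 / 6 - 1 / 11) ≤ 5 / (8 * q) + 1 / (400 * q) := by linarith
    have hq0 : (0 : ℝ) < 1 / q := by positivity
    rw [show (5 : ℝ) / (8 * q) = (1 / q) * (5 / 8) by ring,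
      show (1 : ℝ) / (400 * q) = (1 / q) * (1 / 400) by ring, ← mul_add] at h5'
    exact absurd (le_of_mul_le_mul_left h5' hq0) (by norm_num)

/-- The inequality of the side `S`: the total index `k` (of `u` times `|C|`) is small. -/
theorem S_bound (hp : p.Prime) (hq : q.Prime) (hq3 : 3 ≤ q) (hqp : q < p) {k : ℕ} (hk : 1 ≤ k)
    {x y v ε : ℝ} (hv : 121 ≤ v) (hx : x ≤ 1 / ((q : ℝ) - 1)) (hy : y ≤ 1 / (((p : ℝ) - 1) * k))
    (hε : ε ≤ 1 / (400 * p)) (h : (1 / (p : ℝ)) * (1 - x - 1 / v) ≤ q * y + ε) :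
    (q = 3 → k ≤ 7) ∧ (q = 3 → 11 ≤ p → k < 7) ∧ (5 ≤ q → k < 2 * q + 1) := by
  have hp5 : 5 ≤ p := by
    rcases Nat.lt_or_ge p 5 with h5 | h5
    · have : p = 4 := by omega
      subst this; norm_num at hp
    · exact h5
  have hpR : (5 : ℝ) ≤ p := by exact_mod_cast hp5
  have hqR : (3 : ℝ) ≤ q := by exact_mod_cast hq3
  have hkR : (1 : ℝ) ≤ k := by exact_mod_cast hk
  have hv1 : 1 / v ≤ 1 / 121 := by gcongr
  have hp0 : (0 : ℝ) < p := by positivity
  have hd : (0 : ℝ) < ((p : ℝ) - 1) * k := by nlinarith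
  have key : (1 - x - 1 / v - 1 / 400) * (((p : ℝ) - 1) * k) ≤ p * q := by
    have h1 : (1 / (p : ℝ)) * (1 - x - 1 / v) ≤ q * (1 / (((p : ℝ) - 1) * k)) + 1 / (400 * p) := by
      refine h.trans (add_le_add ?_ hε)
      gcongr
    have h2 := mul_le_mul_of_nonneg_left h1 (mul_nonneg hp0.le hd.le)
    have e1 : (p : ℝ) * (((p : ℝ) - 1) * k) * ((1 / p) * (1 - x - 1 / v)) =
        (1 - x - 1 / v) * (((p : ℝ) - 1) * k) := by field_simp
    have e2 : (p : ℝ) * (((p : ℝ) - 1) * k) * (q * (1 / (((p : ℝ) - 1) * k)) + 1 / (400 * p)) =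
        p * q + (((p : ℝ) - 1) * k) / 400 := by
      have : (p : ℝ) - 1 ≠ 0 := by linarith
      field_simp
    rw [e1, e2] at h2
    linarith
  refine ⟨fun hq' => ?_, fun hq' h11 => ?_, fun hq5 => ?_⟩
  · subst hq'
    norm_num at hx
    have hc : (489 / 1000 : ℝ) ≤ 1 - x - 1 / v - 1 / 400 := by linarith
    have h1 := (mul_le_mul_of_nonneg_right hc hd.le).trans key
    push_cast at h1
    by_contra hlt
    have h8 : (8 : ℝ) ≤ k := by exact_mod_cast (by omega : 8 ≤ k)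
    nlinarith [mul_nonneg (sub_nonneg.mpr h8) (show (0 : ℝ) ≤ (p : ℝ) - 1 by linarith)]
  · subst hq'
    norm_num at hx
    have hc : (489 / 1000 : ℝ) ≤ 1 - x - 1 / v - 1 / 400 := by linarith
    have h1 := (mul_le_mul_of_nonneg_right hc hd.le).trans key
    push_cast at h1
    by_contra hlt
    have h7 : (7 : ℝ) ≤ k := by exact_mod_cast (by omega : 7 ≤ k)
    have h11R : (11 : ℝ) ≤ p := by exact_mod_cast h11
    nlinarith [mul_nonneg (sub_nonneg.mpr h7) (show (0 : ℝ) ≤ (p : ℝ) - 1 by linarith)]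
  · have h5R : (5 : ℝ) ≤ q := by exact_mod_cast hq5
    have hx' : x ≤ 1 / 4 := hx.trans (by gcongr; linarith)
    have hc : (73 / 100 : ℝ) ≤ 1 - x - 1 / v - 1 / 400 := by linarith
    have h1 : (73 / 100 : ℝ) * (((p : ℝ) - 1) * k) ≤ p * q :=
      (mul_le_mul_of_nonneg_right hc hd.le).trans key
    by_contra hlt
    have h2 : 2 * (q : ℝ) + 1 ≤ k := by exact_mod_cast (by omega : 2 * q + 1 ≤ k)
    nlinarith [mul_nonneg (sub_nonneg.mpr h2) (show (0 : ℝ) ≤ (p : ℝ) - 1 by linarith)]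

/-- The case `e = q`: the kernel of `L` cannot exceed `u`. -/
theorem e_eq_q {u m : ℕ} (hq3 : 3 ≤ q) (hu : 1 ≤ u) (hm : 2 * q + 1 ≤ m) {y : ℝ} (hy : y ≤ 1)
    (h : (m : ℝ) * u - 1 ≤ u + y) : False := by
  have h7 : (7 : ℝ) ≤ m := by exact_mod_cast (by omega : 7 ≤ m)
  have h1 : (1 : ℝ) ≤ u := by exact_mod_cast hu
  nlinarith

theorem pow_pred_le {u i : ℕ} (hp : 2 ≤ p) (hq : 1 ≤ q) (h : u * i * (p - 1) = p ^ q - 1) :
    p ^ (q - 1) ≤ u * i := by
  have h1 : 1 ≤ p ^ (q - 1) := Nat.one_le_pow _ _ (by omega)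
  have h2 : p ^ (q - 1) * p = p ^ q := by rw [← pow_succ]; congr 1; omega
  have h3 : p ^ (q - 1) * (p - 1) ≤ u * i * (p - 1) := by
    rw [h, Nat.mul_sub, h2, mul_one]; omega
  exact Nat.le_of_mul_le_mul_right h3 (by omega)

/-- A multiple of `u` with the congruences of the kernel of `L` below either bound is `u` itself,
and then `u` is full. -/
theorem kernel_index (hp : p.Prime) (hq : q.Prime) (hq3 : 3 ≤ q) (hqp : q < p) {u i m : ℕ}
    (hi : i = 1 ∨ (i = q ∧ q ∣ p - 1)) (hui : u * i * (p - 1) = p ^ q - 1)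
    (hm : m % (2 * q) = 1) (hmp : m ≡ i [MOD p])
    (hb : m * u ≤ p * (u + 1) + 1 ∨ m * u ≤ p ^ 2 * q ^ 2 + p ^ 2 + 1 ∨ (p = 5 ∧ q = 3 ∧ m * u ≤ 368)) :
    i = 1 ∧ m = 1 := by
  have hp5 : 5 ≤ p := by
    rcases Nat.lt_or_ge p 5 with h5 | h5
    · have : p = 4 := by omega
      subst this; norm_num at hp
    · exact h5
  have hlow := pow_pred_le hp.two_le (by omega) hui
  have hp2 : p ^ 2 ≤ p ^ (q - 1) := Nat.pow_le_pow_right (by omega) (by omega)
  rcases hi with rfl | ⟨hiq, hdvd⟩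
  · refine ⟨rfl, ?_⟩
    by_contra hne
    have hm1 : 1 ≤ m := Nat.pos_of_ne_zero fun e => by rw [e, Nat.zero_mod] at hm; omega
    have h1 : (2 * q) ∣ m - 1 := (Nat.modEq_iff_dvd' hm1).mp (by
      rw [Nat.ModEq, hm, Nat.mod_eq_of_lt (by omega)])
    have h2 : p ∣ m - 1 := (Nat.modEq_iff_dvd' (by omega)).mp hmp.symm
    have hcop : Nat.Coprime (2 * q) p := by
      refine Nat.Coprime.mul_left ?_ ?_
      · exact (Nat.coprime_primes Nat.prime_two hp).mpr (by omega)
      · exact (Nat.coprime_primes hq hp).mpr (by omega)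
    have hm0 : 1 ≤ m - 1 := by omega
    have hbig : 2 * q * p ≤ m - 1 := Nat.le_of_dvd hm0 (hcop.mul_dvd_of_dvd_of_dvd h1 h2)
    have hmu : (2 * q * p + 1) * u ≤ m * u := Nat.mul_le_mul_right u (by omega)
    rw [mul_one] at hlow
    have hu0 : 1 ≤ u := le_trans (Nat.one_le_pow _ _ (by omega)) hlow
    rcases hb with hb | hb | ⟨rfl, rfl, hb⟩
    · have h6 : 6 * p * u ≤ 2 * q * p * u :=
        Nat.mul_le_mul_right u (Nat.mul_le_mul_right p (by omega))
      have hpu : p ≤ p * u := Nat.le_mul_of_pos_right p hu0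
      nlinarith
    · rcases Nat.lt_or_ge q 5 with hq5 | hq5
      · have : q = 3 := by interval_cases q <;> norm_num at *
        subst this
        norm_num at hlow hmu hb
        nlinarith
      · have h4 : p ^ 4 ≤ p ^ (q - 1) := Nat.pow_le_pow_right (by omega) (by omega)
        have hqq : q ^ 2 ≤ p ^ 2 := Nat.pow_le_pow_left (by omega) 2
        have a1 : p ^ 2 * q ^ 2 ≤ p ^ 4 :=
          le_trans (Nat.mul_le_mul_left (p ^ 2) hqq) (le_of_eq (by ring))
        have a2 : (2 * q * p + 1) * p ^ 4 ≤ (2 * q * p + 1) * u := Nat.mul_le_mul_left _ (h4.trans hlow)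
        have a3 : 4 * p ^ 4 ≤ (2 * q * p + 1) * p ^ 4 := Nat.mul_le_mul_right _ (by nlinarith)
        have a4 : p ^ 2 ≤ p ^ 4 := Nat.pow_le_pow_right (by omega) (by omega)
        have a5 : 1 ≤ p ^ 4 := Nat.one_le_pow _ _ (by omega)
        omega
    · norm_num at hlow hmu hui hbig; omega
  · subst i
    exfalso
    have hm1 : m ≠ 1 := by
      rintro rfl
      have := Nat.ModEq.eq_of_lt_of_lt hmp (by omega) hqp
      omega
    have hm7 : 2 * q + 1 ≤ m := by
      by_contra hlt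
      rcases Nat.lt_or_ge m (2 * q) with h | h
      · rw [Nat.mod_eq_of_lt h] at hm; exact hm1 hm
      · have : m = 2 * q := by omega
        rw [this, Nat.mod_self] at hm; omega
    rcases hb with hb | hb | ⟨rfl, rfl, hb⟩
    · have hmle : m ≤ p + 1 := by
        by_contra hlt
        have : (p + 2) * u ≤ m * u := Nat.mul_le_mul_right u (by omega)
        nlinarith [Nat.mul_le_mul_left (p + 1) hqp.le]
      have hmp' : m % p = q := by
        rw [hmp, Nat.mod_eq_of_lt hqp]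
      rcases Nat.lt_or_ge m p with h | h
      · rw [Nat.mod_eq_of_lt h] at hmp'; omega
      · have : m % p = m - p := by
          rw [Nat.mod_eq_sub_mod h, Nat.mod_eq_of_lt (by omega)]
        omega
    · rcases Nat.lt_or_ge q 5 with hq5 | hq5
      · have : q = 3 := by interval_cases q <;> norm_num at *
        subst this
        obtain ⟨k, hk⟩ := hdvd
        have hm3 : m % p = 3 := by rw [hmp, Nat.mod_eq_of_lt hqp]
        obtain ⟨t, ht⟩ : ∃ t, m = p * t + 3 := ⟨m / p, by have := Nat.div_add_mod m p; omega⟩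
        have hodd : p % 2 = 1 := Nat.odd_iff.mp (hp.odd_of_ne_two (by omega))
        have ht4 : 4 ≤ t := by
          by_contra hlt
          have : t = 0 ∨ t = 1 ∨ t = 2 ∨ t = 3 := by omega
          rcases this with rfl | rfl | rfl | rfl <;> omega
        have h3 : p ^ 2 + p + 1 = u * 3 := by
          have e : (p ^ 2 + p + 1) * (p - 1) = p ^ 3 - 1 := by
            zify [show 1 ≤ p by omega, Nat.one_le_pow 3 p (by omega)]; ring
          exact Nat.eq_of_mul_eq_mul_right (show 0 < p - 1 by omega) (e.trans hui.symm)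
        have hp7 : 7 ≤ p := by omega
        have hmu : (4 * p + 3) * u ≤ m * u :=
          Nat.mul_le_mul_right u (by rw [ht]; nlinarith)
        norm_num at hb
        nlinarith [Nat.mul_le_mul_left (p ^ 2) hp7, Nat.mul_le_mul_left p hp7]
      · have h4 : p ^ 4 ≤ u * q := le_trans (Nat.pow_le_pow_right (by omega) (by omega)) hlow
        have hmu : (2 * q + 1) * u ≤ m * u := Nat.mul_le_mul_right u hm7
        have hqq : q ^ 2 + 2 ≤ p ^ 2 := by nlinarith
        nlinarith [Nat.mul_le_mul_left (p ^ 2) hqq]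
    · norm_num at hdvd

theorem three_pow_bound (n : ℕ) (hn : 4 ≤ n) : 10 * (n + 3) ^ 2 + 1 ≤ 9 * 3 ^ n := by
  induction n, hn using Nat.le_induction with
  | base => norm_num
  | succ n hn ih =>
    have := pow_succ 3 n
    nlinarith

/-- A full `v` exceeds the bound of two kernels, except for `(q, p) = (3, 5)`. -/
theorem v_large (hp : p.Prime) (hq : q.Prime) (hq3 : 3 ≤ q) (hqp : q < p) {v : ℕ} (hv : v * (q - 1) = q ^ p - 1)
    (hne : ¬ (p = 5 ∧ q = 3)) : p ^ 2 * q ^ 2 + p ^ 2 + 1 ≤ v := by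
  have hp7 : 7 ≤ p := by
    by_contra hlt
    interval_cases p <;> interval_cases q <;> norm_num at *
  have hlow : q ^ (p - 1) ≤ v := by
    have := pow_pred_le (p := q) (q := p) (u := v) (i := 1) (by omega) (by omega) (by rw [mul_one]; exact hv)
    simpa using this
  obtain ⟨n, rfl⟩ : ∃ n, p = n + 3 := ⟨p - 3, by omega⟩
  have h3 : 3 ^ n ≤ q ^ n := Nat.pow_le_pow_left hq3 n
  have hb := three_pow_bound n (by omega)
  have e : q ^ (n + 3 - 1) = q ^ n * q ^ 2 := by rw [← pow_add]; rfl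
  have hq9 : 9 ≤ q ^ 2 := by nlinarith
  rw [e] at hlow
  nlinarith [Nat.mul_le_mul_right (q ^ 2) (h3), Nat.mul_le_mul_left ((n + 3) ^ 2) hq9]

/-- Step III-a, `B = 1`: the residual of `ξ'` is too small for the weight of the type I regions. -/
theorem typeThree_B_one (hq3 : 3 ≤ q) (hp3 : 3 ≤ p) {u v : ℕ} (hu : 2 * q + 1 ≤ u) (hv : 2 * p + 1 ≤ v)
    {W ε : ℝ} (hW : ((q : ℝ) - 1) * v ^ 2 / p ≤ W) (hε : ε ≤ 1 / (400 * q))
    (h : (1 / (q : ℝ)) * (1 - 1 / p - 1 / u) ≤ 1 / W + ε) : False := by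
  have hqR : (3 : ℝ) ≤ q := by exact_mod_cast hq3
  have hpR : (3 : ℝ) ≤ p := by exact_mod_cast hp3
  have huR : (7 : ℝ) ≤ u := by exact_mod_cast (by omega : 7 ≤ u)
  have hvR : 2 * (p : ℝ) + 1 ≤ v := by exact_mod_cast hv
  have h1 : (1 : ℝ) / p ≤ 1 / 3 := by gcongr
  have h2 : (1 : ℝ) / u ≤ 1 / 7 := by gcongr
  have hW' : 4 * q ≤ W := by
    refine le_trans ?_ hW
    rw [le_div_iff₀ (by positivity)]
    have a1 : (2 * (p : ℝ)) ^ 2 ≤ (v : ℝ) ^ 2 := by gcongr; linarith
    have a2 : (2 * q / 3 : ℝ) * (2 * p) ^ 2 ≤ ((q : ℝ) - 1) * v ^ 2 :=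
      mul_le_mul (by linarith) a1 (by positivity) (by linarith)
    nlinarith [mul_le_mul_of_nonneg_left hpR (show (0 : ℝ) ≤ q * p by positivity)]
  have h3 : 1 / W ≤ 1 / (4 * q) := by gcongr
  have h4 : (1 / (q : ℝ)) * (1 - 1 / 3 - 1 / 7) ≤ 1 / (4 * q) + 1 / (400 * q) := by
    refine le_trans ?_ (h.trans (add_le_add h3 hε))
    gcongr
  have hq0 : (0 : ℝ) < 1 / q := by positivity
  rw [show (1 : ℝ) / (4 * q) = (1 / q) * (1 / 4) by ring,
    show (1 : ℝ) / (400 * q) = (1 / q) * (1 / 400) by ring, ← mul_add] at h4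
  exact absurd (le_of_mul_le_mul_left h4 hq0) (by norm_num)

end

end CfsgLib.OddLocal.FTFinal
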