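import Cfsg.Agent.Lib.OddLocal.Final.Setup
import Cfsg.Agent.Lib.OddLocal.Frob12.DadeBasics
import Cfsg.Agent.Lib.Char.Exceptional.Coherence3

/-!
Owner: helper15. Coefficients at the members of the cyclic TI family of a configuration: additivity
for functions vanishing on the regular set, Galois invariance, functions of small norm, and Bessel's
inequality with further orthonormal functions.
-/

set_option autoImplicit false
set_option linter.unusedSectionVars false

open scoped ComplexConjugate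

namespace CfsgLib.OddLocal.FTFinal

open Subgroup
open CfsgLib.Char CfsgLib.CyclicTI
open Cfsg (classInner IsClassFunction IsGeneralizedCharacter conjFun)

/-- Units of `ZMod` lift, with two coprime congruence conditions. -/
theorem exists_galois_exponent {N r r' : ℕ} (hr : r ∣ N) (hr' : r' ∣ N) (hN : N ≠ 0) (hc : r.Coprime r')
    {m : ℕ} (hm : m.Coprime r) : ∃ n : ℕ, n.Coprime N ∧ n ≡ m [MOD r] ∧ n ≡ 1 [MOD r'] := by
  obtain ⟨k0, hk, hk'⟩ := Nat.chineseRemainder hc m 1
  have hcop : k0.Coprime (r * r') := by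
    refine Nat.Coprime.mul_right ?_ ?_
    · rw [Nat.coprime_iff_gcd_eq_one, hk.gcd_eq]; exact hm
    · rw [Nat.coprime_iff_gcd_eq_one, hk'.gcd_eq]; exact Nat.gcd_one_left _
  have hd : r * r' ∣ N := hc.mul_dvd_of_dvd_of_dvd hr hr'
  have : NeZero N := ⟨hN⟩
  obtain ⟨u, hu⟩ := ZMod.unitsMap_surjective hd (ZMod.unitOfCoprime k0 hcop)
  refine ⟨(u : ZMod N).val, ZMod.val_coe_unit_coprime u, ?_, ?_⟩
  all_goals
    have hkk : (u : ZMod N).val ≡ k0 [MOD r * r'] := by
      rw [← ZMod.natCast_eq_natCast_iff]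
      have := congrArg Units.val hu
      rw [ZMod.unitsMap_val, ZMod.coe_unitOfCoprime] at this
      rw [← this, ZMod.natCast_val]
  · exact (hkk.of_dvd (dvd_mul_right _ _)).trans hk
  · exact (hkk.of_dvd (dvd_mul_left _ _)).trans hk'

/-- An exponent prime to the group order carrying one non-trivial linear character of a subgroup of
prime order to another and congruent to one modulo a given divisor prime to that order. -/
theorem exists_galois_move {G : Type*} [Group G] [Finite G] {W : Subgroup G} (hW : (Nat.card W).Prime)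
    {d : ℕ} (hd : d ∣ Nat.card G) (hcd : (Nat.card W).Coprime d) {l l' : W →* ℂˣ} (hl : l ≠ 1)
    (hl' : l' ≠ 1) : ∃ n : ℕ, n.Coprime (Nat.card G) ∧ l ^ n = l' ∧ n ≡ 1 [MOD d] := by
  have : Fact (Nat.card W).Prime := ⟨hW⟩
  have hA : ∀ a b : W, a * b = b * a := by
    have := isCyclic_of_prime_card (α := W) rfl
    exact fun a b => (IsCyclic.commGroup (α := W)).mul_comm a b
  have := finite_hom W
  have hc : Nat.card (W →* ℂˣ) = Nat.card W := card_hom hA
  have hmem : l' ∈ Subgroup.zpowers l := mem_zpowers_of_prime_card hc hl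
  obtain ⟨z, hz⟩ := hmem
  simp only at hz
  have hq : ∀ (f : W →* ℂˣ) (a : W), f a ^ Nat.card W = 1 := fun f a => by
    rw [← map_pow, pow_card_eq_one', map_one]
  set m := (z % (Nat.card W : ℤ)).toNat with hm
  have hz0 : (m : ℤ) = z % (Nat.card W : ℤ) :=
    Int.toNat_of_nonneg (Int.emod_nonneg _ (by exact_mod_cast hW.ne_zero))
  have hlm : ∀ a, l a ^ m = l' a := fun a => by
    rw [← hz, MonoidHom.zpow_apply, ← zpow_natCast, zpow_eq_zpow_iff_modEq, hz0]
    exact (Int.mod_modEq z _).of_dvd (by exact_mod_cast orderOf_dvd_of_pow_eq_one (hq l a))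
  have hmc : m.Coprime (Nat.card W) := by
    refine (hW.coprime_iff_not_dvd.mpr fun h => hl' ?_).symm
    obtain ⟨j, hj⟩ := h
    refine MonoidHom.ext fun a => ?_
    rw [← hlm a, hj, pow_mul, hq, one_pow, MonoidHom.one_apply]
  obtain ⟨n, hn, h1, h2⟩ := exists_galois_exponent (Subgroup.card_subgroup_dvd_card W) hd
    Nat.card_pos.ne' hcd hmc
  refine ⟨n, hn, MonoidHom.ext fun a => ?_, h2⟩
  rw [MonoidHom.pow_apply, ← hlm a, pow_eq_pow_iff_modEq]
  exact h1.of_dvd (orderOf_dvd_of_pow_eq_one (hq l a))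

namespace Config

variable {G : Type*} [Group G] [Fintype G] (c : Config G)

theorem odd_card_W : Odd (Nat.card ↥(c.W₁ ⊔ c.W₂)) :=
  c.minimal.1.of_dvd_nat (Subgroup.card_subgroup_dvd_card _)

theorem comm_W₁ (a b : c.W₁) : a * b = b * a := Subtype.ext (congrArg Subtype.val
  (W_comm c.selfNorm ⟨a, mem_sup_left a.2⟩ ⟨b, mem_sup_left b.2⟩) :)

theorem comm_W₂ (a b : c.W₂) : a * b = b * a := Subtype.ext (congrArg Subtype.val
  (W_comm c.selfNorm ⟨a, mem_sup_right a.2⟩ ⟨b, mem_sup_right b.2⟩) :)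

theorem card_hom_W₁ : Nat.card (c.W₁ →* ℂˣ) = c.q := card_hom c.comm_W₁

theorem card_hom_W₂ : Nat.card (c.W₂ →* ℂˣ) = c.p := card_hom c.comm_W₂

theorem q_ge_three : 3 ≤ c.q := by
  obtain ⟨r, hr⟩ := c.minimal.1.of_dvd_nat (Subgroup.card_subgroup_dvd_card c.W₁)
  have h : Nat.card c.W₁ ≠ 1 := fun h => c.selfNorm.1 (Subgroup.card_eq_one.mp h)
  rw [q]; omega

theorem p_ge_three : 3 ≤ c.p := by
  obtain ⟨r, hr⟩ := c.minimal.1.of_dvd_nat (Subgroup.card_subgroup_dvd_card c.W₂)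
  have h : Nat.card c.W₂ ≠ 1 := fun h => c.selfNorm.2.1 (Subgroup.card_eq_one.mp h)
  rw [p]; omega

theorem coprime_q_p : c.q.Coprime c.p := by
  have := c.selfNorm.2.2.2.2.1
  have := isCyclic_of_surjective _ (prodEquiv c.selfNorm).symm.surjective
  exact (Group.isCyclic_prod_iff.mp this).2.2

theorem eta_irr_or_neg (l : c.W₁ →* ℂˣ) (k : c.W₂ →* ℂˣ) : SignedIrr (c.eta l k) :=
  c.family.irr_or_neg _

theorem eta_isGen (l : c.W₁ →* ℂˣ) (k : c.W₂ →* ℂˣ) : IsGeneralizedCharacter G (c.eta l k) := by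
  rcases c.eta_irr_or_neg l k with h | h
  · exact IsGen.of_irr h
  · have h1 := IsGen.neg (IsGen.of_irr h); rwa [neg_neg] at h1

theorem eta_isClassFunction (l : c.W₁ →* ℂˣ) (k : c.W₂ →* ℂˣ) : IsClassFunction G (c.eta l k) :=
  IsGen.isClassFunction (c.eta_isGen l k)

theorem eta_self (l : c.W₁ →* ℂˣ) (k : c.W₂ →* ℂˣ) : classInner (c.eta l k) (c.eta l k) = 1 := by
  classical
  rw [c.eta_inner, if_pos ⟨rfl, rfl⟩]

theorem eta_pow {n : ℕ} (hn : n.Coprime (Nat.card G)) (l : c.W₁ →* ℂˣ) (k : c.W₂ →* ℂˣ) :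
    (fun g => c.eta l k (g ^ n)) = c.eta (l ^ n) (k ^ n) := by
  rw [eta, apply_pow c.selfNorm c.family c.odd_card_W hn, eta]
  refine congrArg c.χ ?_
  ext w
  simp [CyclicTI.inl, CyclicTI.inr, mul_pow]

theorem coef_pow {n : ℕ} (hn : n.Coprime (Nat.card G)) (θ : G → ℂ) (l : c.W₁ →* ℂˣ) (k : c.W₂ →* ℂˣ) :
    c.coef (fun g => θ (g ^ n)) (l ^ n) (k ^ n) = c.coef θ l k := by
  rw [coef, ← c.eta_pow hn, classInner_comp_pow hn]; rfl

/-- A Galois conjugation that moves `θ` only orthogonally to the family fixes the coefficients. -/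
theorem coef_galois {n : ℕ} (hn : n.Coprime (Nat.card G)) {θ : G → ℂ}
    (h : ∀ l k, c.coef (fun g => θ (g ^ n)) l k = c.coef θ l k) (l : c.W₁ →* ℂˣ) (k : c.W₂ →* ℂˣ) :
    c.coef θ (l ^ n) (k ^ n) = c.coef θ l k := by
  rw [← h, c.coef_pow hn]

theorem conjFun_eq_pow {θ : G → ℂ} (h : IsGeneralizedCharacter G θ) :
    conjFun θ = fun g => θ (g ^ (Nat.card G - 1)) := by
  funext g
  show conj (θ g) = _
  rw [← IsGen.map_inv h]
  congr 1
  rw [inv_eq_iff_mul_eq_one, ← pow_succ', Nat.sub_add_cancel Nat.card_pos, pow_card_eq_one']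

theorem eta_conj (l : c.W₁ →* ℂˣ) (k : c.W₂ →* ℂˣ) : conjFun (c.eta l k) = c.eta l⁻¹ k⁻¹ := by
  have hcop : (Nat.card G - 1).Coprime (Nat.card G) := by
    have h : 1 ≤ Nat.card G := Nat.card_pos
    exact (Nat.coprime_self_sub_left h).mpr (Nat.coprime_one_left _)
  rw [conjFun_eq_pow (c.eta_isGen l k), c.eta_pow hcop]
  have key : ∀ {W : Subgroup G} (f : W →* ℂˣ), f ^ (Nat.card G - 1) = f⁻¹ := by
    intro W f
    refine MonoidHom.ext fun a => ?_
    obtain ⟨z, hz⟩ := Subgroup.card_subgroup_dvd_card W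
    rw [MonoidHom.inv_apply, MonoidHom.pow_apply, eq_inv_iff_mul_eq_one, ← pow_succ,
      Nat.sub_add_cancel Nat.card_pos, hz, pow_mul, ← map_pow, pow_card_eq_one', map_one, one_pow]
  rw [key, key]

theorem coef_conj {θ : G → ℂ} (h : IsGeneralizedCharacter G θ) (l : c.W₁ →* ℂˣ) (k : c.W₂ →* ℂˣ) :
    c.coef (conjFun θ) l k = c.coef θ l⁻¹ k⁻¹ := by
  obtain ⟨m, hm⟩ := IsGen.exists_classInner_eq_intCast h (c.eta_isGen l⁻¹ k⁻¹)
  rw [coef, coef, ← inv_inv l, ← inv_inv k, ← c.eta_conj, inv_inv, inv_inv]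
  have e : classInner (conjFun θ) (conjFun (c.eta l⁻¹ k⁻¹)) = conj (classInner θ (c.eta l⁻¹ k⁻¹)) := by
    simp [classInner, conjFun, map_sum]
  rw [e, hm, map_intCast]

theorem coef_sub (θ θ' : G → ℂ) (l : c.W₁ →* ℂˣ) (k : c.W₂ →* ℂˣ) :
    c.coef (θ - θ') l k = c.coef θ l k - c.coef θ' l k := classInner_sub_left _ _ _

/-- The coefficients of a generalized character are integers. -/
theorem exists_icoef {θ : G → ℂ} (h : IsGeneralizedCharacter G θ) :
    ∃ C : (c.W₁ →* ℂˣ) → (c.W₂ →* ℂˣ) → ℤ, ∀ l k, c.coef θ l k = C l k := by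
  choose C hC using fun l k => IsGen.exists_classInner_eq_intCast h (c.eta_isGen l k)
  exact ⟨C, hC⟩

/-- The coefficients of a class function vanishing on `Ŵ` are additive. -/
theorem coef_add {θ : G → ℂ} (hθ : IsClassFunction G θ) (h0 : ∀ g ∈ What c.W₁ c.W₂, θ g = 0)
    (l : c.W₁ →* ℂˣ) (k : c.W₂ →* ℂˣ) :
    c.coef θ l k = c.coef θ l 1 + c.coef θ 1 k - c.coef θ 1 1 := by
  have h := inner_relation c.selfNorm c.family hθ
    (fun w h1 h2 => h0 w ⟨w.2, fun h' => h'.elim h1 h2⟩)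
    (inl_apply_W₂ c.selfNorm l) (inr_apply_W₁ c.selfNorm k)
  simp only [coef, eta, inl_one, inr_one, hom_one_mul, hom_mul_one]
  exact h

theorem coef_one_one (θ : G → ℂ) : c.coef θ 1 1 = classInner θ (fun _ => 1) := by
  rw [coef, eta_one_one]

/-- Galois invariance makes the coefficients on the first axis constant. -/
theorem coef_axis₁ (hq : c.q.Prime) {d : ℕ} (hd : d ∣ Nat.card G) (hqd : c.q.Coprime d) {θ : G → ℂ}
    (hinv : ∀ n : ℕ, n.Coprime (Nat.card G) → n ≡ 1 [MOD d] →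
      ∀ l k, c.coef (fun g => θ (g ^ n)) l k = c.coef θ l k)
    {l l' : c.W₁ →* ℂˣ} (hl : l ≠ 1) (hl' : l' ≠ 1) : c.coef θ l' 1 = c.coef θ l 1 := by
  obtain ⟨n, hn, hln, hn1⟩ := exists_galois_move (W := c.W₁) hq hd hqd hl hl'
  have h := c.coef_galois hn (hinv n hn hn1) l 1
  rwa [hln, show (1 : c.W₂ →* ℂˣ) ^ n = 1 from MonoidHom.ext fun a => one_pow n] at h

/-- Galois invariance makes the coefficients on the second axis constant. -/
theorem coef_axis₂ (hp : c.p.Prime) {d : ℕ} (hd : d ∣ Nat.card G) (hpd : c.p.Coprime d) {θ : G → ℂ}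
    (hinv : ∀ n : ℕ, n.Coprime (Nat.card G) → n ≡ 1 [MOD d] →
      ∀ l k, c.coef (fun g => θ (g ^ n)) l k = c.coef θ l k)
    {k k' : c.W₂ →* ℂˣ} (hk : k ≠ 1) (hk' : k' ≠ 1) : c.coef θ 1 k' = c.coef θ 1 k := by
  obtain ⟨n, hn, hkn, hn1⟩ := exists_galois_move (W := c.W₂) hp hd hpd hk hk'
  have h := c.coef_galois hn (hinv n hn hn1) 1 k
  rwa [hkn, show (1 : c.W₁ →* ℂˣ) ^ n = 1 from MonoidHom.ext fun a => one_pow n] at h

section Sums

variable [Fintype (c.W₁ →* ℂˣ)] [Fintype (c.W₂ →* ℂˣ)]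

theorem card_hom₁ : Fintype.card (c.W₁ →* ℂˣ) = c.q := by
  rw [← Nat.card_eq_fintype_card, c.card_hom_W₁]

theorem card_hom₂ : Fintype.card (c.W₂ →* ℂˣ) = c.p := by
  rw [← Nat.card_eq_fintype_card, c.card_hom_W₂]

/-- Bessel's inequality for the family together with further orthonormal functions. -/
theorem bessel {ι : Type*} (s : Finset ι) (u : ι → G → ℂ)
    (hu : ∀ i ∈ s, ∀ j ∈ s, i ≠ j → classInner (u i) (u j) = 0)
    (hu1 : ∀ i ∈ s, classInner (u i) (u i) = 1)
    (hη : ∀ i ∈ s, ∀ l k, classInner (u i) (c.eta l k) = 0) (θ : G → ℂ) :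
    ∑ l, ∑ k, Complex.normSq (c.coef θ l k) + ∑ i ∈ s, Complex.normSq (classInner θ (u i)) ≤
      (classInner θ θ).re := by
  classical
  let w : ((c.W₁ →* ℂˣ) × (c.W₂ →* ℂˣ)) ⊕ ι → G → ℂ := Sum.elim (fun x => c.eta x.1 x.2) u
  have h := Frob12.bessel (Finset.univ.disjSum s) w θ (fun i => classInner θ (w i)) (fun _ => 1)
    (fun i hi j hj hij => by
      rcases i with i | i <;> rcases j with j | j
      · exact (c.eta_inner _ _ _ _).trans (if_neg fun h => hij (congrArg Sum.inl (Prod.ext h.1 h.2)))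
      · show classInner (c.eta i.1 i.2) (u j) = 0
        rw [← classInner_conj_symm, hη j (Finset.inr_mem_disjSum.mp hj), map_zero]
      · exact hη i (Finset.inr_mem_disjSum.mp hi) _ _
      · exact hu i (Finset.inr_mem_disjSum.mp hi) j (Finset.inr_mem_disjSum.mp hj)
          fun h => hij (congrArg Sum.inr h))
    (fun i hi => by
      rw [Complex.ofReal_one]
      rcases i with i | i
      · exact c.eta_self _ _
      · exact hu1 i (Finset.inr_mem_disjSum.mp hi))
    (fun i _ => rfl)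
  rw [Finset.sum_disjSum, ← Finset.univ_product_univ, Finset.sum_product] at h
  simp only [div_one, w, Sum.elim_inl, Sum.elim_inr] at h
  exact h

/-- Bessel's inequality for the family alone. -/
theorem bessel_eta (θ : G → ℂ) :
    ∑ l, ∑ k, Complex.normSq (c.coef θ l k) ≤ (classInner θ θ).re := by
  have h := c.bessel (ι := Empty) ∅ (fun i => i.elim) (by simp) (by simp) (by simp) θ
  simpa using h

end Sums

/-- A generalized character of norm at most two that vanishes on `Ŵ` and has no principal part is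
orthogonal to the family. -/
theorem small_norm {θ : G → ℂ} (hθ : IsGeneralizedCharacter G θ) (h0 : ∀ g ∈ What c.W₁ c.W₂, θ g = 0)
    (h1 : classInner θ (fun _ => 1) = 0) (h2 : (classInner θ θ).re ≤ 2) (l : c.W₁ →* ℂˣ)
    (k : c.W₂ →* ℂˣ) : c.coef θ l k = 0 := by
  classical
  have := finite_hom c.W₁
  have := finite_hom c.W₂
  have := Fintype.ofFinite (c.W₁ →* ℂˣ)
  have := Fintype.ofFinite (c.W₂ →* ℂˣ)
  obtain ⟨C, hC⟩ := c.exists_icoef hθ
  have hb := c.bessel_eta θ
  simp only [hC, Complex.normSq_intCast] at hb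
  have hZ : ∑ l, ∑ k, C l k * C l k ≤ 2 := by
    have : ((∑ l, ∑ k, C l k * C l k : ℤ) : ℝ) ≤ ((2 : ℤ) : ℝ) := by push_cast; linarith
    exact_mod_cast this
  have hadd : ∀ l k, C l k = C l 1 + C 1 k := by
    intro l k
    have h := c.coef_add (IsGen.isClassFunction hθ) h0 l k
    rw [c.coef_one_one, h1, sub_zero, hC, hC, hC] at h
    exact_mod_cast h
  have h11 : C 1 1 = 0 := by
    have h := c.coef_one_one θ
    rw [h1, hC] at h
    exact_mod_cast h
  have sq1 : ∀ {a : ℤ}, a ≠ 0 → 1 ≤ a * a := fun h => by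
    have := mul_self_pos.mpr h; omega
  have ha : ∀ l, C l 1 = 0 := by
    intro l
    by_contra hne
    have hl : l ≠ 1 := fun h => hne (h ▸ h11)
    have hle : ∑ k, (C l k * C l k + C 1 k * C 1 k) ≤ ∑ l, ∑ k, C l k * C l k := by
      rw [Finset.sum_add_distrib]
      exact Finset.add_le_sum (f := fun l => ∑ k, C l k * C l k)
        (fun i _ => Finset.sum_nonneg fun j _ => mul_self_nonneg _) (Finset.mem_univ l) (Finset.mem_univ 1) hl
    have hge : ∑ _k : c.W₂ →* ℂˣ, (1 : ℤ) ≤ ∑ k, (C l k * C l k + C 1 k * C 1 k) := by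
      refine Finset.sum_le_sum fun k _ => ?_
      by_cases hb : C 1 k = 0
      · rw [hadd l k, hb, add_zero]; linarith [sq1 hne]
      · linarith [sq1 hb, mul_self_nonneg (C l k)]
    rw [Finset.sum_const, Finset.card_univ, c.card_hom₂, nsmul_one] at hge
    have := c.p_ge_three
    linarith [show (3 : ℤ) ≤ (c.p : ℤ) by exact_mod_cast this]
  have hb : ∀ k, C 1 k = 0 := by
    intro k
    by_contra hne
    have hle : ∑ l, C l k * C l k ≤ ∑ l, ∑ k, C l k * C l k :=
      Finset.sum_le_sum fun l _ => Finset.single_le_sum (f := fun k => C l k * C l k)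
        (fun j _ => mul_self_nonneg _) (Finset.mem_univ k)
    have hge : ∑ _l : c.W₁ →* ℂˣ, (1 : ℤ) ≤ ∑ l, C l k * C l k := by
      refine Finset.sum_le_sum fun l _ => ?_
      rw [hadd l k, ha l, zero_add]; exact sq1 hne
    rw [Finset.sum_const, Finset.card_univ, c.card_hom₁, nsmul_one] at hge
    have := c.q_ge_three
    linarith [show (3 : ℤ) ≤ (c.q : ℤ) by exact_mod_cast this]
  rw [hC, hadd, ha, hb, add_zero, Int.cast_zero]

end Config

end CfsgLib.OddLocal.FTFinal
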