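import Cfsg.Agent.Lib.OddLocal.TypeP
import Cfsg.Agent.Lib.OddLocal.P2SignalizerMain
import Cfsg.Agent.Lib.OddLocal.Frob12.Tools
import Cfsg.Agent.Lib.Char.CyclicTI.FrobeniusFormula

/-!
Owner: helper16. The kernel of a subgroup of type II with `|W₂|` prime (blueprint F2): it is elementary
abelian of order `p ^ q` and `U W₁` leaves no subgroup invariant in between.
-/

set_option autoImplicit false
set_option linter.unusedSectionVars false

namespace CfsgLib.OddLocal.Final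

open Subgroup
open CfsgLib.TwoGroups
open scoped commutatorElement Pointwise

variable {G : Type*} [Group G] [Finite G] {S W₁ U W₂ Y : Subgroup G}

/-- Type II: `U` is nontrivial and abelian, has no fixed point on `S_F`, and `W₁` has prime order. -/
theorem typeTwo_facts (hP : Cfsg.IsTypePWith S W₁ U W₂) (hII : Cfsg.IsOfTypeII S) :
    U ≠ ⊥ ∧ (Nat.card W₁).Prime ∧ IsMulCommutative U ∧
      Cfsg.fittingHallOf S ⊓ centralizer (U : Set G) = ⊥ := by
  obtain ⟨W₁', U', W₂', hP', hU', hq', -, hU'c, -, hF, hHF⟩ := hII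
  set H := Cfsg.fittingHallOf S with hH
  set D := ⁅S, S⁆ with hD
  have hU0 := IsComplIn_card_mul hP.U_compl
  have hU1 := IsComplIn_card_mul hP'.U_compl
  have hUU : Nat.card U = Nat.card U' := Nat.eq_of_mul_eq_mul_left Nat.card_pos (hU0.trans hU1.symm)
  have hW0 := IsComplIn_card_mul hP.W₁_compl
  have hW1 := IsComplIn_card_mul hP'.W₁_compl
  have hWW : Nat.card W₁ = Nat.card W₁' := Nat.eq_of_mul_eq_mul_left Nat.card_pos (hW0.trans hW1.symm)
  have hUne : U ≠ ⊥ := fun e => hU' (card_eq_one.mp (by rw [← hUU, e, card_bot]))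
  obtain ⟨hsol, -, -, -, V, hV1, hVc, -, V₀, hV₀, hexp, hfree⟩ := hF
  have := hsol
  have hKF : (Cfsg.fittingHall ↥D).map D.subtype = H := hHF
  have hHD : H ≤ D := hP.U_compl.1
  have hKeq : Cfsg.fittingHall ↥D = H.subgroupOf D := by
    rw [← hKF]; exact (comap_map_eq_self_of_injective D.subtype_injective _).symm
  have hmk : Nat.card D = Nat.card U * Nat.card H := by rw [← hU0, mul_comm]
  have hcop : (Nat.card U).Coprime (Nat.card H) := (TypeP.coprime_H_U hP).symm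
  have conj : ∀ A : Subgroup G, A ≤ D → Nat.card A = Nat.card U →
      ∃ d : D, MulAut.conj d • U.subgroupOf D = A.subgroupOf D := by
    intro A hA hc
    exact Core.exists_conj_eq_of_card_eq hmk hcop
      (Nat.card_congr (subgroupOfEquivOfLe hP.U_compl.2.1).toEquiv)
      ((Nat.card_congr (subgroupOfEquivOfLe hA).toEquiv).trans hc)
  refine ⟨hUne, hWW ▸ hq', ?_, ?_⟩
  · obtain ⟨d, hd⟩ := conj U' hP'.U_compl.2.1 hUU.symm
    refine ⟨⟨fun a b => Subtype.ext ?_⟩⟩
    have hmem : ∀ u ∈ U, (d : G) * u * (d : G)⁻¹ ∈ U' := fun u hu => mem_subgroupOf.mp (hd.le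
      ((Subgroup.smul_mem_pointwise_smul_iff (a := MulAut.conj d)).mpr
        (show (⟨u, hP.U_compl.2.1 hu⟩ : D) ∈ U.subgroupOf D from hu)))
    have e : (⟨_, hmem a a.2⟩ : U') * ⟨_, hmem b b.2⟩ = ⟨_, hmem b b.2⟩ * ⟨_, hmem a a.2⟩ :=
      hU'c.is_comm.comm _ _
    have e' : (d : G) * a * (d : G)⁻¹ * ((d : G) * b * (d : G)⁻¹) =
        (d : G) * b * (d : G)⁻¹ * ((d : G) * a * (d : G)⁻¹) := congrArg Subtype.val e
    have e'' : (d : G) * (a * b) * (d : G)⁻¹ = (d : G) * (b * a) * (d : G)⁻¹ := by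
      simpa [mul_assoc] using e'
    exact mul_left_cancel (mul_right_cancel e'')
  · set A := V.map D.subtype with hA
    have hAc : Nat.card A = Nat.card U := by
      rw [card_map_of_injective D.subtype_injective]
      have h1 := hVc.card_mul_card
      rw [hKeq, Nat.card_congr (subgroupOfEquivOfLe hHD).toEquiv, hmk, mul_comm (Nat.card U)] at h1
      exact Nat.eq_of_mul_eq_mul_left Nat.card_pos h1
    obtain ⟨d, hd⟩ := conj A (map_subtype_le V) hAc
    rw [show A.subgroupOf D = V from comap_map_eq_self_of_injective D.subtype_injective V] at hd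
    obtain ⟨v₀, hv₀, hv₀1⟩ : ∃ v₀ ∈ V₀, v₀ ≠ 1 := by
      refine V₀.bot_or_exists_ne_one.resolve_left fun e => hV1 ?_
      have h1 : Monoid.exponent V = 1 := by
        rw [← hexp, e]; exact Monoid.exp_eq_one_iff.mpr inferInstance
      have : Subsingleton V := Monoid.exp_eq_one_iff.mp h1
      exact eq_bot_of_subsingleton V
    refine (eq_bot_iff_forall _).mpr fun x hx => ?_
    by_contra hx1
    have hxD : x ∈ D := hHD (mem_inf.mp hx).1
    have hy : d * ⟨x, hxD⟩ * d⁻¹ ∈ Cfsg.fittingHall ↥D :=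
      (Cfsg.fittingHall_normal ↥D).conj_mem _ (by rw [hKeq]; exact (mem_inf.mp hx).1) d
    obtain ⟨u, hu, hue⟩ := hd.ge (hV₀ hv₀)
    have hue' : d * u * d⁻¹ = v₀ := hue
    have hcomm : v₀ * (d * ⟨x, hxD⟩ * d⁻¹) = d * ⟨x, hxD⟩ * d⁻¹ * v₀ := by
      have h2 : u * ⟨x, hxD⟩ = ⟨x, hxD⟩ * u :=
        Subtype.ext (mem_centralizer_iff.mp (mem_inf.mp hx).2 u (mem_subgroupOf.mp hu))
      rw [← hue']
      calc d * u * d⁻¹ * (d * ⟨x, hxD⟩ * d⁻¹) = d * (u * ⟨x, hxD⟩) * d⁻¹ := by group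
        _ = d * (⟨x, hxD⟩ * u) * d⁻¹ := by rw [h2]
        _ = _ := by group
    exact hx1 (congrArg Subtype.val (conj_eq_one_iff.mp (hfree v₀ hv₀ hv₀1 _ hy hcomm)))

/-- A `U W₁`-invariant subgroup of `S_F` has order `|Y ∩ W₂| ^ q`. -/
theorem card_invariant (hP : Cfsg.IsTypePWith S W₁ U W₂) (hII : Cfsg.IsOfTypeII S)
    (hY : Y ≤ Cfsg.fittingHallOf S) (hn : U ⊔ W₁ ≤ normalizer (Y : Set G)) :
    Nat.card Y = Nat.card ↥(Y ⊓ W₂) ^ Nat.card W₁ := by
  obtain ⟨-, -, -, hfix⟩ := typeTwo_facts hP hII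
  set H := Cfsg.fittingHallOf S with hH
  obtain ⟨w, hw, hw1⟩ := W₁.bot_or_exists_ne_one.resolve_left hP.W₁_ne
  have hfpf : ∀ e ∈ W₁, e ≠ 1 → ∀ u ∈ U, e * u = u * e → u = 1 := fun e he he1 u hu hc => by
    have h1 : u ∈ W₂ := (hP.W₂_centralizer e he he1).le
      (mem_inf.mpr ⟨hP.U_compl.2.1 hu, mem_centralizer_singleton_iff.mpr hc.symm⟩)
    exact mem_bot.mp (hP.U_compl.2.2.1 ▸ mem_inf.mpr ⟨(mem_inf.mp (hP.W₂_le h1)).1, hu⟩)
  have hUW : U ⊓ W₁ = ⊥ := le_bot_iff.mp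
    ((le_inf (inf_le_left.trans hP.U_compl.2.1) inf_le_right).trans hP.W₁_compl.2.2.1.le)
  have hcop : (Nat.card Y).Coprime (Nat.card ↥(U ⊔ W₁)) := by
    refine Nat.Coprime.coprime_dvd_right (sup_comm U W₁ ▸ Core.card_sup_dvd W₁ U hP.U_normal) ?_
    refine Nat.Coprime.mul_right ?_ ?_
    · exact ((TypeP.coprime_W₁_derived hP).coprime_dvd_right
        (card_dvd_of_le (hY.trans hP.U_compl.1))).symm
    · exact (TypeP.coprime_H_U hP).coprime_dvd_left (card_dvd_of_le hY)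
  have hYn : Group.IsNilpotent Y := by
    have : Group.IsNilpotent H := fittingHallOf_nilpotent S
    exact Group.nilpotent_of_mulEquiv (subgroupOfEquivOfLe hY)
  have hf := CfsgLib.FrobFix.formula_subgroup U W₁ Y hUW
    (fun e he u hu => (mem_normalizer_iff.mp (hP.U_normal he) u).mp hu) hfpf
    (fun x hx y hy => (mem_normalizer_iff.mp (hn hx) y).mp hy) inferInstance hcop
  have h1 : Y ⊓ centralizer (U : Set G) = ⊥ := le_bot_iff.mp ((inf_le_inf_right _ hY).trans hfix.le)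
  have h2 : Y ⊓ centralizer ((U ⊔ W₁ : Subgroup G) : Set G) = ⊥ :=
    le_bot_iff.mp ((inf_le_inf_left _ (Subgroup.centralizer_le (le_sup_left : U ≤ U ⊔ W₁))).trans h1.le)
  have h3 : Y ⊓ centralizer (W₁ : Set G) = Y ⊓ W₂ := by
    refine le_antisymm (fun y hy => ⟨hy.1, (hP.W₂_centralizer w hw hw1).le
      (mem_inf.mpr ⟨hP.U_compl.1 (hY hy.1),
        mem_centralizer_singleton_iff.mpr (mem_centralizer_iff.mp hy.2 w hw).symm⟩)⟩)
      (le_inf inf_le_left fun y hy => mem_centralizer_iff.mpr fun e he =>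
        hP.selfNormalizing.2.2.2.1 e he y (mem_inf.mp hy).2)
  rwa [h1, h2, h3, card_bot, one_pow, one_mul, mul_one] at hf

/-- F2: `S_F` is elementary abelian of order `p ^ q`, minimal under `U W₁`. -/
theorem typeTwo_kernel (hP : Cfsg.IsTypePWith S W₁ U W₂) (hII : Cfsg.IsOfTypeII S)
    (hp : (Nat.card W₂).Prime) :
    Cfsg.IsElementaryAbelian (Nat.card W₂) (Cfsg.fittingHallOf S) ∧
      Nat.card (Cfsg.fittingHallOf S) = Nat.card W₂ ^ Nat.card W₁ ∧
      ∀ Y : Subgroup G, Y ≤ Cfsg.fittingHallOf S → U ⊔ W₁ ≤ normalizer (Y : Set G) →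
        Y = ⊥ ∨ Y = Cfsg.fittingHallOf S := by
  set H := Cfsg.fittingHallOf S with hH
  set p := Nat.card W₂ with hpdef
  have := Fact.mk hp
  have hUW : U ⊔ W₁ ≤ S := sup_le (hP.U_compl.2.1.trans (TypeP.derived_le hP)) hP.W₁_compl.2.1
  have hnH : U ⊔ W₁ ≤ normalizer (H : Set G) := hUW.trans (FittingStructure.le_normalizer_fittingHallOf S)
  have hW2H : W₂ ≤ H := hP.W₂_le.trans inf_le_left
  have hcard : Nat.card H = p ^ Nat.card W₁ := by
    have h1 := card_invariant hP hII le_rfl hnH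
    rwa [inf_eq_right.mpr hW2H] at h1
  have hmin : ∀ Y : Subgroup G, Y ≤ H → U ⊔ W₁ ≤ normalizer (Y : Set G) → Y = ⊥ ∨ Y = H := by
    intro Y hY hn
    have h1 := card_invariant hP hII hY hn
    rcases (Nat.dvd_prime hp).mp (card_dvd_of_le (inf_le_right : Y ⊓ W₂ ≤ W₂)) with h | h
    · rw [h, one_pow] at h1; exact Or.inl (card_eq_one.mp h1)
    · exact Or.inr (eq_of_le_of_card_ge hY (by rw [hcard, h1, h]))
  refine ⟨?_, hcard, hmin⟩
  have hHp : IsPGroup p H := IsPGroup.of_card hcard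
  have : Nontrivial H := (Subgroup.nontrivial_iff_ne_bot H).mpr fun e => by
    rw [e, card_bot] at hcard
    exact absurd hcard.symm ((one_lt_pow₀ hp.one_lt Nat.card_pos.ne').ne')
  set Z := (center H).map H.subtype with hZ
  have hZ1 : Z ≠ ⊥ := fun e => hHp.bot_lt_center.ne' ((map_eq_bot_iff_of_injective _ H.subtype_injective).mp e)
  have hZH : Z = H := (hmin Z (map_subtype_le _) (hnH.trans
    (OddLocal.PLengthEndgame.normalizer_le_char H (center H)))).resolve_left hZ1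
  have hcomm : ∀ a ∈ H, ∀ b ∈ H, a * b = b * a := fun a ha b hb => by
    obtain ⟨a', ha', rfl⟩ := hZH.ge ha
    exact (congrArg Subtype.val (mem_center_iff.mp ha' ⟨b, hb⟩)).symm
  set Ω := Frob12.omegaCenter H p with hΩ
  have hΩH : Ω = H := (hmin Ω (Frob12.omega_le _ _) (hnH.trans Frob12.omega_normalizer)).resolve_left
    (Frob12.omega_ne_bot hHp fun e => by
      rw [e, card_bot] at hcard
      exact absurd hcard.symm ((one_lt_pow₀ hp.one_lt Nat.card_pos.ne').ne'))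
  exact ⟨⟨⟨fun a b => Subtype.ext (hcomm a a.2 b b.2)⟩⟩, fun x hx => (hΩH.ge hx).2.2⟩

end CfsgLib.OddLocal.Final
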