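import Cfsg.Agent.Lib.OddLocal.Final.FreeHom
import Cfsg.Agent.Lib.OddLocal.Final.StructTwo

/-!
Owner: helper16. The two kernel modules of the final configuration: `S_F` for type II, `[T_F, V]` otherwise.
-/

set_option autoImplicit false
set_option linter.unusedSectionVars false

namespace CfsgLib.OddLocal.Final

open Subgroup
open CfsgLib.TwoGroups
open scoped commutatorElement

variable {G : Type*} [Group G] [Finite G] {S T W V X W₁ U W₂ : Subgroup G}

/-- `[T_F, V]` with `V W`. -/
theorem kernelModule_one (hP : Cfsg.IsTypePWith T W V X) (hV : V ≠ ⊥) (hX : (Nat.card X).Prime)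
    (hW : (Nat.card W).Prime) (hodd : Odd (Nat.card G)) :
    KernelModule (Nat.card X) (Nat.card W) (kernelOne T V) V W X := by
  have K := kernelBasic hP hV hX
  obtain ⟨helem, hcard, hXle, -, hdis, -, -⟩ := kernel_split hP hV hX hodd
  have hVW : V ⊔ W ≤ normalizer (kernelOne T V : Set G) := le_sup_right.trans K.norm
  have hXQ : X ≤ Cfsg.fittingHallOf T := hP.W₂_le.trans inf_le_left
  refine ⟨hX, hW, fun e => ?_, helem, hcard, hXle, rfl, rfl, hVW, hP.U_normal, fun a ha b hb => ?_,
    ?_, fun Y hY hn => ?_, fun h => ?_, fun w hw hw1 u hu hc => typeP_fpf hP hw hw1 hu hc, ?_, ?_⟩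
  · have h := (TypeP.coprime_W₁_derived hP).coprime_dvd_right (card_dvd_of_le (hXQ.trans hP.U_compl.1))
    rw [e, Nat.coprime_self] at h
    exact hX.ne_one h
  · exact Subgroup.centralizer_le K.le (TypeP.U_derived_le hP (commutator_mem_commutator ha hb))
  · rw [typeP_inf_W hP K.le, inf_eq_right]; exact hXle
  · refine or_iff_not_imp_right.mpr fun hne => le_bot_iff.mp ?_
    have hQY : kernelOne T V ≤ normalizer (Y : Set G) := fun g hg => Subgroup.centralizer_le_normalizer _
      (mem_centralizer_iff.mpr fun y hy => congrArg Subtype.val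
        (helem.1.is_comm.comm ⟨y, hY hy⟩ ⟨g, hg⟩))
    exact (le_inf hY (le_inf (hY.trans K.le) (K.invariant Y hY hQY hn hne))).trans hdis.le
  · have h1 : kernelOne T V = ⊥ := by
      rw [← K.comm, commutator_eq_bot_iff_le_centralizer]
      exact le_centralizer_iff.mp h
    exact hP.selfNormalizing.2.1 (le_bot_iff.mp (hXle.trans h1.le))
  · exact (TypeP.coprime_H_U hP).symm.coprime_dvd_right (card_dvd_of_le hXQ)
  · exact ((TypeP.coprime_W₁_derived hP).coprime_dvd_right (card_dvd_of_le hP.U_compl.2.1)).symm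

/-- Type II: `S_F` with `U W₁`. -/
theorem kernelModule_two (hP : Cfsg.IsTypePWith S W₁ U W₂) (hII : Cfsg.IsOfTypeII S)
    (hp : (Nat.card W₂).Prime) :
    KernelModule (Nat.card W₂) (Nat.card W₁) (Cfsg.fittingHallOf S) U W₁ W₂ := by
  obtain ⟨hU, hq, hUc, hfix⟩ := typeTwo_facts hP hII
  obtain ⟨helem, hcard, hmin⟩ := typeTwo_kernel hP hII hp
  have hW₂ : W₂ ≤ Cfsg.fittingHallOf S := hP.W₂_le.trans inf_le_left
  refine ⟨hp, hq, fun e => ?_, helem, hcard, hW₂, rfl, rfl, typeP_sup_normalizes hP, hP.U_normal,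
    fun a ha b hb => ?_, ?_, hmin, fun h => ?_, fun w hw hw1 u hu hc => typeP_fpf hP hw hw1 hu hc, ?_, ?_⟩
  · have h := (TypeP.coprime_W₁_derived hP).coprime_dvd_right (card_dvd_of_le (hW₂.trans hP.U_compl.1))
    rw [e, Nat.coprime_self] at h
    exact hp.ne_one h
  · rw [commutatorElement_eq_one_iff_mul_comm.mpr (congrArg Subtype.val (hUc.is_comm.comm ⟨a, ha⟩ ⟨b, hb⟩) :
      a * b = b * a)]
    exact one_mem _
  · rw [typeP_inf_W hP le_rfl, inf_eq_right]; exact hW₂
  · exact hU (TypeP.eq_bot_of_le_centralizer hP h)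
  · exact (TypeP.coprime_H_U hP).symm.coprime_dvd_right (card_dvd_of_le hW₂)
  · exact ((TypeP.coprime_W₁_derived hP).coprime_dvd_right (card_dvd_of_le hP.U_compl.2.1)).symm

end CfsgLib.OddLocal.Final
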