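import Cfsg.Agent.Lib.OddLocal.Final.FreeBasic
import Mathlib.GroupTheory.PGroup
import Mathlib.RingTheory.Fintype
import Mathlib.Algebra.GroupWithZero.Units.Fintype
import Mathlib.RingTheory.LittleWedderburn

/-!
Owner: helper16. The order of `U / C_U(H)` and the irreducible (Galois) case: that quotient is cyclic,
semiregular, of order dividing `(p ^ q - 1) / (p - 1)` and prime to `p - 1`.
-/

set_option autoImplicit false
set_option linter.unusedSectionVars false

namespace CfsgLib.OddLocal.Final

open Subgroup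
open scoped commutatorElement

variable {G : Type*} [Group G] [Finite G]

/-- A group of prime order acting without fixed points fixes only the identity, so counts give `1`. -/
theorem card_modEq_one {N W : Subgroup G} {q : ℕ} [Fact q.Prime] (hW : Nat.card W = q)
    (hn : W ≤ normalizer (N : Set G)) (hfpf : ∀ w ∈ W, w ≠ 1 → ∀ u ∈ N, w * u = u * w → u = 1) :
    Nat.card N ≡ 1 [MOD q] := by
  have hmem : ∀ (w : W) (u : N), (w : G) * u * (w : G)⁻¹ ∈ N := fun w u =>
    (mem_normalizer_iff.mp (hn w.2) u).mp u.2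
  let _ : MulAction W N :=
    { smul := fun w u => ⟨_, hmem w u⟩
      one_smul := fun u => Subtype.ext (by show ((1 : W) : G) * u * ((1 : W) : G)⁻¹ = u; simp)
      mul_smul := fun a b u => Subtype.ext (by
        show ((a * b : W) : G) * u * ((a * b : W) : G)⁻¹ = a * (b * u * (b : G)⁻¹) * (a : G)⁻¹
        simp [mul_assoc]) }
  have hWp : IsPGroup q W := IsPGroup.of_card (n := 1) (by rw [hW, pow_one])
  have h := hWp.card_modEq_card_fixedPoints (α := N)
  obtain ⟨w, hw, hw1⟩ := W.bot_or_exists_ne_one.resolve_left fun e =>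
    (Fact.out : q.Prime).ne_one (by rw [← hW, e, card_bot])
  have h1 : Nat.card (MulAction.fixedPoints W N) = 1 := by
    refine Nat.card_eq_one_iff_unique.mpr ⟨⟨fun a b => Subtype.ext (Subtype.ext ?_)⟩,
      ⟨⟨1, fun v => Subtype.ext (by show (v : G) * ((1 : N) : G) * (v : G)⁻¹ = ((1 : N) : G); simp)⟩⟩⟩
    have key : ∀ c : MulAction.fixedPoints W N, ((c : N) : G) = 1 := fun c =>
      hfpf w hw hw1 _ (c : N).2 (mul_inv_eq_iff_eq_mul.mp (congrArg Subtype.val (c.2 ⟨w, hw⟩)))
    rw [key a, key b]
  rwa [h1] at h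

namespace KernelModule

variable {p q : ℕ} {H U W₁ W₂ : Subgroup G} (K : KernelModule p q H U W₁ W₂)
include K

theorem index_dvd : (centralizer (H : Set G)).relIndex U ∣ Nat.card U := relIndex_dvd_card _ _

theorem index_coprime_p : ((centralizer (H : Set G)).relIndex U).Coprime p := K.cop_p.coprime_dvd_left K.index_dvd

theorem index_coprime_q : ((centralizer (H : Set G)).relIndex U).Coprime q := K.cop_q.coprime_dvd_left K.index_dvd

theorem index_ne_one : (centralizer (H : Set G)).relIndex U ≠ 1 := fun h => K.nontriv (relIndex_eq_one.mp h)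

/-- `|U : C_U(H)| ≡ 1 (mod q)`. -/
theorem index_modEq : (centralizer (H : Set G)).relIndex U ≡ 1 [MOD q] := by
  have := Fact.mk K.prime_q
  set C := U ⊓ centralizer (H : Set G) with hC
  have hCn : W₁ ≤ normalizer (C : Set G) := by
    intro w hw
    refine Transfer.map_conj_eq_self_iff.mp (eq_of_le_of_card_ge ?_ (Transfer.card_map_conj w _).ge)
    rintro _ ⟨c, hc, rfl⟩
    refine mem_inf.mpr ⟨K.conj_U hw (mem_inf.mp hc).1, mem_centralizer_iff.mpr fun x hx => ?_⟩
    have hx' : w⁻¹ * x * w ∈ H := by simpa using K.conj_mem (mem_sup_right (inv_mem hw)) hx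
    show x * (w * c * w⁻¹) = w * c * w⁻¹ * x
    calc x * (w * c * w⁻¹) = w * (w⁻¹ * x * w * c) * w⁻¹ := by group
      _ = w * (c * (w⁻¹ * x * w)) * w⁻¹ := by rw [mem_centralizer_iff.mp (mem_inf.mp hc).2 _ hx']
      _ = _ := by group
  have h1 := card_modEq_one K.card_left K.norm_U K.fpf
  have h2 := card_modEq_one K.card_left hCn fun w hw hw1 u hu => K.fpf w hw hw1 u (mem_inf.mp hu).1
  have h3 : Nat.card C * (centralizer (H : Set G)).relIndex U = Nat.card U := by
    rw [← inf_relIndex_right, inf_comm, ← relIndex_bot_left C, ← relIndex_bot_left U]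
    exact relIndex_mul_relIndex ⊥ C U bot_le inf_le_left
  have h4 : Nat.card C * (centralizer (H : Set G)).relIndex U ≡ 1 * (centralizer (H : Set G)).relIndex U [MOD q] :=
    h2.mul_right _
  rw [h3, one_mul] at h4
  exact h4.symm.trans h1

/-- The Galois case. -/
theorem galois_facts (hgal : IsGalois H U) :
    (∀ u ∈ U, u ∉ centralizer (H : Set G) → H ⊓ centralizer {u} = ⊥) ∧
    (∃ g ∈ U, ∀ u ∈ U, ∃ n : ℕ, (g ^ n)⁻¹ * u ∈ centralizer (H : Set G)) ∧
    ((centralizer (H : Set G)).relIndex U).Coprime (p - 1) ∧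
    (centralizer (H : Set G)).relIndex U * (p - 1) ∣ p ^ q - 1 ∧
    (U ⊓ centralizer (H : Set G) = ⊥ → IsCyclic U) := by
  classical
  have hp := K.prime_p
  have := Fact.mk hp
  obtain ⟨w, hw, hw1⟩ := W₁.bot_or_exists_ne_one.resolve_left fun e =>
    K.prime_q.ne_one (by rw [← K.card_left, e, card_bot])
  let _ : CommGroup H := { (inferInstance : Group H) with mul_comm := K.elem.1.is_comm.comm }
  let π₀ : U → AddMonoid.End (Additive H) := fun u =>
    MonoidHom.toAdditive (conjHom H u (K.mem_normalizer_of_mem_U u.2))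
  let ρ : U →* AddMonoid.End (Additive H) :=
    { toFun := π₀
      map_one' := AddMonoidHom.ext fun a => Additive.toMul.injective (Subtype.ext (by
        show ((1 : U) : G) * (a.toMul : H) * ((1 : U) : G)⁻¹ = (a.toMul : H); simp))
      map_mul' := fun u v => AddMonoidHom.ext fun a => Additive.toMul.injective (Subtype.ext (by
        show ((u * v : U) : G) * (a.toMul : H) * ((u * v : U) : G)⁻¹ =
          (u : G) * ((v : G) * (a.toMul : H) * (v : G)⁻¹) * (u : G)⁻¹
        simp [mul_assoc])) }
  have ρ_apply : ∀ (u : U) (a : Additive H), (((ρ u a).toMul : H) : G) = u * (a.toMul : H) * (u : G)⁻¹ :=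
    fun u a => rfl
  have ρ_comm : ∀ u v : U, Commute (ρ u) (ρ v) := fun u v =>
    AddMonoidHom.ext fun a => Additive.toMul.injective (Subtype.ext (K.act_comm u.2 v.2 a.toMul.2))
  set R := Subring.closure (Set.range ρ) with hR
  let _ : CommRing R :=
    { (inferInstance : Ring R) with
      mul_comm := fun r r' => Subtype.ext (by
        have : ∀ f ∈ R, ∀ g ∈ R, f * g = g * f := by
          intro f hf g hg
          induction hf using Subring.closure_induction with
          | mem f hf =>
            obtain ⟨v, rfl⟩ := hf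
            induction hg using Subring.closure_induction with
            | mem g hg => obtain ⟨v', rfl⟩ := hg; exact ρ_comm v v'
            | zero => simp
            | one => simp
            | add _ _ _ _ h1 h2 => rw [mul_add, add_mul, h1, h2]
            | neg _ _ h1 => exact Commute.neg_right h1
            | mul x y _ _ h1 h2 => rw [← mul_assoc, h1, mul_assoc, h2, mul_assoc]
          | zero => simp
          | one => simp
          | add _ _ _ _ h1 h2 => rw [add_mul, mul_add, h1, h2]
          | neg _ _ h1 => exact Commute.neg_left h1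
          | mul x y _ _ h1 h2 => rw [mul_assoc, h2, ← mul_assoc, h1, mul_assoc]
        exact this r r.2 r' r'.2) }
  let ev : R → Additive H → Additive H := fun r a => (r : AddMonoid.End (Additive H)) a
  let ρR : U →* R := { toFun := fun u => ⟨ρ u, Subring.subset_closure ⟨u, rfl⟩⟩
                       map_one' := Subtype.ext (map_one ρ), map_mul' := fun u v => Subtype.ext (map_mul ρ u v) }
  -- invariant subgroups of `Additive H`
  have inv : ∀ A : AddSubgroup (Additive H), (∀ u : U, ∀ a ∈ A, ρ u a ∈ A) → A = ⊥ ∨ A = ⊤ := by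
    intro A hA
    set Y : Subgroup G := (A.toSubgroup' : Subgroup H).map H.subtype with hY
    have hYn : U ≤ normalizer (Y : Set G) := fun g hg => by
      refine Transfer.map_conj_eq_self_iff.mp (eq_of_le_of_card_ge ?_ (Transfer.card_map_conj g _).ge)
      rintro _ ⟨_, ⟨y, hy, rfl⟩, rfl⟩
      exact ⟨(ρ ⟨g, hg⟩ (Additive.ofMul y)).toMul, hA ⟨g, hg⟩ _ hy, rfl⟩
    rcases hgal Y (map_subtype_le _) hYn with h | h
    · refine Or.inl ((AddSubgroup.eq_bot_iff_forall _).mpr fun a ha => ?_)
      have h1 : ((a.toMul : H) : G) ∈ Y := ⟨a.toMul, ha, rfl⟩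
      rw [h, mem_bot] at h1
      exact Additive.toMul.injective (Subtype.ext h1)
    · refine Or.inr (eq_top_iff.mpr fun a _ => ?_)
      obtain ⟨y, hy, hye⟩ := h.ge a.toMul.2
      rwa [show a = Additive.ofMul y from Additive.toMul.injective (Subtype.ext hye.symm)]
  have rcomm : ∀ (r : R) (u : U) (a : Additive H), ev r (ρ u a) = ρ u (ev r a) := fun r u a =>
    congrArg (fun f : R => ev f a) (mul_comm r (ρR u))
  have : Nontrivial (Additive H) := by
    have : Nontrivial H := (Subgroup.nontrivial_iff_ne_bot H).mpr fun e => K.nontriv (by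
      rw [e]; exact fun g _ => mem_centralizer_iff.mpr fun h hh => by rw [mem_bot.mp hh, one_mul, mul_one])
    infer_instance
  obtain ⟨a₀, ha₀⟩ := exists_ne (0 : Additive H)
  have hinj : ∀ r : R, r ≠ 0 → ∀ a, ev r a = 0 → a = 0 := by
    intro r hr a ha
    rcases inv (r : AddMonoid.End (Additive H)).ker (fun u b hb => by
        show ev r (ρ u b) = 0
        rw [rcomm, show ev r b = 0 from hb, map_zero]) with h | h
    · exact (AddSubgroup.eq_bot_iff_forall _).mp h a ha
    · exact absurd (Subtype.ext (AddMonoidHom.ext fun b => show ev r b = 0 from h.ge (AddSubgroup.mem_top b))) hr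
  have : Nontrivial R := ⟨1, 0, fun e => ha₀ (show ev 1 a₀ = 0 by rw [e]; rfl)⟩
  have : NoZeroDivisors R := ⟨fun {r s} h => by
    by_contra hne
    push Not at hne
    refine hne.2 (Subtype.ext (AddMonoidHom.ext fun a => hinj r hne.1 _ ?_))
    show ev (r * s) a = 0
    rw [h]; rfl⟩
  have : IsDomain R := NoZeroDivisors.to_isDomain R
  have : Finite (AddMonoid.End (Additive H)) :=
    Finite.of_injective (fun f : AddMonoid.End (Additive H) => (f : Additive H → Additive H)) DFunLike.coe_injective
  have hcardR : Nat.card R = p ^ q := by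
    let evh : R →+ Additive H :=
      { toFun := fun r => ev r a₀, map_zero' := rfl, map_add' := fun _ _ => rfl }
    have hsurj : evh.range = ⊤ := by
      refine (inv _ fun u a ha => by
        obtain ⟨r, rfl⟩ := ha
        exact ⟨ρR u * r, rfl⟩).resolve_left fun e => ?_
      exact ha₀ ((AddSubgroup.eq_bot_iff_forall _).mp e _ ⟨1, rfl⟩)
    rw [Nat.card_eq_of_bijective evh ⟨(injective_iff_map_eq_zero evh).mpr fun r hr => by
      by_contra h; exact ha₀ (hinj r h a₀ hr), AddMonoidHom.range_eq_top.mp hsurj⟩]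
    exact K.card
  let : Fintype R := Fintype.ofFinite R
  let : Field R := Fintype.fieldOfDomain R
  have hunits : Nat.card Rˣ = p ^ q - 1 := by rw [Nat.card_units, hcardR]
  -- the image of `U`
  set φ : U →* Rˣ := ρR.toHomUnits with hφ
  have hker : ∀ u : U, φ u = 1 ↔ (u : G) ∈ centralizer (H : Set G) := by
    intro u
    constructor
    · intro h
      refine mem_centralizer_iff.mpr fun x hx => ?_
      have h2 := congrArg (fun a : Additive H => ((a.toMul : H) : G))
        (show ρ u (Additive.ofMul ⟨x, hx⟩) = Additive.ofMul ⟨x, hx⟩ from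
          congrArg (fun f : Rˣ => ev f (Additive.ofMul ⟨x, hx⟩)) h)
      exact (mul_inv_eq_iff_eq_mul.mp h2).symm
    · intro h
      refine Units.ext (Subtype.ext (AddMonoidHom.ext fun a => Additive.toMul.injective (Subtype.ext ?_)))
      exact mul_inv_eq_iff_eq_mul.mpr (mem_centralizer_iff.mp h _ a.toMul.2).symm
  have hidx : Nat.card φ.range = (centralizer (H : Set G)).relIndex U := by
    rw [← index_ker, Subgroup.relIndex]
    congr 1
    ext u
    exact (hker u).trans mem_subgroupOf.symm
  have hdvd : (centralizer (H : Set G)).relIndex U ∣ p ^ q - 1 := by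
    rw [← hidx, ← hunits]; exact card_subgroup_dvd_card _
  have hfree : ∀ u ∈ U, u ∉ centralizer (H : Set G) → H ⊓ centralizer {u} = ⊥ := by
    intro u hu hne
    refine (eq_bot_iff_forall _).mpr fun x hx => ?_
    by_contra hx1
    set r : R := ρR ⟨u, hu⟩ - 1 with hr
    have hr0 : r ≠ 0 := fun e => hne ((hker ⟨u, hu⟩).mp (Units.ext (sub_eq_zero.mp e)))
    have h0 : ev r (Additive.ofMul ⟨x, hx.1⟩) = 0 := by
      show ρ ⟨u, hu⟩ (Additive.ofMul ⟨x, hx.1⟩) - Additive.ofMul ⟨x, hx.1⟩ = 0
      refine sub_eq_zero.mpr (Additive.toMul.injective (Subtype.ext ?_))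
      exact mul_inv_eq_iff_eq_mul.mpr (mem_centralizer_singleton_iff.mp hx.2).symm
    exact hx1 (congrArg (fun a : Additive H => ((a.toMul : H) : G)) (hinj r hr0 _ h0))
  have hscal : ∀ u : U, φ u ^ (p - 1) = 1 → φ u = 1 := by
    intro u hu
    have : CharP R p := (CharP.charP_iff_prime_eq_zero hp).mpr (by
      refine Subtype.ext (AddMonoidHom.ext fun a => ?_)
      have h1 : ((p : R) : AddMonoid.End (Additive H)) a = p • a := by
        rw [SubringClass.coe_natCast]; exact AddMonoid.End.natCast_apply _ _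
      show ((p : R) : AddMonoid.End (Additive H)) a = 0
      rw [h1]
      refine Additive.toMul.injective (Subtype.ext ?_)
      simp only [toMul_nsmul, coe_pow]
      exact K.pow_eq_one a.toMul.2)
    let c := ZMod.castHom (dvd_refl p) R
    have hp1 : NeZero (p - 1) := ⟨by have := hp.two_le; omega⟩
    let f : (ZMod p)ˣ → rootsOfUnity (p - 1) R := fun k => ⟨Units.map c.toMonoidHom k, by
      rw [mem_rootsOfUnity, ← map_pow, ← ZMod.card_units p, pow_card_eq_one, map_one]⟩
    have hf : Function.Injective f := fun a b h => Units.ext (c.injective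
      (congrArg (fun t : rootsOfUnity (p - 1) R => ((t : Rˣ) : R)) h))
    have hbij := (Nat.bijective_iff_injective_and_card f).mpr ⟨hf, le_antisymm
      (Nat.card_le_card_of_injective f hf) (by
        rw [Nat.card_eq_fintype_card (α := (ZMod p)ˣ), ZMod.card_units]; exact card_rootsOfUnity _ _)⟩
    obtain ⟨k, hk⟩ := hbij.2 ⟨φ u, hu⟩
    have hk' : ρR u = ((k : ZMod p).val : R) := by
      have h2 := congrArg (fun t : rootsOfUnity (p - 1) R => ((t : Rˣ) : R)) hk
      refine h2.symm.trans ?_
      show c (k : ZMod p) = _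
      rw [← map_natCast c, ZMod.natCast_zmod_val]
    have hpow : ∀ x ∈ H, (u : G) * x * (u : G)⁻¹ = x ^ (k : ZMod p).val := by
      intro x hx
      have h2 : ρ u (Additive.ofMul ⟨x, hx⟩) = (k : ZMod p).val • Additive.ofMul ⟨x, hx⟩ :=
        (congrArg (fun r : R => ev r (Additive.ofMul ⟨x, hx⟩)) hk').trans (by
          simp only [ev, SubringClass.coe_natCast]; exact AddMonoid.End.natCast_apply _ _)
      simpa [ρ_apply] using congrArg (fun a : Additive H => ((a.toMul : H) : G)) h2
    refine (hker u).mpr (K.scalar_of u.2 hw hw1 fun x hx => ?_)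
    rw [hpow x hx, hpow _ (K.conj_mem (mem_sup_right hw) hx), conj_pow]
  have hcop : ((centralizer (H : Set G)).relIndex U).Coprime (p - 1) := by
    rw [← hidx]
    refine Nat.coprime_of_dvd fun r hr h1 h2 => ?_
    have := Fact.mk hr
    obtain ⟨⟨a, ha⟩, hu⟩ := exists_prime_orderOf_dvd_card' (G := φ.range) r h1
    obtain ⟨u, rfl⟩ := MonoidHom.mem_range.mp ha
    rw [← orderOf_coe] at hu
    change orderOf (φ u) = r at hu
    have h3 := hscal u (orderOf_dvd_iff_pow_eq_one.mp (hu ▸ h2))
    rw [h3, orderOf_one] at hu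
    exact hr.ne_one hu.symm
  have hcyc : IsCyclic φ.range := inferInstance
  obtain ⟨⟨a, ha⟩, hg⟩ := hcyc.exists_generator
  obtain ⟨g, rfl⟩ := MonoidHom.mem_range.mp ha
  refine ⟨hfree, ⟨g, g.2, fun u hu => ?_⟩, hcop, hcop.mul_dvd_of_dvd_of_dvd hdvd ?_, fun hC => ?_⟩
  · obtain ⟨n, hn⟩ := mem_powers_iff_mem_zpowers.mpr (hg ⟨φ ⟨u, hu⟩, MonoidHom.mem_range.mpr ⟨_, rfl⟩⟩)
    refine ⟨n, (hker ((g ^ n)⁻¹ * ⟨u, hu⟩)).mp ?_⟩
    rw [map_mul, map_inv, map_pow, inv_mul_eq_one]
    exact congrArg Subtype.val hn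
  · simpa using Nat.sub_dvd_pow_sub_pow p 1 q
  · refine isCyclic_of_injective φ ((injective_iff_map_eq_one φ).mpr fun u hu => Subtype.ext ?_)
    exact mem_bot.mp (hC ▸ mem_inf.mpr ⟨u.2, (hker u).mp hu⟩)

end KernelModule

end CfsgLib.OddLocal.Final
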