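import Cfsg.Agent.Lib.OddLocal.TypeP
import Cfsg.Agent.Lib.Char.CyclicTI.FrobeniusFormula
import Cfsg.Agent.Lib.OddLocal.P2SignalizerMain
import Mathlib.GroupTheory.SpecificGroups.ZGroup
import Mathlib.GroupTheory.Sylow

/-!
Owner: helper16. The normalizer of `W₁` inside its partner `T` (Peterfalvi 14), and the shape of a Z-group
complement lying in it.
-/

set_option autoImplicit false
set_option linter.unusedSectionVars false

namespace CfsgLib.OddLocal.Final

open Subgroup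
open CfsgLib.TwoGroups
open scoped commutatorElement

variable {G : Type*} [Group G] [Finite G] {T W V X E Q : Subgroup G}

theorem typeP_inf_eq_bot (hP : Cfsg.IsTypePWith T W V X) : Cfsg.fittingHallOf T ⊓ W = ⊥ := by
  refine le_bot_iff.mp ((le_inf (inf_le_left.trans hP.U_compl.1) inf_le_right).trans hP.W₁_compl.2.2.1.le)

theorem typeP_le_normalizer (hP : Cfsg.IsTypePWith T W V X) :
    T ≤ normalizer (Cfsg.fittingHallOf T : Set G) := by
  have := hP.W₁_ne
  exact FittingStructure.le_normalizer_fittingHallOf T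

/-- `W` moves every non-identity element of `V`. -/
theorem typeP_fpf (hP : Cfsg.IsTypePWith T W V X) {w v : G} (hw : w ∈ W) (hw1 : w ≠ 1) (hv : v ∈ V)
    (hc : w * v = v * w) : v = 1 := by
  have h1 : v ∈ X := (hP.W₂_centralizer w hw hw1).le
    (mem_inf.mpr ⟨hP.U_compl.2.1 hv, mem_centralizer_singleton_iff.mpr hc.symm⟩)
  exact mem_bot.mp (hP.U_compl.2.2.1 ▸ mem_inf.mpr ⟨(mem_inf.mp (hP.W₂_le h1)).1, hv⟩)

theorem typeP_le_centralizer (hP : Cfsg.IsTypePWith T W V X)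
    (hQ : IsMulCommutative (Cfsg.fittingHallOf T)) :
    Cfsg.fittingHallOf T ⊔ W ≤ centralizer (X : Set G) := by
  refine sup_le ?_ fun w hw => mem_centralizer_iff.mpr fun x hx => ?_
  · exact ((le_centralizer_iff_isMulCommutative.mpr hQ).trans
      (Subgroup.centralizer_le fun x hx => (mem_inf.mp (hP.W₂_le hx)).1))
  · exact (hP.selfNormalizing.2.2.2.1 w hw x hx).symm

/-- With `T_F` abelian and `C_V(T_F) = 1`, `N_T(W₁) = C_T(W₁) = T_F W₂`. -/
theorem inf_normalizer_le (hP : Cfsg.IsTypePWith T W V X)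
    (hQ : IsMulCommutative (Cfsg.fittingHallOf T))
    (hC : V ⊓ centralizer (Cfsg.fittingHallOf T : Set G) = ⊥) :
    T ⊓ normalizer (X : Set G) ≤ Cfsg.fittingHallOf T ⊔ W := by
  set Q := Cfsg.fittingHallOf T with hQdef
  have hVc : ∀ a ∈ V, ∀ b ∈ V, a * b = b * a := fun a ha b hb => by
    have h : ⁅a, b⁆ ∈ V ⊓ centralizer (Q : Set G) := mem_inf.mpr ⟨by
      rw [commutatorElement_def]
      exact mul_mem (mul_mem (mul_mem ha hb) (inv_mem ha)) (inv_mem hb),
      TypeP.U_derived_le hP (commutator_mem_commutator ha hb)⟩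
    rw [hC, mem_bot, commutatorElement_eq_one_iff_mul_comm] at h
    exact h
  obtain ⟨w, hw, hw1⟩ := W.bot_or_exists_ne_one.resolve_left hP.W₁_ne
  have hwX : ∀ x ∈ X, w * x = x * w := fun x hx => hP.selfNormalizing.2.2.2.1 w hw x hx
  -- `N_V(W₁) = C_V(W₁)`
  set A := V ⊓ normalizer (X : Set G) with hA
  set B := V ⊓ centralizer (X : Set G) with hB
  have hBA : B ≤ A := inf_le_inf_left _ (Subgroup.centralizer_le_normalizer _)
  have hmem : ∀ a ∈ A, w * a * w⁻¹ * a⁻¹ ∈ B := by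
    intro a ha
    refine mem_inf.mpr ⟨mul_mem ((mem_normalizer_iff.mp (hP.U_normal hw) a).mp (mem_inf.mp ha).1) (inv_mem (mem_inf.mp ha).1),
      mem_centralizer_iff.mpr fun x hx => ?_⟩
    have h1 : a⁻¹ * x * a ∈ X := by
      simpa using (mem_normalizer_iff.mp ((normalizer (X : Set G)).inv_mem (mem_inf.mp ha).2) x).mp hx
    have h2 : w * a * w⁻¹ * a⁻¹ * x * (w * a * w⁻¹ * a⁻¹)⁻¹ = x := by
      have h3 : w⁻¹ * (a⁻¹ * x * a) * w = a⁻¹ * x * a := by
        rw [mul_assoc, ← hwX _ h1, ← mul_assoc, inv_mul_cancel, one_mul]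
      calc w * a * w⁻¹ * a⁻¹ * x * (w * a * w⁻¹ * a⁻¹)⁻¹
          = w * (a * (w⁻¹ * (a⁻¹ * x * a) * w) * a⁻¹) * w⁻¹ := by group
        _ = w * (a * (a⁻¹ * x * a) * a⁻¹) * w⁻¹ := by rw [h3]
        _ = w * x * w⁻¹ := by group
        _ = x := by rw [hwX x hx, mul_inv_cancel_right]
    exact (mul_inv_eq_iff_eq_mul.mp h2).symm
  have hAB : A = B := by
    refine (eq_of_le_of_card_ge hBA ?_).symm
    refine Nat.card_le_card_of_injective (fun a : A => (⟨_, hmem a a.2⟩ : B)) fun a b e => ?_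
    have e' : w * (a : G) * w⁻¹ * (a : G)⁻¹ = w * (b : G) * w⁻¹ * (b : G)⁻¹ := congrArg Subtype.val e
    refine Subtype.ext (inv_mul_eq_one.mp (typeP_fpf hP hw hw1 (mul_mem (inv_mem (mem_inf.mp a.2).1) (mem_inf.mp b.2).1) ?_))
    have h4 : w * ((a : G)⁻¹ * b) * w⁻¹ = (a : G)⁻¹ * b := by
      calc w * ((a : G)⁻¹ * b) * w⁻¹
          = (w * (a : G) * w⁻¹ * (a : G)⁻¹ * a)⁻¹ * (w * (b : G) * w⁻¹ * (b : G)⁻¹ * b) := by group
        _ = (a : G)⁻¹ * ((w * (b : G) * w⁻¹ * (b : G)⁻¹)⁻¹ * (w * (b : G) * w⁻¹ * (b : G)⁻¹)) * b := by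
            rw [e']; group
        _ = _ := by group
    exact mul_inv_eq_iff_eq_mul.mp h4
  -- `C_V(W₁) = 1`
  have hWB : W ≤ normalizer (B : Set G) :=
    (le_inf hP.U_normal (((le_sup_right : W ≤ Q ⊔ W).trans (typeP_le_centralizer hP hQ)).trans
      le_normalizer)).trans inf_normalizer_le_normalizer_inf
  have hfpf : ∀ e ∈ W, e ≠ 1 → ∀ u ∈ B, e * u = u * e → u = 1 := fun e he he1 u hu hc =>
    typeP_fpf hP he he1 hu.1 hc
  have hBW : B ⊓ W = ⊥ := (eq_bot_iff_forall _).mpr fun y hy => by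
    by_contra hy1
    exact hy1 (hfpf y hy.2 hy1 y hy.1 rfl)
  have hT : B ⊔ W ≤ T := sup_le (inf_le_left.trans (hP.U_compl.2.1.trans (TypeP.derived_le hP))) hP.W₁_compl.2.1
  have hcop : (Nat.card Q).Coprime (Nat.card ↥(B ⊔ W)) := by
    refine Nat.Coprime.coprime_dvd_right (sup_comm B W ▸ Core.card_sup_dvd W B hWB) ?_
    refine Nat.Coprime.mul_right ?_ ?_
    · exact ((TypeP.coprime_W₁_derived hP).coprime_dvd_right (card_dvd_of_le hP.U_compl.1)).symm
    · exact (TypeP.coprime_H_U hP).coprime_dvd_right (card_dvd_of_le inf_le_left)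
  have hf := CfsgLib.FrobFix.formula_subgroup B W Q hBW
    (fun e he u hu => (mem_normalizer_iff.mp (hWB he) u).mp hu) hfpf
    (fun x hx y hy => (mem_normalizer_iff.mp (typeP_le_normalizer hP (hT hx)) y).mp hy)
    (have : Group.IsNilpotent Q := fittingHallOf_nilpotent T; inferInstance) hcop
  have hXQ : X ≤ Q := fun x hx => (mem_inf.mp (hP.W₂_le hx)).1
  have hQW : Q ⊓ centralizer (W : Set G) = X := by
    refine le_antisymm (fun y hy => (hP.W₂_centralizer w hw hw1).le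
      ⟨hP.U_compl.1 hy.1, mem_centralizer_singleton_iff.mpr (mem_centralizer_iff.mp hy.2 w hw).symm⟩)
      (le_inf hXQ fun x hx => mem_centralizer_iff.mpr fun e he => hP.selfNormalizing.2.2.2.1 e he x hx)
  have hQBW : Q ⊓ centralizer ((B ⊔ W : Subgroup G) : Set G) = X := by
    refine le_antisymm ((inf_le_inf_left _ (Subgroup.centralizer_le (le_sup_right : W ≤ B ⊔ W))).trans hQW.le)
      (le_inf hXQ (le_centralizer_iff.mp (sup_le inf_le_right
        ((le_sup_right : W ≤ Q ⊔ W).trans (typeP_le_centralizer hP hQ)))))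
  rw [hQBW, hQW] at hf
  have hB1 : B = ⊥ := by
    refine le_bot_iff.mp ((le_inf inf_le_left (le_centralizer_iff.mp (inf_eq_left.mp
      (eq_of_le_of_card_ge inf_le_left ?_)))).trans hC.le)
    exact (Nat.eq_of_mul_eq_mul_left (pow_pos Nat.card_pos _) hf).le
  -- assemble
  rintro t ⟨htT, htN⟩
  obtain ⟨a, ha, u, hu, rfl⟩ := hP.W₁_compl.2.2.2 t htT
  obtain ⟨h, hh, v, hv, rfl⟩ := hP.U_compl.2.2.2 a ha
  have hhN : h ∈ normalizer (X : Set G) := Subgroup.centralizer_le_normalizer _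
    (typeP_le_centralizer hP hQ (mem_sup_left hh))
  have huN : u ∈ normalizer (X : Set G) := Subgroup.centralizer_le_normalizer _
    (typeP_le_centralizer hP hQ (mem_sup_right hu))
  have hvA : v ∈ A := ⟨hv, by
    rw [show v = h⁻¹ * (h * v * u) * u⁻¹ by group]
    exact Subgroup.mul_mem _ (Subgroup.mul_mem _ (Subgroup.inv_mem _ hhN) htN) (Subgroup.inv_mem _ huN)⟩
  rw [hAB, hB1, mem_bot] at hvA
  rw [hvA, mul_one]
  exact mul_mem (mem_sup_left hh) (mem_sup_right hu)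

/-- A Z-group between `X` and `Q ⋊ W`, for `Q` elementary abelian and `W` of prime order. -/
theorem zgroup_cases {p q : ℕ} [Fact p.Prime] [Fact q.Prime] (hpq : p ≠ q) (hX : Nat.card X = q) (hXQ : X ≤ Q)
    (hQ : IsMulCommutative Q) (hexp : ∀ x ∈ Q, x ^ q = 1) (hW : Nat.card W = p)
    (hWQ : W ≤ normalizer (Q : Set G)) (hE : IsZGroup E) (hXE : X ≤ E) (hEle : E ≤ Q ⊔ W) :
    E = X ∨ ∃ y ∈ Q, E = X ⊔ W.map (MulAut.conj y).toMonoidHom := by
  have hp := (Fact.out : p.Prime)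
  have hq := (Fact.out : q.Prime)
  have hqQ : IsPGroup q Q := fun x => ⟨1, Subtype.ext (by simpa using hexp x x.2)⟩
  -- `E ∩ Q = X`
  have hEQ : E ⊓ Q = X := by
    refine (eq_of_le_of_card_ge (le_inf hXE hXQ) (hX ▸ ?_)).symm
    have hle : E ⊓ Q ≤ E := inf_le_left
    have : IsZGroup ↥(E ⊓ Q) := IsZGroup.of_injective (f := inclusion hle) (inclusion_injective hle)
    have : Group.IsNilpotent ↥(E ⊓ Q) := (hqQ.to_le inf_le_right).isNilpotent
    rw [← IsCyclic.exponent_eq_card (α := ↥(E ⊓ Q))]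
    exact Nat.le_of_dvd hq.pos (Monoid.exponent_dvd_of_forall_pow_eq_one fun x =>
      Subtype.ext (hexp x (mem_inf.mp x.2).2))
  set N := Q ⊔ W with hN
  have hQN : (Q.subgroupOf N).Normal :=
    (normal_subgroupOf_iff_le_normalizer le_sup_left).mpr (sup_le le_normalizer hWQ)
  have hidx : (Q.subgroupOf N).index ∣ p := by
    have h1 : Nat.card N ∣ Nat.card Q * Nat.card W := by
      rw [hN, sup_comm, mul_comm]
      exact Core.card_sup_dvd W Q hWQ
    rw [← (Q.subgroupOf N).index_mul_card, Nat.card_congr (subgroupOfEquivOfLe (le_sup_left : Q ≤ N)).toEquiv,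
      hW, mul_comm (Nat.card Q)] at h1
    exact Nat.dvd_of_mul_dvd_mul_right Nat.card_pos h1
  have hj : X.relIndex E ∣ p := by
    refine dvd_trans ?_ hidx
    have h2 := relIndex_dvd_index_of_normal (H := Q.subgroupOf N) (K := E.subgroupOf N)
    rw [relIndex_subgroupOf hEle] at h2
    rwa [← hEQ, inf_relIndex_left]
  rcases (Nat.dvd_prime hp).mp hj with h1 | h1
  · exact Or.inl (le_antisymm (relIndex_eq_one.mp h1) hXE)
  refine Or.inr ?_
  have hcE : Nat.card E = q * p := by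
    rw [← hX, ← h1, ← relIndex_bot_left E, ← relIndex_bot_left X, relIndex_mul_relIndex ⊥ X E bot_le hXE]
  obtain ⟨z, hz⟩ := exists_prime_orderOf_dvd_card' (G := E) p (hcE ▸ dvd_mul_left p q)
  set Z := zpowers (z : G) with hZdef
  have hZ : Nat.card Z = p := by rw [hZdef, Nat.card_zpowers, orderOf_coe, hz]
  have hZN : Z ≤ N := (zpowers_le.mpr z.2).trans hEle
  have hcN : Nat.card N = Nat.card Q * (Q.subgroupOf N).index := by
    rw [← (Q.subgroupOf N).index_mul_card, Nat.card_congr (subgroupOfEquivOfLe (le_sup_left : Q ≤ N)).toEquiv,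
      mul_comm]
  obtain ⟨k, hk⟩ := IsPGroup.iff_card.mp hqQ
  have key : ∀ Y : Subgroup G, Y ≤ N → Nat.card Y = p → ∀ hY : IsPGroup p (Y.subgroupOf N),
      ¬ p ∣ (Y.subgroupOf N).index := by
    intro Y hY hc _ hd
    have h3 := (Y.subgroupOf N).index_mul_card
    rw [Nat.card_congr (subgroupOfEquivOfLe hY).toEquiv, hc, hcN, hk] at h3
    have h4 : (Y.subgroupOf N).index ∣ q ^ k := by
      refine Nat.dvd_of_mul_dvd_mul_right hp.pos ?_
      rw [h3]
      exact Nat.mul_dvd_mul_left _ hidx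
    exact hpq ((Nat.prime_dvd_prime_iff_eq hp hq).mp (hp.dvd_of_dvd_pow (hd.trans h4)))
  have hWp : IsPGroup p (W.subgroupOf N) :=
    (IsPGroup.of_card (n := 1) (by rw [hW, pow_one]) : IsPGroup p W).comap_subtype
  have hZp : IsPGroup p (Z.subgroupOf N) :=
    (IsPGroup.of_card (n := 1) (by rw [hZ, pow_one]) : IsPGroup p Z).comap_subtype
  obtain ⟨⟨n, hn⟩, hconj⟩ := MulAction.exists_smul_eq N (hWp.toSylow (key W le_sup_right hW hWp))
    (hZp.toSylow (key Z hZN hZ hZp))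
  have hmem : ∀ u ∈ W, n * u * n⁻¹ ∈ Z := fun u hu => by
    have h5 := congrArg (fun S : Sylow p N => (S : Subgroup N)) hconj
    simp only [Sylow.coe_subgroup_smul, IsPGroup.toSylow_coe] at h5
    have h6 := h5.le ((Subgroup.smul_mem_pointwise_smul_iff (a := MulAut.conj (⟨n, hn⟩ : N))).mpr
      (show (⟨u, mem_sup_right hu⟩ : N) ∈ W.subgroupOf N from hu))
    exact mem_subgroupOf.mp h6
  obtain ⟨y, hy, v, hv, rfl⟩ : ∃ y ∈ Q, ∃ v ∈ W, n = y * v := mem_sup_of_le_normalizer hWQ |>.mp hn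
  refine ⟨y, hy, ?_⟩
  have hWZ : W.map (MulAut.conj y).toMonoidHom ≤ Z := by
    rintro _ ⟨u, hu, rfl⟩
    show y * u * y⁻¹ ∈ Z
    rw [show y * u * y⁻¹ = y * v * (v⁻¹ * u * v) * (y * v)⁻¹ by group]
    exact hmem _ (W.mul_mem (W.mul_mem (W.inv_mem hv) hu) hv)
  refine (eq_of_le_of_card_ge (sup_le hXE (hWZ.trans (zpowers_le.mpr z.2))) ?_).symm
  rw [hcE]
  refine Nat.le_of_dvd Nat.card_pos (Nat.Coprime.mul_dvd_of_dvd_of_dvd ((Nat.coprime_primes hq hp).mpr hpq.symm)
    (hX ▸ card_dvd_of_le le_sup_left) ?_)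
  have h7 := card_dvd_of_le (le_sup_right : W.map (MulAut.conj y).toMonoidHom ≤ X ⊔ W.map (MulAut.conj y).toMonoidHom)
  rwa [Transfer.card_map_conj, hW] at h7

end CfsgLib.OddLocal.Final
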