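import Cfsg.Agent.S1365
import Cfsg.Agent.S1379
import Cfsg.Agent.Lib.OddLocal.Frob12.TypeOne
import Cfsg.Agent.Lib.OddLocal.TypeP
import Cfsg.Agent.Lib.OddLocal.KappaZhatConj

/-!
Owner: helper12. The two maximal subgroups `S`, `T` of the final configuration in terms of the
`κ`-library: `W₁` is a Hall `κ(S)`-subgroup with `K* = W₂`, `(S, T)` is a pair, and every maximal
subgroup conjugate to neither is of Type I.
-/

set_option autoImplicit false
set_option linter.unusedSectionVars false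

namespace CfsgLib.OddLocal.FTFinal

open Subgroup
open CfsgLib.TwoGroups

variable {G : Type*} [Group G] [Finite G] {S T M W₁ W₂ U V : Subgroup G}

theorem not_typeOne_of_typeP (hG : Cfsg.IsMinSimpleOddOrder G) (hS : IsCoatom S)
    (hP : Cfsg.IsTypePWith S W₁ U W₂) : ¬ Cfsg.IsOfTypeI S := fun hI =>
  TypesExclusive.not_one_typeP hG hS hI ⟨W₁, U, W₂, hP⟩

/-- `W₁` is a Hall `κ(S)`-subgroup of `S`. -/
theorem hall_W₁ (hG : Cfsg.IsMinSimpleOddOrder G) (hS : IsCoatom S)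
    (hP : Cfsg.IsTypePWith S W₁ U W₂) : Cfsg.IsPiHallOf (Cfsg.kappa S) W₁ S := by
  obtain ⟨K, U', h⟩ := DadeSupport.exists_decomposition hG hS
  have hK : K ≠ ⊥ := fun e => not_typeOne_of_typeP hG hS hP (Frob12.isOfTypeI hG hS h e)
  have hD := (Cfsg.Agent.S1365.result hG S hS K U' h hK).1
  have hc : Cfsg.IsComplIn ⁅S, S⁆ K S := by
    refine ⟨commutator_le_self S, h.hall.1, ?_, fun m hm => ?_⟩
    · rw [hD, inf_comm]; exact Kappa.inf_sup_eq_bot hG hS h.hall h.compl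
    obtain ⟨u, hu, b, hb, rfl⟩ := h.compl.2.2.2 m hm
    obtain ⟨o, ho, k, hk, rfl⟩ := (OddLocal.mem_sup_of_le_normalizer
      (h.hall.1.trans (TauTwo.le_normalizer_sigmaCore S))).mp (sup_comm K _ ▸ hb)
    exact ⟨u * o, hD ▸ mul_mem (mem_sup_left hu) (mem_sup_right ho), k, hk, by rw [mul_assoc]⟩
  have hcard : Nat.card W₁ = Nat.card K := by
    refine Nat.eq_of_mul_eq_mul_left (Nat.card_pos (α := ↥⁅S, S⁆)) ?_
    rw [IsComplIn_card_mul hP.W₁_compl, IsComplIn_card_mul hc]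
  refine ⟨hP.W₁_compl.2.1, fun t ht hd => h.hall.2.1 t ht (hcard ▸ hd), fun t ht hπ => ?_⟩
  rw [IsComplIn_relIndex_right hP.W₁_compl, ← IsComplIn_relIndex_right hc]
  exact h.hall.2.2 t ht hπ

theorem W₂_le_sigmaCore (hG : Cfsg.IsMinSimpleOddOrder G) (hS : IsCoatom S)
    (hP : Cfsg.IsTypePWith S W₁ U W₂) : W₂ ≤ Cfsg.sigmaCore S :=
  (hP.W₂_le.trans inf_le_left).trans (DadeSupport.fittingHallOf_le_sigmaCore hG hS)

theorem kstar_eq (hG : Cfsg.IsMinSimpleOddOrder G) (hS : IsCoatom S)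
    (hP : Cfsg.IsTypePWith S W₁ U W₂) : Kappa.Kstar S W₁ = W₂ := by
  refine le_antisymm (fun y hy => ?_) (le_inf (W₂_le_sigmaCore hG hS hP) fun y hy => ?_)
  · obtain ⟨x, hx, hx1⟩ := W₁.bot_or_exists_ne_one.resolve_left hP.W₁_ne
    rw [← hP.W₂_centralizer x hx hx1]
    exact ⟨OddLocal.BetaCore.sigmaCore_le_derived hG hS hy.1,
      Subgroup.centralizer_le (Set.singleton_subset_iff.mpr hx) hy.2⟩
  · exact mem_centralizer_iff.mpr fun a ha => hP.selfNormalizing.2.2.2.1 a ha y hy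

theorem exists_data_W₁ (hG : Cfsg.IsMinSimpleOddOrder G) (hS : IsCoatom S)
    (hP : Cfsg.IsTypePWith S W₁ U W₂) : ∃ E, Kappa.Data S W₁ E :=
  Kappa.exists_data hG hS (hall_W₁ hG hS hP) hP.W₁_ne

/-- `(S, T)` is a pair of the `κ`-library. -/
theorem pair (hG : Cfsg.IsMinSimpleOddOrder G) (hS : IsCoatom S) (hT : IsCoatom T)
    (hSP : Cfsg.IsTypePWith S W₁ U W₂) (hTP : Cfsg.IsTypePWith T W₂ V W₁) :
    ∃ E, Kappa.Data S W₁ E ∧ Kappa.Pair S W₁ T := by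
  obtain ⟨E, d⟩ := exists_data_W₁ hG hS hSP
  obtain ⟨F, dT⟩ := exists_data_W₁ hG hT hTP
  have e := kstar_eq hG hS hSP
  exact ⟨E, d, d.pair_unique hG (e.symm ▸ dT) (e.symm ▸ kstar_eq hG hT hTP)⟩

/-- A maximal subgroup conjugate to neither `S` nor `T` is of Type I. -/
theorem typeOne_of_nconj (hG : Cfsg.IsMinSimpleOddOrder G) (hS : IsCoatom S) (hT : IsCoatom T)
    (hSP : Cfsg.IsTypePWith S W₁ U W₂) (hTP : Cfsg.IsTypePWith T W₂ V W₁) (hM : IsCoatom M)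
    (hMS : ∀ g : G, M ≠ S.map (MulAut.conj g).toMonoidHom)
    (hMT : ∀ g : G, M ≠ T.map (MulAut.conj g).toMonoidHom) : Cfsg.IsOfTypeI M := by
  obtain ⟨E, d, p⟩ := pair hG hS hT hSP hTP
  obtain ⟨K, U', h⟩ := DadeSupport.exists_decomposition hG hM
  refine Frob12.isOfTypeI hG hM h (Frob12.kappa_bot_of_empty h ?_)
  by_contra hne
  obtain ⟨g, hg | hg⟩ := p.classes d hG hM (Set.nonempty_iff_ne_empty.mpr hne)
  · exact hMS g hg
  · exact hMT g hg

theorem T_ne_S (hG : Cfsg.IsMinSimpleOddOrder G) (hS : IsCoatom S) (hT : IsCoatom T)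
    (hSP : Cfsg.IsTypePWith S W₁ U W₂) (hTP : Cfsg.IsTypePWith T W₂ V W₁) (g : G) :
    T ≠ S.map (MulAut.conj g).toMonoidHom := by
  obtain ⟨E, d, p⟩ := pair hG hS hT hSP hTP
  exact p.nconj d hG g

end CfsgLib.OddLocal.FTFinal
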