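import Cfsg.Agent.Lib.OddLocal.Final.NormU
import Cfsg.Agent.Lib.OddLocal.Final.NormW1
import Cfsg.Agent.Lib.OddLocal.Final.Pair
import Cfsg.Agent.Lib.OddLocal.Final.FreeQuot
import Cfsg.Agent.S1381

/-!
Owner: helper16. The maximal subgroups over `N(U)` for the final configuration (blueprint v2, Step 4): the
complement is `W₁` or `W₁ W₂^y`, and the congruences for `|L_F| / |U|`; also the group fact behind Step 3,
every prime divisor of `|C_U(H)|` divides `|U : C_U(H)|`.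
-/

set_option autoImplicit false
set_option linter.unusedSectionVars false

namespace CfsgLib.OddLocal.Final

open Subgroup
open CfsgLib.TwoGroups

variable {G : Type*} [Group G] [Finite G] {S T W₁ U W₂ V L : Subgroup G}

/-- The configuration in the terms of the `κ`-library. -/
theorem typeTwo_setting (hG : Cfsg.IsMinSimpleOddOrder G) (hS : IsCoatom S) (hT : IsCoatom T)
    (hSP : Cfsg.IsTypePWith S W₁ U W₂) (hTP : Cfsg.IsTypePWith T W₂ V W₁) (hII : Cfsg.IsOfTypeII S) :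
    ∃ E, Kappa.Data S W₁ E ∧ Kappa.Pair S W₁ T ∧ Cfsg.IsSigmaDecomposition S W₁ U ∧
      Cfsg.fittingHallOf S = Cfsg.sigmaCore S := by
  obtain ⟨E, d, P⟩ := FTFinal.pair hG hS hT hSP hTP
  obtain ⟨K, U', h⟩ := DadeSupport.exists_decomposition hG hS
  have hU' : U' ≠ ⊥ := ((Cfsg.Agent.S1381.result hG S hS K U' h).mp hII).2
  have hHσ := TypeTwoThree.fittingHall_eq_of_U hG hS h hU'
  refine ⟨E, d, P, ⟨hSP.W₁_cyclic, d.hall, ?_, hSP.U_normal⟩, hHσ⟩
  rw [← hHσ]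
  set H := Cfsg.fittingHallOf S
  have hWH : W₁ ≤ normalizer (H : Set G) :=
    hSP.W₁_compl.2.1.trans (typeP_le_normalizer hSP)
  have hD : ⁅S, S⁆ ≤ S := TypeP.derived_le hSP
  have hUH : U ≤ normalizer (H : Set G) := (hSP.U_compl.2.1.trans hD).trans (typeP_le_normalizer hSP)
  refine ⟨hSP.U_compl.2.1.trans hD, sup_le hSP.W₁_compl.2.1 (hSP.U_compl.1.trans hD), ?_, fun s hs => ?_⟩
  · refine (eq_bot_iff_forall _).mpr fun a ha => ?_
    have ha2 : a ∈ W₁ ⊔ H := ha.2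
    obtain ⟨h', hh', w, hw, rfl⟩ := OddLocal.mem_sup_of_le_normalizer hWH |>.mp (sup_comm W₁ H ▸ ha2)
    have hw' : w ∈ ⁅S, S⁆ ⊓ W₁ := mem_inf.mpr ⟨by
      rw [show w = h'⁻¹ * (h' * w) by group]
      exact mul_mem (inv_mem (hSP.U_compl.1 hh')) (hSP.U_compl.2.1 ha.1), hw⟩
    rw [hSP.W₁_compl.2.2.1, mem_bot] at hw'
    subst hw'
    have h2 : h' * 1 ∈ H ⊓ U := ⟨by simpa using hh', ha.1⟩
    rwa [hSP.U_compl.2.2.1, mem_bot] at h2
  · obtain ⟨a, ha, w, hw, rfl⟩ := hSP.W₁_compl.2.2.2 s hs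
    obtain ⟨h', hh', u, hu, rfl⟩ := hSP.U_compl.2.2.2 a ha
    refine ⟨u, hu, u⁻¹ * h' * u * w, mul_mem (mem_sup_right ?_) (mem_sup_left hw), by group⟩
    simpa using (mem_normalizer_iff.mp (hUH (inv_mem hu)) h').mp hh'

/-- Everything about a maximal subgroup over `N(U)`, from the configuration. -/
theorem normU_config (hG : Cfsg.IsMinSimpleOddOrder G) (hS : IsCoatom S) (hT : IsCoatom T)
    (hSP : Cfsg.IsTypePWith S W₁ U W₂) (hTP : Cfsg.IsTypePWith T W₂ V W₁) (hII : Cfsg.IsOfTypeII S)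
    (hU : U ≠ ⊥) (hL : IsCoatom L) (hN : normalizer (U : Set G) ≤ L) :
    Cfsg.IsOfTypeI L ∧ Cfsg.fittingHallOf L = Cfsg.sigmaCore L ∧
      (∀ x ∈ Cfsg.fittingHallOf L, x ≠ 1 → L ⊓ centralizer ({x} : Set G) ≤ Cfsg.fittingHallOf L) ∧
      U ≤ Cfsg.fittingHallOf L ∧ S ⊓ L = U ⊔ W₁ ∧
      Cfsg.IsComplIn (L ⊓ T) (Cfsg.fittingHallOf L) L ∧ IsZGroup ↥(L ⊓ T) ∧ W₁ ≤ L ⊓ T ∧
      L ⊓ T ≤ normalizer (W₁ : Set G) ∧ ¬ normalizer (U : Set G) ≤ S := by
  obtain ⟨E, d, P, h, -⟩ := typeTwo_setting hG hS hT hSP hTP hII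
  obtain ⟨h1, h2, h3, h4, h5, h6, h7, h8, h9⟩ := normU hG d h hU P hL hN
  exact ⟨h1, h2, h3, h4, h5, h6, h7, h8, h9, normalizer_not_le hG d h hU P⟩

/-- Every prime divisor of `|C_U(H)|` divides `|U : C_U(H)|`. -/
theorem prime_dvd_index (hG : Cfsg.IsMinSimpleOddOrder G) (hS : IsCoatom S) (hT : IsCoatom T)
    (hSP : Cfsg.IsTypePWith S W₁ U W₂) (hTP : Cfsg.IsTypePWith T W₂ V W₁) (hII : Cfsg.IsOfTypeII S)
    (hU : U ≠ ⊥) (hUc : IsMulCommutative U) {r : ℕ} (hr : r.Prime)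
    (hd : r ∣ Nat.card ↥(U ⊓ centralizer (Cfsg.fittingHallOf S : Set G))) :
    r ∣ (centralizer (Cfsg.fittingHallOf S : Set G)).relIndex U := by
  by_contra hnd
  have := Fact.mk hr
  set H := Cfsg.fittingHallOf S with hH
  set C := (centralizer (H : Set G)).subgroupOf U with hC
  have hCn : C.Normal := ⟨fun c hc g => by
    rwa [hUc.is_comm.comm g c, mul_inv_cancel_right]⟩
  obtain ⟨P⟩ : Nonempty (Sylow r U) := inferInstance
  set R := (P : Subgroup U).map U.subtype with hR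
  have hRp : IsPGroup r R := P.2.map _
  have hPC : (P : Subgroup U) ≤ C := by
    intro x hx
    obtain ⟨k, hk⟩ := P.2 ⟨x, hx⟩
    have h1 : orderOf (x : U ⧸ C) ∣ Nat.gcd (r ^ k) C.index := by
      refine Nat.dvd_gcd (orderOf_dvd_of_pow_eq_one ?_) (orderOf_dvd_natCard _)
      rw [← QuotientGroup.mk_pow, show x ^ r ^ k = 1 from congrArg Subtype.val hk, QuotientGroup.mk_one]
    have hcop : (r ^ k).Coprime C.index :=
      Nat.Coprime.pow_left _ ((Nat.Prime.coprime_iff_not_dvd hr).mpr hnd)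
    rw [hcop.gcd_eq_one, Nat.dvd_one, orderOf_eq_one_iff] at h1
    exact (QuotientGroup.eq_one_iff x).mp h1
  have hR1 : R ≠ ⊥ := by
    rw [hR, ne_eq, map_eq_bot_iff_of_injective _ U.subtype_injective]
    exact P.ne_bot_of_dvd_card (hd.trans (card_dvd_of_le inf_le_left))
  have hPN : (P : Subgroup U).Normal := ⟨fun c hc g => by rwa [hUc.is_comm.comm g c, mul_inv_cancel_right]⟩
  have : (P : Subgroup U).Characteristic := P.characteristic_of_normal hPN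
  obtain ⟨M, hM, hNM⟩ := (eq_top_or_exists_le_coatom _).resolve_left
    (TransitivityHyp.normalizer_ne_top hG hR1 (Uniqueness.ne_top_of_pGroup hG hRp))
  have hNU : normalizer (U : Set G) ≤ M :=
    (OddLocal.PLengthEndgame.normalizer_le_char U (P : Subgroup U)).trans hNM
  obtain ⟨-, -, -, -, hSM, -, -, -, -, -⟩ := normU_config hG hS hT hSP hTP hII hU hM hNU
  have hRC : R ≤ centralizer (H : Set G) := by
    rintro _ ⟨x, hx, rfl⟩; exact hPC hx
  have hHM : H ≤ M := ((le_centralizer_iff.mp hRC).trans (Subgroup.centralizer_le_normalizer _)).trans hNM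
  have hHS : H ≤ S := hSP.U_compl.1.trans (TypeP.derived_le hSP)
  refine hSP.selfNormalizing.2.1 (le_bot_iff.mp ((hSP.W₂_le.trans inf_le_left).trans ?_))
  intro a ha
  obtain ⟨u, hu, w, hw, rfl⟩ :=
    OddLocal.mem_sup_of_le_normalizer hSP.U_normal |>.mp (hSM.le ⟨hHS ha, hHM ha⟩)
  have hw' : w ∈ ⁅S, S⁆ ⊓ W₁ := mem_inf.mpr ⟨by
    rw [show w = u⁻¹ * (u * w) by group]
    exact mul_mem (inv_mem (hSP.U_compl.2.1 hu)) (hSP.U_compl.1 ha), hw⟩
  rw [hSP.W₁_compl.2.2.1, mem_bot] at hw'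
  subst hw'
  have h2 : u * 1 ∈ H ⊓ U := ⟨ha, by simpa using hu⟩
  rwa [hSP.U_compl.2.2.1] at h2

/-- `L ∩ T` is `W₁` or `W₁ W₂^y`. -/
theorem complement_cases (hG : Cfsg.IsMinSimpleOddOrder G) (hS : IsCoatom S) (hT : IsCoatom T)
    (hSP : Cfsg.IsTypePWith S W₁ U W₂) (hTP : Cfsg.IsTypePWith T W₂ V W₁) (hII : Cfsg.IsOfTypeII S)
    (hp : (Nat.card W₂).Prime) (hq : (Nat.card W₁).Prime) (hU : U ≠ ⊥)
    (hQ : IsMulCommutative (Cfsg.fittingHallOf T)) (hexp : ∀ x ∈ Cfsg.fittingHallOf T, x ^ Nat.card W₁ = 1)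
    (hC : V ⊓ centralizer (Cfsg.fittingHallOf T : Set G) = ⊥) (hL : IsCoatom L)
    (hN : normalizer (U : Set G) ≤ L) :
    L ⊓ T = W₁ ∨ ∃ y ∈ Cfsg.fittingHallOf T, L ⊓ T = W₁ ⊔ W₂.map (MulAut.conj y).toMonoidHom := by
  obtain ⟨-, -, -, -, -, -, hZ, hW, hn, -⟩ := normU_config hG hS hT hSP hTP hII hU hL hN
  have := Fact.mk hp
  have := Fact.mk hq
  refine zgroup_cases (fun e => ?_) rfl (hTP.W₂_le.trans inf_le_left) hQ hexp rfl
    (hTP.W₁_compl.2.1.trans (typeP_le_normalizer hTP)) hZ hW ((le_inf inf_le_right hn).trans (inf_normalizer_le hTP hQ hC))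
  have h := (TypeP.coprime_W₁_derived hSP).coprime_dvd_right
    (card_dvd_of_le ((hSP.W₂_le.trans inf_le_left).trans hSP.U_compl.1))
  rw [e, Nat.coprime_self] at h
  exact hq.ne_one h

/-- `|L_F| = m |U|` with `m ≡ 1 (mod 2 q)`. -/
theorem kernel_index (hG : Cfsg.IsMinSimpleOddOrder G) (hS : IsCoatom S) (hT : IsCoatom T)
    (hSP : Cfsg.IsTypePWith S W₁ U W₂) (hTP : Cfsg.IsTypePWith T W₂ V W₁) (hII : Cfsg.IsOfTypeII S)
    (hq : (Nat.card W₁).Prime) (hU : U ≠ ⊥) (hL : IsCoatom L) (hN : normalizer (U : Set G) ≤ L) :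
    ∃ m, Nat.card (Cfsg.fittingHallOf L) = m * Nat.card U ∧ m ≡ 1 [MOD 2 * Nat.card W₁] ∧
      (∀ A : Subgroup G, A ≤ L ⊓ T → (Nat.card A).Prime →
        Nat.card (Cfsg.fittingHallOf L) ≡ 1 [MOD Nat.card A]) ∧
      (L ⊓ T = W₁ → 1 < m) := by
  obtain ⟨-, -, hfree, hUK, -, hcompl, -, hW, -, hnot⟩ := normU_config hG hS hT hSP hTP hII hU hL hN
  set K := Cfsg.fittingHallOf L with hK
  have hLK : L ≤ normalizer (K : Set G) := FittingStructure.le_normalizer_fittingHallOf L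
  have hmod : ∀ A : Subgroup G, A ≤ L ⊓ T → (Nat.card A).Prime → Nat.card K ≡ 1 [MOD Nat.card A] := by
    intro A hA hAp
    have := Fact.mk hAp
    refine card_modEq_one rfl ((hA.trans inf_le_left).trans hLK) fun a ha ha1 x hx hc => ?_
    by_contra hx1
    have h1 := hfree x hx hx1 ⟨(hA ha).1, mem_centralizer_singleton_iff.mpr hc⟩
    exact ha1 (mem_bot.mp (hcompl.2.2.1 ▸ mem_inf.mpr ⟨hA ha, h1⟩))
  obtain ⟨m, hm⟩ := card_dvd_of_le hUK
  refine ⟨m, by rw [hm, mul_comm], ?_, hmod, fun e => ?_⟩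
  · have := Fact.mk hq
    have hK1 := hmod W₁ hW hq
    have hU1 : Nat.card U ≡ 1 [MOD Nat.card W₁] := card_modEq_one rfl hSP.U_normal
      fun w hw hw1 u hu hc => typeP_fpf hSP hw hw1 hu hc
    rw [hm] at hK1
    have hm1 : m ≡ 1 [MOD Nat.card W₁] := by simpa using (hU1.mul_right m).symm.trans hK1
    have hm2 : m ≡ 1 [MOD 2] :=
      Nat.odd_iff.mp (hG.1.of_dvd_nat ((Dvd.intro_left _ hm.symm).trans K.card_subgroup_dvd_card))
    exact (Nat.modEq_and_modEq_iff_modEq_mul (hG.1.of_dvd_nat W₁.card_subgroup_dvd_card).coprime_two_left).mp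
      ⟨hm2, hm1⟩
  · by_contra hle
    have hm1 : m = 1 := by
      have h0 : m ≠ 0 := fun e0 => by rw [e0, mul_zero] at hm; exact Nat.card_pos.ne' hm
      omega
    have hUK' : U = K := eq_of_le_of_card_ge hUK (by rw [hm, hm1, mul_one])
    have hLS : L ≤ S := fun l hl => by
      obtain ⟨a, ha, b, hb, rfl⟩ := hcompl.2.2.2 l hl
      exact mul_mem (hSP.W₁_compl.2.1 (e.le ha))
        (hSP.U_compl.2.1.trans (TypeP.derived_le hSP) (hUK'.ge hb))
    exact hnot (hN.trans hLS)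

end CfsgLib.OddLocal.Final
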