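import Cfsg.Agent.Lib.OddLocal.Final.Pair
import Cfsg.Agent.S1537
import Cfsg.Agent.Lib.OddLocal.Frob12.DadeBasics
import Cfsg.Agent.Lib.Char.CyclicTI.Family

/-!
Owner: helper12. The partition of the non-identity elements of `G` into the sets `Ã₁(M)` (one maximal
subgroup from each conjugacy class) and the conjugates of `Ŵ`, as an identity for sums of class
functions, with the weight identity and the norm inequality.
-/

set_option autoImplicit false
set_option linter.unusedSectionVars false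

namespace CfsgLib.OddLocal.FTFinal

open Subgroup
open CfsgLib.TwoGroups
open CfsgLib.DadeMap (avg InSupport)
open CfsgLib.OddLocal.Frob12 (rho)

variable {G : Type*} [Group G]

/-- `Ŵ = W − (W₁ ∪ W₂)`. -/
def What (W₁ W₂ : Subgroup G) : Set G :=
  ((W₁ ⊔ W₂ : Subgroup G) : Set G) \ ((W₁ : Set G) ∪ (W₂ : Set G))

/-- The union of the conjugates of `Ŵ`. -/
def WhatG (W₁ W₂ : Subgroup G) : Set G := {g | ∃ y : G, ∃ w ∈ What W₁ W₂, g = y * w * y⁻¹}

/-- `Ã₁(M)`. -/
noncomputable abbrev tilde (M : Subgroup G) : Set G := Cfsg.tildeOf M (Cfsg.typeA1 M)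

/-- Representatives of the conjugacy classes of maximal subgroups. -/
structure IsReps (R : Finset (Subgroup G)) : Prop where
  max : ∀ M ∈ R, IsCoatom M
  eq_of_conj : ∀ M ∈ R, ∀ N ∈ R, ∀ g : G, N = M.map (MulAut.conj g).toMonoidHom → M = N
  exists_conj : ∀ M : Subgroup G, IsCoatom M → ∃ N ∈ R, ∃ g : G, M = N.map (MulAut.conj g).toMonoidHom

variable {M S T W₁ W₂ U V : Subgroup G}

section Finite

variable [Finite G]

theorem IsReps.nconj {R : Finset (Subgroup G)} (hR : IsReps R) {M N : Subgroup G} (hM : M ∈ R) (hN : N ∈ R)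
    (hne : M ≠ N) (g : G) : N ≠ M.map (MulAut.conj g).toMonoidHom :=
  fun e => hne (hR.eq_of_conj M hM N hN g e)

/-- Representatives exist, and two given non-conjugate maximal subgroups may be among them. -/
theorem exists_reps (hS : IsCoatom S) (hT : IsCoatom T)
    (hST : ∀ g : G, T ≠ S.map (MulAut.conj g).toMonoidHom) :
    ∃ R : Finset (Subgroup G), IsReps R ∧ S ∈ R ∧ T ∈ R := by
  classical
  have := Fintype.ofFinite (Subgroup G)
  let r : Setoid (Subgroup G) :=
    { r := fun A B => ∃ g : G, B = A.map (MulAut.conj g).toMonoidHom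
      iseqv := ⟨fun A => ⟨1, (Support.map_conj_of_mem (one_mem A)).symm⟩,
        fun {A B} ⟨g, h⟩ => ⟨g⁻¹, by
          rw [h, Support.map_conj_mul, inv_mul_cancel]
          exact (Support.map_conj_of_mem (one_mem A)).symm⟩,
        fun {A B C} ⟨g, h⟩ ⟨g', h'⟩ => ⟨g' * g, by rw [h', h, Support.map_conj_mul]⟩⟩ }
  let q : Subgroup G → Quotient r := Quotient.mk r
  have hsound : ∀ {A B : Subgroup G}, q A = q B → ∃ g : G, B = A.map (MulAut.conj g).toMonoidHom :=
    fun {A B} h => Quotient.exact h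
  let rep : Subgroup G → Subgroup G := fun A =>
    if q A = q S then S else if q A = q T then T else (q A).out
  have hrep : ∀ A, q (rep A) = q A := fun A => by
    show q (if q A = q S then S else if q A = q T then T else (q A).out) = q A
    by_cases h1 : q A = q S
    · rw [if_pos h1, h1]
    by_cases h2 : q A = q T
    · rw [if_neg h1, if_pos h2, h2]
    · rw [if_neg h1, if_neg h2]; exact Quotient.out_eq _
  have hwd : ∀ {A B}, q A = q B → rep A = rep B := fun {A B} h => by simp only [rep, h]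
  refine ⟨(Finset.univ.filter fun A => IsCoatom A).image rep, ⟨fun M hM => ?_, fun M hM N hN g e => ?_,
    fun M hM => ?_⟩, ?_, ?_⟩
  · obtain ⟨A, hA, rfl⟩ := Finset.mem_image.mp hM
    obtain ⟨g, hg⟩ := hsound (hrep A).symm
    exact hg ▸ SylowUnique.isCoatom_conj (Finset.mem_filter.mp hA).2 g
  · obtain ⟨A, -, rfl⟩ := Finset.mem_image.mp hM
    obtain ⟨B, -, rfl⟩ := Finset.mem_image.mp hN
    exact hwd ((hrep A).symm.trans ((Quotient.sound ⟨g, e⟩ : q (rep A) = q (rep B)).trans (hrep B)))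
  · refine ⟨rep M, Finset.mem_image.mpr ⟨M, by simp [hM], rfl⟩, hsound (hrep M)⟩
  · exact Finset.mem_image.mpr ⟨S, by simp [hS], by simp [rep]⟩
  · refine Finset.mem_image.mpr ⟨T, by simp [hT], ?_⟩
    have : q T ≠ q S := fun h => (hsound h.symm).elim fun g e => hST g e
    simp [rep, this]

theorem inSupport_iff {A : Set G} {L : Subgroup G} (hA : A ⊆ L) {H : G → Subgroup G} {g : G} :
    InSupport A L H g ↔ ∃ a ∈ A, ∃ r ∈ H a, ∃ y : G, g = y * (a * r) * y⁻¹ :=
  ⟨fun ⟨a, ha, x, u, hu, e⟩ => ⟨a, ha, u, hu, x⁻¹, by rw [← e]; group⟩,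
    fun ⟨a, ha, r, hr, y, e⟩ => ⟨⟨a, hA ha⟩, ha, y⁻¹, r, hr, by rw [e]; group⟩⟩

theorem dade_A1 (hG : Cfsg.IsMinSimpleOddOrder G) (hM : IsCoatom M) :
    Cfsg.DadeHypothesis (Cfsg.typeA1 M) M (Cfsg.supportR M) :=
  (Cfsg.Agent.S1537.result hG M hM _ (Or.inl rfl)).2

theorem mem_tilde_iff (hG : Cfsg.IsMinSimpleOddOrder G) (hM : IsCoatom M) {g : G} :
    g ∈ tilde M ↔ InSupport (Cfsg.typeA1 M) M (Cfsg.supportR M) g :=
  (inSupport_iff (dade_A1 hG hM).subset).symm

/-- `Ã₁` only depends on the conjugacy class. -/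
theorem tilde_map_conj (hG : Cfsg.IsMinSimpleOddOrder G) (hM : IsCoatom M) (c : G) :
    tilde (M.map (MulAut.conj c).toMonoidHom) = tilde M := by
  have key : ∀ {N : Subgroup G}, IsCoatom N → ∀ c : G, tilde N ⊆ tilde (N.map (MulAut.conj c).toMonoidHom) := by
    intro N hN c g hg
    obtain ⟨a, ha, r, hr, y, rfl⟩ := hg
    rw [DadeSupport.typeA1_eq hG hN] at ha
    refine ⟨c * a * c⁻¹, ?_, c * r * c⁻¹, ?_, y * c⁻¹, by group⟩
    · rw [DadeSupport.typeA1_eq hG (SylowUnique.isCoatom_conj hN c)]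
      exact ⟨Support.mem_core_conj hG hN ha.1 c, fun e => ha.2 (conj_eq_one_iff.mp e)⟩
    · rw [Support.supportR_map_conj hG hN ha.1 ha.2 c]
      exact Transfer.conj_mem_map_conj hr
  refine Set.Subset.antisymm ?_ (key hM c)
  have h := key (SylowUnique.isCoatom_conj hM c) c⁻¹
  rwa [Support.map_conj_mul, inv_mul_cancel, Support.map_conj_of_mem (one_mem M)] at h

theorem tilde_disjoint (hG : Cfsg.IsMinSimpleOddOrder G) {N : Subgroup G} (hM : IsCoatom M) (hN : IsCoatom N)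
    (hne : ∀ g : G, N ≠ M.map (MulAut.conj g).toMonoidHom) {g : G} (h1 : g ∈ tilde M) : g ∉ tilde N := by
  intro h2
  rw [tilde, DadeSupport.typeA1_eq hG hM] at h1
  rw [tilde, DadeSupport.typeA1_eq hG hN] at h2
  exact Set.eq_empty_iff_forall_notMem.mp ((Cfsg.Agent.S1379.result hG).1 M N hM hN hne) g ⟨h1, h2⟩

variable (hG : Cfsg.IsMinSimpleOddOrder G) (hS : IsCoatom S) (hT : IsCoatom T)
  (hSP : Cfsg.IsTypePWith S W₁ U W₂) (hTP : Cfsg.IsTypePWith T W₂ V W₁)

include hG hS hT hSP hTP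

theorem zhat_eq : Kappa.Zhat (Kappa.ZK S W₁) = What W₁ W₂ := by
  obtain ⟨E, d, p⟩ := pair hG hS hT hSP hTP
  rw [p.zhat_eq d hG, Kappa.ZK, kstar_eq hG hS hSP]
  rfl

theorem cover {R : Finset (Subgroup G)} (hR : IsReps R) {g : G} (hg : g ≠ 1) :
    (∃ M ∈ R, g ∈ tilde M) ∨ g ∈ WhatG W₁ W₂ := by
  obtain ⟨E, d, p⟩ := pair hG hS hT hSP hTP
  rcases p.cover d hG hg with ⟨N, hN, h⟩ | ⟨y, z, hz, e⟩
  · left
    obtain ⟨M, hM, c, rfl⟩ := hR.exists_conj N hN
    refine ⟨M, hM, ?_⟩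
    rw [← tilde_map_conj hG (hR.max M hM) c, tilde, DadeSupport.typeA1_eq hG hN]
    exact h
  · exact Or.inr ⟨y, z, zhat_eq hG hS hT hSP hTP ▸ hz, e⟩

theorem whatG_not_tilde {g : G} (hg : g ∈ WhatG W₁ W₂) {N : Subgroup G} (hN : IsCoatom N) : g ∉ tilde N := by
  obtain ⟨E, d, p⟩ := pair hG hS hT hSP hTP
  obtain ⟨y, z, hz, rfl⟩ := hg
  rw [tilde, DadeSupport.typeA1_eq hG hN]
  exact Kappa.Zhat.not_tilde d.member hG hN ((zhat_eq hG hS hT hSP hTP).symm ▸ hz) y

end Finite

/-- The Dade set-up for `Ŵ`. -/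
theorem dade_What [Finite G] (hW : Cfsg.IsSelfNormalizingCyclic W₁ W₂) :
    Cfsg.DadeHypothesis (What W₁ W₂) (W₁ ⊔ W₂) (fun _ => ⊥) := by
  have hcyc := hW.2.2.2.2.1
  have hcomm : ∀ a ∈ W₁ ⊔ W₂, ∀ b ∈ W₁ ⊔ W₂, a * b = b * a := fun a ha b hb =>
    congrArg Subtype.val (IsCyclic.isMulCommutative.is_comm.comm
      (⟨a, ha⟩ : ↥(W₁ ⊔ W₂)) ⟨b, hb⟩)
  have hti := CfsgLib.CyclicTI.ti hW
  have hC : ∀ a ∈ What W₁ W₂, centralizer ({a} : Set G) = W₁ ⊔ W₂ := fun a ha => by
    refine le_antisymm (fun g hg => ?_) fun w hw => mem_centralizer_singleton_iff.mpr (hcomm w hw a ha.1)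
    by_contra hgW
    refine hti g hgW a ha ?_
    rw [mem_centralizer_singleton_iff.mp hg, mul_inv_cancel_right]
    exact ha
  refine ⟨fun h => h.2 (Or.inl (one_mem _)), fun a ha => ha.1, fun x hx a ha => ?_, fun a ha g hga => ?_,
    fun a _ => bot_le, fun a _ c _ u hu => ?_, fun a _ => bot_inf_eq _, fun a ha => ?_, fun a _ b _ => ?_⟩
  · rw [hcomm x hx a ha.1, mul_inv_cancel_right]; exact ha
  · refine ⟨g, by_contra fun hg => hti g hg a ha hga, rfl⟩
  · rw [mem_bot.mp hu, mul_one, mul_inv_cancel]; exact one_mem _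
  · rw [bot_sup_eq, hC a ha, inf_idem]
  · rw [Subgroup.card_bot]; exact Nat.coprime_one_left _

variable [Fintype G]

open scoped Classical in
/-- A class function restricted to a Dade support sums to the sum of its averages. -/
theorem sum_inSupport {A : Set G} {L : Subgroup G} [Fintype L] {H : G → Subgroup G}
    (hD : Cfsg.DadeHypothesis A L H) {f : G → ℂ} (hf : Cfsg.IsClassFunction G f) :
    (Nat.card G : ℂ)⁻¹ * ∑ g, (if InSupport A L H g then f g else 0) =
      (Nat.card L : ℂ)⁻¹ * ∑ a : L, if (a : G) ∈ A then avg H f a else 0 := by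
  have hF : Cfsg.IsClassFunction G (fun g => if InSupport A L H g then f g else 0) := fun g y => by
    simp only [CfsgLib.DadeMap.inSupport_conj, hf g y]
  have h := CfsgLib.DadeMap.sum_support hD hF fun g hg => if_neg hg
  have e : ∀ a : L, (if (a : G) ∈ A then avg H (fun g => if InSupport A L H g then f g else 0) a else 0) =
      if (a : G) ∈ A then avg H f a else 0 := fun a => by
    by_cases ha : (a : G) ∈ A
    · rw [if_pos ha, if_pos ha]
      have := Fintype.ofFinite (H (a : G))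
      rw [avg, avg, CfsgLib.DadeMap.finsum_coe_subgroup, CfsgLib.DadeMap.finsum_coe_subgroup]
      refine congrArg _ (Finset.sum_congr rfl fun u _ => ?_)
      exact if_pos ⟨a, ha, 1, u, u.2, by group⟩
    · rw [if_neg ha, if_neg ha]
  rw [Finset.sum_congr rfl fun a _ => e a] at h
  have hG : (Nat.card G : ℂ) ≠ 0 := Nat.cast_ne_zero.mpr Nat.card_pos.ne'
  have hL : (Nat.card L : ℂ) ≠ 0 := Nat.cast_ne_zero.mpr Nat.card_pos.ne'
  field_simp
  linear_combination h

theorem avg_bot (f : G → ℂ) (a : G) : avg (fun _ => (⊥ : Subgroup G)) f a = f a := by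
  simp [avg]

open scoped Classical in
/-- The contribution of `Ã₁(M)` to the mean of a class function. -/
noncomputable def partA1 (M : Subgroup G) (f : G → ℂ) : ℂ :=
  (Nat.card M : ℂ)⁻¹ * ∑ a : M, if (a : G) ∈ Cfsg.typeA1 M then avg (Cfsg.supportR M) f a else 0

open scoped Classical in
/-- The contribution of the conjugates of `Ŵ` to the mean of a class function. -/
noncomputable def partWhat (W₁ W₂ : Subgroup G) (f : G → ℂ) : ℂ :=
  (Nat.card ↥(W₁ ⊔ W₂) : ℂ)⁻¹ * ∑ w : ↥(W₁ ⊔ W₂), if (w : G) ∈ What W₁ W₂ then f w else 0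

variable (hG : Cfsg.IsMinSimpleOddOrder G) (hS : IsCoatom S) (hT : IsCoatom T)
  (hSP : Cfsg.IsTypePWith S W₁ U W₂) (hTP : Cfsg.IsTypePWith T W₂ V W₁)

include hG hS hT hSP hTP

open scoped Classical in
/-- The mean of a class function over the partition of `G`. -/
theorem mean_eq {R : Finset (Subgroup G)} (hR : IsReps R) {f : G → ℂ} (hf : Cfsg.IsClassFunction G f) :
    (Nat.card G : ℂ)⁻¹ * ∑ g, f g =
      (Nat.card G : ℂ)⁻¹ * f 1 + ∑ M ∈ R, partA1 M f + partWhat W₁ W₂ f := by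
  have hDW := dade_What hSP.selfNormalizing
  have hmem : ∀ g, g ∈ WhatG W₁ W₂ ↔ InSupport (What W₁ W₂) (W₁ ⊔ W₂) (fun _ => ⊥) g := fun g => by
    rw [inSupport_iff hDW.subset]
    exact ⟨fun ⟨y, w, hw, e⟩ => ⟨w, hw, 1, one_mem _, y, by rw [e, mul_one]⟩,
      fun ⟨a, ha, r, hr, y, e⟩ => ⟨y, a, ha, by rw [e, mem_bot.mp hr, mul_one]⟩⟩
  have hpoint : ∀ g, f g = (if g = 1 then f g else 0) + ∑ M ∈ R, (if g ∈ tilde M then f g else 0) +
      (if g ∈ WhatG W₁ W₂ then f g else 0) := by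
    intro g
    by_cases h1 : g = 1
    · subst h1
      have hW : (1 : G) ∉ WhatG W₁ W₂ := fun h => CfsgLib.DadeMap.not_inSupport_one hDW ((hmem 1).mp h)
      have hM : ∀ M ∈ R, (if (1 : G) ∈ tilde M then f 1 else 0) = 0 := fun M hM => if_neg fun h =>
        CfsgLib.DadeMap.not_inSupport_one (dade_A1 hG (hR.max M hM)) ((mem_tilde_iff hG (hR.max M hM)).mp h)
      rw [if_pos rfl, if_neg hW, Finset.sum_eq_zero hM, add_zero, add_zero]
    rcases cover hG hS hT hSP hTP hR h1 with ⟨M, hM, hgM⟩ | hW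
    · have hW : g ∉ WhatG W₁ W₂ := fun h => whatG_not_tilde hG hS hT hSP hTP h (hR.max M hM) hgM
      rw [if_neg h1, if_neg hW, Finset.sum_eq_single M (fun N hN hne => if_neg (tilde_disjoint hG (hR.max M hM)
        (hR.max N hN) (hR.nconj hM hN hne.symm) hgM)) (fun h => absurd hM h), if_pos hgM, zero_add, add_zero]
    · rw [if_neg h1, if_pos hW, Finset.sum_eq_zero fun M hM => if_neg
        (whatG_not_tilde hG hS hT hSP hTP hW (hR.max M hM)), zero_add, zero_add]
  rw [Finset.sum_congr rfl fun g _ => hpoint g, Finset.sum_add_distrib, Finset.sum_add_distrib,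
    Finset.sum_ite_eq' Finset.univ (1 : G) f, if_pos (Finset.mem_univ _), Finset.sum_comm, mul_add, mul_add,
    Finset.mul_sum]
  congr 1
  · refine congrArg _ (Finset.sum_congr rfl fun M hM => ?_)
    rw [partA1, ← sum_inSupport (dade_A1 hG (hR.max M hM)) hf]
    exact congrArg _ (Finset.sum_congr rfl fun g _ => if_congr (mem_tilde_iff hG (hR.max M hM)) rfl rfl)
  · have hl := sum_inSupport hDW hf
    simp only [avg_bot] at hl
    rw [partWhat, ← hl]
    exact congrArg _ (Finset.sum_congr rfl fun g _ => if_congr (hmem g) rfl rfl)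

omit hG hS hT hSP hTP

theorem partA1_one (hG : Cfsg.IsMinSimpleOddOrder G) (hM : IsCoatom M) :
    partA1 M (fun _ => 1) = ((((Nat.card (Cfsg.sigmaCore M) : ℝ) - 1) / Nat.card M : ℝ) : ℂ) := by
  classical
  have h1 : (Nat.card (Cfsg.sigmaCore M) : ℂ) - 1 =
      ∑ a : M, if (a : G) ∈ Cfsg.typeA1 M then (1 : ℂ) else 0 := by
    have hle := TauTwo.sigmaCore_le M
    have hsplit : ∀ a : M, (if (a : G) ∈ Cfsg.typeA1 M then (1 : ℂ) else 0) =
        (if (a : G) ∈ Cfsg.sigmaCore M then 1 else 0) - if a = 1 then 1 else 0 := fun a => by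
      rw [DadeSupport.typeA1_eq hG hM]
      by_cases ha : a = 1
      · subst ha; simp
      · simp [ha]
    rw [Finset.sum_congr rfl fun a _ => hsplit a, Finset.sum_sub_distrib, Finset.sum_ite_eq' Finset.univ (1 : M),
      if_pos (Finset.mem_univ _), Finset.sum_boole, ← Fintype.card_subtype, ← Nat.card_eq_fintype_card]
    exact congrArg (fun n : ℕ => (n : ℂ) - 1) (Nat.card_congr ((subgroupOfEquivOfLe hle).symm.toEquiv))
  rw [partA1, Finset.sum_congr rfl fun a _ => by rw [CfsgLib.DadeMap.avg_one], ← h1]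
  push_cast
  ring

theorem partWhat_one (hW : Cfsg.IsSelfNormalizingCyclic W₁ W₂) :
    partWhat W₁ W₂ (fun _ => (1 : ℂ)) = ((((Nat.card W₁ : ℝ) - 1) * ((Nat.card W₂ : ℝ) - 1) /
      ((Nat.card W₁ : ℝ) * Nat.card W₂) : ℝ) : ℂ) := by
  classical
  have := Fintype.ofFinite W₁
  have := Fintype.ofFinite W₂
  let e := CfsgLib.CyclicTI.prodEquiv hW
  have hcard : Nat.card ↥(W₁ ⊔ W₂) = Nat.card W₁ * Nat.card W₂ := by
    rw [← Nat.card_congr e.toEquiv, Nat.card_prod]
  have hiff : ∀ p : W₁ × W₂, ((e p : ↥(W₁ ⊔ W₂)) : G) ∈ What W₁ W₂ ↔ p.1 ≠ 1 ∧ p.2 ≠ 1 := fun p => by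
    obtain ⟨h1, h2⟩ := CfsgLib.CyclicTI.proj_prodEquiv hW p
    rw [← h1, ← h2, Ne, Ne, CfsgLib.CyclicTI.proj₁_eq_one_iff, CfsgLib.CyclicTI.proj₂_eq_one_iff]
    simp only [What, Set.mem_sdiff, Set.mem_union, SetLike.mem_coe, not_or]
    exact ⟨fun h => ⟨h.2.2, h.2.1⟩, fun h => ⟨(e p).2, h.2, h.1⟩⟩
  have h1 : ∀ (α : Type _) [Fintype α] [One α] [DecidableEq α],
      ∑ a : α, (if a ≠ 1 then (1 : ℂ) else 0) = (Nat.card α : ℂ) - 1 := by
    intro α _ _ _
    rw [Finset.sum_boole, Finset.filter_ne', Finset.card_erase_of_mem (Finset.mem_univ _), Finset.card_univ,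
      Nat.card_eq_fintype_card, Nat.cast_sub (Fintype.card_pos_iff.mpr ⟨1⟩), Nat.cast_one]
  rw [partWhat, hcard, ← Equiv.sum_comp e.toEquiv, Fintype.sum_prod_type]
  rw [Finset.sum_congr rfl (g := fun a : W₁ => (if a ≠ 1 then (1 : ℂ) else 0) *
    ∑ b : W₂, (if b ≠ 1 then (1 : ℂ) else 0)) fun a _ => by
      rw [Finset.mul_sum]
      refine Finset.sum_congr rfl fun b _ => ?_
      rw [show (e.toEquiv (a, b)) = e (a, b) from rfl, if_congr (hiff (a, b)) rfl rfl]
      by_cases ha : a = 1 <;> simp [ha], ← Finset.sum_mul, h1, h1]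
  push_cast
  ring

include hG hS hT hSP hTP

/-- The weights of the pieces of the partition add up to one. -/
theorem weight_identity {R : Finset (Subgroup G)} (hR : IsReps R) :
    (Nat.card G : ℝ)⁻¹ + ∑ M ∈ R, ((Nat.card (Cfsg.sigmaCore M) : ℝ) - 1) / Nat.card M +
      ((Nat.card W₁ : ℝ) - 1) * ((Nat.card W₂ : ℝ) - 1) / ((Nat.card W₁ : ℝ) * Nat.card W₂) = 1 := by
  have h := mean_eq hG hS hT hSP hTP hR (f := fun _ => (1 : ℂ)) (fun _ _ => rfl)
  rw [Finset.sum_congr rfl fun M hM => partA1_one hG (hR.max M hM), partWhat_one hSP.selfNormalizing,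
    Finset.sum_const, Finset.card_univ, nsmul_one, ← Nat.card_eq_fintype_card,
    inv_mul_cancel₀ (Nat.cast_ne_zero.mpr Nat.card_pos.ne'), mul_one] at h
  apply Complex.ofReal_injective
  push_cast at h ⊢
  exact h.symm

open scoped Classical in
/-- The norm of a class function bounds its averages on all the pieces of the partition. -/
theorem norm_ge {R : Finset (Subgroup G)} (hR : IsReps R) {χ : G → ℂ} (hχ : Cfsg.IsClassFunction G χ) :
    (Nat.card G : ℝ)⁻¹ * Complex.normSq (χ 1) +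
      ∑ M ∈ R, (Nat.card M : ℝ)⁻¹ *
        ∑ a : M, Complex.normSq (rho (Cfsg.typeA1 M) M (Cfsg.supportR M) χ a) +
      (Nat.card ↥(W₁ ⊔ W₂) : ℝ)⁻¹ *
        ∑ w : ↥(W₁ ⊔ W₂), (if (w : G) ∈ What W₁ W₂ then Complex.normSq (χ w) else 0) ≤
      (Cfsg.classInner χ χ).re := by
  have hf : Cfsg.IsClassFunction G (fun g => (Complex.normSq (χ g) : ℂ)) := fun g y => by
    simp only [hχ g y]
  have h := congrArg Complex.re (mean_eq hG hS hT hSP hTP hR hf)
  rw [Complex.add_re, Complex.add_re, Complex.re_sum] at h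
  rw [Frob12.classInner_self_eq_sum]
  have hl : ((Nat.card G : ℂ)⁻¹ * ∑ g, (Complex.normSq (χ g) : ℂ)).re =
      (Nat.card G : ℝ)⁻¹ * ∑ g, Complex.normSq (χ g) := by
    rw [← Complex.ofReal_natCast, ← Complex.ofReal_inv, ← Complex.ofReal_sum, ← Complex.ofReal_mul,
      Complex.ofReal_re]
  rw [hl] at h
  rw [h]
  refine add_le_add (add_le_add (le_of_eq ?_) (Finset.sum_le_sum fun M hM => ?_)) (le_of_eq ?_)
  · rw [← Complex.ofReal_natCast, ← Complex.ofReal_inv, ← Complex.ofReal_mul, Complex.ofReal_re]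
  · have hD := dade_A1 hG (hR.max M hM)
    refine (Frob12.norm_support hD hχ).trans (le_of_eq ?_)
    rw [partA1, ← sum_inSupport hD hf, ← Complex.ofReal_natCast, ← Complex.ofReal_inv,
      Complex.re_ofReal_mul, Complex.re_sum,
      show {g : G | InSupport (Cfsg.typeA1 M) M (Cfsg.supportR M) g} =
        ↑(Finset.univ.filter fun g => InSupport (Cfsg.typeA1 M) M (Cfsg.supportR M) g) from by ext; simp,
      finsum_mem_coe_finset, Finset.sum_filter]
    refine congrArg _ (Finset.sum_congr rfl fun g _ => ?_)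
    split_ifs <;> simp
  · rw [partWhat, ← Complex.ofReal_natCast, ← Complex.ofReal_inv, Complex.re_ofReal_mul, Complex.re_sum]
    refine congrArg _ (Finset.sum_congr rfl fun g _ => ?_)
    split_ifs <;> simp

end CfsgLib.OddLocal.FTFinal
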