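import Cfsg.Agent.Lib.OddLocal.Final.Pair
import Cfsg.Agent.Lib.OddLocal.Final.Weights
import Cfsg.Agent.Lib.Char.CyclicTI.Galois

/-!
Owner: helper15. The standing data of the final configuration of the odd order theorem, and the
characters `η` of the cyclic TI family indexed by pairs of linear characters of `W₁` and `W₂`.
-/

set_option autoImplicit false
set_option linter.unusedSectionVars false

namespace CfsgLib.OddLocal.FTFinal

open Subgroup

/-- Two maximal subgroups with type-P data exchanged, `W₁` of prime order, and a cyclic TI family. -/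
structure Config (G : Type*) [Group G] [Fintype G] where
  S : Subgroup G
  T : Subgroup G
  W₁ : Subgroup G
  W₂ : Subgroup G
  U : Subgroup G
  V : Subgroup G
  minimal : Cfsg.IsMinSimpleOddOrder G
  S_max : IsCoatom S
  T_max : IsCoatom T
  S_typeP : Cfsg.IsTypePWith S W₁ U W₂
  T_typeP : Cfsg.IsTypePWith T W₂ V W₁
  χ : (↥(W₁ ⊔ W₂) →* ℂˣ) → G → ℂ
  family : Cfsg.IsCyclicTIFamily W₁ W₂ χ

namespace Config

variable {G : Type*} [Group G] [Fintype G] (c : Config G)

theorem selfNorm : Cfsg.IsSelfNormalizingCyclic c.W₁ c.W₂ := c.S_typeP.selfNormalizing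

/-- `q = |W₁|`. -/
noncomputable def q : ℕ := Nat.card c.W₁

/-- `p = |W₂|`. -/
noncomputable def p : ℕ := Nat.card c.W₂

/-- The member of the family attached to characters of `W₁` and `W₂`. -/
noncomputable def eta (l : c.W₁ →* ℂˣ) (k : c.W₂ →* ℂˣ) : G → ℂ :=
  c.χ (CfsgLib.CyclicTI.inl c.selfNorm l * CfsgLib.CyclicTI.inr c.selfNorm k)

/-- The coefficient of a function at a member of the family. -/
noncomputable def coef (θ : G → ℂ) (l : c.W₁ →* ℂˣ) (k : c.W₂ →* ℂˣ) : ℂ :=
  Cfsg.classInner θ (c.eta l k)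

theorem eta_one_one : c.eta 1 1 = fun _ => 1 := by
  rw [eta, CfsgLib.CyclicTI.inl_one, CfsgLib.CyclicTI.inr_one]
  exact (congrArg c.χ (mul_one _)).trans c.family.map_one

theorem eta_inner (l l' : c.W₁ →* ℂˣ) (k k' : c.W₂ →* ℂˣ) [Decidable (l = l' ∧ k = k')] :
    Cfsg.classInner (c.eta l k) (c.eta l' k') = if l = l' ∧ k = k' then 1 else 0 := by
  classical
  by_cases h : l = l' ∧ k = k'
  · rw [if_pos h, h.1, h.2, eta, c.family.orthonormal, if_pos rfl]
  · rw [if_neg h, eta, eta, c.family.orthonormal, if_neg]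
    exact fun e => h (CfsgLib.CyclicTI.mul_inj c.selfNorm e)

end Config

end CfsgLib.OddLocal.FTFinal
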