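import Cfsg.Agent.Lib.Orders.CyclicAbelianComplement.Basic
import Cfsg.Agent.Lib.OddLocal.Final.AppC
import Cfsg.Agent.Lib.OddLocal.Final.Arith
import Cfsg.Agent.Lib.OddLocal.Final.FreeInst
import Cfsg.Agent.Lib.OddLocal.Final.FreeQuot
import Cfsg.Agent.Lib.OddLocal.Final.NormData
import Cfsg.Agent.Lib.OddLocal.Final.Coef
import Cfsg.Agent.Lib.OddLocal.Final.Setup

/-!
Owner: helper5. The end of Step 4: once the kernel over `N(U)` is bounded, `W₂^y` normalises `U`, the side
`S` is full and Appendix C gives the contradiction.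
-/

set_option autoImplicit false
set_option linter.unusedSectionVars false

namespace CfsgLib.OddLocal.FTFinal

open Subgroup
open CfsgLib.TwoGroups
open CfsgLib.OddLocal.Final (KernelModule IsGalois kernelModule_two normU_config card_modEq_one)

/-- The index of `u` in `(p ^ q - 1) / (p - 1)` is `1` or `q`. -/
theorem index_cases {p q u i : ℕ} (hp : p.Prime) (hq : q.Prime) (hq3 : 3 ≤ q) (hqp : q < p)
    (hui : u * i * (p - 1) = p ^ q - 1)
    (hk : i < 2 * q + 1 ∨ (q = 3 ∧ (p = 5 ∨ p = 7) ∧ i ≤ 7)) : i = 1 ∨ (i = q ∧ q ∣ p - 1) := by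
  have hp1 : 1 ≤ p - 1 := by have := hp.two_le; omega
  rcases hk with hk | ⟨rfl, rfl | rfl, hi⟩
  swap
  · norm_num at hui
    interval_cases i <;> omega
  swap
  · norm_num at hui
    interval_cases i <;> omega
  have hi0 : i ≠ 0 := by
    rintro rfl
    simp only [mul_zero, zero_mul] at hui
    have : 1 < p ^ q := Nat.one_lt_pow hq.ne_zero hp.one_lt
    omega
  have hr : ∀ r : ℕ, r.Prime → r ∣ i → r = q ∧ q ∣ p - 1 := by
    intro r hr hri
    have := Fact.mk hr
    have hrd : r * (p - 1) ∣ p ^ q - 1 := by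
      rw [← hui]; exact Nat.mul_dvd_mul_right (hri.trans (dvd_mul_left _ _)) _
    have hrle : r ≤ i := Nat.le_of_dvd (Nat.pos_of_ne_zero hi0) hri
    have h1 : (p : ZMod r) ^ q = 1 := by
      have h := (ZMod.natCast_eq_zero_iff (p ^ q - 1) r).mpr ((dvd_mul_right r _).trans hrd)
      rw [Nat.cast_sub (Nat.one_le_pow _ _ hp.pos), sub_eq_zero] at h
      simpa using h
    have hgeom : (∑ k ∈ Finset.range q, p ^ k) = u * i := by
      have h2 := Nat.geomSum_eq hp.two_le q
      rw [← hui, Nat.mul_div_cancel _ (by omega)] at h2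
      exact h2
    by_cases hone : (p : ZMod r) = 1
    · have hsum : ((∑ k ∈ Finset.range q, p ^ k : ℕ) : ZMod r) = 0 := by
        rw [hgeom, ZMod.natCast_eq_zero_iff]; exact hri.trans (dvd_mul_left _ _)
      push_cast at hsum
      simp only [hone, one_pow, Finset.sum_const, Finset.card_range, nsmul_eq_mul, mul_one] at hsum
      have hrq : r = q :=
        (Nat.prime_dvd_prime_iff_eq hr hq).mp ((ZMod.natCast_eq_zero_iff _ _).mp hsum)
      subst hrq
      refine ⟨rfl, (ZMod.natCast_eq_zero_iff (p - 1) r).mp ?_⟩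
      rw [Nat.cast_sub hp.pos, hone]; simp
    · exfalso
      have hne : (p : ZMod r) ≠ 0 := fun e => by
        rw [e, zero_pow hq.ne_zero] at h1; exact zero_ne_one h1
      have := Fact.mk hq
      have ho : orderOf (p : ZMod r) = q := orderOf_eq_prime h1 hone
      have hd : q ∣ r - 1 := ho ▸ ZMod.orderOf_dvd_card_sub_one hne
      obtain ⟨m, hm⟩ := hd
      have hr2 := hr.two_le
      have hm2 : 2 ≤ m := by
        by_contra hlt
        have : m = 0 ∨ m = 1 := by omega
        rcases this with rfl | rfl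
        · omega
        · have hqo := Nat.odd_iff.mp (hq.odd_of_ne_two (by omega))
          have : r = 2 := (hr.eq_two_or_odd).resolve_right (by omega)
          omega
      have : 2 * q ≤ q * m := by rw [mul_comm 2 q]; exact Nat.mul_le_mul_left q hm2
      omega
  by_cases h1 : i = 1
  · exact Or.inl h1
  obtain ⟨r, hrp, hri⟩ := Nat.exists_prime_and_dvd h1
  obtain ⟨rfl, hdvd⟩ := hr r hrp hri
  refine Or.inr ⟨?_, hdvd⟩
  obtain ⟨j, rfl⟩ := hri
  by_contra hne
  have hj : j ≠ 1 := fun e => hne (by rw [e, mul_one])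
  obtain ⟨s, hsp, hsj⟩ := Nat.exists_prime_and_dvd hj
  obtain ⟨rfl, -⟩ := hr s hsp (hsj.trans (dvd_mul_left _ _))
  have hj0 : 0 < j := Nat.pos_of_ne_zero fun e => hi0 (by rw [e, mul_zero])
  have := Nat.le_of_dvd hj0 hsj
  nlinarith

namespace Config

variable {G : Type*} [Group G] [Fintype G] (c : Config G)

/-- What Appendix C needs from the side `S`: it is Galois with `C_U(H) = 1`. -/
structure SGalois : Prop where
  hII : Cfsg.IsOfTypeII c.S
  p_prime : c.p.Prime
  q_prime : c.q.Prime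
  lt : c.q < c.p
  galois : IsGalois (Cfsg.fittingHallOf c.S) c.U
  free_bot : c.U ⊓ centralizer (Cfsg.fittingHallOf c.S : Set G) = ⊥

variable {c}

theorem SGalois.module (h : c.SGalois) :
    KernelModule c.p c.q (Cfsg.fittingHallOf c.S) c.U c.W₁ c.W₂ :=
  kernelModule_two c.S_typeP h.hII h.p_prime

theorem SGalois.index_eq (h : c.SGalois) :
    (centralizer (Cfsg.fittingHallOf c.S : Set G)).relIndex c.U = Nat.card c.U := by
  rw [← inf_relIndex_right, inf_comm, h.free_bot, relIndex_bot_left]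

theorem SGalois.card_dvd (h : c.SGalois) : ∃ i, Nat.card c.U * i * (c.p - 1) = c.p ^ c.q - 1 := by
  obtain ⟨-, -, -, hd, -⟩ := h.module.galois_facts h.galois
  rw [h.index_eq] at hd
  obtain ⟨i, hi⟩ := hd
  exact ⟨i, by rw [hi, mul_right_comm]⟩

theorem SGalois.modEq_geom (h : c.SGalois) {i : ℕ} (hi : Nat.card c.U * i * (c.p - 1) = c.p ^ c.q - 1) :
    Nat.card c.U * i ≡ 1 [MOD c.p] := by
  have h2 := Nat.geomSum_eq h.p_prime.two_le c.q
  rw [← hi, Nat.mul_div_cancel _ (by have := h.p_prime.two_le; omega)] at h2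
  rw [← h2]
  obtain ⟨n, hn⟩ : ∃ n, c.q = n + 1 := ⟨c.q - 1, by have := h.q_prime.two_le; omega⟩
  rw [hn, Finset.sum_range_succ', pow_zero]
  have : c.p ∣ ∑ k ∈ Finset.range n, c.p ^ (k + 1) := Finset.dvd_sum fun k _ => dvd_pow_self _ (by omega)
  show _ % _ = _ % _
  rw [Nat.add_mod, Nat.mod_eq_zero_of_dvd this |>.trans rfl, zero_add, Nat.mod_mod]

/-- `W₂^y` normalising `U` without fixed points forces `S` to be full, and Appendix C applies. -/
theorem false_of_normalised (h : c.SGalois) {i : ℕ}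
    (hi : Nat.card c.U * i * (c.p - 1) = c.p ^ c.q - 1) (hi' : i = 1 ∨ (i = c.q ∧ c.q ∣ c.p - 1))
    (hQ : IsMulCommutative (Cfsg.fittingHallOf c.T)) {y : G} (hy : y ∈ Cfsg.fittingHallOf c.T)
    (hyU : c.W₂.map (MulAut.conj y).toMonoidHom ≤ normalizer (c.U : Set G))
    (hfpf : ∀ w ∈ c.W₂.map (MulAut.conj y).toMonoidHom, w ≠ 1 → ∀ u ∈ c.U, w * u = u * w → u = 1) :
    False := by
  have := Fact.mk h.p_prime
  have hcardW : Nat.card (c.W₂.map (MulAut.conj y).toMonoidHom : Subgroup G) = c.p :=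
    Nat.card_congr (c.W₂.equivMapOfInjective _ (MulAut.conj y).injective).toEquiv.symm
  have hup : Nat.card c.U ≡ 1 [MOD c.p] := card_modEq_one hcardW hyU hfpf
  have hiq : i = 1 := by
    rcases hi' with e | ⟨e, -⟩
    · exact e
    · have h1 : i ≡ 1 [MOD c.p] := by simpa using (hup.mul_right i).symm.trans (h.modEq_geom hi)
      exact Nat.ModEq.eq_of_lt_of_lt h1 (e ▸ h.lt) h.p_prime.one_lt
  rw [hiq, mul_one] at hi
  have K := h.module
  have hmodq : Nat.card c.U % c.q = 1 := by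
    have := K.index_modEq
    rw [h.index_eq] at this
    rw [Nat.ModEq, Nat.mod_eq_of_lt h.q_prime.one_lt] at this
    exact this
  obtain ⟨hU, -, hUc, -⟩ := Final.typeTwo_facts c.S_typeP h.hII
  obtain ⟨hfree, -⟩ := K.galois_facts h.galois
  have hW₁le : c.W₁ ≤ Cfsg.fittingHallOf c.T := c.T_typeP.W₂_le.trans inf_le_left
  have hcop : (Nat.card (Cfsg.fittingHallOf c.T)).Coprime c.p :=
    ((TypeP.coprime_W₁_derived c.T_typeP).coprime_dvd_right
      (card_dvd_of_le c.T_typeP.U_compl.1)).symm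
  refine Final.false_of_normalized h.p_prime h.q_prime (fun e => ?_) h.lt K.elem K.card
    (c.S_typeP.W₂_le.trans inf_le_left) rfl (fun u hu => K.mem_normalizer_of_mem_U hu) hUc
    (fun u hu hu1 x hx hc => ?_) hi hmodq hQ hcop
    (c.T_typeP.W₁_compl.2.1.trans (Final.typeP_le_normalizer c.T_typeP)) hy hyU
  · have := c.minimal.1.of_dvd_nat (Subgroup.card_subgroup_dvd_card c.W₁)
    have e' : Nat.card c.W₁ = 2 := e
    rw [e'] at this
    exact (by decide : ¬ Odd 2) this
  · have hnot : u ∉ centralizer (Cfsg.fittingHallOf c.S : Set G) := fun hc' =>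
      hu1 (mem_bot.mp (h.free_bot ▸ mem_inf.mpr ⟨hu, hc'⟩))
    exact mem_bot.mp (hfree u hu hnot ▸ mem_inf.mpr ⟨hx, mem_centralizer_singleton_iff.mpr hc.symm⟩)

/-- A cyclic kernel over `N(U)` makes `W₂^y` normalise `U`. -/
theorem normalises_of_cyclic {K' : Subgroup G} (hU : c.U ≤ K') (hK : IsCyclic K') {A : Subgroup G}
    (hA : A ≤ normalizer (K' : Set G)) : A ≤ normalizer (c.U : Set G) := fun a ha => by
  refine CfsgLib.Transfer.map_conj_eq_self_iff.mp ?_
  have hle : c.U.map (MulAut.conj a).toMonoidHom ≤ K' := by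
    rintro _ ⟨x, hx, rfl⟩
    exact (mem_normalizer_iff.mp (hA ha) x).mp (hU hx)
  have := hK
  exact CfsgLib.Orders.CyclicAbelian.eq_of_card_eq hle hU (CfsgLib.Transfer.card_map_conj ..)

/-- A bound on the kernel over `N(U)` gives the contradiction. -/
theorem false_of_kernel_bound (h : c.SGalois) {i : ℕ}
    (hi : Nat.card c.U * i * (c.p - 1) = c.p ^ c.q - 1) (hi' : i = 1 ∨ (i = c.q ∧ c.q ∣ c.p - 1))
    (hQ : IsMulCommutative (Cfsg.fittingHallOf c.T)) {L : Subgroup G} (hL : IsCoatom L)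
    (hN : normalizer (c.U : Set G) ≤ L) {y : G} (hy : y ∈ Cfsg.fittingHallOf c.T)
    (hyL : c.W₂.map (MulAut.conj y).toMonoidHom ≤ L ⊓ c.T)
    (hb : Nat.card (Cfsg.fittingHallOf L) ≤ c.p * (Nat.card c.U + 1) + 1 ∨
      Nat.card (Cfsg.fittingHallOf L) ≤ c.p ^ 2 * c.q ^ 2 + c.p ^ 2 + 1 ∨
      (c.p = 5 ∧ c.q = 3 ∧ Nat.card (Cfsg.fittingHallOf L) ≤ 368) ∨
      IsCyclic (Cfsg.fittingHallOf L)) : False := by
  have hU := (Final.typeTwo_facts c.S_typeP h.hII).1
  obtain ⟨-, -, hfree, hUK, -, hcompl, -, -, -, -⟩ :=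
    normU_config c.minimal c.S_max c.T_max c.S_typeP c.T_typeP h.hII hU hL hN
  obtain ⟨m, hm, hm2, hmod, -⟩ := Final.kernel_index c.minimal c.S_max c.T_max c.S_typeP c.T_typeP h.hII
    h.q_prime hU hL hN
  have hcardW : Nat.card (c.W₂.map (MulAut.conj y).toMonoidHom : Subgroup G) = c.p :=
    Nat.card_congr (c.W₂.equivMapOfInjective _ (MulAut.conj y).injective).toEquiv.symm
  have hKp : Nat.card (Cfsg.fittingHallOf L) ≡ 1 [MOD c.p] :=
    hcardW ▸ hmod _ hyL (hcardW.symm ▸ h.p_prime)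
  have hfpf : ∀ w ∈ c.W₂.map (MulAut.conj y).toMonoidHom, w ≠ 1 → ∀ u ∈ c.U, w * u = u * w → u = 1 := by
    intro w hw hw1 u hu hc
    by_contra hu1
    have h1 := hfree u (hUK hu) hu1 ⟨(hyL hw).1, mem_centralizer_singleton_iff.mpr hc⟩
    exact hw1 (mem_bot.mp (hcompl.2.2.1 ▸ mem_inf.mpr ⟨hyL hw, h1⟩))
  have hLK : L ≤ normalizer (Cfsg.fittingHallOf L : Set G) :=
    TwoGroups.FittingStructure.le_normalizer_fittingHallOf L
  have hnorm : c.W₂.map (MulAut.conj y).toMonoidHom ≤ normalizer (c.U : Set G) := by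
    rcases hb with hb | hb | hb | hcyc
    rotate_left 3
    · exact normalises_of_cyclic hUK hcyc ((hyL.trans inf_le_left).trans hLK)
    all_goals
      have hmi : m ≡ i [MOD c.p] := by
        have h1 : m * (Nat.card c.U * i) ≡ m * 1 [MOD c.p] := (h.modEq_geom hi).mul_left m
        rw [← mul_assoc, ← hm, mul_one] at h1
        have h2 := hKp.mul_right i
        rw [one_mul] at h2
        exact (h2.symm.trans h1).symm
      have hm1 : m = 1 := by
        refine (kernel_index h.p_prime h.q_prime c.q_ge_three h.lt hi' hi ?_ hmi ?_).2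
        · exact Eq.trans hm2 (Nat.mod_eq_of_lt (by have := h.q_prime.two_le; show 1 < 2 * c.q; omega))
        · rw [← hm]; tauto
      rw [hm1, one_mul] at hm
      rw [eq_of_le_of_card_ge hUK hm.le]
      exact (hyL.trans inf_le_left).trans hLK
  exact false_of_normalised h hi hi' hQ hy hnorm hfpf

end Config

end CfsgLib.OddLocal.FTFinal
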