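import Cfsg.Agent.Lib.OddLocal.Final.Setup
import Cfsg.Agent.Lib.Char.Virtual
import Cfsg.Agent.S1495

/-!
Owner: helper27. L2 of the FT blueprint: congruences for the multiplicity of a linear character fixed
by an element `y` of prime order `r` in the restriction of a member of the cyclic TI family.

* `congr_of_fixed`: the general congruence, for `F ⊓ C(y) = B` and a generalized character `θ` with
  `θ (b y) = k b · z`, `z ^ r = 1`, on `B#`.
* `family_fixed_congr`, `family_fixed_congr'`: the same for `χ ω`, with `y ∈ W₁` resp. `y ∈ W₂`.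
-/

set_option autoImplicit false
set_option linter.unusedSectionVars false
set_option linter.style.haveILetI false

open scoped ComplexConjugate

namespace CfsgLib.OddLocal.FTFinal

open Subgroup Finset
open CfsgLib.Char
open Cfsg

variable {r : ℕ}

/-- Divisibility by `1 - e^(2πi/r)` among algebraic integers. -/
def DvdOneSubRoot (r : ℕ) (u : ℂ) : Prop :=
  ∃ w : ℂ, IsIntegral ℤ w ∧ u = (1 - Complex.exp (2 * Real.pi * Complex.I / r)) * w

theorem DvdOneSubRoot.add {u v : ℂ} (hu : DvdOneSubRoot r u) (hv : DvdOneSubRoot r v) :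
    DvdOneSubRoot r (u + v) := by
  obtain ⟨a, ha, rfl⟩ := hu
  obtain ⟨b, hb, rfl⟩ := hv
  exact ⟨a + b, ha.add hb, (mul_add _ _ _).symm⟩

theorem DvdOneSubRoot.mul_right {u v : ℂ} (hu : DvdOneSubRoot r u) (hv : IsIntegral ℤ v) :
    DvdOneSubRoot r (u * v) := by
  obtain ⟨a, ha, rfl⟩ := hu
  exact ⟨a * v, ha.mul hv, mul_assoc _ _ _⟩

theorem DvdOneSubRoot.zero : DvdOneSubRoot r 0 := ⟨0, isIntegral_zero, (mul_zero _).symm⟩

theorem DvdOneSubRoot.sum {ι : Type*} (s : Finset ι) {f : ι → ℂ}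
    (h : ∀ i ∈ s, DvdOneSubRoot r (f i)) : DvdOneSubRoot r (∑ i ∈ s, f i) := by
  classical
  induction s using Finset.induction_on with
  | empty => rw [Finset.sum_empty]; exact DvdOneSubRoot.zero
  | insert a s ha ih =>
    rw [Finset.sum_insert ha]
    exact (h a (Finset.mem_insert_self _ _)).add (ih fun i hi => h i (Finset.mem_insert_of_mem hi))

theorem dvdOneSubRoot_root (hr : r.Prime) {z : ℂ} (hz : z ^ r = 1) : DvdOneSubRoot r (z - 1) := by
  set ε := Complex.exp (2 * Real.pi * Complex.I / r)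
  have hε : IsPrimitiveRoot ε r := Complex.isPrimitiveRoot_exp r hr.ne_zero
  obtain ⟨i, -, rfl⟩ := (haveI : NeZero r := ⟨hr.ne_zero⟩; hε.eq_pow_of_pow_eq_one hz)
  refine ⟨-∑ j ∈ Finset.range i, ε ^ j,
    (IsIntegral.sum _ fun j _ => (hε.isIntegral hr.pos).pow j).neg, ?_⟩
  rw [mul_neg, mul_neg_geom_sum, neg_sub]

theorem dvdOneSubRoot_self (hr : r.Prime) : DvdOneSubRoot r (r : ℂ) := by
  set ε := Complex.exp (2 * Real.pi * Complex.I / r)
  have hε : IsPrimitiveRoot ε r := Complex.isPrimitiveRoot_exp r hr.ne_zero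
  have h : (r : ℂ) = ∑ i ∈ Finset.range r, (ε ^ i - 1) * (-1) := by
    rw [← Finset.sum_mul, Finset.sum_sub_distrib, hε.geom_sum_eq_zero hr.one_lt]
    simp
  rw [h]
  refine DvdOneSubRoot.sum _ fun i _ => (dvdOneSubRoot_root hr ?_).mul_right isIntegral_one.neg
  rw [← pow_mul, mul_comm, pow_mul, hε.pow_eq_one, one_pow]

/-- An invariant fixed-point free sum over a permutation of prime period is a multiple of the period. -/
theorem sum_free_orbits {α : Type*} (hr : r.Prime) (σ : α → α) (hσ : ∀ x, σ^[r] x = x) (f : α → ℂ)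
    (hf : ∀ x, f (σ x) = f x) (hint : ∀ x, IsIntegral ℤ (f x)) (s : Finset α)
    (hs : ∀ x ∈ s, σ x ∈ s ∧ σ x ≠ x) : ∃ u : ℂ, IsIntegral ℤ u ∧ ∑ x ∈ s, f x = r * u := by
  classical
  haveI := Fact.mk hr
  induction s using Finset.strongInduction with
  | _ s ih =>
    rcases s.eq_empty_or_nonempty with rfl | ⟨x, hx⟩
    · exact ⟨0, isIntegral_zero, by simp⟩
    set O := (Finset.range r).image fun i => σ^[i] x with hO
    have hper : Function.minimalPeriod σ x = r :=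
      Function.minimalPeriod_eq_prime (hσ x) (hs x hx).2
    have hmem : ∀ i, σ^[i] x ∈ s := fun i => by
      induction i with
      | zero => exact hx
      | succ i hi => rw [Function.iterate_succ_apply']; exact (hs _ hi).1
    have hval : ∀ i, f (σ^[i] x) = f x := fun i => by
      induction i with
      | zero => rfl
      | succ i hi => rw [Function.iterate_succ_apply', hf, hi]
    have hOs : O ⊆ s := fun z hz => by
      obtain ⟨i, -, rfl⟩ := Finset.mem_image.mp hz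
      exact hmem i
    have hsum : ∑ z ∈ O, f z = r * f x := by
      rw [hO, Finset.sum_image]
      · simp [hval]
      · intro i hi j hj he
        simp only [Finset.coe_range, Set.mem_Iio] at hi hj
        exact Function.iterate_injOn_Iio_minimalPeriod (f := σ) (x := x)
          (by rwa [Set.mem_Iio, hper]) (by rwa [Set.mem_Iio, hper]) he
    have hinv : ∀ z ∈ s \ O, σ z ∈ s \ O ∧ σ z ≠ z := fun z hz => by
      rw [Finset.mem_sdiff] at hz ⊢
      refine ⟨⟨(hs z hz.1).1, fun h => hz.2 ?_⟩, (hs z hz.1).2⟩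
      obtain ⟨i, -, hi⟩ := Finset.mem_image.mp h
      refine Finset.mem_image.mpr ⟨(i + (r - 1)) % r, Finset.mem_range.mpr (Nat.mod_lt _ hr.pos), ?_⟩
      rw [← hper, Function.iterate_mod_minimalPeriod_eq, hper, add_comm, Function.iterate_add_apply,
        hi, ← Function.iterate_succ_apply, Nat.succ_eq_add_one, Nat.sub_add_cancel hr.one_lt.le, hσ]
    have hne : s \ O ⊂ s := Finset.sdiff_ssubset hOs
      ⟨x, Finset.mem_image.mpr ⟨0, Finset.mem_range.mpr hr.pos, rfl⟩⟩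
    obtain ⟨u, hu, he⟩ := ih _ hne hinv
    refine ⟨u + f x, hu.add (hint x), ?_⟩
    rw [← Finset.sum_sdiff hOs, he, hsum, mul_add]

variable {G : Type*} [Group G] [Fintype G]

/-- `θ (b y) ≡ θ b` for a generalized character and an element `y` with `y ^ r = 1` commuting with `b`. -/
theorem dvdOneSubRoot_mul_sub (hr : r.Prime) {θ : G → ℂ} (hθ : IsGeneralizedCharacter G θ) {b y : G}
    (hby : Commute b y) (hy : y ^ r = 1) : DvdOneSubRoot r (θ (b * y) - θ b) := by
  classical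
  let f : zpowers b × zpowers y →* G := MonoidHom.noncommCoprod (zpowers b).subtype (zpowers y).subtype
    fun u v => by
      obtain ⟨i, hi⟩ := u.2
      obtain ⟨j, hj⟩ := v.2
      show Commute (u : G) (v : G)
      rw [← hi, ← hj]
      exact hby.zpow_zpow i j
  have hcomm : ∀ (g : G) (u v : zpowers g), u * v = v * u := fun g u v => by
    obtain ⟨i, hi⟩ := u.2
    obtain ⟨j, hj⟩ := v.2
    refine Subtype.ext ?_
    show (u : G) * v = v * u
    rw [← hi, ← hj]
    exact ((Commute.refl g).zpow_zpow i j).eq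
  have hA : ∀ a c : zpowers b × zpowers y, a * c = c * a := fun a c =>
    Prod.ext (hcomm b _ _) (hcomm y _ _)
  let θ' : zpowers b × zpowers y → ℂ := fun a => θ (f a)
  have hgen : IsGeneralizedCharacter (zpowers b × zpowers y) θ' := IsGen.comp f hθ
  haveI := Fintype.ofFinite (zpowers b × zpowers y)
  haveI := Fintype.ofFinite (Cfsg.IrrCharacter (zpowers b × zpowers y))
  obtain ⟨m, hm⟩ := IsGen.exists_sum hgen
  have hb : θ b = θ' (⟨b, mem_zpowers b⟩, 1) := by simp [θ', f]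
  have hbyv : θ (b * y) = θ' ((⟨b, mem_zpowers b⟩, 1) * (1, ⟨y, mem_zpowers y⟩)) := by simp [θ', f]
  rw [hb, hbyv, hm]
  simp only [Finset.sum_apply, Pi.smul_apply, smul_eq_mul, ← Finset.sum_sub_distrib]
  refine DvdOneSubRoot.sum _ fun ξ _ => ?_
  obtain ⟨l, hl⟩ := (CfsgLib.CyclicTI.linear_bijective hA).2 ξ
  rw [← hl]
  simp only [map_mul, Units.val_mul]
  set a : ℂ := (l (⟨b, mem_zpowers b⟩, 1) : ℂ)
  set z : ℂ := (l (1, ⟨y, mem_zpowers y⟩) : ℂ)
  rw [show (m (⟨_, isIrrCharacter_linear l⟩ : Cfsg.IrrCharacter _) : ℂ) * (a * z) -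
    (m (⟨_, isIrrCharacter_linear l⟩ : Cfsg.IrrCharacter _) : ℂ) * a =
    (z - 1) * ((m (⟨_, isIrrCharacter_linear l⟩ : Cfsg.IrrCharacter _) : ℂ) * a) by ring]
  refine (dvdOneSubRoot_root hr ?_).mul_right ((isIntegral_algebraMap (R := ℤ)).mul ?_)
  · rw [← Units.val_pow_eq_pow_val, ← map_pow]
    simp [show ((1, ⟨y, mem_zpowers y⟩) : zpowers b × zpowers y) ^ r = 1 from
      Prod.ext (one_pow r) (Subtype.ext hy)]
  · exact CfsgLib.CharIntegral.isIntegral_of_isCharacter (IsIrr.isCharacter (isIrrCharacter_linear l)) _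

/-- The congruence for the multiplicity of a `y`-fixed linear character. -/
theorem congr_of_fixed (hr : r.Prime) {θ : G → ℂ} (hθ : IsGeneralizedCharacter G θ)
    (F B : Subgroup G) [Fintype F] {y : G} (hy : y ^ r = 1) (hnorm : ∀ x ∈ F, y * x * y⁻¹ ∈ F)
    (hfix : F ⊓ centralizer ({y} : Set G) = B) (ψ : F →* ℂˣ)
    (hψ : ∀ x : F, ψ ⟨y * x * y⁻¹, hnorm x x.2⟩ = ψ x) (k : B →* ℂˣ) {z : ℂ} (hz : z ^ r = 1)
    (hk : ∀ b : B, (b : G) ≠ 1 → θ ((b : G) * y) = (k b : ℂ) * z)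
    [Decidable (∀ b : B, ψ ⟨b, (hfix.ge b.2).1⟩ = k b)] :
    ∃ m D : ℤ, classInner (fun x : F => θ x) (fun x : F => (ψ x : ℂ)) = m ∧ θ 1 = D ∧
      (r : ℤ) ∣ (Nat.card F : ℤ) * m - (D - 1) -
        (if ∀ b : B, ψ ⟨b, (hfix.ge b.2).1⟩ = k b then (Nat.card B : ℤ) else 0) := by
  classical
  haveI := Fintype.ofFinite B
  obtain ⟨m, hm⟩ := IsGen.exists_classInner_eq_intCast (IsGen.restrict F hθ)
    (IsGen.of_irr (isIrrCharacter_linear ψ))
  obtain ⟨D, hD⟩ := IsGen.exists_int_apply_one hθ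
  refine ⟨m, D, hm, hD, ?_⟩
  set ψB : B →* ℂˣ := ψ.comp (Subgroup.inclusion (fun b hb => (hfix.ge hb).1)) with hψB
  set δ : ℤ := if ∀ b : B, ψ ⟨b, (hfix.ge b.2).1⟩ = k b then (Nat.card B : ℤ) else 0 with hδ
  let v : F → ℂ := fun x => θ x * conj (ψ x : ℂ)
  have hψint : ∀ x : F, IsIntegral ℤ (conj (ψ x : ℂ)) := fun x => by
    have h := CfsgLib.CharIntegral.isIntegral_of_isCharacter
      (IsIrr.isCharacter (isIrrCharacter_linear ψ)) x
    exact h.map (starRingEnd ℂ).toIntAlgHom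
  have hsumF : (Nat.card F : ℂ) * m = ∑ x : F, v x := by
    rw [← hm, classInner, ← mul_assoc, mul_inv_cancel₀ (Nat.cast_ne_zero.mpr Nat.card_pos.ne'),
      one_mul]
  have hBsum : ∑ b : B, (k b : ℂ) * conj (ψB b : ℂ) = (δ : ℂ) := by
    have h := CfsgLib.CyclicTI.inner_linear k ψB
    rw [classInner, inv_mul_eq_iff_eq_mul₀ (Nat.cast_ne_zero.mpr Nat.card_pos.ne')] at h
    rw [h, hδ]
    split_ifs with he hall hall
    · simp
    · exact absurd (fun b => (DFunLike.congr_fun he b).symm) hall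
    · exact absurd (MonoidHom.ext fun b => (hall b).symm) he
    · simp
  -- the free orbits
  let σ : F → F := fun x => ⟨y * x * y⁻¹, hnorm x x.2⟩
  have hσit : ∀ (n : ℕ) (x : F), ((σ^[n] x : F) : G) = y ^ n * x * (y ^ n)⁻¹ := fun n x => by
    induction n with
    | zero => simp
    | succ n ih =>
      rw [Function.iterate_succ_apply', pow_succ']
      show y * _ * y⁻¹ = _
      rw [ih]; group
  have hσr : ∀ x : F, σ^[r] x = x := fun x => Subtype.ext (by rw [hσit, hy]; simp)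
  have hfixiff : ∀ x : F, σ x = x ↔ (x : G) ∈ B := fun x => by
    rw [← hfix]
    refine ⟨fun h => ⟨x.2, Subgroup.mem_centralizer_singleton_iff.mpr ?_⟩, fun h => Subtype.ext ?_⟩
    · exact (mul_inv_eq_iff_eq_mul.mp (congrArg Subtype.val h :)).symm
    · show y * x * y⁻¹ = x
      rw [← Subgroup.mem_centralizer_singleton_iff.mp h.2, mul_inv_cancel_right]
  set sB : Finset F := Finset.univ.filter fun x => σ x = x with hsB
  obtain ⟨u, hu, hfree⟩ := sum_free_orbits hr σ hσr v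
    (fun x => by
      show θ (y * x * y⁻¹) * conj ((ψ ⟨y * x * y⁻¹, hnorm x x.2⟩ : ℂˣ) : ℂ) = _
      rw [IsGen.isClassFunction hθ, hψ])
    (fun x => (IsGen.isIntegral hθ _).mul (hψint x)) sBᶜ
    (fun x hx => by
      simp only [hsB, Finset.mem_compl, Finset.mem_filter, Finset.mem_univ, true_and] at hx ⊢
      refine ⟨fun h => hx ?_, hx⟩
      have h1 : σ^[r] x = σ x := by
        have : ∀ n, σ^[n] (σ x) = σ x := fun n => Function.iterate_fixed h n
        rw [← Nat.sub_add_cancel hr.one_lt.le, Function.iterate_succ_apply, this]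
      rw [← h1, hσr])
  let e : B → F := fun b => ⟨b, (hfix.ge b.2).1⟩
  have hsum : ∑ x ∈ sB, v x = ∑ b : B, v (e b) := by
    refine (Finset.sum_bij (fun b _ => e b) (fun b _ => ?_) (fun a _ b _ h => ?_) (fun x hx => ?_)
      (fun b _ => rfl)).symm
    · simp [hsB, hfixiff, e]
    · exact Subtype.ext (congrArg (fun x : F => (x : G)) h :)
    · simp only [hsB, Finset.mem_filter, Finset.mem_univ, true_and, hfixiff] at hx
      exact ⟨⟨x, hx⟩, Finset.mem_univ _, rfl⟩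
  have hcongr : ∀ b : B, DvdOneSubRoot r
      (v (e b) - (k b : ℂ) * conj (ψB b : ℂ) - if b = 1 then (D : ℂ) - 1 else 0) := fun b => by
    by_cases hb : b = 1
    · subst hb
      have h1 : e 1 = 1 := rfl
      have : v (e 1) = D := by simp [v, h1, hD]
      simp [this, DvdOneSubRoot.zero]
    · rw [if_neg hb, sub_zero]
      have hb' : (b : G) ≠ 1 := fun h => hb (Subtype.ext h)
      have hcom : Commute (b : G) y :=
        Subgroup.mem_centralizer_singleton_iff.mp (hfix.ge b.2).2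
      have h1 := dvdOneSubRoot_mul_sub hr hθ hcom hy
      rw [hk b hb'] at h1
      have h2 := ((h1.mul_right (isIntegral_one.neg)).add
        ((dvdOneSubRoot_root hr hz).mul_right (CfsgLib.CharIntegral.isIntegral_of_isCharacter
          (IsIrr.isCharacter (isIrrCharacter_linear k)) b))).mul_right (hψint (e b))
      convert h2 using 1
      simp only [v, e, hψB, MonoidHom.comp_apply, Subgroup.inclusion]
      show _ - _ * conj ((ψ ⟨b, _⟩ : ℂˣ) : ℂ) = _
      ring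
  have key : DvdOneSubRoot r (((Nat.card F : ℤ) * m - (D - 1) - δ : ℤ) : ℂ) := by
    have h := ((dvdOneSubRoot_self hr).mul_right hu).add (DvdOneSubRoot.sum Finset.univ fun b _ => hcongr b)
    convert h using 1
    rw [Finset.sum_sub_distrib, Finset.sum_sub_distrib, hBsum, Finset.sum_ite_eq', if_pos (Finset.mem_univ _),
      ← hfree, ← hsum]
    push_cast
    rw [hsumF, ← Finset.sum_compl_add_sum sB]
    ring
  obtain ⟨w, hw, he⟩ := key
  exact Cfsg.Agent.S1495.result r hr _ w hw he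

variable {W₁ W₂ : Subgroup G} {χ : (↥(W₁ ⊔ W₂) →* ℂˣ) → (G → ℂ)}

/-- L2: the congruence for a member of the family and `y ∈ W₁`. -/
theorem family_fixed_congr (hW : IsSelfNormalizingCyclic W₁ W₂) (hχ : IsCyclicTIFamily W₁ W₂ χ)
    (F : Subgroup G) [Fintype F] {y : G} (hy : y ∈ W₁) (hr : r.Prime) (hord : orderOf y = r)
    (hnorm : ∀ x ∈ F, y * x * y⁻¹ ∈ F) (hfix : F ⊓ centralizer ({y} : Set G) = W₂)
    (ψ : F →* ℂˣ) (hψ : ∀ x : F, ψ ⟨y * x * y⁻¹, hnorm x x.2⟩ = ψ x)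
    (ω : ↥(W₁ ⊔ W₂) →* ℂˣ)
    [Decidable (∀ b : W₂, ψ ⟨b, (hfix.ge b.2).1⟩ = ω ⟨b, mem_sup_right b.2⟩)] :
    ∃ m D : ℤ, classInner (fun x : F => χ ω x) (fun x : F => (ψ x : ℂ)) = m ∧ χ ω 1 = D ∧
      (r : ℤ) ∣ (Nat.card F : ℤ) * m - (D - 1) -
        (if ∀ b : W₂, ψ ⟨b, (hfix.ge b.2).1⟩ = ω ⟨b, mem_sup_right b.2⟩ then (Nat.card W₂ : ℤ)
          else 0) := by
  classical
  have hgen : IsGeneralizedCharacter G (χ ω) := by
    rcases hχ.irr_or_neg ω with h | h
    · exact IsGen.of_irr h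
    · simpa using IsGen.neg (IsGen.of_irr h)
  have hy1 : y ≠ 1 := fun h => by rw [h, orderOf_one] at hord; exact hr.ne_one hord.symm
  have hyr : y ^ r = 1 := hord ▸ pow_orderOf_eq_one y
  obtain ⟨m, D, hm, hD, hdvd⟩ := congr_of_fixed hr hgen F W₂ hyr hnorm hfix ψ hψ
    (ω.comp (Subgroup.inclusion le_sup_right)) (z := (ω ⟨y, mem_sup_left hy⟩ : ℂ))
    (by
      rw [← Units.val_pow_eq_pow_val, ← map_pow]
      rw [show (⟨y, mem_sup_left hy⟩ : ↥(W₁ ⊔ W₂)) ^ r = 1 from Subtype.ext hyr, map_one, Units.val_one])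
    (fun b hb => by
      have hdisj : ∀ g : G, g ∈ W₁ → g ∈ W₂ → g = 1 := fun g h1 h2 => by
        have h : g ∈ W₁ ⊓ W₂ := ⟨h1, h2⟩
        rwa [hW.2.2.1, Subgroup.mem_bot] at h
      have hby := mul_mem (mem_sup_right b.2 : (b : G) ∈ W₁ ⊔ W₂) (mem_sup_left hy)
      rw [hχ.eq_on ω ⟨_, hby⟩ (fun h => hb (hdisj _ (by simpa using W₁.mul_mem h (W₁.inv_mem hy)) b.2))
        (fun h => hy1 (hdisj _ hy (by simpa using W₂.mul_mem (W₂.inv_mem b.2) h)))]
      rw [show (⟨_, hby⟩ : ↥(W₁ ⊔ W₂)) = ⟨b, mem_sup_right b.2⟩ * ⟨y, mem_sup_left hy⟩ from rfl,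
        map_mul, Units.val_mul]
      rfl)
  refine ⟨m, D, hm, hD, ?_⟩
  convert hdvd using 3
  exact Iff.rfl

/-- L2, mirrored: `y ∈ W₂`. -/
theorem family_fixed_congr' (hW : IsSelfNormalizingCyclic W₁ W₂) (hχ : IsCyclicTIFamily W₁ W₂ χ)
    (F : Subgroup G) [Fintype F] {y : G} (hy : y ∈ W₂) (hr : r.Prime) (hord : orderOf y = r)
    (hnorm : ∀ x ∈ F, y * x * y⁻¹ ∈ F) (hfix : F ⊓ centralizer ({y} : Set G) = W₁)
    (ψ : F →* ℂˣ) (hψ : ∀ x : F, ψ ⟨y * x * y⁻¹, hnorm x x.2⟩ = ψ x)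
    (ω : ↥(W₁ ⊔ W₂) →* ℂˣ)
    [Decidable (∀ b : W₁, ψ ⟨b, (hfix.ge b.2).1⟩ = ω ⟨b, mem_sup_left b.2⟩)] :
    ∃ m D : ℤ, classInner (fun x : F => χ ω x) (fun x : F => (ψ x : ℂ)) = m ∧ χ ω 1 = D ∧
      (r : ℤ) ∣ (Nat.card F : ℤ) * m - (D - 1) -
        (if ∀ b : W₁, ψ ⟨b, (hfix.ge b.2).1⟩ = ω ⟨b, mem_sup_left b.2⟩ then (Nat.card W₁ : ℤ)
          else 0) := by
  classical
  have hgen : IsGeneralizedCharacter G (χ ω) := by
    rcases hχ.irr_or_neg ω with h | h
    · exact IsGen.of_irr h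
    · simpa using IsGen.neg (IsGen.of_irr h)
  have hy1 : y ≠ 1 := fun h => by rw [h, orderOf_one] at hord; exact hr.ne_one hord.symm
  have hyr : y ^ r = 1 := hord ▸ pow_orderOf_eq_one y
  obtain ⟨m, D, hm, hD, hdvd⟩ := congr_of_fixed hr hgen F W₁ hyr hnorm hfix ψ hψ
    (ω.comp (Subgroup.inclusion le_sup_left)) (z := (ω ⟨y, mem_sup_right hy⟩ : ℂ))
    (by
      rw [← Units.val_pow_eq_pow_val, ← map_pow]
      rw [show (⟨y, mem_sup_right hy⟩ : ↥(W₁ ⊔ W₂)) ^ r = 1 from Subtype.ext hyr, map_one, Units.val_one])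
    (fun b hb => by
      have hdisj : ∀ g : G, g ∈ W₁ → g ∈ W₂ → g = 1 := fun g h1 h2 => by
        have h : g ∈ W₁ ⊓ W₂ := ⟨h1, h2⟩
        rwa [hW.2.2.1, Subgroup.mem_bot] at h
      have hby := mul_mem (mem_sup_left b.2 : (b : G) ∈ W₁ ⊔ W₂) (mem_sup_right hy)
      rw [hχ.eq_on ω ⟨_, hby⟩ (fun h => hy1 (hdisj _ (by simpa using W₁.mul_mem (W₁.inv_mem b.2) h) hy))
        (fun h => hb (hdisj _ b.2 (by simpa using W₂.mul_mem h (W₂.inv_mem hy))))]
      rw [show (⟨_, hby⟩ : ↥(W₁ ⊔ W₂)) = ⟨b, mem_sup_left b.2⟩ * ⟨y, mem_sup_right hy⟩ from rfl,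
        map_mul, Units.val_mul]
      rfl)
  refine ⟨m, D, hm, hD, ?_⟩
  convert hdvd using 3
  exact Iff.rfl

end CfsgLib.OddLocal.FTFinal
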