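import Cfsg.Agent.Lib.OddLocal.Frob12.Embedding
import Cfsg.Agent.Lib.OddLocal.Frob12.TypePairs
import Cfsg.Agent.Lib.Char.Frobenius

/-!
Owner: helper16. For a maximal subgroup of type P the sets `A₁`, `A`, `A₀` are TI with trivial signalizers
(blueprint F1).
-/

set_option autoImplicit false
set_option linter.unusedSectionVars false

namespace CfsgLib.OddLocal.Final

open Subgroup
open CfsgLib.TwoGroups

variable {G : Type*} [Group G] [Finite G] {M L K U : Subgroup G} {x : G}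

theorem typeA_eq_of_typeOne (hG : Cfsg.IsMinSimpleOddOrder G) (hL : IsCoatom L) (hI : Cfsg.IsOfTypeI L) :
    Cfsg.typeA L = Cfsg.typeA1 L := by
  classical
  obtain ⟨hκ, hF⟩ := Frob12.typeOne_facts hG hL hI
  refine Set.Subset.antisymm (fun a ha => ?_) (DadeSupport.typeA1_subset_typeA hG hL)
  rw [DadeSupport.typeA1_eq hG hL]
  unfold Cfsg.typeA at ha
  rw [if_pos hI] at ha
  obtain ⟨haL, ha1, y, hy, hy1, e⟩ := ha
  exact ⟨Frob12.centralizer_le hG hL hκ (hF ▸ hy) hy1 ⟨haL, mem_centralizer_singleton_iff.mpr e⟩, ha1⟩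

/-- A subgroup of type P is no Frobenius group with kernel `M_F`. -/
theorem not_frobenius_typeP (hP : Cfsg.IsOfTypeP M) :
    ¬ ∃ E : Subgroup ↥M, Cfsg.IsFrobeniusComplement E ∧
      Cfsg.frobeniusKernel E = ((Cfsg.fittingHall ↥M : Subgroup ↥M) : Set ↥M) := by
  rintro ⟨E, hE, hker⟩
  obtain ⟨W₁, U, W₂, hP⟩ := hP
  obtain ⟨w, hw, hw1⟩ := W₁.bot_or_exists_ne_one.resolve_left hP.W₁_ne
  obtain ⟨b, hb, hb1⟩ := W₂.bot_or_exists_ne_one.resolve_left hP.selfNormalizing.2.1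
  have hcom : w * b = b * w := hP.selfNormalizing.2.2.2.1 w hw b hb
  obtain ⟨⟨b', hb'M⟩, hb', rfl⟩ := (mem_inf.mp (hP.W₂_le hb)).1
  have hwM : w ∈ M := hP.W₁_compl.2.1 hw
  have hb'1 : (⟨b', hb'M⟩ : M) ≠ 1 := fun e => hb1 (congrArg Subtype.val e)
  have hwn : (⟨w, hwM⟩ : M) ∉ Cfsg.frobeniusKernel E := by
    rw [hker]
    intro h
    exact hw1 (mem_bot.mp (hP.W₁_compl.2.2.1 ▸ mem_inf.mpr ⟨hP.U_compl.1 ⟨_, h, rfl⟩, hw⟩))
  simp only [Cfsg.frobeniusKernel, Set.mem_setOf_eq, not_or, not_forall, not_not] at hwn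
  obtain ⟨-, g, hg⟩ := hwn
  have h1 := Frobenius.mem_conj_smul.mp hg
  have h2 : g⁻¹ * (⟨w, hwM⟩ : M) * g ≠ 1 := fun e => hw1 (by
    have : (⟨w, hwM⟩ : M) = 1 := by
      calc (⟨w, hwM⟩ : M) = g * (g⁻¹ * ⟨w, hwM⟩ * g) * g⁻¹ := by group
        _ = 1 := by rw [e]; group
    exact congrArg Subtype.val this)
  have h3 : g⁻¹ * ⟨b', hb'M⟩ * g ∈ E := by
    refine Frobenius.mem_of_conj_mem hE h1 h2 ?_
    have hc : (⟨b', hb'M⟩ : M)⁻¹ * ⟨w, hwM⟩ * ⟨b', hb'M⟩ = ⟨w, hwM⟩ := by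
      refine Subtype.ext ?_
      show b'⁻¹ * w * b' = w
      rw [mul_assoc, show w * b' = b' * w from hcom, ← mul_assoc, inv_mul_cancel, one_mul]
    rwa [show (g⁻¹ * (⟨b', hb'M⟩ : M) * g)⁻¹ * (g⁻¹ * ⟨w, hwM⟩ * g) * (g⁻¹ * ⟨b', hb'M⟩ * g)
      = g⁻¹ * ((⟨b', hb'M⟩ : M)⁻¹ * ⟨w, hwM⟩ * ⟨b', hb'M⟩) * g by group, hc]
  rcases (hker.ge hb' : (⟨b', hb'M⟩ : M) ∈ Cfsg.frobeniusKernel E) with h | h
  · exact hb'1 h
  · exact h g (Frobenius.mem_conj_smul.mpr h3)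

/-- F1: centralizers of the elements of `A₀(M)` lie in `M`. -/
theorem centralizer_typeA0_le (hG : Cfsg.IsMinSimpleOddOrder G) (hM : IsCoatom M) (hP : Cfsg.IsOfTypeP M)
    (hx : x ∈ Cfsg.typeA0 M) : centralizer ({x} : Set G) ≤ M := by
  by_contra hc
  obtain ⟨-, hD, hmain⟩ := Frob12.tame_embedding hG M hM _ (Or.inr rfl)
  obtain ⟨L, ⟨hL, hxL⟩, -⟩ := (hD x hx hc).2
  obtain ⟨-, -, -, -, ⟨hA, hA1⟩, hty, hfr⟩ := hmain x hx hc L hL hxL
  rcases hty with hI | hII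
  · exact hA1 (typeA_eq_of_typeOne hG hL hI ▸ hA)
  · exact not_frobenius_typeP hP (hfr hII)

/-- `R(x) = 1` on `A₀(M)`. -/
theorem supportR_eq_bot (hG : Cfsg.IsMinSimpleOddOrder G) (hM : IsCoatom M) (hP : Cfsg.IsOfTypeP M)
    (hx : x ∈ Cfsg.typeA0 M) : Cfsg.supportR M x = ⊥ :=
  DadeSupport.supportR_of_le (centralizer_typeA0_le hG hM hP hx)

/-- F1: `A₁(M)`, `A(M)`, `A₀(M)` are TI-subsets with normalizer `M`. -/
theorem typeP_ti (hG : Cfsg.IsMinSimpleOddOrder G) (hM : IsCoatom M) (hP : Cfsg.IsOfTypeP M)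
    {A : Set G} (hA : A = Cfsg.typeA1 M ∨ A = Cfsg.typeA M ∨ A = Cfsg.typeA0 M) :
    Cfsg.IsTISubset A ∧ normalizer A = M := by
  obtain ⟨K, U, h⟩ := DadeSupport.exists_decomposition hG hM
  obtain ⟨hsub, -, -, hN⟩ := DadeSupport.type_sets hG hM h hA
  have hA0 : A ⊆ Cfsg.typeA0 M := by
    rcases hA with rfl | rfl | rfl
    · exact (DadeSupport.typeA1_subset_typeA hG hM).trans Set.subset_union_left
    · exact Set.subset_union_left
    · exact subset_rfl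
  refine ⟨fun g hg a ha hga => by_contra fun ha1 => hg (hN.symm ▸ ?_), hN⟩
  obtain ⟨m, hm, e⟩ := DadeSupport.fusion hG hM h (hsub ha) ha1 (hsub hga)
  have hc : m⁻¹ * g ∈ centralizer ({a} : Set G) := mem_centralizer_singleton_iff.mpr (by
    calc m⁻¹ * g * a = m⁻¹ * (g * a * g⁻¹) * g := by group
      _ = m⁻¹ * (m * a * m⁻¹) * g := by rw [e]
      _ = a * (m⁻¹ * g) := by group)
  simpa using mul_mem hm (centralizer_typeA0_le hG hM hP (hA0 ha) hc)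

end CfsgLib.OddLocal.Final
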