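import Cfsg.Agent.Lib.Char.CyclicTI.Basic
import Cfsg.Agent.Lib.Char.PowerTwist
import Cfsg.Agent.Lib.Char.Virtual
import Cfsg.Agent.Lib.Char.CyclicTI.Galois
import Cfsg.Prelude.Def_OddOrderChar

/-!
Owner: helper15. Functions induced to `G` from a subgroup `F` whose non-identity elements form a TI-set
with normaliser `M`: values, inner products, Cauchy–Schwarz against the mass on `F`, and the mass as a
sum over the conjugates of `F`.
-/

set_option autoImplicit false
set_option linter.unusedSectionVars false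

open scoped ComplexConjugate

namespace CfsgLib.OddLocal.FTFinal

open Subgroup
open CfsgLib.Char
open Cfsg (classInner IsClassFunction IsGeneralizedCharacter indFun extendByZero conjFun)

variable {G : Type*} [Group G]

/-- `F` is normalised by `M ⊇ F` and its non-identity elements meet their conjugates only inside `M`. -/
structure IsTISide (F M : Subgroup G) : Prop where
  le : F ≤ M
  conj_mem : ∀ m ∈ M, ∀ f ∈ F, m * f * m⁻¹ ∈ F
  ti : ∀ g : G, ∀ f ∈ F, f ≠ 1 → g * f * g⁻¹ ∈ F → g ∈ M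

theorem IsTISide.of_isTISubset {F M : Subgroup G} (h : Cfsg.IsTISubset (F : Set G))
    (hN : normalizer (F : Set G) = M) : IsTISide F M where
  le := hN ▸ le_normalizer
  conj_mem m hm f hf := by
    rw [← hN] at hm
    exact (Subgroup.mem_normalizer_iff.mp hm f).mp hf
  ti g f hf h1 hg := by
    by_contra hgM
    exact h1 (h g (hN ▸ hgM) f hf hg)

/-- The conjugates of the non-identity elements of `F`. -/
def conjSharp (F : Subgroup G) : Set G := {g | ∃ y : G, ∃ f ∈ F, f ≠ 1 ∧ g = y * f * y⁻¹}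

variable {F M : Subgroup G}

/-- A linear character of `F` conjugated by an element of `M`. -/
noncomputable def conjHom (h : IsTISide F M) (x : M) (ψ : F →* ℂˣ) : F →* ℂˣ where
  toFun f := ψ ⟨(x : G)⁻¹ * f * x, by simpa using h.conj_mem _ (M.inv_mem x.2) _ f.2⟩
  map_one' := by
    rw [show (⟨_, _⟩ : F) = 1 from Subtype.ext (by simp)]
    exact map_one ψ
  map_mul' a b := by
    rw [← map_mul]
    congr 1
    exact Subtype.ext (by simp [mul_assoc])

theorem conjHom_apply (h : IsTISide F M) (x : M) (ψ : F →* ℂˣ) (f : F) :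
    conjHom h x ψ f = ψ ⟨(x : G)⁻¹ * f * x, by simpa using h.conj_mem _ (M.inv_mem x.2) _ f.2⟩ := rfl

/-- The difference of two linear characters of `F`. -/
noncomputable def linDiff (ψ ψ' : F →* ℂˣ) : F → ℂ := fun f => (ψ f : ℂ) - (ψ' f : ℂ)

theorem linDiff_one (ψ ψ' : F →* ℂˣ) : linDiff ψ ψ' 1 = 0 := by simp [linDiff]

variable [Fintype G]

/-- `Ind_F^G (ψ - ψ')`. -/
noncomputable def ind (F : Subgroup G) (ψ ψ' : F →* ℂˣ) : G → ℂ := indFun F (linDiff ψ ψ')

theorem ind_isGen (ψ ψ' : F →* ℂˣ) : IsGeneralizedCharacter G (ind F ψ ψ') :=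
  IsGen.indFun (IsGen.sub (IsGen.of_irr (isIrrCharacter_linear ψ)) (IsGen.of_irr (isIrrCharacter_linear ψ')))

theorem ind_isClassFunction (ψ ψ' : F →* ℂˣ) : IsClassFunction G (ind F ψ ψ') :=
  isClassFunction_indFun F _

theorem ind_add (ψ ψ' ψ'' : F →* ℂˣ) : ind F ψ ψ' + ind F ψ' ψ'' = ind F ψ ψ'' := by
  rw [ind, ind, ind, ← indFun_add]
  congr 1
  funext f
  simp [linDiff]

theorem ind_swap (ψ ψ' : F →* ℂˣ) : ind F ψ' ψ = -ind F ψ ψ' := by
  rw [ind, ind, ← neg_one_smul ℂ (indFun F (linDiff ψ ψ')), ← indFun_smul]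
  congr 1
  funext f
  simp [linDiff]

theorem ind_apply_one (ψ ψ' : F →* ℂˣ) : ind F ψ ψ' 1 = 0 := by
  rw [ind, indFun_apply_one, linDiff_one, mul_zero]

theorem indFun_eq_zero_off {φ : F → ℂ} (hφ : φ 1 = 0) {g : G} (hg : g ∉ conjSharp F) :
    indFun F φ g = 0 := by
  simp only [indFun]
  rw [Finset.sum_eq_zero, mul_zero]
  intro x _
  by_cases hx : x⁻¹ * g * x ∈ F
  · rw [extendByZero_of_mem _ _ hx]
    by_cases h1 : x⁻¹ * g * x = 1
    · rw [show (⟨x⁻¹ * g * x, hx⟩ : F) = 1 from Subtype.ext h1, hφ]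
    · exact absurd ⟨x, _, hx, h1, by group⟩ hg
  · exact extendByZero_of_notMem _ _ hx

theorem ind_eq_zero_off (ψ ψ' : F →* ℂˣ) {g : G} (hg : g ∉ conjSharp F) : ind F ψ ψ' g = 0 :=
  indFun_eq_zero_off (linDiff_one ψ ψ') hg

/-- Two induced functions with disjoint supports are orthogonal. -/
theorem inner_eq_zero_of_disjoint {F' : Subgroup G} (hd : ∀ g ∈ conjSharp F, g ∉ conjSharp F')
    {φ : F → ℂ} (hφ : φ 1 = 0) {φ' : F' → ℂ} (hφ' : φ' 1 = 0) :
    classInner (indFun F φ) (indFun F' φ') = 0 := by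
  simp only [classInner]
  rw [Finset.sum_eq_zero, mul_zero]
  intro g _
  by_cases hg : g ∈ conjSharp F
  · rw [indFun_eq_zero_off hφ' (hd g hg), map_zero, mul_zero]
  · rw [indFun_eq_zero_off hφ hg, zero_mul]

/-- Galois action on induced functions. -/
theorem indFun_apply_pow {n : ℕ} (hn : n.Coprime (Nat.card G)) (φ : F → ℂ) (g : G) :
    indFun F φ (g ^ n) = indFun F (fun f => φ (f ^ n)) g := by
  simp only [indFun]
  congr 1
  refine Finset.sum_congr rfl fun x _ => ?_
  have e : x⁻¹ * g ^ n * x = (x⁻¹ * g * x) ^ n := by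
    have h := conj_pow (i := n) (a := x⁻¹) (b := g)
    rw [inv_inv] at h
    exact h.symm
  by_cases hg : x⁻¹ * g * x ∈ F
  · rw [e, extendByZero_of_mem _ _ (pow_mem hg n), extendByZero_of_mem _ _ hg]
    rfl
  · rw [e, extendByZero_of_notMem _ _ hg, extendByZero_of_notMem]
    rw [mem_iff_pow_mem _ hn]
    exact hg

theorem ind_apply_pow {n : ℕ} (hn : n.Coprime (Nat.card G)) (ψ ψ' : F →* ℂˣ) :
    (fun g => ind F ψ ψ' (g ^ n)) = ind F (ψ ^ n) (ψ' ^ n) := by
  funext g
  rw [ind, indFun_apply_pow hn, ind]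
  congr 1
  funext f
  simp [linDiff, map_pow]

open scoped Classical in
/-- The sum over `G` of a class function on the conjugates of `F#`, weighted. -/
noncomputable def mass (F M : Subgroup G) (χ : G → ℂ) : ℝ :=
  (Nat.card M : ℝ)⁻¹ * ∑ᶠ f : F, if f = 1 then 0 else Complex.normSq (χ f)

section TI

variable (h : IsTISide F M)

include h

/-- The value of an induced function on `F#`. -/
theorem indFun_apply_mem [Fintype M] (φ : F → ℂ) {f : F} (hf : f ≠ 1) :
    indFun F φ f = (Nat.card F : ℂ)⁻¹ *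
      ∑ x : M, φ ⟨(x : G)⁻¹ * f * x, by simpa using h.conj_mem _ (M.inv_mem x.2) _ f.2⟩ := by
  classical
  simp only [indFun]
  congr 1
  rw [← Finset.sum_subset (Finset.subset_univ (Finset.univ.image (Subtype.val : M → G)))
    (fun x _ hx => ?_), Finset.sum_image fun a _ b _ h => Subtype.ext h]
  · exact Finset.sum_congr rfl fun x _ => extendByZero_of_mem _ _ _
  · refine extendByZero_of_notMem _ _ fun hm => hx (Finset.mem_image.mpr ?_)
    have hxM : x⁻¹ ∈ M := h.ti x⁻¹ f f.2 (fun e => hf (Subtype.ext e)) (by simpa using hm)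
    exact ⟨⟨x, by simpa using M.inv_mem hxM⟩, Finset.mem_univ _, rfl⟩

/-- Inner product of two induced functions. -/
theorem inner_indFun [Fintype M] [Fintype F] {φ φ' : F → ℂ} (hφ : φ 1 = 0) :
    classInner (indFun F φ) (indFun F φ') = (Nat.card F : ℂ)⁻¹ * ∑ x : M,
      classInner φ (fun f => φ' ⟨(x : G)⁻¹ * f * x, by simpa using h.conj_mem _ (M.inv_mem x.2) _ f.2⟩) := by
  classical
  rw [frobenius_reciprocity F φ (isClassFunction_indFun F φ')]
  simp only [classInner, Finset.mul_sum]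
  rw [Finset.sum_comm]
  refine Finset.sum_congr rfl fun f _ => ?_
  by_cases hf : f = 1
  · subst hf
    simp [hφ]
  rw [indFun_apply_mem h φ' hf, map_mul, map_inv₀, map_natCast, map_sum, Finset.mul_sum,
    Finset.mul_sum, Finset.mul_sum]
  exact Finset.sum_congr rfl fun x _ => by ring

open scoped Classical in
/-- The inner product of two induced differences of linear characters. -/
theorem inner_ind [Fintype M] (ψ₁ ψ₂ ψ₃ ψ₄ : F →* ℂˣ) :
    classInner (ind F ψ₁ ψ₂) (ind F ψ₃ ψ₄) = (Nat.card F : ℂ)⁻¹ * ∑ x : M,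
      ((if ψ₁ = conjHom h x ψ₃ then 1 else 0) - (if ψ₂ = conjHom h x ψ₃ then 1 else 0) -
        (if ψ₁ = conjHom h x ψ₄ then 1 else 0) + (if ψ₂ = conjHom h x ψ₄ then 1 else 0)) := by
  have := Fintype.ofFinite F
  rw [ind, ind, inner_indFun h (linDiff_one ψ₁ ψ₂)]
  congr 1
  refine Finset.sum_congr rfl fun x _ => ?_
  rw [show linDiff ψ₁ ψ₂ = (fun f => (ψ₁ f : ℂ)) - fun f => (ψ₂ f : ℂ) from rfl,
    show (fun f : F => linDiff ψ₃ ψ₄ ⟨(x : G)⁻¹ * f * x, by simpa using h.conj_mem _ (M.inv_mem x.2) _ f.2⟩) =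
      (fun f => (conjHom h x ψ₃ f : ℂ)) - fun f => (conjHom h x ψ₄ f : ℂ) from rfl,
    classInner_sub_left, classInner_sub_right, classInner_sub_right,
    CyclicTI.inner_linear, CyclicTI.inner_linear, CyclicTI.inner_linear, CyclicTI.inner_linear]
  ring_nf

/-- The inner product with a class function, on `F#`. -/
theorem inner_indFun_class [Fintype M] [Fintype F] {φ : F → ℂ} (hφ : φ 1 = 0) {χ : G → ℂ}
    (hχ : IsClassFunction G χ) :
    classInner (indFun F φ) χ =
      (Nat.card M : ℂ)⁻¹ * ∑ f : F, indFun F φ f * conj (χ f) := by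
  classical
  rw [frobenius_reciprocity F φ hχ]
  have h1 : indFun F φ ((1 : F) : G) = 0 := by
    rw [OneMemClass.coe_one, indFun_apply_one, hφ, mul_zero]
  have key : ∀ f : F, indFun F φ f * conj (χ f) = (Nat.card F : ℂ)⁻¹ * ∑ x : M,
      φ ⟨(x : G)⁻¹ * f * x, by simpa using h.conj_mem _ (M.inv_mem x.2) _ f.2⟩ *
        conj (χ ((x : G)⁻¹ * f * x)) := by
    intro f
    by_cases hf : f = 1
    · subst hf
      rw [h1, zero_mul, Finset.sum_eq_zero, mul_zero]
      intro x _
      rw [show (⟨_, _⟩ : F) = 1 from Subtype.ext (by simp), hφ, zero_mul]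
    rw [indFun_apply_mem h φ hf, mul_assoc, Finset.sum_mul]
    congr 1
    refine Finset.sum_congr rfl fun x _ => ?_
    congr 2
    simpa using (hχ (f : G) (x : G)⁻¹).symm
  simp only [key, classInner]
  rw [← Finset.mul_sum, Finset.sum_comm]
  have inner : ∀ x : M, ∑ f : F, φ ⟨(x : G)⁻¹ * f * x, by simpa using h.conj_mem _ (M.inv_mem x.2) _ f.2⟩ *
      conj (χ ((x : G)⁻¹ * f * x)) = ∑ f : F, φ f * conj (χ f) := by
    intro x
    refine Fintype.sum_bijective (fun f : F => (⟨(x : G)⁻¹ * f * x,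
      by simpa using h.conj_mem _ (M.inv_mem x.2) _ f.2⟩ : F)) ?_ _ _ fun f => rfl
    refine Finite.injective_iff_bijective.mp fun a b hab => Subtype.ext ?_
    have := congrArg Subtype.val hab
    simpa using this
  simp only [inner, Finset.sum_const, Finset.card_univ, nsmul_eq_mul, ← Nat.card_eq_fintype_card]
  have : (Nat.card M : ℂ) ≠ 0 := Nat.cast_ne_zero.mpr Nat.card_pos.ne'
  field_simp

theorem mass_nonneg (χ : G → ℂ) : 0 ≤ mass F M χ := by
  refine mul_nonneg (by positivity) (finsum_nonneg fun f => ?_)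
  split_ifs
  · exact le_rfl
  · exact Complex.normSq_nonneg _

/-- The norm of an induced function is its mass. -/
theorem inner_self_eq_mass {φ : F → ℂ} (hφ : φ 1 = 0) :
    classInner (indFun F φ) (indFun F φ) = (mass F M (indFun F φ) : ℂ) := by
  classical
  have := Fintype.ofFinite F
  have := Fintype.ofFinite M
  rw [inner_indFun_class h hφ (isClassFunction_indFun F φ), mass, finsum_eq_sum_of_fintype]
  push_cast
  congr 1
  refine Finset.sum_congr rfl fun f _ => ?_
  rw [Complex.mul_conj]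
  split_ifs with hf
  · rw [hf, OneMemClass.coe_one, indFun_apply_one, hφ, mul_zero]; simp
  · rfl

/-- Cauchy–Schwarz on `F#`. -/
theorem normSq_inner_le {φ : F → ℂ} (hφ : φ 1 = 0) {χ : G → ℂ} (hχ : IsClassFunction G χ) :
    Complex.normSq (classInner (indFun F φ) χ) ≤
      (classInner (indFun F φ) (indFun F φ)).re * mass F M χ := by
  classical
  have := Fintype.ofFinite F
  have := Fintype.ofFinite M
  rw [inner_self_eq_mass h hφ, Complex.ofReal_re, inner_indFun_class h hφ hχ]
  set a : F → ℂ := fun f => indFun F φ f with ha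
  have ha1 : a 1 = 0 := by
    show indFun F φ ((1 : F) : G) = 0
    rw [OneMemClass.coe_one, indFun_apply_one, hφ, mul_zero]
  set s : Finset F := Finset.univ.erase 1 with hs
  have e : ∑ f : F, a f * conj (χ f) = ∑ f ∈ s, a f * conj (χ f) :=
    (Finset.sum_erase _ (by rw [ha1, zero_mul])).symm
  have m : ∀ ξ : G → ℂ, mass F M ξ = (Nat.card M : ℝ)⁻¹ * ∑ f ∈ s, ‖ξ f‖ ^ 2 := by
    intro ξ
    rw [mass, finsum_eq_sum_of_fintype]
    congr 1
    rw [← Finset.sum_erase (s := (Finset.univ : Finset F))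
      (f := fun f : F => if f = 1 then 0 else Complex.normSq (ξ f)) (a := 1) (by simp)]
    refine Finset.sum_congr rfl fun f hf => ?_
    rw [if_neg (Finset.ne_of_mem_erase hf), Complex.normSq_eq_norm_sq]
  rw [e, m, m, Complex.normSq_mul, map_inv₀, Complex.normSq_natCast]
  have cs : Complex.normSq (∑ f ∈ s, a f * conj (χ f)) ≤
      (∑ f ∈ s, ‖a f‖ ^ 2) * ∑ f ∈ s, ‖χ f‖ ^ 2 := by
    rw [Complex.normSq_eq_norm_sq]
    refine le_trans ?_ (Finset.sum_mul_sq_le_sq_mul_sq s (fun f => ‖a f‖) (fun f => ‖χ f‖))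
    refine pow_le_pow_left₀ (norm_nonneg _) ((norm_sum_le _ _).trans (le_of_eq ?_)) 2
    exact Finset.sum_congr rfl fun f _ => by rw [norm_mul, Complex.norm_conj]
  calc ((Nat.card M : ℝ) * Nat.card M)⁻¹ * Complex.normSq (∑ f ∈ s, a f * conj (χ f))
      ≤ ((Nat.card M : ℝ) * Nat.card M)⁻¹ * ((∑ f ∈ s, ‖a f‖ ^ 2) * ∑ f ∈ s, ‖χ f‖ ^ 2) :=
        mul_le_mul_of_nonneg_left cs (by positivity)
    _ = _ := by rw [mul_inv]; ring

/-- The sum of a class function over the conjugates of `F#`. -/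
theorem sum_conjSharp [DecidablePred (· ∈ conjSharp F)] [Fintype F] [DecidableEq F] {f : G → ℂ}
    (hf : IsClassFunction G f) :
    (Nat.card G : ℂ)⁻¹ * ∑ g : G, (if g ∈ conjSharp F then f g else 0) =
      (Nat.card M : ℂ)⁻¹ * ∑ x : F, (if x = 1 then 0 else f x) := by
  classical
  have := Fintype.ofFinite M
  set δ : F → ℂ := fun x => if x = 1 then 0 else 1 with hδ
  have hδ1 : δ 1 = 0 := if_pos rfl
  have hI := frobenius_reciprocity F δ (χ := fun g => conj (f g)) fun g y => by simp [hf g y]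
  simp only [classInner, Complex.conj_conj] at hI
  have hval : ∀ g ∈ conjSharp F, indFun F δ g = (Nat.card M : ℂ) / Nat.card F := by
    rintro g ⟨y, x, hx, hx1, rfl⟩
    rw [isClassFunction_indFun F δ x y]
    have e := indFun_apply_mem h δ (f := ⟨x, hx⟩) (fun e => hx1 (congrArg Subtype.val e))
    rw [e, Finset.sum_eq_card_nsmul (b := 1), Finset.card_univ, nsmul_one, Nat.card_eq_fintype_card,
      div_eq_mul_inv, mul_comm]
    · simp [Nat.card_eq_fintype_card]
    · intro z _
      refine if_neg fun e => hx1 ?_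
      have h2 : (z : G)⁻¹ * x * z = 1 := congrArg Subtype.val e
      calc x = (z : G) * ((z : G)⁻¹ * x * z) * (z : G)⁻¹ := by group
        _ = 1 := by rw [h2]; group
  have e1 : ∑ g : G, indFun F δ g * f g =
      (Nat.card M : ℂ) / Nat.card F * ∑ g : G, (if g ∈ conjSharp F then f g else 0) := by
    rw [Finset.mul_sum]
    refine Finset.sum_congr rfl fun g _ => ?_
    split_ifs with hg
    · rw [hval g hg]
    · rw [indFun_eq_zero_off hδ1 hg, zero_mul, mul_zero]
  have e2 : ∑ x : F, δ x * f x = ∑ x : F, (if x = 1 then 0 else f x) := by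
    refine Finset.sum_congr rfl fun x _ => ?_
    simp only [hδ]; split_ifs <;> simp
  rw [e1, e2] at hI
  have : (Nat.card M : ℂ) ≠ 0 := Nat.cast_ne_zero.mpr Nat.card_pos.ne'
  have : (Nat.card F : ℂ) ≠ 0 := Nat.cast_ne_zero.mpr Nat.card_pos.ne'
  have : (Nat.card G : ℂ) ≠ 0 := Nat.cast_ne_zero.mpr Nat.card_pos.ne'
  field_simp at hI ⊢
  linear_combination hI

/-- The mass is the share of the norm on the conjugates of `F#`. -/
theorem mass_eq [DecidablePred (· ∈ conjSharp F)] {χ : G → ℂ} (hχ : IsClassFunction G χ) :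
    mass F M χ = (Nat.card G : ℝ)⁻¹ * ∑ g : G, if g ∈ conjSharp F then Complex.normSq (χ g) else 0 := by
  classical
  have := Fintype.ofFinite F
  have hs := sum_conjSharp h (f := fun g => (Complex.normSq (χ g) : ℂ)) fun g y => by
    show ((Complex.normSq (χ (y * g * y⁻¹)) : ℝ) : ℂ) = _
    rw [hχ g y]
  apply Complex.ofReal_injective
  rw [mass, finsum_eq_sum_of_fintype]
  simp only [Complex.ofReal_mul, Complex.ofReal_inv, Complex.ofReal_natCast, Complex.ofReal_sum,
    apply_ite ((↑) : ℝ → ℂ), Complex.ofReal_zero]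
  exact hs.symm

end TI

end CfsgLib.OddLocal.FTFinal
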