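import Cfsg.Agent.Lib.OddLocal.Frob12.TypeOneCoherent
import Cfsg.Agent.Lib.OddLocal.Frob12.Coef
import Cfsg.Agent.S1540
import Cfsg.Agent.S1537

/-!
Owner: helper12. A class function orthogonal to the Dade images of the degree-matched differences of
induced characters has constant average on the non-identity elements of the kernel.
-/

set_option autoImplicit false
set_option linter.unusedSectionVars false

open scoped ComplexConjugate

namespace CfsgLib.OddLocal.FTFinal

open Subgroup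
open CfsgLib.Char CfsgLib.Clifford CfsgLib.DadeMap CfsgLib.Char.Exceptional
open CfsgLib.OddLocal.Frob12
open Cfsg

variable {G : Type*} [Group G] [Fintype G] {L : Subgroup G} [Fintype L] {K : Subgroup L} [hK : K.Normal]
  {R : G → Subgroup G}

/-- `θ'(1) Ind θ − θ(1) Ind θ'`. -/
noncomputable def diffInd (θ θ' : IrrCharacter K) : L → ℂ :=
  (deg θ' : ℂ) • indFun K (θ : K → ℂ) - (deg θ : ℂ) • indFun K (θ' : K → ℂ)

theorem diffInd_eq (θ θ' : IrrCharacter K) :
    diffInd θ θ' = (deg θ' : ℂ) • vanish θ - (deg θ : ℂ) • vanish θ' := by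
  funext x
  simp [diffInd, vanish]
  ring

theorem supp_diffInd (θ θ' : IrrCharacter K) : Supp K (diffInd θ θ') := by
  have h := supp_vanish θ
  have h' := supp_vanish θ'
  rw [diffInd_eq]
  refine ⟨CfsgLib.Char.IsGen.sub ?_ ?_, by simp [h.2.1, h'.2.1], fun x hx => by simp [h.2.2 x hx, h'.2.2 x hx]⟩
  · rw [← Int.cast_natCast]; exact CfsgLib.Char.IsGen.intCast_smul _ h.1
  · rw [← Int.cast_natCast]; exact CfsgLib.Char.IsGen.intCast_smul _ h'.1

theorem diffInd_mem_zspanOn {θ θ' : IrrCharacter K} (hθ : (θ : K → ℂ) ≠ fun _ => 1)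
    (hθ' : (θ' : K → ℂ) ≠ fun _ => 1) : diffInd θ θ' ∈ zspanOn (inducedIrrAbove K ⊥) ({1}ᶜ : Set L) := by
  have hmem : ∀ ξ : IrrCharacter K, (ξ : K → ℂ) ≠ (fun _ => 1) →
      indFun K (ξ : K → ℂ) ∈ inducedIrrAbove K ⊥ := fun ξ hξ =>
    ⟨ξ, ξ.2, hξ, fun a ha => by rw [show a = 1 from Subtype.ext (mem_bot.mp ha)], rfl⟩
  refine ⟨?_, fun x hx => ?_⟩
  · show _ ∈ Submodule.span ℤ _
    rw [diffInd, ← Int.cast_natCast, ← Int.cast_natCast (R := ℂ) (n := deg θ),
      Int.cast_smul_eq_zsmul, Int.cast_smul_eq_zsmul]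
    exact sub_mem (Submodule.smul_mem _ _ (Submodule.subset_span (hmem θ hθ)))
      (Submodule.smul_mem _ _ (Submodule.subset_span (hmem θ' hθ')))
  · rw [Set.mem_compl_iff, not_not, Set.mem_singleton_iff] at hx
    rw [hx]
    exact (supp_diffInd θ θ').2.1

/-- A class function orthogonal to the degree-matched differences is constant off `1` on the kernel. -/
theorem class_const {g : L → ℂ} (hρ : IsClassFunction L g)
    (horth : ∀ θ θ' : IrrCharacter K, (θ : K → ℂ) ≠ (fun _ => 1) → (θ' : K → ℂ) ≠ (fun _ => 1) →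
      classInner (diffInd θ θ') g = 0) :
    ∃ c : ℂ, ∀ a ∈ K, a ≠ 1 → g a = c := by
  classical
  have := Fintype.ofFinite K
  have := Fintype.ofFinite (IrrCharacter K)
  set f : K → ℂ := fun k => g k with hf
  have hfc : IsClassFunction K f := fun k l => hρ k l
  have hrel : ∀ θ θ' : IrrCharacter K, (θ : K → ℂ) ≠ (fun _ => 1) → (θ' : K → ℂ) ≠ (fun _ => 1) →
      (deg θ' : ℂ) * classInner f (θ : K → ℂ) = (deg θ : ℂ) * classInner f (θ' : K → ℂ) := by
    intro θ θ' hθ hθ'
    have h := horth θ θ' hθ hθ'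
    rw [diffInd, classInner_sub_left, classInner_smul_left,
      classInner_smul_left, frobenius_reciprocity K _ hρ, frobenius_reciprocity K _ hρ,
      ← classInner_conj_symm f, ← classInner_conj_symm f] at h
    have h' := congrArg (starRingEnd ℂ) h
    simp only [map_sub, map_mul, map_natCast, map_zero, Complex.conj_conj] at h'
    exact sub_eq_zero.mp h'
  by_cases hex : ∃ θ : IrrCharacter K, (θ : K → ℂ) ≠ fun _ => 1
  swap
  · push Not at hex
    refine ⟨classInner f (fun _ => 1), fun a ha _ => ?_⟩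
    have h := classFunction_apply_eq_sum hfc ⟨a, ha⟩
    rw [Finset.sum_eq_single (trivChar K) (fun ξ _ hne => absurd (Subtype.ext (hex ξ)) hne)
      (fun h => absurd (Finset.mem_univ _) h)] at h
    simpa [hf, trivChar] using h
  obtain ⟨θ₀, hθ₀⟩ := hex
  obtain ⟨c, hc⟩ : ∃ c, c = classInner f (θ₀ : K → ℂ) / deg θ₀ := ⟨_, rfl⟩
  have hd : (deg θ₀ : ℂ) ≠ 0 := by
    rw [← apply_one_eq_deg]; exact IsIrr.apply_one_ne_zero θ₀.2
  refine ⟨classInner f (fun _ => 1) - c, fun a ha ha1 => ?_⟩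
  have h := classFunction_apply_eq_sum hfc ⟨a, ha⟩
  have hco : ∀ ξ : IrrCharacter K, classInner f (ξ : K → ℂ) * (ξ : K → ℂ) ⟨a, ha⟩ =
      c * ((ξ : K → ℂ) 1 * (ξ : K → ℂ) ⟨a, ha⟩) +
        if ξ = trivChar K then classInner f (fun _ => 1) - c else 0 := by
    intro ξ
    by_cases hξ : ξ = trivChar K
    · subst hξ; simp [trivChar]
    · rw [if_neg hξ, add_zero]
      have := hrel ξ θ₀ (fun e => hξ (Subtype.ext e)) hθ₀
      rw [apply_one_eq_deg, hc]
      field_simp
      linear_combination ((ξ : K → ℂ) ⟨a, ha⟩) * this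
  rw [Finset.sum_congr rfl fun ξ _ => hco ξ, Finset.sum_add_distrib, ← Finset.mul_sum,
    sum_degree_mul_apply_of_ne_one (g := (⟨a, ha⟩ : K)) (fun e => ha1 (congrArg Subtype.val e)), mul_zero,
    zero_add, Finset.sum_ite_eq' Finset.univ (trivChar K), if_pos (Finset.mem_univ _)] at h
  exact h

/-- The average is constant on the non-identity elements of the kernel. -/
theorem rho_const (hD : DadeHypothesis (sharp K) L R) {χ : G → ℂ} (hχ : IsClassFunction G χ)
    (horth : ∀ θ θ' : IrrCharacter K, (θ : K → ℂ) ≠ (fun _ => 1) → (θ' : K → ℂ) ≠ (fun _ => 1) →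
      classInner (tau K R (diffInd θ θ')) χ = 0) :
    ∃ c : ℂ, ∀ a ∈ K, a ≠ 1 → rho (sharp K) L R χ a = c :=
  class_const (isClassFunction_rho hD hχ) fun θ θ' h h' => by
    rw [← tau_pair hD (supp_diffInd θ θ') hχ]
    exact horth θ θ' h h'

/-- The same, from orthogonality to the Dade images of all differences vanishing at `1`. -/
theorem rho_const_of_orth (hD : DadeHypothesis (sharp K) L R) {χ : G → ℂ} (hχ : IsClassFunction G χ)
    (horth : ∀ α ∈ zspanOn (inducedIrrAbove K ⊥) ({1}ᶜ : Set L), classInner (tau K R α) χ = 0) :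
    ∃ c : ℂ, ∀ a ∈ K, a ≠ 1 → rho (sharp K) L R χ a = c :=
  rho_const hD hχ fun _ _ h h' => horth _ (diffInd_mem_zspanOn h h')

theorem typeA1_eq_sharp (hG : IsMinSimpleOddOrder G) (hL : IsCoatom L) (hI : IsOfTypeI L) :
    typeA1 L = sharp (fittingHall ↥L) := by
  classical
  obtain ⟨-, hH⟩ := typeOne_facts hG hL hI
  rw [DadeSupport.typeA1_eq hG hL, ← hH]
  ext g
  constructor
  · rintro ⟨⟨k, hk, rfl⟩, hg1⟩
    exact ⟨k, hk, fun e => hg1 (by rw [e]; rfl), rfl⟩
  · rintro ⟨k, hk, hk1, rfl⟩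
    exact ⟨mem_map_of_mem _ hk, fun e => hk1 (Subtype.ext e)⟩

theorem typeA_eq_typeA1 (hG : IsMinSimpleOddOrder G) (hL : IsCoatom L) (hI : IsOfTypeI L) :
    typeA L = typeA1 L := by
  rw [typeA1_eq_sharp hG hL hI]
  exact typeA_eq_of_frobenius hI (Cfsg.Agent.S1540.result hG L hL hI)

/-- For a maximal subgroup of Type I. -/
theorem rho_const_typeOne (hG : IsMinSimpleOddOrder G) (hL : IsCoatom L) (hI : IsOfTypeI L) {χ : G → ℂ}
    (hχ : IsClassFunction G χ)
    (horth : ∀ α ∈ zspanOn (inducedIrrAbove (fittingHall ↥L) ⊥) ({1}ᶜ : Set L),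
      classInner (dadeIsometry (typeA L) L (supportR L) α) χ = 0) :
    ∃ c : ℂ, ∀ a : L, (a : G) ∈ typeA1 L → rho (typeA1 L) L (supportR L) χ a = c := by
  have e := typeA1_eq_sharp hG hL hI
  have hD : DadeHypothesis (sharp (fittingHall ↥L)) L (supportR L) :=
    e ▸ (Cfsg.Agent.S1537.result hG L hL _ (Or.inl rfl)).2
  obtain ⟨c, hc⟩ := rho_const_of_orth hD hχ (fun α hα => by
    have h := horth α hα
    rwa [typeA_eq_typeA1 hG hL hI, e] at h)
  refine ⟨c, fun a ha => ?_⟩
  rw [e] at ha ⊢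
  obtain ⟨h1, h2⟩ := coe_mem_sharp.mp ha
  exact hc a h1 h2

/-- The constant as an inner product. -/
theorem inner_vanish_of_const (hD : DadeHypothesis (sharp K) L R) {χ : G → ℂ} (hχ : IsClassFunction G χ) {c : ℂ}
    (hc : ∀ a ∈ K, a ≠ 1 → rho (sharp K) L R χ a = c) {ξ : IrrCharacter K} (hξ : (ξ : K → ℂ) ≠ fun _ => 1) :
    classInner (tau K R (vanish ξ)) χ = -((deg ξ : ℂ) * conj c) := by
  classical
  have := Fintype.ofFinite K
  rw [tau_pair hD (supp_vanish ξ) hχ, vanish, classInner_sub_left, classInner_smul_left,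
    frobenius_reciprocity K _ (isClassFunction_rho hD hχ), frobenius_reciprocity K _ (isClassFunction_rho hD hχ)]
  have hval : (fun k : K => rho (sharp K) L R χ k) = fun k => c * (1 - if k = 1 then 1 else 0) := by
    funext k
    by_cases hk : k = 1
    · subst hk
      rw [if_pos rfl, sub_self, mul_zero]
      exact rho_of_notMem fun h => (coe_mem_sharp.mp h).2 rfl
    · rw [if_neg hk, sub_zero, mul_one]
      exact hc k k.2 fun e => hk (Subtype.ext e)
  have h0 : ∑ k : K, (ξ : K → ℂ) k = 0 := by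
    have h := classInner_of_irr ξ.2 (trivChar K).2
    rw [if_neg (show (ξ : K → ℂ) ≠ (trivChar K : K → ℂ) from hξ)] at h
    simp only [Cfsg.classInner, mul_eq_zero, inv_eq_zero, Nat.cast_eq_zero, Nat.card_pos.ne', false_or] at h
    simpa [trivChar] using h
  have hKne : (Nat.card K : ℂ) ≠ 0 := Nat.cast_ne_zero.mpr Nat.card_pos.ne'
  have hsum : ∀ w : K → ℂ, classInner w (fun k => c * (1 - if k = 1 then 1 else 0)) =
      (Nat.card K : ℂ)⁻¹ * conj c * ((∑ k, w k) - w 1) := by
    intro w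
    rw [Cfsg.classInner, mul_assoc]
    congr 1
    rw [mul_sub, Finset.mul_sum]
    rw [Finset.sum_congr rfl (g := fun k => conj c * w k - if k = 1 then conj c * w k else 0) fun k _ => by
      split_ifs <;> simp [mul_comm]]
    rw [Finset.sum_sub_distrib, Finset.sum_ite_eq' Finset.univ (1 : K), if_pos (Finset.mem_univ _)]
  rw [hval, hsum, hsum, h0, apply_one_eq_deg, Finset.sum_const, Finset.card_univ, nsmul_one,
    ← Nat.card_eq_fintype_card]
  field_simp
  ring

/-- For a virtual character the constant is an integer. -/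
theorem const_int (hD : DadeHypothesis (sharp K) L R) {χ : G → ℂ} (hχ : IsGeneralizedCharacter G χ) {c : ℂ}
    (hc : ∀ a ∈ K, a ≠ 1 → rho (sharp K) L R χ a = c) {ξ : IrrCharacter K} (hξ : (ξ : K → ℂ) ≠ fun _ => 1)
    (hdeg : deg ξ = 1) : ∃ m : ℤ, c = m ∧ classInner (tau K R (vanish ξ)) χ = -(m : ℂ) := by
  obtain ⟨m, hm⟩ := CfsgLib.Char.IsGen.exists_classInner_eq_intCast (tau_gen hD (supp_vanish ξ)) hχ
  have h := inner_vanish_of_const hD (CfsgLib.Char.IsGen.isClassFunction hχ) hc hξ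
  rw [hm, hdeg, Nat.cast_one, one_mul] at h
  have h' := congrArg (starRingEnd ℂ) h
  rw [map_neg, Complex.conj_conj, map_intCast] at h'
  refine ⟨-m, by rw [Int.cast_neg, h', neg_neg], ?_⟩
  rw [hm, Int.cast_neg, neg_neg]

theorem exists_linear (hK1 : K ≠ ⊥) (hnil : Group.IsNilpotent K) :
    ∃ ξ : IrrCharacter K, (ξ : K → ℂ) ≠ (fun _ => 1) ∧ deg ξ = 1 := by
  have hsol : Group.IsSolvable K := inferInstance
  have hne : ¬ K ≤ ⁅K, K⁆ := fun e => by
    have : Nontrivial K := (Subgroup.nontrivial_iff_ne_bot K).mpr hK1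
    refine (Group.IsSolvable.commutator_lt_top_of_nontrivial K).ne (eq_top_iff.mpr fun k _ => ?_)
    have hk : (k : L) ∈ (_root_.commutator K).map K.subtype := by rw [map_subtype_commutator]; exact e k.2
    obtain ⟨j, hj, hjk⟩ := hk
    rwa [← Subtype.ext hjk]
  obtain ⟨_, ⟨θ, hθ, h1, hker, rfl⟩, -⟩ := Coh.exists_min_member hsol hne
  refine ⟨⟨θ, hθ⟩, h1, ?_⟩
  exact_mod_cast (apply_one_eq_deg (⟨θ, hθ⟩ : IrrCharacter K)).symm.trans (linear_of_mem hθ hker)

/-- Orthogonality to the coherent images gives orthogonality to the Dade images of the differences. -/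
theorem orth_of_orth_coherent {E : Set (L → ℂ)} {τ τ₁ : (L → ℂ) → (G → ℂ)}
    (hτ₁ : IsLinearIsometryOn (zspan E) τ₁) (hext : ∀ α ∈ zspanOn E ({1}ᶜ : Set L), τ₁ α = τ α)
    {χ : G → ℂ} (h : ∀ φ ∈ E, classInner (τ₁ φ) χ = 0) :
    ∀ α ∈ zspanOn E ({1}ᶜ : Set L), classInner (τ α) χ = 0 := by
  intro α hα
  rw [← hext α hα]
  have hz : τ₁ 0 = 0 := by
    have h0 := hτ₁.1 0 (Submodule.zero_mem _) 0 (Submodule.zero_mem _)
    simpa using h0
  obtain ⟨hα, -⟩ := hα
  induction hα using Submodule.span_induction with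
  | mem f hf => exact h f hf
  | zero => rw [hz, classInner_zero_left]
  | add a b ha hb iha ihb => rw [hτ₁.1 a ha b hb, classInner_add_left, iha, ihb, add_zero]
  | smul n a ha iha =>
    rw [hτ₁.2.1 a ha n, ← Int.cast_smul_eq_zsmul ℂ, classInner_smul_left, iha, mul_zero]

/-- Everything one needs about a virtual character orthogonal to the coherent family of a maximal subgroup of
Type I: its average is an integer constant `m` on `A₁(L)`, read off from the linear characters. -/
theorem const_typeOne (hG : IsMinSimpleOddOrder G) (hL : IsCoatom L) (hI : IsOfTypeI L) {χ : G → ℂ}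
    (hχ : IsGeneralizedCharacter G χ)
    (horth : ∀ α ∈ zspanOn (inducedIrrAbove (fittingHall ↥L) ⊥) ({1}ᶜ : Set L),
      classInner (dadeIsometry (typeA L) L (supportR L) α) χ = 0) :
    ∃ m : ℤ, (∀ a : L, (a : G) ∈ typeA1 L → rho (typeA1 L) L (supportR L) χ a = m) ∧
      ∀ ξ : IrrCharacter (fittingHall ↥L), (ξ : fittingHall ↥L → ℂ) ≠ (fun _ => 1) →
        classInner (dadeIsometry (typeA1 L) L (supportR L) (vanish ξ)) χ = -((deg ξ : ℂ) * m) := by
  obtain ⟨c, hc⟩ := rho_const_typeOne hG hL hI (CfsgLib.Char.IsGen.isClassFunction hχ) horth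
  have e := typeA1_eq_sharp hG hL hI
  have hD : DadeHypothesis (sharp (fittingHall ↥L)) L (supportR L) :=
    e ▸ (Cfsg.Agent.S1537.result hG L hL _ (Or.inl rfl)).2
  have hc' : ∀ a ∈ fittingHall ↥L, a ≠ 1 → rho (sharp (fittingHall ↥L)) L (supportR L) χ a = c := fun a ha ha1 => by
    rw [← e]
    exact hc a (e ▸ coe_mem_sharp.mpr ⟨ha, ha1⟩)
  have hK1 : fittingHall ↥L ≠ ⊥ := hI.1.2.2.1
  obtain ⟨ξ₀, hξ₀, hdeg⟩ := exists_linear hK1 (OddLocal.fittingHall_spec ↥L).1
  obtain ⟨m, rfl, -⟩ := const_int hD hχ hc' hξ₀ hdeg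
  refine ⟨m, hc, fun ξ hξ => ?_⟩
  rw [e, ← map_intCast (starRingEnd ℂ) m]
  exact inner_vanish_of_const hD (CfsgLib.Char.IsGen.isClassFunction hχ) hc' hξ

open scoped Classical in
/-- The sums over `A₁` of a function with constant value there. -/
theorem sum_typeA1 (hG : IsMinSimpleOddOrder G) (hL : IsCoatom L) {α : Type*} [AddCommGroup α] (v : α) :
    ∑ a : L, (if (a : G) ∈ typeA1 L then v else 0) = (Nat.card (sigmaCore L) - 1) • v := by
  rw [← Finset.sum_filter, Finset.sum_const]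
  congr 1
  have hle := TwoGroups.TauTwo.sigmaCore_le L
  have e : (Finset.univ.filter fun a : L => (a : G) ∈ typeA1 L) =
      (Finset.univ.filter fun a : L => (a : G) ∈ sigmaCore L).erase 1 := by
    ext a; simp [DadeSupport.typeA1_eq hG hL, and_comm]
  rw [e, Finset.card_erase_of_mem (by simp), ← Fintype.card_subtype, ← Nat.card_eq_fintype_card]
  exact congrArg (· - 1) (Nat.card_congr ((subgroupOfEquivOfLe hle).toEquiv))

/-- Inner product with a class function constant off `1` on the kernel. -/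
theorem inner_vanish_class {g : L → ℂ} (hg : IsClassFunction L g) {c : ℂ}
    (hc : ∀ a ∈ K, a ≠ 1 → g a = c) {ξ : IrrCharacter K} (hξ : (ξ : K → ℂ) ≠ fun _ => 1) :
    classInner (vanish ξ) g = -((deg ξ : ℂ) * conj c) := by
  classical
  have := Fintype.ofFinite K
  have h0 : ∑ k : K, (ξ : K → ℂ) k = 0 := by
    have h := classInner_of_irr ξ.2 (trivChar K).2
    rw [if_neg (show (ξ : K → ℂ) ≠ (trivChar K : K → ℂ) from hξ)] at h
    simp only [Cfsg.classInner, mul_eq_zero, inv_eq_zero, Nat.cast_eq_zero, Nat.card_pos.ne', false_or] at h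
    simpa [trivChar] using h
  rw [vanish, classInner_sub_left, classInner_smul_left, frobenius_reciprocity K _ hg,
    frobenius_reciprocity K _ hg, ← classInner_smul_left, ← classInner_sub_left, Cfsg.classInner]
  rw [Finset.sum_congr rfl (g := fun k : K => conj c * ((ξ : K → ℂ) k - (deg ξ : ℂ))) fun k _ => by
    by_cases hk : k = 1
    · subst hk; simp [apply_one_eq_deg]
    · rw [hc k k.2 fun e => hk (Subtype.ext e)]
      simp [mul_comm],
    ← Finset.mul_sum, Finset.sum_sub_distrib, h0, Finset.sum_const, Finset.card_univ, nsmul_eq_mul,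
    ← Nat.card_eq_fintype_card, zero_sub]
  have : (Nat.card K : ℂ) ≠ 0 := Nat.cast_ne_zero.mpr Nat.card_pos.ne'
  field_simp

end CfsgLib.OddLocal.FTFinal
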