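import Cfsg.Agent.Lib.OddLocal.Final.Weights
import Cfsg.Agent.Lib.OddLocal.Final.RhoConst
import Cfsg.Agent.Lib.Char.CyclicTI.Galois
import Cfsg.Agent.S1542

/-!
Owner: helper12. The cyclic TI family on a maximal subgroup of Type I: its members are orthogonal to the
coherent family, so their averages on `A₁(L)` are integers `m ω`, with `m (φψ) = m φ + m ψ − 1` and
invariance under the Galois action.
-/

set_option autoImplicit false
set_option linter.unusedSectionVars false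

open scoped ComplexConjugate

namespace CfsgLib.OddLocal.FTFinal

open Subgroup
open CfsgLib.Char CfsgLib.Char.Exceptional CfsgLib.DadeMap CfsgLib.CyclicTI
open CfsgLib.OddLocal.Frob12 (rho rho_of_mem dade_apply_one)
open Cfsg

variable {G : Type*} [Group G] [Fintype G] {W₁ W₂ L : Subgroup G}

theorem avg_sub (H : G → Subgroup G) (f g : G → ℂ) (a : G) :
    avg H (f - g) a = avg H f a - avg H g a := by
  have := Fintype.ofFinite (H a)
  rw [avg, avg, avg, finsum_coe_subgroup, finsum_coe_subgroup, finsum_coe_subgroup, ← mul_sub,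
    ← Finset.sum_sub_distrib]
  rfl

theorem avg_add (H : G → Subgroup G) (f g : G → ℂ) (a : G) :
    avg H (f + g) a = avg H f a + avg H g a := by
  have := Fintype.ofFinite (H a)
  rw [avg, avg, avg, finsum_coe_subgroup, finsum_coe_subgroup, finsum_coe_subgroup, ← mul_add,
    ← Finset.sum_add_distrib]
  rfl

/-- `R(a)` only depends on the centraliser of `a`. -/
theorem supportR_congr (M : Subgroup G) {a b : G}
    (e : centralizer ({a} : Set G) = centralizer ({b} : Set G)) : supportR M a = supportR M b := by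
  classical
  have key : ∀ C D : Subgroup G, C = D →
      (if h : ¬ C ≤ M ∧ ∃! L : Subgroup G, IsCoatom L ∧ C ≤ L then
        fittingHallOf (Classical.choose h.2.exists) ⊓ C else ⊥) =
      (if h : ¬ D ≤ M ∧ ∃! L : Subgroup G, IsCoatom L ∧ D ≤ L then
        fittingHallOf (Classical.choose h.2.exists) ⊓ D else ⊥) := by
    rintro C _ rfl; rfl
  unfold supportR
  convert key _ _ e

variable (hW : IsSelfNormalizingCyclic W₁ W₂) {χ : (↥(W₁ ⊔ W₂) →* ℂˣ) → (G → ℂ)}
  (hχ : IsCyclicTIFamily W₁ W₂ χ)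

include hW hχ

theorem family_isGen (ω : ↥(W₁ ⊔ W₂) →* ℂˣ) : IsGeneralizedCharacter G (χ ω) := by
  rcases hχ.irr_or_neg ω with h | h
  · exact CfsgLib.Char.IsGen.of_irr h
  · have h1 := CfsgLib.Char.IsGen.neg (CfsgLib.Char.IsGen.of_irr h)
    rwa [neg_neg] at h1

/-- A difference of two orthonormal signed irreducibles vanishing on `Ŵ` has all coefficients zero. -/
theorem inner_eq_zero_of_diff (hodd : Odd (Nat.card ↥(W₁ ⊔ W₂))) {x y : G → ℂ} (hx : SignedIrr x)
    (hy : SignedIrr y) (hxy : classInner x y = 0) (hcl : IsClassFunction G (x - y))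
    (hV : ∀ w : ↥(W₁ ⊔ W₂), (w : G) ∉ W₁ → (w : G) ∉ W₂ → (x - y) w = 0) (ω : ↥(W₁ ⊔ W₂) →* ℂˣ) :
    classInner x (χ ω) = 0 ∧ classInner y (χ ω) = 0 := by
  classical
  set a : (↥(W₁ ⊔ W₂) →* ℂˣ) → ℂ := fun ω => classInner (x - y) (χ ω) with ha
  have hone : ∀ {z : G → ℂ}, SignedIrr z → ∀ ω ω', classInner z (χ ω) ≠ 0 → classInner z (χ ω') ≠ 0 →
      ω = ω' := by
    intro z hz ω ω' h h'
    by_contra hne
    have ho := hχ.orthonormal ω ω'
    rw [if_neg hne] at ho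
    rcases hz.trichotomy (hχ.irr_or_neg ω) with h0 | ⟨e, -⟩ | ⟨e, -⟩
    · exact h h0
    · exact h' (e ▸ ho)
    · exact h' (by rw [e, classInner_neg_left, ho, neg_zero])
  have hsupp : ∀ ω₁ ω₂ ω₃, a ω₁ ≠ 0 → a ω₂ ≠ 0 → a ω₃ ≠ 0 → ω₁ = ω₂ ∨ ω₁ = ω₃ ∨ ω₂ = ω₃ := by
    intro ω₁ ω₂ ω₃ h1 h2 h3
    have key : ∀ ω, a ω ≠ 0 → classInner x (χ ω) ≠ 0 ∨ classInner y (χ ω) ≠ 0 := fun ω h => by
      by_contra hcon
      push Not at hcon
      exact h (by simp [ha, classInner_sub_left, hcon.1, hcon.2])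
    rcases key ω₁ h1 with p | p <;> rcases key ω₂ h2 with q | q <;> rcases key ω₃ h3 with r | r
    all_goals first
      | exact Or.inl (hone hx _ _ p q)
      | exact Or.inl (hone hy _ _ p q)
      | exact Or.inr (Or.inl (hone hx _ _ p r))
      | exact Or.inr (Or.inl (hone hy _ _ p r))
      | exact Or.inr (Or.inr (hone hx _ _ q r))
      | exact Or.inr (Or.inr (hone hy _ _ q r))
  have hrect : ∀ l l' k k', a (inl hW l * inr hW k) + a (inl hW l' * inr hW k') =
      a (inl hW l * inr hW k') + a (inl hW l' * inr hW k) := by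
    intro l l' k k'
    have h := fun l k => inner_relation hW hχ hcl hV (inl_apply_W₂ hW l) (inr_apply_W₁ hW k)
    simp only [ha, h]
    ring
  have hA : ∀ (W : Subgroup G), W ≤ W₁ ⊔ W₂ → ∀ p q : W, p * q = q * p := fun W hle p q =>
    Subtype.ext (congrArg Subtype.val (W_comm hW ⟨p, hle p.2⟩ ⟨q, hle q.2⟩) :)
  have havoid : ∀ (W : Subgroup G), W ≤ W₁ ⊔ W₂ → W ≠ ⊥ → ∀ l₀ l₁ : W →* ℂˣ, ∃ l, l ≠ l₀ ∧ l ≠ l₁ := by
    intro W hle hne l₀ l₁
    have := finite_hom W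
    have := Fintype.ofFinite (W →* ℂˣ)
    obtain ⟨r, hr⟩ := hodd.of_dvd_nat (Subgroup.card_dvd_of_le hle)
    have hn : Nat.card W ≠ 1 := fun h => hne (Subgroup.card_eq_one.mp h)
    have h3 : 2 < (Finset.univ : Finset (W →* ℂˣ)).card := by
      rw [Finset.card_univ, ← Nat.card_eq_fintype_card, card_hom (hA W hle)]; omega
    obtain ⟨l, -, hl⟩ := Finset.exists_mem_notMem_of_card_lt_card
      ((Finset.card_le_two (a := l₀) (b := l₁)).trans_lt h3)
    simp only [Finset.mem_insert, Finset.mem_singleton, not_or] at hl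
    exact ⟨l, hl⟩
  have hzero : ∀ ω, a ω = 0 := by
    intro ω₀
    by_contra h0
    obtain ⟨l₀, k₀, rfl⟩ := exists_eq_mul hW ω₀
    by_cases hex : ∃ ω₁, ω₁ ≠ inl hW l₀ * inr hW k₀ ∧ a ω₁ ≠ 0
    · obtain ⟨ω₁, hne, h1⟩ := hex
      obtain ⟨l₁, k₁, rfl⟩ := exists_eq_mul hW ω₁
      obtain ⟨l, hl0, hl1⟩ := havoid W₁ le_sup_left hW.1 l₀ l₁
      obtain ⟨k, hk0, hk1⟩ := havoid W₂ le_sup_right hW.2.1 k₀ k₁
      have hz : ∀ l' k', (l' = l ∨ k' = k) → a (inl hW l' * inr hW k') = 0 := by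
        intro l' k' hor
        by_contra hc
        rcases hsupp _ _ _ hc h0 h1 with e | e | e
        · obtain ⟨e1, e2⟩ := mul_inj hW e
          exact hor.elim (fun h => hl0 (h ▸ e1)) (fun h => hk0 (h ▸ e2))
        · obtain ⟨e1, e2⟩ := mul_inj hW e
          exact hor.elim (fun h => hl1 (h ▸ e1)) (fun h => hk1 (h ▸ e2))
        · exact hne e.symm
      have h := hrect l₀ l k₀ k
      rw [hz l k (Or.inl rfl), hz l₀ k (Or.inr rfl), hz l k₀ (Or.inl rfl), add_zero, add_zero] at h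
      exact h0 h
    · push Not at hex
      obtain ⟨l, hl0, -⟩ := havoid W₁ le_sup_left hW.1 l₀ l₀
      obtain ⟨k, hk0, -⟩ := havoid W₂ le_sup_right hW.2.1 k₀ k₀
      have hz : ∀ l' k', (l' = l ∨ k' = k) → a (inl hW l' * inr hW k') = 0 := fun l' k' hor => hex _ fun e => by
        obtain ⟨e1, e2⟩ := mul_inj hW e
        exact hor.elim (fun h => hl0 (h ▸ e1)) (fun h => hk0 (h ▸ e2))
      have h := hrect l₀ l k₀ k
      rw [hz l k (Or.inl rfl), hz l₀ k (Or.inr rfl), hz l k₀ (Or.inl rfl), add_zero, add_zero] at h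
      exact h0 h
  have heq : classInner x (χ ω) = classInner y (χ ω) := sub_eq_zero.mp (by rw [← classInner_sub_left]; exact hzero ω)
  suffices h0 : classInner x (χ ω) = 0 from ⟨h0, heq ▸ h0⟩
  by_contra hne
  have hyx : classInner y x = 0 := by rw [← classInner_conj_symm, hxy, map_zero]
  rcases hx.trichotomy (hχ.irr_or_neg ω) with h0 | ⟨e, -⟩ | ⟨e, -⟩
  · exact hne h0
  · exact hne (heq.trans (e ▸ hyx))
  · refine hne (heq.trans ?_)
    rw [e, CfsgLib.CyclicTI.inner_neg_right, neg_eq_zero] at hyx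
    exact hyx

variable [Fintype L] (hG : IsMinSimpleOddOrder G) (hL : IsCoatom L) (hI : IsOfTypeI L)
  (hdis : ∀ g ∈ WhatG W₁ W₂, g ∉ tilde L)

include hG hL hI hdis

/-- The Dade images of `L` vanish on `Ŵ`. -/
theorem dade_zero_What (α : L → ℂ) (w : ↥(W₁ ⊔ W₂)) (hw₁ : (w : G) ∉ W₁) (hw₂ : (w : G) ∉ W₂) :
    dadeIsometry (typeA1 L) L (supportR L) α w = 0 :=
  apply_zero fun h => hdis w ⟨1, w, ⟨w.2, fun h' => h'.elim hw₁ hw₂⟩, by group⟩
    ((mem_tilde_iff hG hL).mpr h)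

/-- The members of the cyclic TI family are orthogonal to the coherent images. -/
theorem inner_coherent_eq_zero {τ₁ : (L → ℂ) → (G → ℂ)}
    (hτ₁ : IsLinearIsometryOn (zspan (inducedIrrAbove (fittingHall ↥L) ⊥)) τ₁)
    (hext : ∀ α ∈ zspanOn (inducedIrrAbove (fittingHall ↥L) ⊥) ({1}ᶜ : Set L),
      τ₁ α = dadeIsometry (typeA L) L (supportR L) α) :
    ∀ φ ∈ inducedIrrAbove (fittingHall ↥L) ⊥, ∀ ω, classInner (τ₁ φ) (χ ω) = 0 := by
  classical
  intro φ hφ ω
  have hfrob := Cfsg.Agent.S1540.result hG L hL hI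
  have hirr := (Cfsg.Agent.S1542.result hG L hL hI hfrob).1
  have hφc := Coh.closed_conj (K := fittingHall ↥L) ⊥ φ hφ
  have hoddL : Odd (Nat.card L) := hG.1.of_dvd_nat L.card_subgroup_dvd_card
  obtain ⟨θ, hθ, h1, -, e⟩ := hφ
  have := Fintype.ofFinite (fittingHall ↥L)
  have horth : classInner (conjFun φ) φ = 0 := by
    rw [e]
    exact CfsgLib.Clifford.classInner_conj_indFun_eq_zero inferInstance hoddL hθ h1
  have hφ' : φ ∈ inducedIrrAbove (fittingHall ↥L) ⊥ := ⟨θ, hθ, h1, fun a ha => by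
    rw [show a = 1 from Subtype.ext (mem_bot.mp ha)], e⟩
  have hdeg : φ 1 = conjFun φ 1 := by
    obtain ⟨n, -, hn⟩ := IsIrr.exists_degree (hirr φ hφ')
    simp [conjFun, hn]
  have hsigned : ∀ ψ ∈ inducedIrrAbove (fittingHall ↥L) ⊥, SignedIrr (τ₁ ψ) := fun ψ hψ =>
    IsGen.norm_one' (hτ₁.2.2.2 ψ (mem_zspan_self hψ))
      (by rw [hτ₁.2.2.1 ψ (mem_zspan_self hψ) ψ (mem_zspan_self hψ), classInner_self_of_irr (hirr ψ hψ)])
  have hxy : classInner (τ₁ φ) (τ₁ (conjFun φ)) = 0 := by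
    rw [hτ₁.2.2.1 φ (mem_zspan_self hφ') _ (mem_zspan_self hφc), ← classInner_conj_symm, horth, map_zero]
  have hmem := sub_mem_zspanOn_one hφ' hφc hdeg
  have hd : τ₁ φ - τ₁ (conjFun φ) = dadeIsometry (typeA1 L) L (supportR L) (φ - conjFun φ) := by
    have h := hτ₁.1 _ hmem.1 _ (mem_zspan_self hφc)
    rw [sub_add_cancel] at h
    rw [← typeA_eq_typeA1 hG hL hI, ← hext _ hmem, h, add_sub_cancel_right]
  refine (inner_eq_zero_of_diff hW hχ (hG.1.of_dvd_nat (card_subgroup_dvd_card _)) (hsigned φ hφ')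
    (hsigned _ hφc) hxy ?_ (fun w hw₁ hw₂ => ?_) ω).1
  · exact CfsgLib.Char.IsGen.isClassFunction (CfsgLib.Char.IsGen.sub (hτ₁.2.2.2 φ (mem_zspan_self hφ'))
      (hτ₁.2.2.2 _ (mem_zspan_self hφc)))
  · rw [hd]; exact dade_zero_What hW hχ hG hL hI hdis _ w hw₁ hw₂

/-- The constants of the family on `A₁(L)`. -/
theorem exists_const : ∃ m : (↥(W₁ ⊔ W₂) →* ℂˣ) → ℤ, m 1 = 1 ∧
    (∀ ω, ∀ a : L, (a : G) ∈ typeA1 L → rho (typeA1 L) L (supportR L) (χ ω) a = m ω) ∧
    (∀ ω, ∀ ξ : IrrCharacter (fittingHall ↥L), (ξ : fittingHall ↥L → ℂ) ≠ (fun _ => 1) →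
      classInner (dadeIsometry (typeA1 L) L (supportR L) (Frob12.vanish ξ)) (χ ω) =
        -((Frob12.deg ξ : ℂ) * m ω)) := by
  classical
  have hfrob := Cfsg.Agent.S1540.result hG L hL hI
  obtain ⟨-, -, τ₁, hτ₁, hext⟩ := Cfsg.Agent.S1542.result hG L hL hI hfrob
  have horth : ∀ ω, ∀ α ∈ zspanOn (inducedIrrAbove (fittingHall ↥L) ⊥) ({1}ᶜ : Set L),
      classInner (dadeIsometry (typeA L) L (supportR L) α) (χ ω) = 0 := fun ω =>
    orth_of_orth_coherent hτ₁ hext fun φ hφ => inner_coherent_eq_zero hW hχ hG hL hI hdis hτ₁ hext φ hφ ω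
  choose m hm hv using fun ω => const_typeOne hG hL hI (family_isGen hW hχ ω) (horth ω)
  refine ⟨m, ?_, hm, hv⟩
  have hne : ∃ a, a ∈ typeA1 L := by
    rw [DadeSupport.typeA1_eq hG hL]
    obtain ⟨a, ha, ha1⟩ := (bot_or_exists_ne_one _).resolve_left (TwoGroups.TauTwo.sigmaCore_ne_bot hG hL)
    exact ⟨a, ha, ha1⟩
  obtain ⟨a, ha⟩ := hne
  have haL := (dade_A1 hG hL).subset ha
  have h := hm 1 ⟨a, haL⟩ ha
  rw [rho_of_mem ha, hχ.map_one, avg_one] at h
  exact_mod_cast h.symm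

variable {m : (↥(W₁ ⊔ W₂) →* ℂˣ) → ℤ}
  (hm : ∀ ω, ∀ a : L, (a : G) ∈ typeA1 L → rho (typeA1 L) L (supportR L) (χ ω) a = m ω)

include hm

theorem exists_mem_A1 : ∃ a : L, (a : G) ∈ typeA1 L := by
  obtain ⟨a, ha, ha1⟩ := (bot_or_exists_ne_one _).resolve_left (TwoGroups.TauTwo.sigmaCore_ne_bot hG hL)
  exact ⟨⟨a, TwoGroups.TauTwo.sigmaCore_le L ha⟩, by rw [DadeSupport.typeA1_eq hG hL]; exact ⟨ha, ha1⟩⟩

/-- `c = a + b − 1`. -/
theorem const_rel (hm1 : m 1 = 1) {φ ψ : ↥(W₁ ⊔ W₂) →* ℂˣ} (hφ : ∀ w : ↥(W₁ ⊔ W₂), (w : G) ∈ W₂ → φ w = 1)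
    (hψ : ∀ w : ↥(W₁ ⊔ W₂), (w : G) ∈ W₁ → ψ w = 1) : m (φ * ψ) = m φ + m ψ - 1 := by
  classical
  by_cases h1 : φ = 1
  · rw [h1, hom_one_mul, hm1]; ring
  by_cases h2 : ψ = 1
  · rw [h2, hom_mul_one, hm1]; ring
  obtain ⟨a, ha⟩ := exists_mem_A1 hW hχ hG hL hI hdis hm
  have e : indFun (W₁ ⊔ W₂) (alpha φ ψ) = χ 1 - χ φ - χ ψ + χ (φ * ψ) := by
    refine (hχ.induced_eq φ ψ h1 h2 hφ hψ).trans ?_
    funext g
    simp [hχ.map_one]
  have h0 : avg (supportR L) (indFun (W₁ ⊔ W₂) (alpha φ ψ)) (a : G) = 0 := by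
    have := Fintype.ofFinite (supportR L (a : G))
    rw [avg, finsum_coe_subgroup, Finset.sum_eq_zero, mul_zero]
    intro u _
    refine indFun_eq_zero_of_support (S := What W₁ W₂) (fun w hw => alpha_eq_zero hφ hψ ?_) fun y hy => ?_
    · by_contra hc
      push Not at hc
      exact hw ⟨w.2, fun h' => h'.elim hc.1 hc.2⟩
    · exact hdis ((a : G) * u) ⟨y, _, hy, by group⟩ ⟨(a : G), ha, u, u.2, 1, by group⟩
  have hav : ∀ ω, avg (supportR L) (χ ω) (a : G) = m ω := fun ω => by rw [← hm ω a ha, rho_of_mem ha]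
  rw [e, avg_add, avg_sub, avg_sub, hav, hav, hav, hav, hm1] at h0
  have h : ((m (φ * ψ) - (m φ + m ψ - 1) : ℤ) : ℂ) = 0 := by push_cast at h0 ⊢; linear_combination h0
  exact sub_eq_zero.mp (Int.cast_eq_zero.mp h)

/-- Galois invariance. -/
theorem const_pow {k : ℕ} (hk : k.Coprime (Nat.card G)) (ω : ↥(W₁ ⊔ W₂) →* ℂˣ) : m (ω ^ k) = m ω := by
  classical
  obtain ⟨a, ha⟩ := exists_mem_A1 hW hχ hG hL hI hdis hm
  have ha' : ((a ^ k : L) : G) ∈ typeA1 L := by
    rw [DadeSupport.typeA1_eq hG hL] at ha ⊢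
    refine ⟨pow_mem ha.1 k, fun e => ha.2 ?_⟩
    exact (powCoprime hk.symm).injective
      (show (a : G) ^ k = (1 : G) ^ k by rw [one_pow]; exact (Set.mem_singleton_iff.mp e))
  have hR : supportR L ((a ^ k : L) : G) = supportR L (a : G) := by
    refine supportR_congr L (le_antisymm ?_ ?_)
    · obtain ⟨n, hn⟩ := exists_pow_eq_self_of_coprime (x := (a : G)) (n := k)
        (hk.coprime_dvd_right (orderOf_dvd_natCard _))
      intro g hg
      rw [mem_centralizer_singleton_iff] at hg ⊢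
      have h := (show Commute g ((a ^ k : L) : G) from hg).pow_right n
      rw [SubgroupClass.coe_pow, hn] at h
      exact h.eq
    · intro g hg
      rw [mem_centralizer_singleton_iff] at hg ⊢
      rw [SubgroupClass.coe_pow]
      exact ((show Commute g (a : G) from hg).pow_right k).eq
  have h1 := hm (ω ^ k) a ha
  have h2 := hm ω (a ^ k) ha'
  rw [rho_of_mem ha, ← apply_pow hW hχ (hG.1.of_dvd_nat (card_subgroup_dvd_card _)) hk ω] at h1
  rw [rho_of_mem ha'] at h2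
  have hav : avg (supportR L) (fun g => χ ω (g ^ k)) (a : G) = avg (supportR L) (χ ω) ((a ^ k : L) : G) := by
    have := Fintype.ofFinite (supportR L (a : G))
    have := Fintype.ofFinite (supportR L ((a ^ k : L) : G))
    rw [avg, avg, finsum_coe_subgroup, finsum_coe_subgroup,
      show Nat.card (supportR L ((a ^ k : L) : G)) = Nat.card (supportR L (a : G)) from by rw [hR]]
    refine congrArg _ (Fintype.sum_equiv
      ((powCoprime ((hk.coprime_dvd_right (Subgroup.card_subgroup_dvd_card (supportR L (a : G)))).symm)).trans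
        (Equiv.setCongr (congrArg SetLike.coe hR.symm))) _ _ fun u => ?_)
    show χ ω (((a : G) * u) ^ k) = χ ω (((a ^ k : L) : G) * ((u ^ k : supportR L (a : G)) : G))
    have hc : Commute (a : G) u :=
      (mem_centralizer_singleton_iff.mp ((dade_A1 hG hL).le_centralizer _ ha u.2)).symm
    rw [hc.mul_pow]
    simp
  rw [hav, h2] at h1
  exact_mod_cast h1.symm

omit hm in
open scoped Classical in
/-- `Σ_ω m(ω)² ≤ e`, the index of `L_F` in `L`. -/
theorem sum_sq_const_le [Fintype (↥(W₁ ⊔ W₂) →* ℂˣ)] {m : (↥(W₁ ⊔ W₂) →* ℂˣ) → ℤ}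
    (hv : ∀ ω, ∀ ξ : IrrCharacter (fittingHall ↥L), (ξ : fittingHall ↥L → ℂ) ≠ (fun _ => 1) →
      classInner (dadeIsometry (typeA1 L) L (supportR L) (Frob12.vanish ξ)) (χ ω) =
        -((Frob12.deg ξ : ℂ) * m ω)) :
    ∑ ω, (m ω) ^ 2 ≤ ((fittingHall ↥L).index : ℤ) := by
  have hfrob := Cfsg.Agent.S1540.result hG L hL hI
  obtain ⟨hirr, -, τ₁, hτ₁, hext⟩ := Cfsg.Agent.S1542.result hG L hL hI hfrob
  set K := fittingHall ↥L with hKdef
  have := Fintype.ofFinite K
  have hoddL : Odd (Nat.card L) := hG.1.of_dvd_nat L.card_subgroup_dvd_card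
  have hK1 : K ≠ ⊥ := hI.1.2.2.1
  obtain ⟨ξ, hξ, hdeg⟩ := exists_linear hK1 (OddLocal.fittingHall_spec ↥L).1
  set φ := indFun K (ξ : K → ℂ) with hφdef
  have hφ : φ ∈ inducedIrrAbove K ⊥ :=
    ⟨ξ, ξ.2, hξ, fun a ha => by rw [show a = 1 from Subtype.ext (mem_bot.mp ha)], rfl⟩
  have hφc : conjFun φ ∈ inducedIrrAbove K ⊥ := Coh.closed_conj (K := K) ⊥ φ hφ
  have e := typeA1_eq_sharp hG hL hI
  have hD : DadeHypothesis (Frob12.sharp K) L (supportR L) := e ▸ dade_A1 hG hL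
  set V := dadeIsometry (typeA1 L) L (supportR L) (Frob12.vanish ξ) with hV
  have hVτ : V = Frob12.tau K (supportR L) (Frob12.vanish ξ) := by rw [hV, e]
  have hVgen : IsGeneralizedCharacter G V := hVτ ▸ Frob12.tau_gen hD (Frob12.supp_vanish ξ)
  have hone : indFun K (trivChar K : K → ℂ) = indFun K (fun _ => 1) := rfl
  have h1φ : classInner (indFun K (fun _ : K => (1 : ℂ))) φ = 0 := by
    rw [← classInner_conj_symm, ← hone, Frob12.inner_ind_triv (fun h => hξ (by rw [h]; rfl)), map_zero]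
  have hφ1 : classInner φ (indFun K (fun _ : K => (1 : ℂ))) = 0 := by
    rw [← hone]; exact Frob12.inner_ind_triv (fun h => hξ (by rw [h]; rfl))
  have horth : classInner (conjFun φ) φ = 0 :=
    CfsgLib.Clifford.classInner_conj_indFun_eq_zero inferInstance hoddL ξ.2 hξ
  have h1φc : classInner (indFun K (fun _ : K => (1 : ℂ))) (conjFun φ) = 0 := by
    obtain ⟨η, hη, hη1, -, he⟩ := hφc
    rw [he, ← classInner_conj_symm, ← hone,
      Frob12.inner_ind_triv (ξ := (⟨η, hη⟩ : IrrCharacter K)) (fun h => hη1 (congrArg Subtype.val h)), map_zero]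
  have hφφ : classInner φ φ = 1 := classInner_self_of_irr (hirr φ hφ)
  have hφφc : classInner φ (conjFun φ) = 0 := by rw [← classInner_conj_symm, horth, map_zero]
  have hφdeg : φ 1 = conjFun φ 1 := by
    obtain ⟨n, -, hn⟩ := IsIrr.exists_degree (hirr φ hφ)
    simp [conjFun, hn]
  have hmem := sub_mem_zspanOn_one hφ hφc hφdeg
  have hdiff : classInner V (τ₁ φ) - classInner V (τ₁ (conjFun φ)) = 1 := by
    have h := hτ₁.1 _ hmem.1 _ (mem_zspan_self hφc)
    rw [sub_add_cancel] at h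
    have hd : τ₁ φ - τ₁ (conjFun φ) = Frob12.tau K (supportR L) (φ - conjFun φ) := by
      rw [h, add_sub_cancel_right, hext _ hmem, typeA_eq_typeA1 hG hL hI, e]
    have hcl : IsClassFunction L (φ - conjFun φ) := CfsgLib.Char.IsGen.isClassFunction
      (CfsgLib.Char.IsGen.sub (CfsgLib.Char.IsGen.of_irr (hirr φ hφ)) (CfsgLib.Char.IsGen.of_irr (hirr _ hφc)))
    rw [← classInner_sub_right, hd, hVτ, Frob12.dade_isometry hD (Frob12.supp_vanish ξ).cls
      (Frob12.supp_vanish ξ).zero_off hcl, Frob12.vanish, classInner_sub_left, classInner_smul_left,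
      classInner_sub_right, classInner_sub_right, ← hφdef, hφφ, hφφc, h1φ, h1φc]
    ring
  obtain ⟨ψ, hψ, hne⟩ : ∃ ψ ∈ inducedIrrAbove K ⊥, classInner V (τ₁ ψ) ≠ 0 := by
    by_contra hc
    push Not at hc
    rw [hc φ hφ, hc _ hφc, sub_zero] at hdiff
    exact zero_ne_one hdiff
  obtain ⟨z, hz⟩ := CfsgLib.Char.IsGen.exists_classInner_eq_intCast hVgen (hτ₁.2.2.2 ψ (mem_zspan_self hψ))
  let u : Option (↥(W₁ ⊔ W₂) →* ℂˣ) → G → ℂ := fun o => o.elim (τ₁ ψ) χ
  let b : Option (↥(W₁ ⊔ W₂) →* ℂˣ) → ℂ := fun o => o.elim (z : ℂ) fun ω => -(m ω : ℂ)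
  have hb := Frob12.bessel (Finset.univ : Finset (Option (↥(W₁ ⊔ W₂) →* ℂˣ))) u V b (fun _ => 1)
    (fun i _ j _ hij => by
      rcases i with _ | ω <;> rcases j with _ | ω'
      · exact absurd rfl hij
      · exact inner_coherent_eq_zero hW hχ hG hL hI hdis hτ₁ hext ψ hψ ω'
      · show classInner (χ ω) (τ₁ ψ) = 0
        rw [← classInner_conj_symm, inner_coherent_eq_zero hW hχ hG hL hI hdis hτ₁ hext ψ hψ ω, map_zero]
      · exact (hχ.orthonormal ω ω').trans (if_neg fun h => hij (congrArg some h)))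
    (fun i _ => by
      rcases i with _ | ω
      · show classInner (τ₁ ψ) (τ₁ ψ) = ((1 : ℝ) : ℂ)
        rw [hτ₁.2.2.1 ψ (mem_zspan_self hψ) ψ (mem_zspan_self hψ), classInner_self_of_irr (hirr ψ hψ),
          Complex.ofReal_one]
      · show classInner (χ ω) (χ ω) = ((1 : ℝ) : ℂ)
        rw [hχ.orthonormal, if_pos rfl, Complex.ofReal_one])
    (fun i _ => by
      rcases i with _ | ω
      · exact hz
      · show classInner V (χ ω) = -(m ω : ℂ)
        rw [hv ω ξ hξ, hdeg, Nat.cast_one, one_mul])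
  have hnorm : (classInner V V).re = 1 + (K.index : ℝ) := by
    have hii : classInner (indFun K (fun _ : K => (1 : ℂ))) (indFun K (fun _ => 1)) = (K.index : ℂ) := by
      have h := CfsgLib.Clifford.card_mul_classInner_indFun (inferInstance : K.Normal) (trivChar K).2
      rw [hone] at h
      refine mul_left_cancel₀ (Nat.cast_ne_zero.mpr Nat.card_pos.ne' : (Nat.card K : ℂ) ≠ 0) (h.trans ?_)
      rw [← Nat.cast_mul, Subgroup.card_mul_index]
      exact congrArg (fun n : ℕ => (n : ℂ)) (Nat.card_congr (Equiv.subtypeUnivEquiv fun g => rfl))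
    rw [hVτ, Frob12.tau_isometry hD (Frob12.supp_vanish ξ) (Frob12.supp_vanish ξ), Frob12.vanish, hdeg,
      Nat.cast_one, one_smul, ← hφdef, classInner_sub_left, classInner_sub_right, classInner_sub_right,
      hφφ, hφ1, h1φ, hii]
    simp
  rw [hnorm, Fintype.sum_option] at hb
  simp only [div_one, b, Option.elim_none, Option.elim_some, Complex.normSq_intCast, map_neg,
    Complex.normSq_neg] at hb
  have hz1 : (1 : ℝ) ≤ (z : ℝ) * z := by
    have hz0 : z ≠ 0 := fun h => hne (by rw [hz, h, Int.cast_zero])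
    exact_mod_cast (show (1 : ℤ) ≤ z * z from by nlinarith [Int.one_le_abs hz0, abs_mul_abs_self z])
  have hfin : ((∑ ω, (m ω) ^ 2 : ℤ) : ℝ) ≤ (((K.index : ℤ)) : ℝ) := by
    push_cast
    simp only [sq]
    linarith
  exact_mod_cast hfin

end CfsgLib.OddLocal.FTFinal
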