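import Cfsg.Agent.Lib.OddLocal.Final.Setup
import Cfsg.Agent.Lib.OddLocal.Final.Eta
import Cfsg.Agent.Lib.Char.Coherence.NoPartition

/-!
Owner: helper12. A maximal subgroup `L` of Type I of the final configuration (blueprint L5 (5a)-(5d)):
`x_L = τ₁ φ`, `v_L = τ (Ind 1 − φ)` for a fixed linear member, the real correction `f_L = v_L + x_L − 1`,
the integers `⟨v_L, η⟩`, the residual bound for `x_L` and the parity principle.
-/

set_option autoImplicit false
set_option linter.unusedSectionVars false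

open scoped ComplexConjugate

namespace CfsgLib.OddLocal.FTFinal

open Subgroup
open CfsgLib.Char CfsgLib.Char.Exceptional CfsgLib.DadeMap CfsgLib.CyclicTI
open CfsgLib.OddLocal.Frob12 (rho vanish deg)
open CfsgLib.Clifford (indFun_eq_zero_off_normal)
open Cfsg

variable {G : Type*} [Group G] [Fintype G]

theorem conjFun_dade {A : Set G} {L : Subgroup G} {R : G → Subgroup G} (α : L → ℂ) :
    conjFun (dadeIsometry A L R α) = dadeIsometry A L R (conjFun α) := by
  classical
  funext g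
  simp only [conjFun, dadeIsometry]
  split_ifs <;> simp

theorem conjFun_conjFun' {X : Type*} (f : X → ℂ) : conjFun (conjFun f) = f :=
  funext fun _ => Complex.conj_conj _

/-- The data attached to a maximal subgroup of Type I: coherence and a fixed linear member. -/
structure OneData (L : Subgroup G) [Fintype L] where
  τ₁ : (L → ℂ) → (G → ℂ)
  isometry : IsLinearIsometryOn (zspan (inducedIrrAbove (fittingHall ↥L) ⊥)) τ₁
  ext : ∀ α ∈ zspanOn (inducedIrrAbove (fittingHall ↥L) ⊥) ({1}ᶜ : Set L),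
    τ₁ α = dadeIsometry (typeA L) L (supportR L) α
  ξ : IrrCharacter (fittingHall ↥L)
  ξ_ne : (ξ : fittingHall ↥L → ℂ) ≠ fun _ => 1
  ξ_deg : deg ξ = 1

theorem exists_oneData (hG : IsMinSimpleOddOrder G) {L : Subgroup G} [Fintype L] (hL : IsCoatom L)
    (hI : IsOfTypeI L) : Nonempty (OneData L) := by
  obtain ⟨-, -, τ₁, h1, h2⟩ := Cfsg.Agent.S1542.result hG L hL hI (Cfsg.Agent.S1540.result hG L hL hI)
  obtain ⟨ξ, hξ, hd⟩ := exists_linear (K := fittingHall ↥L) hI.1.2.2.1 (OddLocal.fittingHall_spec ↥L).1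
  exact ⟨⟨τ₁, h1, h2, ξ, hξ, hd⟩⟩

variable {L : Subgroup G} [Fintype L]

namespace OneData

variable (d : OneData L)

/-- `φ`, a member of degree `e`. -/
noncomputable def φ : L → ℂ := indFun (fittingHall ↥L) (d.ξ : fittingHall ↥L → ℂ)

/-- `x_L`. -/
noncomputable def x : G → ℂ := d.τ₁ d.φ

/-- `v_L = τ (Ind 1 − φ)`. -/
noncomputable def v : G → ℂ := -dadeIsometry (typeA1 L) L (supportR L) (vanish d.ξ)

/-- The real correction `f_L = v_L + x_L − 1`. -/
noncomputable def f : G → ℂ := d.v + d.x - fun _ => 1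

theorem vanish_eq : vanish d.ξ = d.φ - indFun (fittingHall ↥L) (fun _ => (1 : ℂ)) := by
  rw [vanish, d.ξ_deg, Nat.cast_one, one_smul, φ]

theorem φ_mem : d.φ ∈ inducedIrrAbove (fittingHall ↥L) ⊥ :=
  ⟨d.ξ, d.ξ.2, d.ξ_ne, fun a ha => by rw [show a = 1 from Subtype.ext (mem_bot.mp ha)], rfl⟩

theorem φc_mem : conjFun d.φ ∈ inducedIrrAbove (fittingHall ↥L) ⊥ :=
  Coh.closed_conj (K := fittingHall ↥L) ⊥ _ d.φ_mem

theorem φ_apply_one : d.φ 1 = ((fittingHall ↥L).index : ℂ) := by
  have := Fintype.ofFinite (fittingHall ↥L)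
  rw [φ, indFun_apply_one, Frob12.apply_one_eq_deg, d.ξ_deg, Nat.cast_one, mul_one]

variable (hG : IsMinSimpleOddOrder G) (hL : IsCoatom L) (hI : IsOfTypeI L)

include hG hL hI

theorem mem_irr {ψ : L → ℂ} (h : ψ ∈ inducedIrrAbove (fittingHall ↥L) ⊥) : IsIrrCharacter L ψ :=
  (Cfsg.Agent.S1542.result hG L hL hI (Cfsg.Agent.S1540.result hG L hL hI)).1 ψ h

theorem dade : DadeHypothesis (Frob12.sharp (fittingHall ↥L)) L (supportR L) :=
  typeA1_eq_sharp hG hL hI ▸ dade_A1 hG hL

theorem tau_eq (α : L → ℂ) :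
    dadeIsometry (typeA1 L) L (supportR L) α = Frob12.tau (fittingHall ↥L) (supportR L) α := by
  rw [typeA1_eq_sharp hG hL hI]

theorem x_signed : SignedIrr d.x := by
  refine IsGen.norm_one' (d.isometry.2.2.2 _ (mem_zspan_self d.φ_mem)) ?_
  rw [x, d.isometry.2.2.1 _ (mem_zspan_self d.φ_mem) _ (mem_zspan_self d.φ_mem),
    classInner_self_of_irr (mem_irr hG hL hI d.φ_mem)]

theorem x_gen : IsGeneralizedCharacter G d.x := d.isometry.2.2.2 _ (mem_zspan_self d.φ_mem)

theorem x_norm : classInner d.x d.x = 1 := by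
  rw [x, d.isometry.2.2.1 _ (mem_zspan_self d.φ_mem) _ (mem_zspan_self d.φ_mem),
    classInner_self_of_irr (mem_irr hG hL hI d.φ_mem)]

theorem v_gen : IsGeneralizedCharacter G d.v := by
  rw [v, tau_eq hG hL hI]
  exact CfsgLib.Char.IsGen.neg (Frob12.tau_gen (dade hG hL hI) (Frob12.supp_vanish d.ξ))

theorem v_zero {g : G} (hg : g ∉ tilde L) : d.v g = 0 := by
  rw [v, Pi.neg_apply, apply_zero fun h => hg ((mem_tilde_iff hG hL).mpr h), neg_zero]

theorem v_one : classInner d.v (fun _ => 1) = 1 := by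
  have h := inner_vanish_of_const (dade hG hL hI) (χ := fun _ : G => (1 : ℂ)) (fun _ _ => rfl) (c := 1)
    (fun a ha ha1 => by rw [Frob12.rho_of_mem (Frob12.coe_mem_sharp.mpr ⟨ha, ha1⟩), avg_one]) d.ξ_ne
  rw [v, classInner_neg_left, tau_eq hG hL hI, h, d.ξ_deg]
  simp

theorem φ_inner_conj : classInner d.φ (conjFun d.φ) = 0 := by
  have := Fintype.ofFinite (fittingHall ↥L)
  rw [← classInner_conj_symm]
  have h : classInner (conjFun d.φ) d.φ = 0 :=
    CfsgLib.Clifford.classInner_conj_indFun_eq_zero inferInstance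
      (hG.1.of_dvd_nat L.card_subgroup_dvd_card) d.ξ.2 d.ξ_ne
  rw [h, map_zero]

theorem diff_mem : d.φ - conjFun d.φ ∈ zspanOn (inducedIrrAbove (fittingHall ↥L) ⊥) ({1}ᶜ : Set L) := by
  refine sub_mem_zspanOn_one d.φ_mem d.φc_mem ?_
  simp [conjFun, d.φ_apply_one]

theorem x_sub : d.x - d.τ₁ (conjFun d.φ) = dadeIsometry (typeA1 L) L (supportR L) (d.φ - conjFun d.φ) := by
  have h := d.isometry.1 _ (d.diff_mem hG hL hI).1 _ (mem_zspan_self d.φc_mem)
  rw [sub_add_cancel] at h
  rw [← typeA_eq_typeA1 hG hL hI, ← d.ext _ (d.diff_mem hG hL hI), x, h, add_sub_cancel_right]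

/-- `τ₁` commutes with complex conjugation at `φ`. -/
theorem τ₁_conj : d.τ₁ (conjFun d.φ) = conjFun d.x := by
  set y := d.τ₁ (conjFun d.φ) with hy
  have hys : SignedIrr y := by
    refine IsGen.norm_one' (d.isometry.2.2.2 _ (mem_zspan_self d.φc_mem)) ?_
    rw [d.isometry.2.2.1 _ (mem_zspan_self d.φc_mem) _ (mem_zspan_self d.φc_mem),
      classInner_self_of_irr (mem_irr hG hL hI d.φc_mem)]
  have hxs := d.x_signed hG hL hI
  have hxc : SignedIrr (conjFun d.x) := by
    rcases hxs with h | h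
    · exact Or.inl (Exceptional.IsIrr.conjFun h)
    · refine Or.inr ?_
      rw [show -conjFun d.x = conjFun (-d.x) from funext fun g => by simp [conjFun]]
      exact Exceptional.IsIrr.conjFun h
  have hxy : classInner d.x y = 0 := by
    rw [hy, x, d.isometry.2.2.1 _ (mem_zspan_self d.φ_mem) _ (mem_zspan_self d.φc_mem), d.φ_inner_conj hG hL hI]
  have hc : conjFun d.x - conjFun y = y - d.x := by
    have h1 : conjFun (d.x - y) = conjFun d.x - conjFun y := funext fun g => by simp [conjFun]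
    rw [← h1, hy, d.x_sub hG hL hI, conjFun_dade,
      show conjFun (d.φ - conjFun d.φ) = -(d.φ - conjFun d.φ) from funext fun l => by
        simp [conjFun],
      show dadeIsometry (typeA1 L) L (supportR L) (-(d.φ - conjFun d.φ)) =
        -dadeIsometry (typeA1 L) L (supportR L) (d.φ - conjFun d.φ) from by
          rw [← neg_one_smul ℂ, Frob12.dade_smul, neg_one_smul],
      ← d.x_sub hG hL hI, neg_sub]
  have hci : ∀ u w : G → ℂ, classInner (conjFun u) (conjFun w) = conj (classInner u w) := fun u w => by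
    simp [classInner, conjFun, map_sum]
  have hyx : classInner y d.x = 0 := by rw [← classInner_conj_symm, hxy, map_zero]
  have hkey : classInner y (conjFun d.x) - classInner d.x (conjFun d.x) = 1 := by
    rw [← classInner_sub_left, ← hc, classInner_sub_left, hci, hci, d.x_norm hG hL hI, hyx]
    simp
  have h0 : classInner d.x (conjFun d.x) = 0 := by
    rcases hxs.trichotomy hxc with h | ⟨e, h⟩ | ⟨e, -⟩
    · exact h
    · exfalso
      rw [h, ← e, ← classInner_conj_symm, hxy, map_zero, zero_sub] at hkey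
      norm_num at hkey
    · exfalso
      have h1 := congrArg Complex.re (congrFun e 1)
      simp only [Pi.neg_apply, conjFun, Complex.neg_re, Complex.conj_re] at h1
      rcases d.x_signed hG hL hI with h | h
      · have := apply_one_re_pos h; linarith
      · have := apply_one_re_pos h; rw [Pi.neg_apply, Complex.neg_re] at this; linarith
  rw [h0, sub_zero] at hkey
  rcases hys.trichotomy hxc with h | ⟨e, -⟩ | ⟨-, h⟩
  · rw [h] at hkey; exact absurd hkey zero_ne_one
  · exact e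
  · rw [h] at hkey; norm_num at hkey

theorem x_orth_conj : classInner d.x (conjFun d.x) = 0 := by
  rw [← d.τ₁_conj hG hL hI, x, d.isometry.2.2.1 _ (mem_zspan_self d.φ_mem) _ (mem_zspan_self d.φc_mem),
    d.φ_inner_conj hG hL hI]

/-- (5a): `f_L` is real. -/
theorem f_real : conjFun d.f = d.f := by
  have h : conjFun d.v = d.v + d.x - conjFun d.x := by
    have hD : dadeIsometry (typeA1 L) L (supportR L) (conjFun (vanish d.ξ)) =
        dadeIsometry (typeA1 L) L (supportR L) (vanish d.ξ) - (d.x - conjFun d.x) := by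
      rw [← d.τ₁_conj hG hL hI, d.x_sub hG hL hI, ← Frob12.dade_sub]
      congr 1
      have hone : conjFun (indFun (fittingHall ↥L) (fun _ => (1 : ℂ))) =
          indFun (fittingHall ↥L) (fun _ => 1) := by
        rw [Coh.conjFun_indFun]; simp
      rw [d.vanish_eq, show conjFun (d.φ - indFun (fittingHall ↥L) (fun _ => (1 : ℂ))) =
        conjFun d.φ - conjFun (indFun (fittingHall ↥L) (fun _ => (1 : ℂ))) from
          funext fun l => by simp [conjFun], hone]
      abel
    rw [show conjFun d.v = -conjFun (dadeIsometry (typeA1 L) L (supportR L) (vanish d.ξ)) from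
      funext fun g => by simp [v, conjFun], conjFun_dade, hD, v]
    abel
  rw [f, show conjFun (d.v + d.x - fun _ => (1 : ℂ)) = conjFun d.v + conjFun d.x - fun _ => (1 : ℂ) from
    funext fun g => by simp [conjFun], h]
  abel

theorem v_norm : classInner d.v d.v = ((fittingHall ↥L).index : ℂ) + 1 := by
  classical
  have := Fintype.ofFinite (fittingHall ↥L)
  set K := fittingHall ↥L with hK
  have hone : indFun K (trivChar K : K → ℂ) = indFun K (fun _ => 1) := rfl
  have hφ1 : classInner d.φ (indFun K (fun _ : K => (1 : ℂ))) = 0 := by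
    rw [← hone]; exact Frob12.inner_ind_triv (fun h => d.ξ_ne (by rw [h]; rfl))
  have h1φ : classInner (indFun K (fun _ : K => (1 : ℂ))) d.φ = 0 := by
    rw [← classInner_conj_symm, hφ1, map_zero]
  have hii : classInner (indFun K (fun _ : K => (1 : ℂ))) (indFun K (fun _ => 1)) = (K.index : ℂ) := by
    have h := CfsgLib.Clifford.card_mul_classInner_indFun (inferInstance : K.Normal) (trivChar K).2
    rw [hone] at h
    refine mul_left_cancel₀ (Nat.cast_ne_zero.mpr Nat.card_pos.ne' : (Nat.card K : ℂ) ≠ 0) (h.trans ?_)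
    rw [← Nat.cast_mul, Subgroup.card_mul_index]
    exact congrArg (fun n : ℕ => (n : ℂ)) (Nat.card_congr (Equiv.subtypeUnivEquiv fun g => rfl))
  rw [v, classInner_neg_left, CfsgLib.CyclicTI.inner_neg_right, neg_neg, tau_eq hG hL hI,
    Frob12.tau_isometry (dade hG hL hI) (Frob12.supp_vanish _) (Frob12.supp_vanish _), d.vanish_eq,
    classInner_sub_left, classInner_sub_right, classInner_sub_right, hφ1, h1φ, hii,
    classInner_self_of_irr (mem_irr hG hL hI d.φ_mem)]
  ring

end OneData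

/-- At least `2 e` non-identity elements in the kernel. -/
theorem two_index_le (hG : IsMinSimpleOddOrder G) (hL : IsCoatom L) (hI : IsOfTypeI L) :
    2 * (fittingHall ↥L).index + 1 ≤ Nat.card (fittingHall ↥L) := by
  classical
  obtain ⟨d⟩ := exists_oneData hG hL hI
  set K := fittingHall ↥L with hK
  have : Fintype (inducedIrrAbove K ⊥) := (finite_of_irr fun ψ h => OneData.mem_irr hG hL hI h).fintype
  have hw := Coh.sum_wt (K := K) ⊥
  have hpos : ∀ ψ : inducedIrrAbove K ⊥, 0 ≤ Coh.wt (ψ : L → ℂ) := fun ψ => by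
    rw [Coh.wt, classInner_self_of_irr (OneData.mem_irr hG hL hI ψ.2)]; simp [sq_nonneg]
  have hne : (⟨d.φ, d.φ_mem⟩ : inducedIrrAbove K ⊥) ≠ ⟨_, d.φc_mem⟩ := fun e => by
    have h := d.φ_inner_conj hG hL hI
    have e' : d.φ = conjFun d.φ := congrArg Subtype.val e
    rw [← e', classInner_self_of_irr (OneData.mem_irr hG hL hI d.φ_mem)] at h
    exact one_ne_zero h
  have h2 := Finset.sum_le_sum_of_subset_of_nonneg
    (f := fun ψ : inducedIrrAbove K ⊥ => Coh.wt (ψ : L → ℂ))
    (Finset.subset_univ {⟨d.φ, d.φ_mem⟩, ⟨_, d.φc_mem⟩}) (fun ψ _ _ => hpos ψ)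
  rw [Finset.sum_pair hne, hw, relIndex_bot_left] at h2
  simp only [Coh.wt, classInner_self_of_irr (OneData.mem_irr hG hL hI d.φ_mem),
    classInner_self_of_irr (OneData.mem_irr hG hL hI d.φc_mem), conjFun, d.φ_apply_one, map_natCast,
    Complex.natCast_re, Complex.one_re, div_one] at h2
  have he : (0 : ℝ) < (K.index : ℝ) := by exact_mod_cast Nat.pos_of_ne_zero Subgroup.index_ne_zero_of_finite
  have h3 : 2 * (K.index : ℝ) + 1 ≤ (Nat.card K : ℝ) := by
    have : (K.index : ℝ) * (2 * K.index + 1) ≤ (K.index : ℝ) * Nat.card K := by nlinarith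
    exact le_of_mul_le_mul_left this he
  exact_mod_cast h3


/-- Units modulo `n ∣ N` lift to exponents prime to `N`. -/
theorem exists_coprime_exponent {N n j : ℕ} (hN : N ≠ 0) (hn : n ∣ N) (hj : j.Coprime n) :
    ∃ k : ℕ, k.Coprime N ∧ k ≡ j [MOD n] := by
  have : NeZero N := ⟨hN⟩
  obtain ⟨u, hu⟩ := ZMod.unitsMap_surjective hn (ZMod.unitOfCoprime j hj)
  refine ⟨(u : ZMod N).val, ZMod.val_coe_unit_coprime u, ?_⟩
  rw [← ZMod.natCast_eq_natCast_iff]
  have := congrArg Units.val hu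
  rw [ZMod.unitsMap_val, ZMod.coe_unitOfCoprime] at this
  rw [← this, ZMod.natCast_val]

namespace OneData

variable (d : OneData L) (c : Config G) (hL : IsCoatom L) (hI : IsOfTypeI L)

include c hL hI

theorem hdis : ∀ g ∈ WhatG c.W₁ c.W₂, g ∉ tilde L := fun _ hg =>
  whatG_not_tilde c.minimal c.S_max c.T_max c.S_typeP c.T_typeP hg hL

theorem x_orth (ω : ↥(c.W₁ ⊔ c.W₂) →* ℂˣ) : classInner d.x (c.χ ω) = 0 :=
  inner_coherent_eq_zero c.selfNorm c.family c.minimal hL hI (hdis c hL hI) d.isometry d.ext d.φ d.φ_mem ω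

theorem xc_orth (ω : ↥(c.W₁ ⊔ c.W₂) →* ℂˣ) : classInner (conjFun d.x) (c.χ ω) = 0 := by
  rw [← d.τ₁_conj c.minimal hL hI]
  exact inner_coherent_eq_zero c.selfNorm c.family c.minimal hL hI (hdis c hL hI) d.isometry d.ext _
    d.φc_mem ω

theorem x_orth_eta (l : c.W₁ →* ℂˣ) (k : c.W₂ →* ℂˣ) : classInner d.x (c.eta l k) = 0 :=
  d.x_orth c hL hI _

theorem xc_orth_eta (l : c.W₁ →* ℂˣ) (k : c.W₂ →* ℂˣ) : classInner (conjFun d.x) (c.eta l k) = 0 :=
  d.xc_orth c hL hI _

/-- (5a): `x_L` is orthogonal to the principal character. -/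
theorem x_orth_one : classInner d.x (fun _ => 1) = 0 := by
  rw [← c.eta_one_one]; exact d.x_orth_eta c hL hI 1 1

theorem f_gen : IsGeneralizedCharacter G d.f := by
  rw [f]
  exact CfsgLib.Char.IsGen.sub (CfsgLib.Char.IsGen.add (d.v_gen c.minimal hL hI) (d.x_gen c.minimal hL hI))
    (CfsgLib.Char.IsGen.of_isCharacter isCharacter_one)

/-- (5a): `f_L` is orthogonal to the principal character. -/
theorem f_one : classInner d.f (fun _ => 1) = 0 := by
  rw [f, classInner_sub_left, classInner_add_left, d.v_one c.minimal hL hI, d.x_orth_one c hL hI]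
  have h : classInner (fun _ : G => (1 : ℂ)) (fun _ => 1) = 1 := classInner_self_of_irr (trivChar G).2
  rw [h]; ring

/-- (5d): the parity principle. -/
theorem even_f {g : G → ℂ} (hg : IsGeneralizedCharacter G g) (hr : conjFun g = g) {n : ℤ}
    (hn : classInner d.f g = n) : Even n :=
  Coh.even_inner c.minimal.1 (d.f_gen c hL hI) hg (d.f_real c.minimal hL hI) hr (d.f_one c hL hI) hn

theorem inner_f (g : G → ℂ) :
    classInner d.f g = classInner d.v g + classInner d.x g - classInner (fun _ => 1) g := by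
  rw [f, classInner_sub_left, classInner_add_left]

/-- (5d) for a real corrected pair `Γ + x' − 1` with `⟨v_L, Γ⟩ = 0`. -/
theorem parity {Γ x' : G → ℂ} (hΓ : IsGeneralizedCharacter G Γ) (hx' : IsGeneralizedCharacter G x')
    (hr : conjFun (Γ + x' - fun _ => 1) = Γ + x' - fun _ => 1)
    (h1 : classInner (Γ + x' - fun _ => 1) (fun _ => 1) = 0) (h0 : classInner d.v Γ = 0) {a b z : ℤ}
    (ha : classInner d.x Γ = a) (hb : classInner d.v x' = b) (hz : classInner d.x x' = z) :
    Odd (a + b + z) := by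
  have hg : IsGeneralizedCharacter G (Γ + x' - fun _ => 1) :=
    CfsgLib.Char.IsGen.sub (CfsgLib.Char.IsGen.add hΓ hx') (CfsgLib.Char.IsGen.of_isCharacter isCharacter_one)
  have h2 : classInner (fun _ : G => (1 : ℂ)) (Γ + x' - fun _ => 1) = 0 := by
    rw [← classInner_conj_symm, h1, map_zero]
  have hev := d.even_f c hL hI hg hr (n := a + b + z - 1) (by
    rw [d.inner_f c hL hI, h2, classInner_sub_right, classInner_sub_right, classInner_add_right,
      classInner_add_right, h0, hb, ha, hz, d.v_one c.minimal hL hI, d.x_orth_one c hL hI]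
    push_cast; ring)
  obtain ⟨m, hm⟩ := hev
  exact ⟨m, by omega⟩

/-- (5d) when `x'` is orthogonal to `x_L`: `⟨x_L, Γ⟩ + ⟨v_L, x'⟩` is odd. -/
theorem parity_orth {Γ x' : G → ℂ} (hΓ : IsGeneralizedCharacter G Γ) (hx' : IsGeneralizedCharacter G x')
    (hr : conjFun (Γ + x' - fun _ => 1) = Γ + x' - fun _ => 1)
    (h1 : classInner (Γ + x' - fun _ => 1) (fun _ => 1) = 0) (h0 : classInner d.v Γ = 0)
    (hz : classInner d.x x' = 0) {a b : ℤ}
    (ha : classInner d.x Γ = a) (hb : classInner d.v x' = b) : Odd (a + b) := by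
  have h := d.parity c hL hI hΓ hx' hr h1 h0 ha hb (z := 0) (by rw [hz]; simp)
  rwa [add_zero] at h

end OneData

/-- (5b): the integers `C(l,k) = ⟨v_L, η_lk⟩`, which are the values of the family on `A₁(L)`. -/
structure Coefs (c : Config G) (d : OneData L) where
  C : (c.W₁ →* ℂˣ) → (c.W₂ →* ℂˣ) → ℤ
  one : C 1 1 = 1
  inner : ∀ l k, c.coef d.v l k = (C l k : ℂ)
  rho_eq : ∀ l k, ∀ a : L, (a : G) ∈ typeA1 L → rho (typeA1 L) L (supportR L) (c.eta l k) a = (C l k : ℂ)
  rel : ∀ l k, C l k = C l 1 + C 1 k - 1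
  pow : ∀ j : ℕ, j.Coprime (Nat.card G) → ∀ l k, C (l ^ j) (k ^ j) = C l k
  bound : ∀ [Fintype (c.W₁ →* ℂˣ)] [Fintype (c.W₂ →* ℂˣ)],
    ∑ l : c.W₁ →* ℂˣ, ∑ k : c.W₂ →* ℂˣ, C l k ^ 2 ≤ ((fittingHall ↥L).index : ℤ)

theorem inl_pow (c : Config G) (l : c.W₁ →* ℂˣ) (j : ℕ) : inl c.selfNorm (l ^ j) = inl c.selfNorm l ^ j :=
  MonoidHom.ext fun _ => rfl

theorem inr_pow (c : Config G) (k : c.W₂ →* ℂˣ) (j : ℕ) : inr c.selfNorm (k ^ j) = inr c.selfNorm k ^ j :=
  MonoidHom.ext fun _ => rfl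

theorem exists_coefs (c : Config G) (hL : IsCoatom L) (hI : IsOfTypeI L) (d : OneData L) :
    Nonempty (Coefs c d) := by
  classical
  have hdis := OneData.hdis c hL hI
  obtain ⟨m, hm1, hmρ, hmv⟩ := exists_const c.selfNorm c.family c.minimal hL hI hdis
  refine ⟨⟨fun l k => m (inl c.selfNorm l * inr c.selfNorm k), ?_, fun l k => ?_, fun l k => hmρ _,
    fun l k => ?_, fun j hj l k => ?_, ?_⟩⟩
  · rw [inl_one, inr_one, hom_one_mul, hm1]
  · rw [Config.coef, OneData.v, classInner_neg_left, Config.eta, hmv _ d.ξ d.ξ_ne, d.ξ_deg]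
    simp
  · show m _ = m _ + m _ - 1
    rw [inl_one, inr_one, hom_one_mul, hom_mul_one]
    exact const_rel c.selfNorm c.family c.minimal hL hI hdis hmρ hm1 (inl_apply_W₂ c.selfNorm l)
      (inr_apply_W₁ c.selfNorm k)
  · show m _ = m _
    rw [inl_pow, inr_pow, ← (mul_pow (inl c.selfNorm l) (inr c.selfNorm k) j)]
    exact const_pow c.selfNorm c.family c.minimal hL hI hdis hmρ hj _
  · intro _ _
    have := finite_hom ↥(c.W₁ ⊔ c.W₂)
    have := Fintype.ofFinite (↥(c.W₁ ⊔ c.W₂) →* ℂˣ)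
    refine le_trans (le_of_eq ?_) (sum_sq_const_le c.selfNorm c.family c.minimal hL hI hdis hmv)
    rw [← Fintype.sum_prod_type']
    refine Fintype.sum_bijective (fun x : (c.W₁ →* ℂˣ) × (c.W₂ →* ℂˣ) =>
      inl c.selfNorm x.1 * inr c.selfNorm x.2)
      ⟨fun x y h => Prod.ext (mul_inj c.selfNorm h).1 (mul_inj c.selfNorm h).2, fun ω => ?_⟩ _ _
      fun x => rfl
    obtain ⟨l, k, h⟩ := exists_eq_mul c.selfNorm ω
    exact ⟨(l, k), h⟩

namespace Coefs

variable {c : Config G} {d : OneData L} (K : Coefs c d)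

/-- `a = C(l,1)` does not depend on `l ≠ 1` when `q` is prime. -/
theorem left_const (hq : c.q.Prime) {l l' : c.W₁ →* ℂˣ} (hl : l ≠ 1) (hl' : l' ≠ 1) : K.C l 1 = K.C l' 1 := by
  have := finite_hom c.W₁
  have hcard : Nat.card (c.W₁ →* ℂˣ) = c.q := card_hom fun a b => Subtype.ext (congrArg Subtype.val
    (W_comm c.selfNorm ⟨a, mem_sup_left a.2⟩ ⟨b, mem_sup_left b.2⟩) :)
  have := Fact.mk hq
  obtain ⟨j, rfl⟩ := mem_powers_of_prime_card (p := c.q) hcard (g' := l') hl
  dsimp only at hl' ⊢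
  have hj : j.Coprime c.q := by
    rw [Nat.coprime_comm, hq.coprime_iff_not_dvd]
    intro hd
    refine hl' ?_
    obtain ⟨i, rfl⟩ := hd
    rw [pow_mul, ← hcard, pow_card_eq_one', one_pow]
  obtain ⟨k, hk, hkj⟩ := exists_coprime_exponent (Nat.card_pos (α := G)).ne'
    (Subgroup.card_subgroup_dvd_card c.W₁) hj
  have e : l ^ k = l ^ j := (pow_eq_pow_iff_modEq (x := l)).mpr
    (hkj.of_dvd ((orderOf_dvd_natCard l).trans (dvd_of_eq hcard)))
  show K.C l 1 = K.C (l ^ j) 1
  have h := K.pow k hk l 1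
  rw [show (1 : c.W₂ →* ℂˣ) ^ k = 1 from MonoidHom.ext fun _ => one_pow k] at h
  rw [← e, h]

/-- `b = C(1,k)` does not depend on `k ≠ 1` when `p` is prime. -/
theorem right_const (hp : c.p.Prime) {k k' : c.W₂ →* ℂˣ} (hk : k ≠ 1) (hk' : k' ≠ 1) : K.C 1 k = K.C 1 k' := by
  have := finite_hom c.W₂
  have hcard : Nat.card (c.W₂ →* ℂˣ) = c.p := card_hom fun a b => Subtype.ext (congrArg Subtype.val
    (W_comm c.selfNorm ⟨a, mem_sup_right a.2⟩ ⟨b, mem_sup_right b.2⟩) :)
  have := Fact.mk hp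
  obtain ⟨j, rfl⟩ := mem_powers_of_prime_card (p := c.p) hcard (g' := k') hk
  dsimp only at hk' ⊢
  have hj : j.Coprime c.p := by
    rw [Nat.coprime_comm, hp.coprime_iff_not_dvd]
    intro hd
    refine hk' ?_
    obtain ⟨i, rfl⟩ := hd
    rw [pow_mul, ← hcard, pow_card_eq_one', one_pow]
  obtain ⟨i, hi, hij⟩ := exists_coprime_exponent (Nat.card_pos (α := G)).ne'
    (Subgroup.card_subgroup_dvd_card c.W₂) hj
  have e : k ^ i = k ^ j := (pow_eq_pow_iff_modEq (x := k)).mpr
    (hij.of_dvd ((orderOf_dvd_natCard k).trans (dvd_of_eq hcard)))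
  show K.C 1 k = K.C 1 (k ^ j)
  have h := K.pow i hi 1 k
  rw [show (1 : c.W₁ →* ℂˣ) ^ i = 1 from MonoidHom.ext fun _ => one_pow i] at h
  rw [← e, h]

open scoped Classical in
/-- `(q-1) a² + Σ b² + (q-1) Σ c² ≤ e - 1`, with `a` the common value of `C(l,1)`. -/
theorem bound_split [Fintype (c.W₁ →* ℂˣ)] [Fintype (c.W₂ →* ℂˣ)] (hq : c.q.Prime) {l₀ : c.W₁ →* ℂˣ}
    (hl₀ : l₀ ≠ 1) :
    ((c.q : ℤ) - 1) * (K.C l₀ 1 ^ 2 +
        ∑ k ∈ Finset.univ.erase (1 : c.W₂ →* ℂˣ), (K.C l₀ 1 + K.C 1 k - 1) ^ 2) +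
      ∑ k ∈ Finset.univ.erase (1 : c.W₂ →* ℂˣ), K.C 1 k ^ 2 ≤ ((fittingHall ↥L).index : ℤ) - 1 := by
  have hcard : Nat.card (c.W₁ →* ℂˣ) = c.q := card_hom fun a b => Subtype.ext (congrArg Subtype.val
    (W_comm c.selfNorm ⟨a, mem_sup_left a.2⟩ ⟨b, mem_sup_left b.2⟩) :)
  have h := K.bound
  rw [← Finset.add_sum_erase Finset.univ _ (Finset.mem_univ (1 : c.W₁ →* ℂˣ)),
    ← Finset.add_sum_erase Finset.univ (fun k => K.C 1 k ^ 2) (Finset.mem_univ (1 : c.W₂ →* ℂˣ)), K.one] at h
  have hrow : ∀ l ∈ Finset.univ.erase (1 : c.W₁ →* ℂˣ), ∑ k, K.C l k ^ 2 = K.C l₀ 1 ^ 2 +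
      ∑ k ∈ Finset.univ.erase (1 : c.W₂ →* ℂˣ), (K.C l₀ 1 + K.C 1 k - 1) ^ 2 := fun l hl => by
    have hl1 : l ≠ 1 := (Finset.mem_erase.mp hl).1
    rw [← Finset.add_sum_erase Finset.univ (fun k => K.C l k ^ 2) (Finset.mem_univ (1 : c.W₂ →* ℂˣ))]
    refine congrArg₂ (· + ·) (by rw [K.left_const hq hl1 hl₀]) (Finset.sum_congr rfl fun k _ => ?_)
    show K.C l k ^ 2 = _
    rw [K.rel l k, K.left_const hq hl1 hl₀]
  have hn : (((Finset.univ.erase (1 : c.W₁ →* ℂˣ)).card : ℕ) : ℤ) = (c.q : ℤ) - 1 := by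
    rw [Finset.card_erase_of_mem (Finset.mem_univ _), Finset.card_univ, ← Nat.card_eq_fintype_card, hcard,
      Nat.cast_sub hq.one_le, Nat.cast_one]
  rw [Finset.sum_congr rfl hrow, Finset.sum_const, nsmul_eq_mul, hn] at h
  linarith

open scoped Classical in
/-- The equality case: `v_L` is the `η`-part minus one family member `x'`, which is `x_L` or `-x̄_L`. -/
theorem eq_case [Fintype (c.W₁ →* ℂˣ)] [Fintype (c.W₂ →* ℂˣ)] (hL : IsCoatom L) (hI : IsOfTypeI L)
    (heq : ∑ l : c.W₁ →* ℂˣ, ∑ k : c.W₂ →* ℂˣ, K.C l k ^ 2 = ((fittingHall ↥L).index : ℤ)) :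
    ∃ x', (x' = d.x ∨ x' = -conjFun d.x) ∧
      d.v = (∑ x : (c.W₁ →* ℂˣ) × (c.W₂ →* ℂˣ), (K.C x.1 x.2 : ℂ) • c.eta x.1 x.2) - x' := by
  have hG := c.minimal
  obtain ⟨P, hP⟩ : ∃ P, P = ∑ x : (c.W₁ →* ℂˣ) × (c.W₂ →* ℂˣ), (K.C x.1 x.2 : ℂ) • c.eta x.1 x.2 :=
    ⟨_, rfl⟩
  rw [← hP]
  have horth : ∀ y : G → ℂ, (∀ l k, classInner y (c.eta l k) = 0) → classInner y P = 0 := fun y hy => by
    rw [hP, classInner_sum_right]
    exact Finset.sum_eq_zero fun x _ => by rw [classInner_smul_right, hy, mul_zero]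
  have hgenP : IsGeneralizedCharacter G P := by
    rw [hP]
    exact CfsgLib.Char.IsGen.sum _ _ fun x _ =>
      CfsgLib.Char.IsGen.intCast_smul _ (family_isGen c.selfNorm c.family _)
  have hPη : ∀ l k, classInner P (c.eta l k) = (K.C l k : ℂ) := fun l k => by
    rw [hP, classInner_sum_left, Finset.sum_eq_single (l, k) (fun x _ hne => ?_)
      (fun h => absurd (Finset.mem_univ _) h), classInner_smul_left, c.eta_inner, if_pos ⟨rfl, rfl⟩, mul_one]
    rw [classInner_smul_left, c.eta_inner, if_neg fun h => hne (Prod.ext h.1 h.2), mul_zero]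
  have hPP : classInner P P = ((fittingHall ↥L).index : ℂ) := by
    conv_lhs => arg 2; rw [hP]
    rw [classInner_sum_right, Finset.sum_congr rfl fun x _ => by
      rw [classInner_smul_right, hPη, map_intCast, ← Int.cast_mul, ← sq], Fintype.sum_prod_type]
    exact_mod_cast heq
  have hvP : classInner d.v P = ((fittingHall ↥L).index : ℂ) := by
    rw [hP, classInner_sum_right, Finset.sum_congr rfl fun x _ => by
      rw [classInner_smul_right, show classInner d.v (c.eta x.1 x.2) = (K.C x.1 x.2 : ℂ) from K.inner x.1 x.2,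
        map_intCast, ← Int.cast_mul, ← sq], Fintype.sum_prod_type]
    exact_mod_cast heq
  have hZgen : IsGeneralizedCharacter G (P - d.v) := CfsgLib.Char.IsGen.sub hgenP (d.v_gen hG hL hI)
  have hZ1 : classInner (P - d.v) (P - d.v) = 1 := by
    have hPv : classInner P d.v = ((fittingHall ↥L).index : ℂ) := by
      rw [← classInner_conj_symm, hvP, map_natCast]
    rw [classInner_sub_left, classInner_sub_right, classInner_sub_right, hPP, hvP,
      hPv, d.v_norm hG hL hI]
    ring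
  have hZs : SignedIrr (P - d.v) := IsGen.norm_one' hZgen hZ1
  have hxs := d.x_signed hG hL hI
  have hxcs : SignedIrr (conjFun d.x) := by
    rw [← d.τ₁_conj hG hL hI]
    refine IsGen.norm_one' (d.isometry.2.2.2 _ (mem_zspan_self d.φc_mem)) ?_
    rw [d.isometry.2.2.1 _ (mem_zspan_self d.φc_mem) _ (mem_zspan_self d.φc_mem),
      classInner_self_of_irr (OneData.mem_irr hG hL hI d.φc_mem)]
  have hdiff : classInner d.v d.x - classInner d.v (conjFun d.x) = -1 := by
    have := Fintype.ofFinite (fittingHall ↥L)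
    rw [← classInner_sub_right, ← d.τ₁_conj hG hL hI, d.x_sub hG hL hI, OneData.v, classInner_neg_left,
      OneData.tau_eq hG hL hI, OneData.tau_eq hG hL hI]
    have hcl : IsClassFunction L (d.φ - conjFun d.φ) := CfsgLib.Char.IsGen.isClassFunction
      (CfsgLib.Char.IsGen.sub (CfsgLib.Char.IsGen.of_irr (OneData.mem_irr hG hL hI d.φ_mem))
        (CfsgLib.Char.IsGen.of_irr (OneData.mem_irr hG hL hI d.φc_mem)))
    have hone : ∀ η : IrrCharacter (fittingHall ↥L), (η : fittingHall ↥L → ℂ) ≠ (fun _ => 1) →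
        classInner (indFun (fittingHall ↥L) (fun _ => (1 : ℂ))) (indFun (fittingHall ↥L) (η : fittingHall ↥L → ℂ)) = 0 :=
      fun η hη => by
        rw [← classInner_conj_symm, show indFun (fittingHall ↥L) (fun _ => (1 : ℂ)) =
          indFun (fittingHall ↥L) (trivChar (fittingHall ↥L) : fittingHall ↥L → ℂ) from rfl,
          Frob12.inner_ind_triv (fun h => hη (by rw [h]; rfl)), map_zero]
    rw [Frob12.dade_isometry (OneData.dade hG hL hI) (Frob12.supp_vanish _).cls (Frob12.supp_vanish _).zero_off hcl,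
      d.vanish_eq, classInner_sub_left, classInner_sub_right, classInner_sub_right, d.φ_inner_conj hG hL hI,
      classInner_self_of_irr (OneData.mem_irr hG hL hI d.φ_mem)]
    obtain ⟨η, hη, hη1, -, he⟩ := d.φc_mem
    rw [he, hone ⟨η, hη⟩ hη1, OneData.φ, hone d.ξ d.ξ_ne]
    ring
  have hv : ∀ y : G → ℂ, (∀ l k, classInner y (c.eta l k) = 0) →
      classInner (P - d.v) y = -classInner d.v y := fun y hy => by
    have hPy : classInner P y = 0 := by rw [← classInner_conj_symm, horth y hy, map_zero]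
    rw [classInner_sub_left, hPy, zero_sub]
  have hsum : classInner (P - d.v) d.x - classInner (P - d.v) (conjFun d.x) = 1 := by
    rw [hv _ (d.x_orth_eta c hL hI), hv _ (d.xc_orth_eta c hL hI)]
    linear_combination -hdiff
  rcases hZs.trichotomy hxs with h | ⟨e, -⟩ | ⟨-, h⟩
  · rw [h, zero_sub] at hsum
    rcases hZs.trichotomy hxcs with h' | ⟨-, h'⟩ | ⟨e, -⟩
    · rw [h', neg_zero] at hsum; exact absurd hsum zero_ne_one
    · rw [h'] at hsum; norm_num at hsum
    · exact ⟨-conjFun d.x, Or.inr rfl, by rw [← e]; abel⟩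
  · exact ⟨d.x, Or.inl rfl, by rw [← e]; abel⟩
  · exfalso
    rw [h] at hsum
    rcases hZs.trichotomy hxcs with h' | ⟨-, h'⟩ | ⟨-, h'⟩ <;> rw [h'] at hsum <;> norm_num at hsum

end Coefs

namespace OneData

variable (d : OneData L) (hG : IsMinSimpleOddOrder G) (hL : IsCoatom L) (hI : IsOfTypeI L)

include hG hL hI

/-- On `A₁(L)` the average of `x_L` is `φ` plus an integer. -/
theorem rho_x : ∃ n : ℤ, ∀ a ∈ fittingHall ↥L, a ≠ 1 →
    rho (Frob12.sharp (fittingHall ↥L)) L (supportR L) d.x a = d.φ a + n := by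
  classical
  have := Fintype.ofFinite (fittingHall ↥L)
  have hD := dade hG hL hI
  have hxc := CfsgLib.Char.IsGen.isClassFunction (d.x_gen hG hL hI)
  have hφc := IsIrr.isClassFunction (mem_irr hG hL hI d.φ_mem)
  set g : L → ℂ := rho (Frob12.sharp (fittingHall ↥L)) L (supportR L) d.x - d.φ with hg
  have hgc : IsClassFunction L g := fun a l => by
    simp only [hg, Pi.sub_apply, Frob12.isClassFunction_rho hD hxc a l, hφc a l]
  obtain ⟨k, hk⟩ := class_const (K := fittingHall ↥L) hgc fun θ θ' h h' => by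
    have hmem := diffInd_mem_zspanOn h h'
    rw [hg, classInner_sub_right, ← Frob12.tau_pair hD (supp_diffInd θ θ') hxc, ← tau_eq hG hL hI,
      ← typeA_eq_typeA1 hG hL hI, ← d.ext _ hmem, x, d.isometry.2.2.1 _ hmem.1 _ (mem_zspan_self d.φ_mem),
      sub_self]
  have hv := inner_vanish_class hgc hk d.ξ_ne
  rw [hg, classInner_sub_right, ← Frob12.tau_pair hD (Frob12.supp_vanish d.ξ) hxc] at hv
  obtain ⟨n, hn⟩ := CfsgLib.Char.IsGen.exists_classInner_eq_intCast
    (Frob12.tau_gen hD (Frob12.supp_vanish d.ξ)) (d.x_gen hG hL hI)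
  have h1 : classInner (vanish d.ξ) d.φ = 1 := by
    rw [d.vanish_eq, classInner_sub_left, classInner_self_of_irr (mem_irr hG hL hI d.φ_mem),
      ← classInner_conj_symm, show indFun (fittingHall ↥L) (fun _ => (1 : ℂ)) =
        indFun (fittingHall ↥L) (trivChar (fittingHall ↥L) : fittingHall ↥L → ℂ) from rfl, φ,
      Frob12.inner_ind_triv (fun h => d.ξ_ne (by rw [h]; rfl)), map_zero, sub_zero]
  rw [hn, h1, d.ξ_deg, Nat.cast_one, one_mul] at hv
  have hk' : k = ((1 - n : ℤ) : ℂ) := by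
    have := congrArg (starRingEnd ℂ) hv
    rw [map_sub, map_intCast, map_one, map_neg, Complex.conj_conj] at this
    push_cast; linear_combination this
  refine ⟨1 - n, fun a ha ha1 => ?_⟩
  have h := hk a ha ha1
  rw [hk'] at h
  simp only [hg, Pi.sub_apply] at h
  linear_combination h

open scoped Classical in
/-- (5c): the mass of `x_L` outside `Ã₁(L)` is at most `e / h`. -/
theorem residual : (Nat.card G : ℝ)⁻¹ * ∑ g, (if g ∈ tilde L then 0 else Complex.normSq (d.x g)) ≤
    ((fittingHall ↥L).index : ℝ) / Nat.card (fittingHall ↥L) := by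
  obtain ⟨n, hn⟩ := d.rho_x hG hL hI
  have := Fintype.ofFinite (fittingHall ↥L)
  set K := fittingHall ↥L with hK
  have hD := dade hG hL hI
  have hxc := CfsgLib.Char.IsGen.isClassFunction (d.x_gen hG hL hI)
  have hsupp : ∀ a : L, a ∉ K → d.φ a = 0 := fun a ha => indFun_eq_zero_off_normal inferInstance _ ha
  have hLK : (Nat.card L : ℝ) = (K.index : ℝ) * Nat.card K := by
    rw [← Nat.cast_mul, mul_comm, Subgroup.card_mul_index]
  have hval : ∀ a : L, Complex.normSq (rho (Frob12.sharp K) L (supportR L) d.x a) =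
      (Complex.normSq (d.φ a) + 2 * (n : ℝ) * (d.φ a).re) + (if a ∈ K then (n : ℝ) ^ 2 else 0) -
        (if a = 1 then ((K.index : ℝ) + n) ^ 2 else 0) := by
    intro a
    by_cases ha : a ∈ K
    · by_cases ha1 : a = 1
      · subst ha1
        rw [Frob12.rho_of_notMem fun h => (Frob12.coe_mem_sharp.mp h).2 rfl, if_pos ha, if_pos rfl, d.φ_apply_one]
        simp [Complex.normSq_natCast]
        ring
      · rw [hn a ha ha1, if_pos ha, if_neg ha1, Complex.normSq_add]
        simp [← Complex.ofReal_intCast]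
        ring
    · rw [Frob12.rho_of_notMem fun h => ha (Frob12.coe_mem_sharp.mp h).1, if_neg ha,
        if_neg fun h : a = 1 => ha (by rw [h]; exact one_mem _), hsupp a ha]
      simp
  have hnorm : ∑ a : L, Complex.normSq (d.φ a) = (Nat.card L : ℝ) := by
    have h := Frob12.classInner_self_eq_sum d.φ
    rw [classInner_self_of_irr (mem_irr hG hL hI d.φ_mem), Complex.one_re,
      inv_mul_eq_div, eq_div_iff (Nat.cast_ne_zero.mpr Nat.card_pos.ne'), one_mul] at h
    exact h.symm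
  have hzero : ∑ a : L, (d.φ a).re = 0 := by
    have h : classInner d.φ (fun _ => 1) = 0 := by
      rw [φ, frobenius_reciprocity K _ (fun _ _ => rfl)]
      have := classInner_of_irr d.ξ.2 (trivChar K).2
      rwa [if_neg (show (d.ξ : K → ℂ) ≠ (trivChar K : K → ℂ) from d.ξ_ne)] at this
    simp only [Cfsg.classInner, map_one, mul_one, mul_eq_zero, inv_eq_zero, Nat.cast_eq_zero,
      Nat.card_pos.ne', false_or] at h
    rw [← Complex.re_sum, h, Complex.zero_re]
  have hkey : (Nat.card L : ℝ) - (K.index : ℝ) ^ 2 ≤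
      ∑ a : L, Complex.normSq (rho (Frob12.sharp K) L (supportR L) d.x a) := by
    rw [Finset.sum_congr rfl fun a _ => hval a, Finset.sum_sub_distrib, Finset.sum_add_distrib,
      Finset.sum_add_distrib, hnorm, ← Finset.mul_sum, hzero, ← Finset.sum_filter, Finset.sum_const,
      Finset.sum_ite_eq' Finset.univ (1 : L), if_pos (Finset.mem_univ _), nsmul_eq_mul, ← Fintype.card_subtype,
      ← Nat.card_eq_fintype_card]
    show _ ≤ (Nat.card L : ℝ) + 2 * (n : ℝ) * 0 + (Nat.card K : ℝ) * (n : ℝ) ^ 2 - _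
    have h2 : 2 * (K.index : ℝ) + 1 ≤ (Nat.card K : ℝ) := by exact_mod_cast two_index_le hG hL hI
    have he : (0 : ℝ) ≤ (K.index : ℝ) := Nat.cast_nonneg _
    rcases le_or_gt (n : ℤ) 0 with h0 | h0
    · have : (n : ℝ) ≤ 0 := by exact_mod_cast h0
      nlinarith
    · have : (1 : ℝ) ≤ (n : ℝ) := by exact_mod_cast h0
      have : (n : ℝ) ≤ (n : ℝ) ^ 2 := by nlinarith
      nlinarith
  have hsp := Frob12.norm_support hD hxc
  have htot := Frob12.classInner_self_eq_sum d.x
  rw [d.x_norm hG hL hI, Complex.one_re] at htot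
  have hsplit : ∑ g, Complex.normSq (d.x g) = ∑ g, (if g ∈ tilde L then 0 else Complex.normSq (d.x g)) +
      ∑ᶠ g ∈ {g : G | InSupport (Frob12.sharp K) L (supportR L) g}, Complex.normSq (d.x g) := by
    rw [show {g : G | InSupport (Frob12.sharp K) L (supportR L) g} =
        ↑(Finset.univ.filter fun g => InSupport (Frob12.sharp K) L (supportR L) g) from by ext; simp,
      finsum_mem_coe_finset, Finset.sum_filter, ← Finset.sum_add_distrib]
    refine Finset.sum_congr rfl fun g _ => ?_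
    rw [if_congr (show InSupport (Frob12.sharp K) L (supportR L) g ↔ g ∈ tilde L by
      rw [mem_tilde_iff hG hL, typeA1_eq_sharp hG hL hI]) rfl rfl]
    split_ifs <;> simp
  rw [hsplit, mul_add] at htot
  have hLpos : (0 : ℝ) < (Nat.card L : ℝ) := by exact_mod_cast Nat.card_pos
  have h1 : 1 - (K.index : ℝ) / Nat.card K ≤
      (Nat.card L : ℝ)⁻¹ * ∑ a : L, Complex.normSq (rho (Frob12.sharp K) L (supportR L) d.x a) := by
    have hne : (K.index : ℝ) ≠ 0 := Nat.cast_ne_zero.mpr Subgroup.index_ne_zero_of_finite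
    calc 1 - (K.index : ℝ) / Nat.card K
        = (Nat.card L : ℝ)⁻¹ * ((Nat.card L : ℝ) - (K.index : ℝ) ^ 2) := by
          rw [mul_sub, inv_mul_cancel₀ hLpos.ne', hLK]; field_simp
      _ ≤ _ := mul_le_mul_of_nonneg_left hkey (by positivity)
  linarith

end OneData

end CfsgLib.OddLocal.FTFinal
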