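import Cfsg.Agent.Lib.OddLocal.Final.Weights
import Cfsg.Agent.Lib.OddLocal.Final.TypeOne
import Cfsg.Agent.Lib.OddLocal.Final.TISide
import Cfsg.Agent.Lib.OddLocal.Final.Struct
import Cfsg.Agent.S1387
import Cfsg.Agent.S1390
import Cfsg.Agent.Lib.TwoGroups.TransitivityHyp

/-!
Owner: helper12. Blueprint L5 (5e): the two large pieces `F_S#`, `F_T#` of the final configuration and
their overlap with the sets `Ã₁(L)`. A coset `a R(a)` meeting the conjugates of such a piece lies inside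
them, so `G` is divided into `1`, the conjugates of `Ŵ`, those of `F_S#` and `F_T#`, and whole cosets.
-/

set_option autoImplicit false
set_option linter.unusedSectionVars false

namespace CfsgLib.OddLocal.FTFinal

open Subgroup
open CfsgLib.TwoGroups
open CfsgLib.DadeMap (avg InSupport)
open CfsgLib.OddLocal.Frob12 (rho)

variable {G : Type*} [Group G]

/-- `F#`. -/
def sharpSet (F : Subgroup G) : Set G := (F : Set G) \ {1}

theorem mem_conjSharp {F : Subgroup G} {g : G} :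
    g ∈ conjSharp F ↔ g ≠ 1 ∧ ∃ y : G, y * g * y⁻¹ ∈ F := by
  constructor
  · rintro ⟨y, f, hf, hf1, rfl⟩
    exact ⟨fun e => hf1 (conj_eq_one_iff.mp e), y⁻¹, by
      rwa [show y⁻¹ * (y * f * y⁻¹) * y⁻¹⁻¹ = f by group]⟩
  · rintro ⟨h1, y, hy⟩
    exact ⟨y⁻¹, _, hy, fun e => h1 (conj_eq_one_iff.mp e), by group⟩

theorem ne_one_of_mem_conjSharp {F : Subgroup G} {g : G} (h : g ∈ conjSharp F) : g ≠ 1 :=
  (mem_conjSharp.mp h).1

theorem conjSharp_conj {F : Subgroup G} {g : G} (x : G) : x * g * x⁻¹ ∈ conjSharp F ↔ g ∈ conjSharp F := by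
  rw [mem_conjSharp, mem_conjSharp]
  refine and_congr (not_congr conj_eq_one_iff) ⟨fun ⟨y, hy⟩ => ⟨y * x, ?_⟩, fun ⟨y, hy⟩ => ⟨y * x⁻¹, ?_⟩⟩
  · rwa [show y * x * g * (y * x)⁻¹ = y * (x * g * x⁻¹) * y⁻¹ by group]
  · rwa [show y * x⁻¹ * (x * g * x⁻¹) * (y * x⁻¹)⁻¹ = y * g * y⁻¹ by group]

/-- A Dade set-up restricts to an invariant subset, and only depends on the subgroups attached to its set. -/
theorem dade_restrict {A A' : Set G} {L : Subgroup G} {H H' : G → Subgroup G}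
    (hD : Cfsg.DadeHypothesis A L H) (hsub : A' ⊆ A) (hinv : ∀ x ∈ L, ∀ a ∈ A', x * a * x⁻¹ ∈ A')
    (hH : ∀ a ∈ A', H' a = H a) : Cfsg.DadeHypothesis A' L H' := by
  refine ⟨fun h => hD.one_not_mem (hsub h), fun a h => hD.subset (hsub h), hinv,
    fun a ha g hg => hD.fusion a (hsub ha) g (hsub hg), fun a ha => ?_, fun a ha => ?_, fun a ha => ?_,
    fun a ha => ?_, fun a ha b hb => ?_⟩
  all_goals rw [hH a ha]
  · exact hD.le_centralizer a (hsub ha)
  · exact hD.conj_mem_H a (hsub ha)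
  · exact hD.inf_eq_bot a (hsub ha)
  · exact hD.sup_eq a (hsub ha)
  · exact hD.coprime a (hsub ha) b (hsub hb)

/-- A normal subgroup `F` between `M_σ` and `M'` whose non-identity elements lie in `A(M)`, such that a
coset `a R(a)` of another maximal subgroup can only meet its conjugates through an `a` whose centralizer
has `M` as its only maximal overgroup. -/
structure IsSide (M F : Subgroup G) : Prop where
  max : IsCoatom M
  typeP : Cfsg.IsOfTypeP M
  core_le : Cfsg.sigmaCore M ≤ F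
  le_derived : F ≤ ⁅M, M⁆
  normal : M ≤ normalizer (F : Set G)
  sub_typeA : sharpSet F ⊆ Cfsg.typeA M
  uniq : ∀ N : Subgroup G, IsCoatom N → (∀ g : G, N ≠ M.map (MulAut.conj g).toMonoidHom) →
    ∀ a ∈ Cfsg.typeA1 N, ∀ r ∈ Cfsg.supportR N a, ∀ y : G, y * (a * r) * y⁻¹ ∈ F →
      y * a * y⁻¹ ∈ F ∧ ∀ L : Subgroup G, IsCoatom L → centralizer ({y * a * y⁻¹} : Set G) ≤ L → L = M

section Finite

variable [Finite G] {M N S T F F' W₁ W₂ U V : Subgroup G} {g a r y : G}

theorem mul_ne_one_of_mem_A1 (hG : Cfsg.IsMinSimpleOddOrder G) (hN : IsCoatom N) (ha : a ∈ Cfsg.typeA1 N)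
    (hr : r ∈ Cfsg.supportR N a) : a * r ≠ 1 := by
  intro h
  rw [DadeSupport.typeA1_eq hG hN] at ha
  have h1 : r ∈ Cfsg.supportR N a ⊓ N :=
    ⟨hr, eq_inv_of_mul_eq_one_right h ▸ N.inv_mem (TauTwo.sigmaCore_le N ha.1)⟩
  rw [Support.supportR_inf_eq_bot hG hN ha.1 ha.2] at h1
  exact ha.2 (by rw [mem_bot.mp h1, mul_one] at h; exact h)

theorem mul_mem_tilde (ha : a ∈ Cfsg.typeA1 N) (hr : r ∈ Cfsg.supportR N a) (y : G) :
    y * (a * r) * y⁻¹ ∈ tilde N :=
  ⟨a, ha, r, hr, y, rfl⟩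

/-- The piece `M_σ#`: it coincides with `Ã₁(M)`. -/
theorem isSide_core (hG : Cfsg.IsMinSimpleOddOrder G) (hM : IsCoatom M) (hP : Cfsg.IsOfTypeP M) :
    IsSide M (Cfsg.sigmaCore M) := by
  refine ⟨hM, hP, le_rfl, OddLocal.BetaCore.sigmaCore_le_derived hG hM,
    TauTwo.le_normalizer_sigmaCore M, fun a ha => ?_, fun N hN hne a ha r hr y hy => ?_⟩
  · exact DadeSupport.typeA1_subset_typeA hG hM ((DadeSupport.typeA1_eq hG hM).symm ▸ ha)
  · exfalso
    have hz : y * (a * r) * y⁻¹ ∈ Cfsg.typeA1 M := (DadeSupport.typeA1_eq hG hM).symm ▸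
      (⟨hy, fun e => mul_ne_one_of_mem_A1 hG hN ha hr (conj_eq_one_iff.mp e)⟩ :
        y * (a * r) * y⁻¹ ∈ (Cfsg.sigmaCore M : Set G) \ {1})
    exact tilde_disjoint hG hM hN hne
      (by simpa using mul_mem_tilde hz (one_mem (Cfsg.supportR M _)) 1) (mul_mem_tilde ha hr y)

theorem sigmaCore_eq_of_typeTwo (hG : Cfsg.IsMinSimpleOddOrder G) (hM : IsCoatom M)
    (hII : Cfsg.IsOfTypeII M) : Cfsg.sigmaCore M = Cfsg.fittingHallOf M := by
  classical
  obtain ⟨K, U', h⟩ := DadeSupport.exists_decomposition hG hM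
  rw [← DadeSupport.typeCore_eq hG hM h, Cfsg.typeCore,
    if_neg fun h' => TypesExclusive.not_two_three hG hM hII h']

theorem sigmaCore_eq_of_typeThreeFour (hG : Cfsg.IsMinSimpleOddOrder G) (hM : IsCoatom M)
    (h34 : Cfsg.IsOfTypeIII M ∨ Cfsg.IsOfTypeIV M) : Cfsg.sigmaCore M = ⁅M, M⁆ := by
  classical
  obtain ⟨K, U', h⟩ := DadeSupport.exists_decomposition hG hM
  rw [← DadeSupport.typeCore_eq hG hM h, Cfsg.typeCore, if_pos h34]

/-- The piece `F(M)#` for `M` of Type II. -/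
theorem isSide_typeTwo (hG : Cfsg.IsMinSimpleOddOrder G) (hM : IsCoatom M)
    (hP : Cfsg.IsTypePWith M W₁ U W₂) (hII : Cfsg.IsOfTypeII M) : IsSide M (Cfsg.fittingOf M) := by
  classical
  set H := Cfsg.fittingHallOf M with hH
  set C := U ⊓ centralizer (H : Set G) with hC
  have hF : Cfsg.fittingOf M = H ⊔ C := Cfsg.Agent.S1387.result M W₁ U W₂ hP
  have hcore : Cfsg.sigmaCore M = H := sigmaCore_eq_of_typeTwo hG hM hII
  have hnC : C ≤ normalizer (H : Set G) :=
    (inf_le_left.trans hP.U_compl.2.1).trans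
      ((commutator_le_self M).trans (FittingStructure.le_normalizer_fittingHallOf M))
  have hdec : ∀ x ∈ Cfsg.fittingOf M, ∃ h ∈ H, ∃ c ∈ C, x = h * c ∧ Commute h c := fun x hx => by
    obtain ⟨h, hh, c, hc, e⟩ := (OddLocal.mem_sup_of_le_normalizer hnC).mp (hF ▸ hx)
    exact ⟨h, hh, c, hc, e, mem_centralizer_iff.mp hc.2 h hh⟩
  have hHne : H ≠ ⊥ := fun e => hP.H_not_cyclic (by
    have : Subsingleton ↥H := by rw [e]; infer_instance
    exact isCyclic_of_subsingleton)
  refine ⟨hM, ⟨W₁, U, W₂, hP⟩, hcore ▸ (hF ▸ le_sup_left), hP.fitting_le,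
    FittingSigma.le_normalizer_fittingOf M, fun x hx => ?_, fun N hN hne a ha r hr y hy => ?_⟩
  · obtain ⟨h, hh, c, hc, e, hcom⟩ := hdec x hx.1
    have hHA : ∀ z ∈ H, z ∈ Cfsg.typeCore M := fun z hz => by
      rw [Cfsg.typeCore, if_neg fun h' => TypesExclusive.not_two_three hG hM hII h']; exact hz
    unfold Cfsg.typeA
    rw [if_neg (not_typeOne_of_typeP hG hM hP)]
    refine ⟨hP.fitting_le hx.1, hx.2, ?_⟩
    by_cases h1 : h = 1
    · obtain ⟨z, hz, hz1⟩ := H.bot_or_exists_ne_one.resolve_left hHne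
      refine ⟨z, hHA z hz, hz1, ?_⟩
      rw [e, h1, one_mul]
      exact (mem_centralizer_iff.mp hc.2 z hz).symm
    · exact ⟨h, hHA h hh, h1, by rw [e]; exact ((Commute.refl h).mul_left hcom.symm).eq⟩
  · have haσ : a ∈ Cfsg.sigmaCore N ∧ a ≠ 1 := by
      rw [DadeSupport.typeA1_eq hG hN] at ha; exact ha
    have hDN := dade_A1 hG hN
    have hcomm : Commute a r := mem_centralizer_singleton_iff.mp (hDN.le_centralizer a ha hr) |>.symm
    have hcop : (orderOf a).Coprime (orderOf r) := by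
      have h1 : orderOf a ∣ Nat.card ↥(N ⊓ centralizer ({a} : Set G)) :=
        Subgroup.orderOf_dvd_natCard _ ⟨TauTwo.sigmaCore_le N haσ.1, mem_centralizer_singleton_iff.mpr rfl⟩
      exact ((hDN.coprime a ha a ha).coprime_dvd_left (Subgroup.orderOf_dvd_natCard _ hr)
        |>.coprime_dvd_right h1).symm
    obtain ⟨k, hk⟩ := Char.Exceptional.exists_pow_select hcop (orderOf_pos a).ne' (orderOf_pos r).ne'
    set A := y * a * y⁻¹ with hA
    have hAF : A ∈ Cfsg.fittingOf M := by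
      have := pow_mem hy k
      rwa [conj_pow, hk a r hcomm (pow_orderOf_eq_one a) (pow_orderOf_eq_one r)] at this
    obtain ⟨h, hh, c, hc, e, hcom⟩ := hdec A hAF
    have hh1 : h = 1 := by
      by_contra hne1
      have hcop' : (orderOf h).Coprime (orderOf c) :=
        ((TypeP.coprime_H_U hP).coprime_dvd_left (H.orderOf_dvd_natCard hh)).coprime_dvd_right
          (U.orderOf_dvd_natCard hc.1)
      obtain ⟨j, hj⟩ := Char.Exceptional.exists_pow_select hcop' (orderOf_pos h).ne' (orderOf_pos c).ne'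
      have hhA : y * a ^ j * y⁻¹ = h := by
        rw [← conj_pow, ← hA, e, hj h c hcom (pow_orderOf_eq_one h) (pow_orderOf_eq_one c)]
      have haj : a ^ j ∈ Cfsg.typeA1 N := (DadeSupport.typeA1_eq hG hN).symm ▸
        (⟨pow_mem haσ.1 j, fun e1 => hne1 (by rw [← hhA, Set.mem_singleton_iff.mp e1]; group)⟩ :
          a ^ j ∈ (Cfsg.sigmaCore N : Set G) \ {1})
      have hhM : h ∈ Cfsg.typeA1 M := (DadeSupport.typeA1_eq hG hM).symm ▸
        (⟨hcore.symm ▸ hh, hne1⟩ : h ∈ (Cfsg.sigmaCore M : Set G) \ {1})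
      exact tilde_disjoint hG hM hN hne
        (by simpa using mul_mem_tilde hhM (one_mem (Cfsg.supportR M _)) 1)
        (by simpa [hhA] using mul_mem_tilde haj (one_mem (Cfsg.supportR N _)) y)
    have hA1 : A ≠ 1 := fun e1 => haσ.2 (conj_eq_one_iff.mp e1)
    have hAc : A = c := by rw [e, hh1, one_mul]
    have h2 := (Cfsg.Agent.S1390.result hG M hM U (Or.inr ⟨hII, hP.U_compl⟩)).2.1 {A}
      (Set.singleton_subset_iff.mpr ⟨hAc ▸ hc.1, hA1⟩) (Set.singleton_nonempty A) (fun e1 => hHne ?_)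
    · exact ⟨hAF, h2.2⟩
    · refine le_bot_iff.mp ((le_inf le_rfl fun z hz => ?_).trans e1.le)
      exact mem_centralizer_singleton_iff.mpr (by rw [hAc]; exact mem_centralizer_iff.mp hc.2 z hz)

namespace IsSide

theorem le (hs : IsSide M F) : F ≤ M := hs.le_derived.trans (commutator_le_self M)

theorem supportR_eq_bot (hG : Cfsg.IsMinSimpleOddOrder G) (hs : IsSide M F) (ha : a ∈ sharpSet F) :
    Cfsg.supportR M a = ⊥ :=
  OddLocal.Final.supportR_eq_bot hG hs.max hs.typeP (Or.inl (hs.sub_typeA ha))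

/-- `F#` is a TI-subset with normalizer `M`, as a Dade set-up. -/
theorem dade (hG : Cfsg.IsMinSimpleOddOrder G) (hs : IsSide M F) :
    Cfsg.DadeHypothesis (sharpSet F) M (fun _ => ⊥) := by
  refine dade_restrict (Cfsg.Agent.S1537.result hG M hs.max _ (Or.inr (Or.inl rfl))).2 hs.sub_typeA
    (fun x hx a ha => ⟨(mem_normalizer_iff.mp (hs.normal hx) a).mp ha.1,
      fun e => ha.2 (conj_eq_one_iff.mp e)⟩) fun a ha => (hs.supportR_eq_bot hG ha).symm

theorem mem_conjSharp_iff (hG : Cfsg.IsMinSimpleOddOrder G) (hs : IsSide M F) :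
    g ∈ conjSharp F ↔ InSupport (sharpSet F) M (fun _ => ⊥) g := by
  rw [inSupport_iff (hs.dade hG).subset, mem_conjSharp]
  constructor
  · rintro ⟨hg, y, hy⟩
    exact ⟨y * g * y⁻¹, ⟨hy, fun e => hg (conj_eq_one_iff.mp e)⟩, 1, one_mem _, y⁻¹, by group⟩
  · rintro ⟨a, ha, r, hr, y, rfl⟩
    rw [mem_bot.mp hr, mul_one]
    exact ⟨fun e => ha.2 (conj_eq_one_iff.mp e), y⁻¹, by
      rw [show y⁻¹ * (y * a * y⁻¹) * y⁻¹⁻¹ = a by group]
      exact ha.1⟩

/-- The TI set-up of `TISide`. -/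
theorem isTISide (hG : Cfsg.IsMinSimpleOddOrder G) (hs : IsSide M F) : IsTISide F M where
  le := hs.le
  conj_mem m hm f hf := (mem_normalizer_iff.mp (hs.normal hm) f).mp hf
  ti g f hf hf1 hg := by
    have hD := hs.dade hG
    have hfA : f ∈ sharpSet F := ⟨hf, hf1⟩
    obtain ⟨x, hx, e⟩ := hD.fusion f hfA g ⟨hg, fun e => hf1 (conj_eq_one_iff.mp e)⟩
    have hc : x⁻¹ * g ∈ centralizer ({f} : Set G) := mem_centralizer_singleton_iff.mpr (by
      calc x⁻¹ * g * f = x⁻¹ * (g * f * g⁻¹) * g := by group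
        _ = x⁻¹ * (x * f * x⁻¹) * g := by rw [e]
        _ = f * (x⁻¹ * g) := by group)
    have hle : centralizer ({f} : Set G) ≤ M := by
      rw [← hD.sup_eq f hfA, bot_sup_eq]; exact inf_le_left
    simpa using mul_mem hx (hle hc)

theorem tilde_subset (hG : Cfsg.IsMinSimpleOddOrder G) (hs : IsSide M F) (hg : g ∈ tilde M) :
    g ∈ conjSharp F := by
  obtain ⟨a, ha, r, hr, y, rfl⟩ := hg
  have hR := OddLocal.Final.supportR_eq_bot hG hs.max hs.typeP
    (Or.inl (DadeSupport.typeA1_subset_typeA hG hs.max ha))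
  rw [DadeSupport.typeA1_eq hG hs.max] at ha
  rw [hR, mem_bot] at hr
  rw [hr, mul_one]
  exact (conjSharp_conj y).mpr (mem_conjSharp.mpr ⟨ha.2, 1, by simpa using hs.core_le ha.1⟩)

/-- If one element of a coset `a R(a)` is conjugate into `F#`, so is the whole coset. -/
theorem coset_mem (hG : Cfsg.IsMinSimpleOddOrder G) (hs : IsSide M F) (hN : IsCoatom N)
    (hne : ∀ g : G, N ≠ M.map (MulAut.conj g).toMonoidHom) (ha : a ∈ Cfsg.typeA1 N)
    (hr : r ∈ Cfsg.supportR N a) (h : a * r ∈ conjSharp F) :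
    ∃ y : G, (¬ centralizer ({a} : Set G) ≤ N ∧
      (∀ L : Subgroup G, IsCoatom L → centralizer ({a} : Set G) ≤ L →
        L = M.map (MulAut.conj y⁻¹).toMonoidHom)) ∧
      ∀ r' ∈ Cfsg.supportR N a, y * (a * r') * y⁻¹ ∈ F := by
  obtain ⟨-, y, hy⟩ := mem_conjSharp.mp h
  obtain ⟨hA, hu⟩ := hs.uniq N hN hne a ha r hr y hy
  have haσ : a ∈ Cfsg.sigmaCore N ∧ a ≠ 1 := by
    rw [DadeSupport.typeA1_eq hG hN] at ha; exact ha
  have huy : ∀ L : Subgroup G, IsCoatom L → centralizer ({a} : Set G) ≤ L →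
      L = M.map (MulAut.conj y⁻¹).toMonoidHom := fun L hL hle => by
    have h1 := hu _ (SylowUnique.isCoatom_conj hL y) (Support.map_conj_centralizer y a ▸ map_mono hle)
    rw [← h1, Support.map_conj_mul, inv_mul_cancel, Support.map_conj_of_mem (one_mem L)]
  have hle : ¬ centralizer ({a} : Set G) ≤ N := fun hle => hne y⁻¹ (huy N hN hle)
  refine ⟨y, ⟨hle, huy⟩, fun r' hr' => ?_⟩
  rcases Support.supportR_cases hG hN haσ.1 haσ.2 with ⟨h1, -⟩ | ⟨-, H, o, hR⟩
  · exact absurd h1 hle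
  · rw [hR, huy H o.max o.le, Support.sigmaCore_map_conj hG hs.max y⁻¹] at hr'
    obtain ⟨z, hz, rfl⟩ := hr'.1
    have e : y * (a * (MulAut.conj y⁻¹) z) * y⁻¹ = y * a * y⁻¹ * z := by
      simp only [MulAut.conj_apply]; group
    show y * (a * (MulAut.conj y⁻¹) z) * y⁻¹ ∈ F
    rw [e]
    exact mul_mem hA (hs.core_le hz)

/-- `Ã₁(N)` avoids the conjugates of `F#` for every other maximal subgroup `N` of type P. -/
theorem not_mem_of_typeP (hG : Cfsg.IsMinSimpleOddOrder G) (hs : IsSide M F) (hN : IsCoatom N)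
    (hP : Cfsg.IsOfTypeP N) (hne : ∀ g : G, N ≠ M.map (MulAut.conj g).toMonoidHom) (hg : g ∈ tilde N) :
    g ∉ conjSharp F := by
  obtain ⟨a, ha, r, hr, y, rfl⟩ := hg
  intro h
  obtain ⟨-, ⟨hle, -⟩, -⟩ := hs.coset_mem hG hN hne ha hr ((conjSharp_conj y).mp h)
  exact hle (OddLocal.Final.centralizer_typeA0_le hG hN hP
    (Or.inl (DadeSupport.typeA1_subset_typeA hG hN ha)))

end IsSide

/-- The conjugates of `Ŵ` avoid the conjugates of any subgroup of `M'`. -/
theorem whatG_not_derived (hP : Cfsg.IsTypePWith M W₁ U W₂) (hg : g ∈ WhatG W₁ W₂) (hF : F ≤ ⁅M, M⁆) :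
    g ∉ conjSharp F := by
  intro hcs
  obtain ⟨-, x, hx⟩ := mem_conjSharp.mp hcs
  obtain ⟨y, w, hw, rfl⟩ := hg
  have hd : orderOf w ∣ Nat.card ↥⁅M, M⁆ := by
    have h1 := Subgroup.orderOf_dvd_natCard _ (hF hx)
    rwa [show x * (y * w * y⁻¹) * x⁻¹ = MulAut.conj (x * y) w by rw [MulAut.conj_apply]; group,
      MulEquiv.orderOf_eq] at h1
  have hnW : W₂ ≤ normalizer (W₁ : Set G) := fun b hb => by
    refine mem_normalizer_iff.mpr fun z => ?_
    have key : ∀ z ∈ W₁, b * z * b⁻¹ = z := fun z hz => by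
      rw [← hP.selfNormalizing.2.2.2.1 z hz b hb, mul_inv_cancel_right]
    refine ⟨fun hz => (key z hz).symm ▸ hz, fun hz => ?_⟩
    have h2 := key _ hz
    rwa [show z = b * z * b⁻¹ from mul_left_cancel (mul_right_cancel h2).symm]
  obtain ⟨u, hu, b, hb, rfl⟩ := (OddLocal.mem_sup_of_le_normalizer hnW).mp hw.1
  have hcom : Commute u b := hP.selfNormalizing.2.2.2.1 u hu b hb
  refine hw.2 (Or.inr ?_)
  suffices u = 1 by rw [this, one_mul]; exact hb
  have hW2 : Nat.card W₂ ∣ Nat.card ↥⁅M, M⁆ :=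
    card_dvd_of_le (hP.W₂_le.trans (inf_le_right.trans (commutator_le_self _)))
  have h1 : (u * b) ^ Nat.card ↥⁅M, M⁆ = 1 := orderOf_dvd_iff_pow_eq_one.mp hd
  rw [hcom.mul_pow, orderOf_dvd_iff_pow_eq_one.mp ((W₂.orderOf_dvd_natCard hb).trans hW2), mul_one] at h1
  refine orderOf_eq_one_iff.mp (Nat.eq_one_of_dvd_coprimes ?_ (W₁.orderOf_dvd_natCard hu)
    (orderOf_dvd_of_pow_eq_one h1))
  exact TypeP.coprime_W₁_derived hP

theorem whatG_comm (W₁ W₂ : Subgroup G) : WhatG W₁ W₂ = WhatG W₂ W₁ := by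
  simp only [WhatG, What, sup_comm W₁ W₂, Set.union_comm (W₁ : Set G)]

/-- The cosets of `L` avoiding the conjugates of `F#` and `F'#`. -/
noncomputable def good (L F F' : Subgroup G) : Set G :=
  {a | a ∈ Cfsg.typeA1 L ∧ ∀ r ∈ Cfsg.supportR L a, a * r ∉ conjSharp F ∧ a * r ∉ conjSharp F'}

theorem dade_good (hG : Cfsg.IsMinSimpleOddOrder G) (hN : IsCoatom N) (F F' : Subgroup G) :
    Cfsg.DadeHypothesis (good N F F') N (Cfsg.supportR N) := by
  have hD := dade_A1 hG hN
  refine dade_restrict hD (fun a ha => ha.1) (fun x hx a ha => ⟨hD.conj_mem x hx a ha.1, fun r hr => ?_⟩)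
    fun a _ => rfl
  have h := Char.Exceptional.dade_conj_mem_H hD (g := x⁻¹) (hD.conj_mem x hx a ha.1) ha.1 (by group) hr
  have e : x * a * x⁻¹ * r = x * (a * (x⁻¹ * r * x⁻¹⁻¹)) * x⁻¹ := by group
  rw [e, conjSharp_conj, conjSharp_conj]
  exact ha.2 _ h

variable (hG : Cfsg.IsMinSimpleOddOrder G) (hS : IsCoatom S) (hT : IsCoatom T)
  (hSP : Cfsg.IsTypePWith S W₁ U W₂) (hTP : Cfsg.IsTypePWith T W₂ V W₁)
  (hFS : IsSide S F) (hFT : IsSide T F')

include hG hS hT hSP hTP hFS hFT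

/-- The two large pieces are disjoint. -/
theorem sides_disjoint (hg : g ∈ conjSharp F) : g ∉ conjSharp F' := by
  intro hg'
  obtain ⟨R, hR, hSR, hTR⟩ := exists_reps hS hT (T_ne_S hG hS hT hSP hTP)
  rcases cover hG hS hT hSP hTP hR (ne_one_of_mem_conjSharp hg) with ⟨N, hN, hgN⟩ | hW
  · by_cases hNS : N = S
    · exact hFT.not_mem_of_typeP hG hS hFS.typeP (hR.nconj hTR hSR fun e => T_ne_S hG hS hT hSP hTP 1
        (by rw [e]; exact (Support.map_conj_of_mem (one_mem _)).symm)) (hNS ▸ hgN) hg'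
    by_cases hNT : N = T
    · exact hFS.not_mem_of_typeP hG hT hFT.typeP (T_ne_S hG hS hT hSP hTP) (hNT ▸ hgN) hg
    obtain ⟨a, ha, r, hr, y, rfl⟩ := hgN
    obtain ⟨x, ⟨hle, hx⟩, -⟩ := hFS.coset_mem hG (hR.max N hN) (hR.nconj hSR hN (Ne.symm hNS)) ha hr
      ((conjSharp_conj y).mp hg)
    obtain ⟨x', ⟨-, hx'⟩, -⟩ := hFT.coset_mem hG (hR.max N hN) (hR.nconj hTR hN (Ne.symm hNT)) ha hr
      ((conjSharp_conj y).mp hg')
    obtain ⟨H, hH, hHle⟩ : ∃ H : Subgroup G, IsCoatom H ∧ centralizer ({a} : Set G) ≤ H := by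
      rw [DadeSupport.typeA1_eq hG (hR.max N hN)] at ha
      exact (eq_top_or_exists_le_coatom _).resolve_left (TransitivityHyp.centralizer_singleton_ne_top hG ha.2)
    refine T_ne_S hG hS hT hSP hTP (x' * x⁻¹) ?_
    rw [← Support.map_conj_mul, ← hx H hH hHle, hx' H hH hHle, Support.map_conj_mul, mul_inv_cancel,
      Support.map_conj_of_mem (one_mem T)]
  · exact whatG_not_derived hSP hW hFS.le_derived hg

/-- A non-identity element outside the conjugates of `Ŵ`, `F_S#`, `F_T#` lies in a good coset. -/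
theorem exists_good {R : Finset (Subgroup G)} (hR : IsReps R) (hSR : S ∈ R) (hTR : T ∈ R) (hg : g ≠ 1)
    (hW : g ∉ WhatG W₁ W₂) (h1 : g ∉ conjSharp F) (h2 : g ∉ conjSharp F') :
    ∃ M ∈ R, M ≠ S ∧ M ≠ T ∧ InSupport (good M F F') M (Cfsg.supportR M) g := by
  rcases cover hG hS hT hSP hTP hR hg with ⟨M, hM, hgM⟩ | h
  · have hMS : M ≠ S := fun e => h1 (hFS.tilde_subset hG (e ▸ hgM))
    have hMT : M ≠ T := fun e => h2 (hFT.tilde_subset hG (e ▸ hgM))
    refine ⟨M, hM, hMS, hMT, ?_⟩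
    obtain ⟨a, ha, r, hr, y, rfl⟩ := hgM
    rw [inSupport_iff (dade_good hG (hR.max M hM) F F').subset]
    refine ⟨a, ⟨ha, fun r' hr' => ⟨fun h => ?_, fun h => ?_⟩⟩, r, hr, y, rfl⟩
    · obtain ⟨x, -, hx⟩ := hFS.coset_mem hG (hR.max M hM) (hR.nconj hSR hM (Ne.symm hMS)) ha hr' h
      exact h1 ((conjSharp_conj y).mpr (mem_conjSharp.mpr ⟨mul_ne_one_of_mem_A1 hG (hR.max M hM) ha hr, x, hx r hr⟩))
    · obtain ⟨x, -, hx⟩ := hFT.coset_mem hG (hR.max M hM) (hR.nconj hTR hM (Ne.symm hMT)) ha hr' h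
      exact h2 ((conjSharp_conj y).mpr (mem_conjSharp.mpr ⟨mul_ne_one_of_mem_A1 hG (hR.max M hM) ha hr, x, hx r hr⟩))
  · exact absurd h hW

end Finite

variable [Fintype G] {S T F F' W₁ W₂ U V : Subgroup G}

open scoped Classical in
/-- The contribution of the conjugates of `F#` to the mean of a class function. -/
noncomputable def partSide (M F : Subgroup G) (f : G → ℂ) : ℂ :=
  (Nat.card M : ℂ)⁻¹ * ∑ a : M, if (a : G) ∈ sharpSet F then f a else 0

open scoped Classical in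
/-- The contribution of the good cosets of `L` to the mean of a class function. -/
noncomputable def partGood (L F F' : Subgroup G) (f : G → ℂ) : ℂ :=
  (Nat.card L : ℂ)⁻¹ * ∑ a : L, if (a : G) ∈ good L F F' then avg (Cfsg.supportR L) f a else 0

/-- `|good L| / |L|`. -/
noncomputable def weightGood (L F F' : Subgroup G) : ℝ :=
  (Set.ncard (good L F F') : ℝ) / Nat.card L

theorem partGood_one (L F F' : Subgroup G) (hsub : good L F F' ⊆ (L : Set G)) :
    partGood L F F' (fun _ => 1) = (weightGood L F F' : ℂ) := by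
  classical
  rw [partGood, Finset.sum_congr rfl fun a _ => by rw [CfsgLib.DadeMap.avg_one], Finset.sum_boole,
    ← Fintype.card_subtype, ← Nat.card_eq_fintype_card, weightGood, ← Nat.card_coe_set_eq,
    Nat.card_congr (Equiv.subtypeSubtypeEquivSubtype fun {a} h => hsub h :
      {a : L // (a : G) ∈ good L F F'} ≃ _)]
  push_cast
  rw [inv_mul_eq_div]

theorem partSide_one {M F : Subgroup G} (hle : F ≤ M) :
    partSide M F (fun _ => 1) = ((((Nat.card F : ℝ) - 1) / Nat.card M : ℝ) : ℂ) := by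
  classical
  have h1 : (Nat.card F : ℂ) - 1 = ∑ a : M, if (a : G) ∈ sharpSet F then (1 : ℂ) else 0 := by
    have hsplit : ∀ a : M, (if (a : G) ∈ sharpSet F then (1 : ℂ) else 0) =
        (if (a : G) ∈ F then 1 else 0) - if a = 1 then 1 else 0 := fun a => by
      by_cases ha : a = 1
      · subst ha; simp [sharpSet]
      · simp [sharpSet, ha]
    rw [Finset.sum_congr rfl fun a _ => hsplit a, Finset.sum_sub_distrib, Finset.sum_ite_eq' Finset.univ (1 : M),
      if_pos (Finset.mem_univ _), Finset.sum_boole, ← Fintype.card_subtype, ← Nat.card_eq_fintype_card]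
    exact congrArg (fun n : ℕ => (n : ℂ) - 1) (Nat.card_congr ((subgroupOfEquivOfLe hle).symm.toEquiv))
  rw [partSide, ← h1]
  push_cast
  ring

open scoped Classical in
theorem partSide_eq (hG : Cfsg.IsMinSimpleOddOrder G) {M E : Subgroup G} (hs : IsSide M E) {f : G → ℂ}
    (hf : Cfsg.IsClassFunction G f) :
    (Nat.card G : ℂ)⁻¹ * ∑ g, (if g ∈ conjSharp E then f g else 0) = partSide M E f := by
  have h := sum_inSupport (hs.dade hG) hf
  simp only [avg_bot] at h
  rw [partSide, ← h]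
  exact congrArg _ (Finset.sum_congr rfl fun g _ => if_congr (hs.mem_conjSharp_iff hG) rfl rfl)

/-- The part of `F#` in the mean of `|χ|²` is the mass. -/
theorem partSide_normSq (hG : Cfsg.IsMinSimpleOddOrder G) {M E : Subgroup G} (hs : IsSide M E) {χ : G → ℂ}
    (hχ : Cfsg.IsClassFunction G χ) :
    (partSide M E fun g => (Complex.normSq (χ g) : ℂ)).re = mass E M χ := by
  classical
  have hf : Cfsg.IsClassFunction G (fun g => (Complex.normSq (χ g) : ℂ)) := fun g y => by simp only [hχ g y]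
  rw [mass_eq (hs.isTISide hG) hχ, ← partSide_eq hG hs hf, ← Complex.ofReal_natCast, ← Complex.ofReal_inv,
    Complex.re_ofReal_mul, Complex.re_sum]
  exact congrArg _ (Finset.sum_congr rfl fun g _ => by split_ifs <;> simp)

variable (hG : Cfsg.IsMinSimpleOddOrder G) (hS : IsCoatom S) (hT : IsCoatom T)
  (hSP : Cfsg.IsTypePWith S W₁ U W₂) (hTP : Cfsg.IsTypePWith T W₂ V W₁)
  (hFS : IsSide S F) (hFT : IsSide T F')

include hG hS hT hSP hTP hFS hFT

open scoped Classical in
/-- (5e): the mean of a class function over `1`, `Ŵ`, `F_S#`, `F_T#` and the good cosets. -/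
theorem mean_eq_good {R : Finset (Subgroup G)} (hR : IsReps R) (hSR : S ∈ R) (hTR : T ∈ R) {f : G → ℂ}
    (hf : Cfsg.IsClassFunction G f) :
    (Nat.card G : ℂ)⁻¹ * ∑ g, f g = (Nat.card G : ℂ)⁻¹ * f 1 + partWhat W₁ W₂ f + partSide S F f +
      partSide T F' f + ∑ M ∈ (R.erase S).erase T, partGood M F F' f := by
  have hDW := dade_What hSP.selfNormalizing
  have hmemW : ∀ g, g ∈ WhatG W₁ W₂ ↔ InSupport (What W₁ W₂) (W₁ ⊔ W₂) (fun _ => ⊥) g := fun g => by
    rw [inSupport_iff hDW.subset]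
    exact ⟨fun ⟨y, w, hw, e⟩ => ⟨w, hw, 1, one_mem _, y, by rw [e, mul_one]⟩,
      fun ⟨a, ha, r, hr, y, e⟩ => ⟨y, a, ha, by rw [e, mem_bot.mp hr, mul_one]⟩⟩
  set R' := (R.erase S).erase T with hR'
  have hR'R : ∀ M ∈ R', M ∈ R := fun M hM => Finset.mem_of_mem_erase (Finset.mem_of_mem_erase hM)
  let P : Subgroup G → G → Prop := fun M g => InSupport (good M F F') M (Cfsg.supportR M) g
  have hP : ∀ M ∈ R', ∀ g, P M g → g ∈ tilde M ∧ g ∉ conjSharp F ∧ g ∉ conjSharp F' := by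
    intro M hM g hg
    obtain ⟨a, ha, r, hr, y, rfl⟩ :=
      (inSupport_iff (dade_good hG (hR.max M (hR'R M hM)) F F').subset).mp hg
    exact ⟨⟨a, ha.1, r, hr, y, rfl⟩, fun h => (ha.2 r hr).1 ((conjSharp_conj y).mp h),
      fun h => (ha.2 r hr).2 ((conjSharp_conj y).mp h)⟩
  have hW1 : (1 : G) ∉ WhatG W₁ W₂ := fun h => CfsgLib.DadeMap.not_inSupport_one hDW ((hmemW 1).mp h)
  have hpoint : ∀ g, f g = (if g = 1 then f g else 0) + (if g ∈ WhatG W₁ W₂ then f g else 0) +
      (if g ∈ conjSharp F then f g else 0) + (if g ∈ conjSharp F' then f g else 0) +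
      ∑ M ∈ R', (if P M g then f g else 0) := by
    intro g
    by_cases h1 : g = 1
    · subst h1
      rw [if_pos rfl, if_neg hW1, if_neg fun h => ne_one_of_mem_conjSharp h rfl, if_neg fun h => ne_one_of_mem_conjSharp h rfl,
        Finset.sum_eq_zero fun M hM => if_neg
          (CfsgLib.DadeMap.not_inSupport_one (dade_good hG (hR.max M (hR'R M hM)) F F')),
        add_zero, add_zero, add_zero, add_zero]
    by_cases hW : g ∈ WhatG W₁ W₂
    · rw [if_neg h1, if_pos hW, if_neg (whatG_not_derived hSP hW hFS.le_derived),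
        if_neg (whatG_not_derived hTP (whatG_comm W₁ W₂ ▸ hW) hFT.le_derived),
        Finset.sum_eq_zero fun M hM => if_neg fun h => whatG_not_tilde hG hS hT hSP hTP hW
          (hR.max M (hR'R M hM)) (hP M hM g h).1, zero_add, add_zero, add_zero, add_zero]
    by_cases hF : g ∈ conjSharp F
    · rw [if_neg h1, if_neg hW, if_pos hF, if_neg (sides_disjoint hG hS hT hSP hTP hFS hFT hF),
        Finset.sum_eq_zero fun M hM => if_neg fun h => (hP M hM g h).2.1 hF, zero_add, zero_add, add_zero,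
        add_zero]
    by_cases hF' : g ∈ conjSharp F'
    · rw [if_neg h1, if_neg hW, if_neg hF, if_pos hF',
        Finset.sum_eq_zero fun M hM => if_neg fun h => (hP M hM g h).2.2 hF', zero_add, zero_add, zero_add,
        add_zero]
    obtain ⟨M, hM, hMS, hMT, hgM⟩ := exists_good hG hS hT hSP hTP hFS hFT hR hSR hTR h1 hW hF hF'
    have hM' : M ∈ R' := Finset.mem_erase.mpr ⟨hMT, Finset.mem_erase.mpr ⟨hMS, hM⟩⟩
    rw [if_neg h1, if_neg hW, if_neg hF, if_neg hF', Finset.sum_eq_single M (fun N hN hne => if_neg fun h =>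
      tilde_disjoint hG (hR.max M hM) (hR.max N (hR'R N hN)) (hR.nconj hM (hR'R N hN) hne.symm)
        (hP M hM' g hgM).1 (hP N hN g h).1) (fun h => absurd hM' h), if_pos hgM, zero_add, zero_add,
      zero_add, zero_add]
  rw [Finset.sum_congr rfl fun g _ => hpoint g]
  simp only [Finset.sum_add_distrib]
  rw [Finset.sum_ite_eq' Finset.univ (1 : G) f, if_pos (Finset.mem_univ _), Finset.sum_comm]
  simp only [mul_add, Finset.mul_sum _ _ ((Nat.card G : ℂ)⁻¹)]
  have hside : ∀ {M E : Subgroup G}, IsSide M E →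
      (Nat.card G : ℂ)⁻¹ * ∑ g, (if g ∈ conjSharp E then f g else 0) = partSide M E f := fun hs =>
    partSide_eq hG hs hf
  congr 1
  · rw [← Finset.mul_sum, ← Finset.mul_sum, ← Finset.mul_sum, hside hFS, hside hFT]
    congr 3
    have h := sum_inSupport hDW hf
    simp only [avg_bot] at h
    rw [partWhat, ← h]
    exact congrArg _ (Finset.sum_congr rfl fun g _ => if_congr (hmemW g) rfl rfl)
  · refine Finset.sum_congr rfl fun M hM => ?_
    rw [partGood, ← sum_inSupport (dade_good hG (hR.max M (hR'R M hM)) F F') hf, Finset.mul_sum]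

open scoped Classical in
/-- (5e): `1/g + (1 - 1/p)(1 - 1/q) + P_S + P_T + ∑ w_L = 1`. -/
theorem weight_identity_good {R : Finset (Subgroup G)} (hR : IsReps R) (hSR : S ∈ R) (hTR : T ∈ R) :
    (Nat.card G : ℝ)⁻¹ + ((Nat.card W₁ : ℝ) - 1) * ((Nat.card W₂ : ℝ) - 1) /
        ((Nat.card W₁ : ℝ) * Nat.card W₂) +
      ((Nat.card F : ℝ) - 1) / Nat.card S + ((Nat.card F' : ℝ) - 1) / Nat.card T +
      ∑ M ∈ (R.erase S).erase T, weightGood M F F' = 1 := by
  have h := mean_eq_good hG hS hT hSP hTP hFS hFT hR hSR hTR (f := fun _ => (1 : ℂ)) (fun _ _ => rfl)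
  rw [partWhat_one hSP.selfNormalizing, partSide_one hFS.le, partSide_one hFT.le,
    Finset.sum_congr rfl fun M hM => partGood_one M F F'
      (dade_good hG (hR.max M (Finset.mem_of_mem_erase (Finset.mem_of_mem_erase hM))) F F').subset,
    Finset.sum_const, Finset.card_univ, nsmul_one, ← Nat.card_eq_fintype_card,
    inv_mul_cancel₀ (Nat.cast_ne_zero.mpr Nat.card_pos.ne'), mul_one] at h
  apply Complex.ofReal_injective
  push_cast at h ⊢
  exact h.symm

open scoped Classical in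
/-- (5e), norm form: the norm bounds the squared averages on all the pieces. -/
theorem norm_ge_good {R : Finset (Subgroup G)} (hR : IsReps R) (hSR : S ∈ R) (hTR : T ∈ R) {χ : G → ℂ}
    (hχ : Cfsg.IsClassFunction G χ) :
    (Nat.card G : ℝ)⁻¹ * Complex.normSq (χ 1) +
      (Nat.card ↥(W₁ ⊔ W₂) : ℝ)⁻¹ *
        ∑ w : ↥(W₁ ⊔ W₂), (if (w : G) ∈ What W₁ W₂ then Complex.normSq (χ w) else 0) +
      mass F S χ + mass F' T χ +
      ∑ M ∈ (R.erase S).erase T, (Nat.card M : ℝ)⁻¹ *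
        ∑ a : M, Complex.normSq (rho (good M F F') M (Cfsg.supportR M) χ a) ≤
      (Cfsg.classInner χ χ).re := by
  have hf : Cfsg.IsClassFunction G (fun g => (Complex.normSq (χ g) : ℂ)) := fun g y => by
    simp only [hχ g y]
  have h := congrArg Complex.re (mean_eq_good hG hS hT hSP hTP hFS hFT hR hSR hTR hf)
  simp only [Complex.add_re, Complex.re_sum] at h
  have hl : ((Nat.card G : ℂ)⁻¹ * ∑ g, (Complex.normSq (χ g) : ℂ)).re =
      (Nat.card G : ℝ)⁻¹ * ∑ g, Complex.normSq (χ g) := by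
    rw [← Complex.ofReal_natCast, ← Complex.ofReal_inv, ← Complex.ofReal_sum, ← Complex.ofReal_mul,
      Complex.ofReal_re]
  rw [hl] at h
  rw [Frob12.classInner_self_eq_sum, h]
  refine add_le_add (add_le_add (add_le_add (add_le_add (le_of_eq ?_) (le_of_eq ?_)) (le_of_eq ?_))
    (le_of_eq ?_)) (Finset.sum_le_sum fun M hM => ?_)
  · rw [← Complex.ofReal_natCast, ← Complex.ofReal_inv, ← Complex.ofReal_mul, Complex.ofReal_re]
  · rw [partWhat, ← Complex.ofReal_natCast, ← Complex.ofReal_inv, Complex.re_ofReal_mul, Complex.re_sum]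
    exact congrArg _ (Finset.sum_congr rfl fun g _ => by split_ifs <;> simp)
  · exact (partSide_normSq hG hFS hχ).symm
  · exact (partSide_normSq hG hFT hχ).symm
  · have hD := dade_good hG (hR.max M (Finset.mem_of_mem_erase (Finset.mem_of_mem_erase hM))) F F'
    refine (Frob12.norm_support hD hχ).trans (le_of_eq ?_)
    rw [partGood, ← sum_inSupport hD hf, ← Complex.ofReal_natCast, ← Complex.ofReal_inv,
      Complex.re_ofReal_mul, Complex.re_sum,
      show {g : G | InSupport (good M F F') M (Cfsg.supportR M) g} =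
        ↑(Finset.univ.filter fun g => InSupport (good M F F') M (Cfsg.supportR M) g) from by ext; simp,
      finsum_mem_coe_finset, Finset.sum_filter]
    refine congrArg _ (Finset.sum_congr rfl fun g _ => ?_)
    split_ifs <;> simp

omit hG hS hT hSP hTP hFS hFT

theorem tilde_conj (hG : Cfsg.IsMinSimpleOddOrder G) {L : Subgroup G} (hL : IsCoatom L) (g y : G) :
    y * g * y⁻¹ ∈ tilde L ↔ g ∈ tilde L := by
  rw [mem_tilde_iff hG hL, mem_tilde_iff hG hL, CfsgLib.DadeMap.inSupport_conj]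

/-- The conjugates of `M_σ#` lie in `Ã₁(M)`, so they avoid the other sets `Ã₁(N)`. -/
theorem conjSharp_core_not_tilde (hG : Cfsg.IsMinSimpleOddOrder G) {M N : Subgroup G} (hM : IsCoatom M)
    (hN : IsCoatom N) (hne : ∀ g : G, N ≠ M.map (MulAut.conj g).toMonoidHom) {g : G}
    (hg : g ∈ conjSharp (Cfsg.sigmaCore M)) : g ∉ tilde N := by
  obtain ⟨h1, y, hy⟩ := mem_conjSharp.mp hg
  refine tilde_disjoint hG hM hN hne ((tilde_conj hG hM g y).mp ?_)
  have hA : y * g * y⁻¹ ∈ Cfsg.typeA1 M := (DadeSupport.typeA1_eq hG hM).symm ▸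
    (⟨hy, fun e => h1 (conj_eq_one_iff.mp e)⟩ : y * g * y⁻¹ ∈ (Cfsg.sigmaCore M : Set G) \ {1})
  simpa using mul_mem_tilde hA (one_mem (Cfsg.supportR M _)) 1

theorem mass_core_off_tilde (hG : Cfsg.IsMinSimpleOddOrder G) {M N : Subgroup G} (hM : IsCoatom M)
    (hN : IsCoatom N) (hne : ∀ g : G, N ≠ M.map (MulAut.conj g).toMonoidHom) (χ : G → ℂ)
    [DecidablePred (· ∈ tilde N)] :
    mass (Cfsg.sigmaCore M) M (fun g => if g ∈ tilde N then 0 else χ g) =
      mass (Cfsg.sigmaCore M) M χ := by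
  classical
  have := Fintype.ofFinite (Cfsg.sigmaCore M)
  rw [mass, mass, finsum_eq_sum_of_fintype, finsum_eq_sum_of_fintype]
  refine congrArg _ (Finset.sum_congr rfl fun f _ => ?_)
  by_cases hf : f = 1
  · rw [if_pos hf, if_pos hf]
  · rw [if_neg hf, if_neg hf, if_neg (conjSharp_core_not_tilde hG hM hN hne
      (mem_conjSharp.mpr ⟨fun e => hf (Subtype.ext e), 1, by simp⟩))]

theorem rho_good_of_mem {M : Subgroup G} (F F' : Subgroup G) {χ : G → ℂ} {a : M}
    (ha : (a : G) ∈ good M F F') :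
    rho (good M F F') M (Cfsg.supportR M) χ a = rho (Cfsg.typeA1 M) M (Cfsg.supportR M) χ a := by
  rw [Frob12.rho_of_mem ha, Frob12.rho_of_mem ha.1]

open scoped Classical in
/-- A function with constant averages `C` on `A₁(M)` has mass `w_M |C|²` on the good cosets. -/
theorem sum_good_const {M : Subgroup G} (hsub : good M F F' ⊆ (M : Set G)) {χ : G → ℂ} {C : ℂ}
    (hC : ∀ a : M, (a : G) ∈ Cfsg.typeA1 M → rho (Cfsg.typeA1 M) M (Cfsg.supportR M) χ a = C) :
    (Nat.card M : ℝ)⁻¹ * ∑ a : M, Complex.normSq (rho (good M F F') M (Cfsg.supportR M) χ a) =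
      weightGood M F F' * Complex.normSq C := by
  classical
  have h : ∀ a : M, Complex.normSq (rho (good M F F') M (Cfsg.supportR M) χ a) =
      if (a : G) ∈ good M F F' then Complex.normSq C else 0 := fun a => by
    by_cases ha : (a : G) ∈ good M F F'
    · rw [if_pos ha, rho_good_of_mem F F' ha, hC a ha.1]
    · rw [if_neg ha, Frob12.rho_of_notMem ha, map_zero]
  rw [Finset.sum_congr rfl fun a _ => h a, ← Finset.sum_filter, Finset.sum_const, nsmul_eq_mul,
    ← Fintype.card_subtype, ← Nat.card_eq_fintype_card, weightGood, ← Nat.card_coe_set_eq,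
    Nat.card_congr (Equiv.subtypeSubtypeEquivSubtype fun {a} h => hsub h :
      {a : M // (a : G) ∈ good M F F'} ≃ _)]
  rw [← mul_assoc, inv_mul_eq_div]

include hG hS hT hSP hTP hFS hFT

open scoped Classical in
/-- (5c) split over the pieces: what `x_L` leaves outside `Ã₁(L)`. -/
theorem residual_split {R : Finset (Subgroup G)} (hR : IsReps R) (hSR : S ∈ R) (hTR : T ∈ R)
    {L : Subgroup G} [Fintype L] (hLR : L ∈ (R.erase S).erase T) (hI : Cfsg.IsOfTypeI L) (d : OneData L) :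
    (Nat.card ↥(W₁ ⊔ W₂) : ℝ)⁻¹ *
        ∑ w : ↥(W₁ ⊔ W₂), (if (w : G) ∈ What W₁ W₂ then Complex.normSq (d.x w) else 0) +
      mass F S (fun g => if g ∈ tilde L then 0 else d.x g) +
      mass F' T (fun g => if g ∈ tilde L then 0 else d.x g) +
      ∑ M ∈ ((R.erase S).erase T).erase L, (Nat.card M : ℝ)⁻¹ *
        ∑ a : M, Complex.normSq (rho (good M F F') M (Cfsg.supportR M) d.x a) ≤
      ((Cfsg.fittingHall ↥L).index : ℝ) / Nat.card (Cfsg.fittingHall ↥L) := by
  have hLR' : L ∈ R := Finset.mem_of_mem_erase (Finset.mem_of_mem_erase hLR)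
  have hL : IsCoatom L := hR.max L hLR'
  have hxc := CfsgLib.Char.IsGen.isClassFunction (d.x_gen hG hL hI)
  set χ : G → ℂ := fun g => if g ∈ tilde L then 0 else d.x g with hχdef
  have hχ : Cfsg.IsClassFunction G χ := fun g y => by
    simp only [hχdef, tilde_conj hG hL, hxc g y]
  have h := norm_ge_good hG hS hT hSP hTP hFS hFT hR hSR hTR hχ
  have hn : (Cfsg.classInner χ χ).re =
      (Nat.card G : ℝ)⁻¹ * ∑ g, (if g ∈ tilde L then 0 else Complex.normSq (d.x g)) := by
    rw [Frob12.classInner_self_eq_sum]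
    exact congrArg _ (Finset.sum_congr rfl fun g _ => by simp only [hχdef]; split_ifs <;> simp)
  rw [hn] at h
  refine le_trans ?_ (le_trans h (d.residual hG hL hI))
  have hwhat : ∀ w : ↥(W₁ ⊔ W₂), (if (w : G) ∈ What W₁ W₂ then Complex.normSq (χ w) else 0) =
      if (w : G) ∈ What W₁ W₂ then Complex.normSq (d.x w) else 0 := fun w => by
    by_cases hw : (w : G) ∈ What W₁ W₂
    · rw [if_pos hw, if_pos hw, hχdef]
      simp only [if_neg (whatG_not_tilde hG hS hT hSP hTP (g := (w : G)) ⟨1, w, hw, by simp⟩ hL)]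
    · rw [if_neg hw, if_neg hw]
  have hgood : ∀ M ∈ ((R.erase S).erase T).erase L, ∀ a : M,
      rho (good M F F') M (Cfsg.supportR M) χ a = rho (good M F F') M (Cfsg.supportR M) d.x a := by
    intro M hM a
    have hMR : M ∈ R := Finset.mem_of_mem_erase (Finset.mem_of_mem_erase (Finset.mem_of_mem_erase hM))
    by_cases ha : (a : G) ∈ good M F F'
    · rw [Frob12.rho_of_mem ha, Frob12.rho_of_mem ha, avg, avg]
      refine congrArg _ (finsum_mem_congr rfl fun r hr => ?_)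
      have hg : (a : G) * r ∈ tilde M := by simpa using mul_mem_tilde ha.1 hr 1
      simp only [hχdef, if_neg (tilde_disjoint hG (hR.max M hMR) hL
        (hR.nconj hMR hLR' (Finset.ne_of_mem_erase hM)) hg)]
    · rw [Frob12.rho_of_notMem ha, Frob12.rho_of_notMem ha]
  rw [Finset.sum_congr rfl fun w _ => hwhat w] at h ⊢
  refine add_le_add (add_le_add (add_le_add ?_ le_rfl) le_rfl) ?_
  · exact le_add_of_nonneg_left (mul_nonneg (by positivity) (Complex.normSq_nonneg _))
  · refine le_trans (le_of_eq (Finset.sum_congr rfl fun M hM => congrArg _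
      (Finset.sum_congr rfl fun a _ => congrArg Complex.normSq (hgood M hM a).symm))) ?_
    exact Finset.sum_le_sum_of_subset_of_nonneg (Finset.erase_subset _ _)
      fun M _ _ => mul_nonneg (by positivity) (Finset.sum_nonneg fun a _ => Complex.normSq_nonneg _)

end CfsgLib.OddLocal.FTFinal
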