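import Cfsg.Agent.Lib.OddLocal.Final.Rules
import Cfsg.Agent.Lib.OddLocal.Final.Overlap
import Cfsg.Agent.Lib.OddLocal.Final.FixedCongr
import Cfsg.Agent.Lib.OddLocal.Final.FreeInst

/-!
Owner: helper15. The Fitting side of a subgroup of type II of the final configuration as a `Side`:
`F = H × C` with `C = C_U(H)`, the fixed characters, and the count of free characters.
-/

set_option autoImplicit false
set_option linter.unusedSectionVars false

open scoped ComplexConjugate commutatorElement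

namespace CfsgLib.OddLocal.FTFinal

open Subgroup
open CfsgLib.Char CfsgLib.CyclicTI
open CfsgLib.OddLocal.Final (KernelModule Fixes Regular IsFree kernelModule_two typeTwo_facts)
open Cfsg (classInner IsClassFunction IsGeneralizedCharacter)

namespace Config

variable {G : Type*} [Group G] [Fintype G] (c : Config G)

/-- The congruence for the coefficients of a function induced from two fixed characters. -/
theorem coef_congr_ind (hq : c.q.Prime) {F : Subgroup G} (hWF : c.W₂ ≤ F)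
    (hnorm : ∀ y ∈ c.W₁, ∀ f ∈ F, y * f * y⁻¹ ∈ F)
    (hfix : ∀ y ∈ c.W₁, y ≠ 1 → F ⊓ centralizer ({y} : Set G) = c.W₂)
    (a b : F →* ℂˣ)
    (ha : ∀ y ∈ c.W₁, ∀ f f' : F, (f' : G) = y * f * y⁻¹ → a f' = a f)
    (hb : ∀ y ∈ c.W₁, ∀ f f' : F, (f' : G) = y * f * y⁻¹ → b f' = b f)
    (hqF : c.q.Coprime (Nat.card F)) (l : c.W₁ →* ℂˣ) (k : c.W₂ →* ℂˣ) {C : ℤ}
    (hC : c.coef (ind F a b) l k = C) :
    (a.comp (inclusion hWF) = k → b.comp (inclusion hWF) ≠ k → (c.q : ℤ) ∣ C - 1) ∧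
      (a.comp (inclusion hWF) ≠ k → b.comp (inclusion hWF) = k → (c.q : ℤ) ∣ C + 1) := by
  classical
  have := Fintype.ofFinite F
  obtain ⟨y, hy, hy1⟩ := c.W₁.bot_or_exists_ne_one.resolve_left c.selfNorm.1
  have hord : orderOf y = c.q := by
    rcases (Nat.dvd_prime hq).mp (c.W₁.orderOf_dvd_natCard hy) with h | h
    · exact absurd (orderOf_eq_one_iff.mp h) hy1
    · exact h
  set ω := inl c.selfNorm l * inr c.selfNorm k with hω
  have hωW : ∀ b : c.W₂, ω ⟨b, mem_sup_right b.2⟩ = k b := by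
    intro b
    rw [hω, MonoidHom.mul_apply, inl_apply_W₂ c.selfNorm l _ b.2, one_mul]
    refine congrArg k (Subtype.ext ?_)
    have h5 := proj_mul c.selfNorm ⟨b, mem_sup_right b.2⟩
    rwa [(proj₁_eq_one_iff c.selfNorm _).mpr (show ((⟨b, mem_sup_right b.2⟩ : ↥(c.W₁ ⊔ c.W₂)) : G) ∈ c.W₂ from b.2),
      OneMemClass.coe_one, one_mul] at h5
  have hcond : ∀ ψ : F →* ℂˣ,
      (∀ b : c.W₂, ψ ⟨b, ((hfix y hy hy1).ge b.2).1⟩ = ω ⟨b, mem_sup_right b.2⟩) ↔
        ψ.comp (inclusion hWF) = k := by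
    intro ψ
    constructor
    · intro h; exact MonoidHom.ext fun b => (h b).trans (hωW b)
    · intro h b
      rw [hωW b, ← h]; rfl
  obtain ⟨ma, D, hma, hD, hda⟩ := family_fixed_congr c.selfNorm c.family F hy hq hord
    (hnorm y hy) (hfix y hy hy1) a (fun x => ha y hy x _ rfl) ω
  obtain ⟨mb, D', hmb, hD', hdb⟩ := family_fixed_congr c.selfNorm c.family F hy hq hord
    (hnorm y hy) (hfix y hy hy1) b (fun x => hb y hy x _ rfl) ω
  obtain rfl : D = D' := by exact_mod_cast hD.symm.trans hD'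
  obtain ⟨m1, D1, hm1, hD1, hd1⟩ := family_fixed_congr c.selfNorm c.family F hy hq hord
    (hnorm y hy) (hfix y hy hy1) 1 (fun x => rfl) 1
  have hF : (c.q : ℤ) ∣ (Nat.card F : ℤ) - c.p := by
    simp only [MonoidHom.one_apply, implies_true, if_true] at hd1
    have hone : classInner (fun x : F => c.χ 1 x) (fun x : F => (((1 : F →* ℂˣ) x : ℂˣ) : ℂ)) = (1 : ℂ) := by
      rw [c.family.map_one]
      simp [Cfsg.classInner, Nat.card_eq_fintype_card]
    obtain rfl : m1 = 1 := by exact_mod_cast hm1.symm.trans hone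
    obtain rfl : D1 = 1 := by
      simp only [c.family.map_one] at hD1
      exact_mod_cast hD1.symm
    simpa [Config.p] using hd1
  have hCm : C = ma - mb := by
    have e : ∀ (ψ : F →* ℂˣ) (m : ℤ),
        classInner (fun x : F => c.χ ω x) (fun x : F => (ψ x : ℂ)) = (m : ℂ) →
        classInner (fun x : F => (ψ x : ℂ)) (fun x : F => c.χ ω x) = (m : ℂ) := fun ψ m h => by
      rw [← classInner_conj_symm, h, map_intCast]
    rw [Config.coef, ind, frobenius_reciprocity F _ (c.eta_isClassFunction l k),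
      show linDiff a b = (fun f => (a f : ℂ)) - fun f => (b f : ℂ) from rfl, classInner_sub_left] at hC
    have h1 : classInner (fun x : F => (a x : ℂ)) (fun x : F => c.eta l k x) = (ma : ℂ) := e a ma hma
    have h2 : classInner (fun x : F => (b x : ℂ)) (fun x : F => c.eta l k x) = (mb : ℂ) := e b mb hmb
    rw [h1, h2] at hC
    exact_mod_cast hC.symm
  have hcp : IsCoprime (c.q : ℤ) (c.p : ℤ) := c.coprime_q_p.isCoprime
  refine ⟨fun h1 h2 => ?_, fun h1 h2 => ?_⟩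
  · rw [if_pos ((hcond a).mpr h1)] at hda
    rw [if_neg (fun h => h2 ((hcond b).mp h))] at hdb
    have h := dvd_sub hda hdb
    have hm : (c.q : ℤ) ∣ (c.p : ℤ) * (C - 1) := by
      have h3 := dvd_sub h (hF.mul_right C)
      rw [hCm] at h3 ⊢
      simp only [Config.p] at h3 ⊢
      exact (Eq.subst (motive := fun t : ℤ => (c.q : ℤ) ∣ t) (by ring) h3)
    exact hcp.dvd_of_dvd_mul_left hm
  · rw [if_neg (fun h => h1 ((hcond a).mp h))] at hda
    rw [if_pos ((hcond b).mpr h2)] at hdb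
    have h := dvd_sub hda hdb
    have hm : (c.q : ℤ) ∣ (c.p : ℤ) * (C + 1) := by
      have h3 := dvd_sub h (hF.mul_right C)
      rw [hCm] at h3 ⊢
      simp only [Config.p] at h3 ⊢
      exact (Eq.subst (motive := fun t : ℤ => (c.q : ℤ) ∣ t) (by ring) h3)
    exact hcp.dvd_of_dvd_mul_left hm

end Config

section Two

variable {G : Type*} [Group G] [Fintype G] (c : Config G)

/-- `C = C_U(H)`. -/
abbrev Config.C : Subgroup G := c.U ⊓ centralizer (Cfsg.fittingHallOf c.S : Set G)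

/-- `H = S_F`. -/
abbrev Config.H : Subgroup G := Cfsg.fittingHallOf c.S

theorem Config.fitting_S : Cfsg.fittingOf c.S = c.H ⊔ c.C :=
  Cfsg.Agent.S1387.result c.S c.W₁ c.U c.W₂ c.S_typeP

theorem Config.H_le_fitting : c.H ≤ Cfsg.fittingOf c.S := c.fitting_S ▸ le_sup_left

theorem Config.C_le_fitting : c.C ≤ Cfsg.fittingOf c.S := c.fitting_S ▸ le_sup_right

theorem Config.W₂_le_H : c.W₂ ≤ c.H := c.S_typeP.W₂_le.trans inf_le_left

theorem Config.W₂_le_fitting : c.W₂ ≤ Cfsg.fittingOf c.S := c.W₂_le_H.trans c.H_le_fitting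

theorem Config.coprime_q_fitting : c.q.Coprime (Nat.card (Cfsg.fittingOf c.S)) :=
  (TypeP.coprime_W₁_derived c.S_typeP).coprime_dvd_right (card_dvd_of_le c.S_typeP.fitting_le)

/-- `H × C ≃ F(S)`. -/
noncomputable def Config.fitEquiv : c.H × c.C ≃* Cfsg.fittingOf c.S :=
  MulEquiv.ofBijective
    (MonoidHom.noncommCoprod (inclusion c.H_le_fitting) (inclusion c.C_le_fitting)
      fun a b => Subtype.ext (mem_centralizer_iff.mp (mem_inf.mp b.2).2 a a.2)) <| by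
    refine ⟨?_, fun f => ?_⟩
    · rw [injective_iff_map_eq_one]
      rintro ⟨a, b⟩ h
      have h1 : (a : G) * b = 1 := congrArg Subtype.val h
      have ha : (a : G) ∈ c.H ⊓ c.U := mem_inf.mpr ⟨a.2, by rw [eq_inv_of_mul_eq_one_left h1]; exact inv_mem (mem_inf.mp b.2).1⟩
      rw [c.S_typeP.U_compl.2.2.1, mem_bot] at ha
      rw [ha, one_mul] at h1
      exact Prod.ext (Subtype.ext ha) (Subtype.ext h1)
    · have hn : c.C ≤ normalizer (c.H : Set G) := inf_le_right.trans (centralizer_le_normalizer _)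
      obtain ⟨a, ha, b, hb, e⟩ := (OddLocal.mem_sup_of_le_normalizer hn).mp (c.fitting_S.le f.2)
      exact ⟨(⟨a, ha⟩, ⟨b, hb⟩), Subtype.ext e.symm⟩

theorem Config.coe_fitEquiv (a : c.H) (b : c.C) : ((c.fitEquiv (a, b) : Cfsg.fittingOf c.S) : G) = a * b := rfl

/-- The character `α ρ` of `F(S)`. -/
noncomputable def Config.extHom (α : c.H →* ℂˣ) (ρ : c.C →* ℂˣ) : Cfsg.fittingOf c.S →* ℂˣ :=
  (α.coprod ρ).comp c.fitEquiv.symm.toMonoidHom

theorem Config.extHom_H (α : c.H →* ℂˣ) (ρ : c.C →* ℂˣ) (a : c.H) :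
    c.extHom α ρ (inclusion c.H_le_fitting a) = α a := by
  have e : inclusion c.H_le_fitting a = c.fitEquiv (a, 1) := Subtype.ext (by rw [c.coe_fitEquiv]; simp)
  simp [extHom, e]

theorem Config.extHom_C (α : c.H →* ℂˣ) (ρ : c.C →* ℂˣ) (b : c.C) :
    c.extHom α ρ (inclusion c.C_le_fitting b) = ρ b := by
  have e : inclusion c.C_le_fitting b = c.fitEquiv (1, b) := Subtype.ext (by rw [c.coe_fitEquiv]; simp)
  simp [extHom, e]

theorem Config.hom_ext_fitting {f g : Cfsg.fittingOf c.S →* ℂˣ}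
    (h1 : ∀ a : c.H, f (inclusion c.H_le_fitting a) = g (inclusion c.H_le_fitting a))
    (h2 : ∀ b : c.C, f (inclusion c.C_le_fitting b) = g (inclusion c.C_le_fitting b)) : f = g := by
  refine MonoidHom.ext fun x => ?_
  obtain ⟨⟨a, b⟩, rfl⟩ := c.fitEquiv.surjective x
  rw [show c.fitEquiv (a, b) = inclusion c.H_le_fitting a * inclusion c.C_le_fitting b from
    Subtype.ext (c.coe_fitEquiv a b), map_mul, map_mul, h1, h2]

theorem Config.U_le_S : c.U ≤ c.S := c.S_typeP.U_compl.2.1.trans (TypeP.derived_le c.S_typeP)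

theorem Config.W₁_le_S : c.W₁ ≤ c.S := c.S_typeP.W₁_compl.2.1

variable (hII : Cfsg.IsOfTypeII c.S) (hp : c.p.Prime)

include hII hp

theorem Config.kernelTwo : KernelModule c.p c.q c.H c.U c.W₁ c.W₂ :=
  kernelModule_two c.S_typeP hII hp

/-- The `W₁`-fixed character of `H` over a character of `W₂`. -/
noncomputable def Config.alphaOf (k : c.W₂ →* ℂˣ) : c.H →* ℂˣ :=
  ((c.kernelTwo hII hp).fixed_restrict.2 k).choose

theorem Config.alphaOf_fix (k : c.W₂ →* ℂˣ) : ∀ w ∈ c.W₁, Fixes c.H w (c.alphaOf hII hp k) :=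
  ((c.kernelTwo hII hp).fixed_restrict.2 k).choose_spec.1

theorem Config.alphaOf_res (k : c.W₂ →* ℂˣ) :
    (c.alphaOf hII hp k).comp (inclusion (c.kernelTwo hII hp).le) = k :=
  ((c.kernelTwo hII hp).fixed_restrict.2 k).choose_spec.2

theorem Config.alphaOf_injective : Function.Injective (c.alphaOf hII hp) := fun k k' e => by
  rw [← c.alphaOf_res hII hp k, e, c.alphaOf_res hII hp k']

theorem Config.alphaOf_one : c.alphaOf hII hp 1 = 1 :=
  (c.kernelTwo hII hp).fixed_restrict.1 _ _ (c.alphaOf_fix hII hp 1) (fun _ _ _ _ _ => rfl)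
    (c.alphaOf_res hII hp 1)

/-- The fixed character of `F(S)` over a character of `W₂`. -/
noncomputable def Config.psiTwo (k : c.W₂ →* ℂˣ) : Cfsg.fittingOf c.S →* ℂˣ :=
  c.extHom (c.alphaOf hII hp k) 1

theorem Config.psiTwo_res (k : c.W₂ →* ℂˣ) : (c.psiTwo hII hp k).comp (inclusion c.W₂_le_fitting) = k := by
  refine MonoidHom.ext fun w => ?_
  conv_rhs => rw [← c.alphaOf_res hII hp k]
  show c.extHom _ 1 (inclusion c.W₂_le_fitting w) = _
  rw [show inclusion c.W₂_le_fitting w = inclusion c.H_le_fitting (inclusion (c.kernelTwo hII hp).le w) from rfl,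
    c.extHom_H]
  rfl

theorem Config.psiTwo_one : c.psiTwo hII hp 1 = 1 := by
  refine c.hom_ext_fitting (fun a => ?_) fun b => ?_
  · rw [psiTwo, c.extHom_H, c.alphaOf_one hII hp]; rfl
  · rw [psiTwo, c.extHom_C]; rfl

theorem Config.fitTI : IsTISide (Cfsg.fittingOf c.S) c.S :=
  (isSide_typeTwo c.minimal c.S_max c.S_typeP hII).isTISide c.minimal

theorem Config.conj_C {g x : G} (hg : g ∈ c.U ⊔ c.W₁) (hx : x ∈ c.C) : g⁻¹ * x * g ∈ c.C := by
  have K := c.kernelTwo hII hp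
  refine mem_inf.mpr ⟨?_, mem_centralizer_iff.mpr fun z hz => ?_⟩
  · have hnU : c.U ⊔ c.W₁ ≤ normalizer (c.U : Set G) := sup_le le_normalizer c.S_typeP.U_normal
    simpa using (mem_normalizer_iff.mp (inv_mem (hnU hg)) x).mp (mem_inf.mp hx).1
  · have h := mem_centralizer_iff.mp (mem_inf.mp hx).2 _ (K.conj_mem hg hz)
    calc z * (g⁻¹ * x * g) = g⁻¹ * (g * z * g⁻¹ * x) * g := by group
      _ = g⁻¹ * (x * (g * z * g⁻¹)) * g := by rw [h]
      _ = _ := by group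

/-- Conjugation on the extended characters by elements of `U W₁`. -/
theorem Config.conjHom_extHom (g : c.S) (hg : (g : G) ∈ c.U ⊔ c.W₁) (α α' : c.H →* ℂˣ) (ρ ρ' : c.C →* ℂˣ)
    (h1 : ∀ (a b : c.H), (b : G) = (g : G)⁻¹ * a * g → α' b = α a)
    (h2 : ∀ (a b : c.C), (b : G) = (g : G)⁻¹ * a * g → ρ' b = ρ a) :
    conjHom (c.fitTI hII hp) g (c.extHom α' ρ') = c.extHom α ρ := by
  have K := c.kernelTwo hII hp
  refine c.hom_ext_fitting (fun a => ?_) fun b => ?_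
  · have hm : (g : G)⁻¹ * a * g ∈ c.H := by simpa using K.conj_mem (inv_mem hg) a.2
    rw [conjHom_apply, c.extHom_H, ← h1 a ⟨_, hm⟩ rfl, ← c.extHom_H α' ρ' ⟨_, hm⟩]
    rfl
  · have hm : (g : G)⁻¹ * b * g ∈ c.C := c.conj_C hII hp hg b.2
    rw [conjHom_apply, c.extHom_C, ← h2 b ⟨_, hm⟩ rfl, ← c.extHom_C α' ρ' ⟨_, hm⟩]
    rfl

theorem Config.psiTwo_fix (w : c.S) (hw : (w : G) ∈ c.W₁) (k : c.W₂ →* ℂˣ) :
    conjHom (c.fitTI hII hp) w (c.psiTwo hII hp k) = c.psiTwo hII hp k :=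
  c.conjHom_extHom hII hp w (mem_sup_right hw) _ _ _ _
    (fun a b e => c.alphaOf_fix hII hp k _ (inv_mem hw) a b (by rw [e, inv_inv])) fun _ _ _ => rfl

/-- An element of `U` moving one fixed character to another centralises `H`. -/
theorem Config.psiTwo_orbit (u : c.S) (hu : (u : G) ∈ c.U) {k k' : c.W₂ →* ℂˣ}
    (e : conjHom (c.fitTI hII hp) u (c.psiTwo hII hp k') = c.psiTwo hII hp k) :
    k = k' ∧ (k ≠ 1 → (u : G) ∈ c.C) := by
  have K := c.kernelTwo hII hp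
  by_cases hk' : k' = 1
  · subst hk'
    rw [c.psiTwo_one hII hp, conjHom_trivial] at e
    have hk : k = 1 := by
      rw [← c.psiTwo_res hII hp k, ← e]; rfl
    exact ⟨hk, fun h => absurd hk h⟩
  set α := c.alphaOf hII hp k with hα
  set β := c.alphaOf hII hp k' with hβ
  have hval : ∀ a b : c.H, (b : G) = (u : G)⁻¹ * a * u → β b = α a := by
    intro a b hb
    have h := DFunLike.congr_fun e (inclusion c.H_le_fitting a)
    rw [psiTwo, psiTwo, c.extHom_H] at h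
    rw [← hα] at h
    rw [← h, conjHom_apply, ← c.extHom_H β 1 b]
    exact congrArg _ (Subtype.ext hb)
  have hαf := c.alphaOf_fix hII hp k
  have hreg : Regular c.H c.U β :=
    K.regular_of_fixed (fun h => hk' (c.alphaOf_injective hII hp (h.trans (c.alphaOf_one hII hp).symm)))
      (c.alphaOf_fix hII hp k')
  have huinv : (u : G)⁻¹ ∈ centralizer (c.H : Set G) := by
    refine K.scalar (inv_mem hu) fun w hw => hreg _ ?_ ?_
    · rw [commutatorElement_def]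
      exact mul_mem (K.conj_U hw (inv_mem hu)) (by simpa using hu)
    · have hmem : ∀ {v : G}, v ∈ c.W₁ → Fixes c.H ((u : G)⁻¹ * v * u) β := by
        intro v hv x x' ex
        have hx : (u : G) * x * (u : G)⁻¹ ∈ c.H := K.conj_mem (mem_sup_left hu) x.2
        have hvx : v * ((u : G) * x * (u : G)⁻¹) * v⁻¹ ∈ c.H := K.conj_mem (mem_sup_right hv) hx
        rw [hval ⟨_, hvx⟩ x' (by rw [ex]; group), hval ⟨_, hx⟩ x (by group)]
        exact hαf v hv _ _ rfl
      have hnorm : (u : G)⁻¹ * w⁻¹ * u ∈ normalizer (c.H : Set G) :=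
        K.norm (mul_mem (mul_mem (mem_sup_left (inv_mem hu)) (mem_sup_right (inv_mem hw))) (mem_sup_left hu))
      rw [show ⁅w, (u : G)⁻¹⁆ = w * ((u : G)⁻¹ * w⁻¹ * u) by rw [commutatorElement_def]; group]
      exact Final.fixes_mul hnorm (c.alphaOf_fix hII hp k' w hw) (hmem (inv_mem hw))
  have huC : (u : G) ∈ c.C := mem_inf.mpr ⟨hu, by simpa using inv_mem huinv⟩
  refine ⟨c.alphaOf_injective hII hp (MonoidHom.ext fun a => ?_), fun _ => huC⟩
  refine (hval a a ?_).symm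
  rw [mul_assoc, mem_centralizer_iff.mp (mem_inf.mp huC).2 a a.2, inv_mul_cancel_left]

omit hp in
theorem Config.exists_decomp (x : c.S) :
    ∃ (h u w : c.S), (h : G) ∈ c.H ∧ (u : G) ∈ c.U ∧ (w : G) ∈ c.W₁ ∧ x = h * (u * w) := by
  obtain ⟨a, ha, w, hw, e⟩ := c.S_typeP.W₁_compl.2.2.2 x x.2
  obtain ⟨h, hh, u, hu, rfl⟩ := c.S_typeP.U_compl.2.2.2 a ha
  exact ⟨⟨h, TypeP.derived_le c.S_typeP (c.S_typeP.U_compl.1 hh)⟩, ⟨u, c.U_le_S hu⟩, ⟨w, c.W₁_le_S hw⟩,
    hh, hu, hw, Subtype.ext (e.trans (mul_assoc _ _ _))⟩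

theorem Config.card_S : Nat.card c.S =
    c.q * (centralizer (c.H : Set G)).relIndex c.U * Nat.card (Cfsg.fittingOf c.S) := by
  have h1 := IsComplIn_card_mul c.S_typeP.W₁_compl
  have h2 := IsComplIn_card_mul c.S_typeP.U_compl
  have h3 : Nat.card (Cfsg.fittingOf c.S) = Nat.card c.H * Nat.card c.C := by
    rw [← Nat.card_prod]; exact (Nat.card_congr c.fitEquiv.toEquiv).symm
  have h4 : Nat.card c.C * (centralizer (c.H : Set G)).relIndex c.U = Nat.card c.U := by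
    have h := ((centralizer (c.H : Set G)).subgroupOf c.U).card_mul_index
    rw [← Nat.card_congr (subgroupOfEquivOfLe (inf_le_left : c.C ≤ c.U)).toEquiv,
      show c.C.subgroupOf c.U = (centralizer (c.H : Set G)).subgroupOf c.U by
        ext v; simp [mem_subgroupOf]]
    exact h
  rw [← h1, ← h2, ← h4, h3, Config.q]
  ring

theorem Config.congrTwo (l : c.W₁ →* ℂˣ) (k i j : c.W₂ →* ℂˣ) (C : ℤ)
    (hC : c.coef (ind (Cfsg.fittingOf c.S) (c.psiTwo hII hp i) (c.psiTwo hII hp j)) l k = C) :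
    (i = k → j ≠ k → (c.q : ℤ) ∣ C - 1) ∧ (i ≠ k → j = k → (c.q : ℤ) ∣ C + 1) := by
  have hnorm : ∀ y ∈ c.W₁, ∀ f ∈ Cfsg.fittingOf c.S, y * f * y⁻¹ ∈ Cfsg.fittingOf c.S :=
    fun y hy f hf => (c.fitTI hII hp).conj_mem y (c.W₁_le_S hy) f hf
  have hfix : ∀ y ∈ c.W₁, y ≠ 1 → Cfsg.fittingOf c.S ⊓ centralizer ({y} : Set G) = c.W₂ := by
    intro y hy hy1
    refine le_antisymm ((inf_le_inf_right _ c.S_typeP.fitting_le).trans
      (c.S_typeP.W₂_centralizer y hy hy1).le) (le_inf c.W₂_le_fitting fun b hb => ?_)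
    exact mem_centralizer_singleton_iff.mpr (c.selfNorm.2.2.2.1 y hy b hb).symm
  have hfixed : ∀ (k : c.W₂ →* ℂˣ), ∀ y ∈ c.W₁, ∀ f f' : Cfsg.fittingOf c.S, (f' : G) = y * f * y⁻¹ →
      c.psiTwo hII hp k f' = c.psiTwo hII hp k f := by
    intro k y hy f f' e
    conv_lhs => rw [← c.psiTwo_fix hII hp ⟨y, c.W₁_le_S hy⟩ hy k]
    rw [conjHom_apply]
    exact congrArg _ (Subtype.ext (by show y⁻¹ * f' * y = f; rw [e]; group))
  have h := c.coef_congr_ind (kernelTwo c hII hp).prime_q c.W₂_le_fitting hnorm hfix _ _ (hfixed i)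
    (hfixed j) c.coprime_q_fitting l k hC
  rwa [c.psiTwo_res hII hp, c.psiTwo_res hII hp] at h

theorem Config.fitting_disj : ∀ g ∈ What c.W₁ c.W₂, g ∉ conjSharp (Cfsg.fittingOf c.S) := by
  rintro g ⟨hg, hgW⟩ hmem
  obtain ⟨z, f, hf, hf1, hgz⟩ := hmem
  obtain ⟨a, ha, b, hb, rfl⟩ := exists_mul c.selfNorm ⟨g, hg⟩
  have hpow : (a * b) ^ Nat.card (Cfsg.fittingOf c.S) = 1 := by
    rw [hgz, conj_pow, show f ^ Nat.card (Cfsg.fittingOf c.S) = 1 from
      congrArg Subtype.val (pow_card_eq_one' (x := (⟨f, hf⟩ : Cfsg.fittingOf c.S)))]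
    group
  have hcomm : Commute a b := c.selfNorm.2.2.2.1 a ha b hb
  rw [hcomm.mul_pow] at hpow
  have h1 : a ^ Nat.card (Cfsg.fittingOf c.S) ∈ c.W₁ ⊓ c.W₂ :=
    mem_inf.mpr ⟨pow_mem ha _, eq_inv_of_mul_eq_one_left hpow ▸ inv_mem (pow_mem hb _)⟩
  rw [c.selfNorm.2.2.1, mem_bot] at h1
  have h2 : orderOf a ∣ Nat.gcd c.q (Nat.card (Cfsg.fittingOf c.S)) :=
    Nat.dvd_gcd (c.W₁.orderOf_dvd_natCard ha) (orderOf_dvd_of_pow_eq_one h1)
  rw [c.coprime_q_fitting.gcd_eq_one, Nat.dvd_one, orderOf_eq_one_iff] at h2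
  subst h2
  exact hgW (Or.inr (by simpa using hb))

/-- The Fitting side of a subgroup of type II. -/
noncomputable def Config.sideTwo : Side c where
  F := Cfsg.fittingOf c.S
  M := c.S
  u := (centralizer (c.H : Set G)).relIndex c.U
  ti := c.fitTI hII hp
  psi := c.psiTwo hII hp
  psi_one := c.psiTwo_one hII hp
  card_M := c.card_S hII hp
  card_stab k hk := by
    classical
    have hbij : Function.Bijective (fun z : Cfsg.fittingOf c.S × c.W₁ =>
        (⟨⟨(z.1 : G) * z.2, mul_mem ((c.fitTI hII hp).le z.1.2) (c.W₁_le_S z.2.2)⟩, by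
          rw [show (⟨(z.1 : G) * z.2, _⟩ : c.S) =
              ⟨z.1, (c.fitTI hII hp).le z.1.2⟩ * ⟨z.2, c.W₁_le_S z.2.2⟩ from rfl,
            conjHom_mul, c.psiTwo_fix hII hp _ z.2.2,
            conjHom_of_mem (c.fitTI hII hp) (⟨z.1, (c.fitTI hII hp).le z.1.2⟩ : c.S) z.1.2]⟩ :
          {x : c.S // c.psiTwo hII hp k = conjHom (c.fitTI hII hp) x (c.psiTwo hII hp k)})) := by
      refine ⟨fun z z' e => ?_, fun x => ?_⟩
      · have e1 : (z.1 : G) * z.2 = z'.1 * z'.2 := congrArg (fun t => ((t.1 : c.S) : G)) e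
        have h1 : (z'.1 : G)⁻¹ * z.1 = z'.2 * (z.2 : G)⁻¹ := by
          calc (z'.1 : G)⁻¹ * z.1 = (z'.1 : G)⁻¹ * ((z.1 : G) * z.2) * (z.2 : G)⁻¹ := by group
            _ = _ := by rw [e1]; group
        have h2 : (z'.1 : G)⁻¹ * z.1 ∈ ⁅c.S, c.S⁆ ⊓ c.W₁ := mem_inf.mpr
          ⟨c.S_typeP.fitting_le (mul_mem (inv_mem z'.1.2) z.1.2), h1 ▸ mul_mem z'.2.2 (inv_mem z.2.2)⟩
        rw [c.S_typeP.W₁_compl.2.2.1, mem_bot] at h2
        have h3 : (z.1 : G) = z'.1 := (inv_mul_eq_one.mp h2).symm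
        exact Prod.ext (Subtype.ext h3) (Subtype.ext (by rw [h3] at e1; exact mul_left_cancel e1))
      · obtain ⟨x, hx⟩ := x
        obtain ⟨h, u, w, hh, hu, hw, rfl⟩ := c.exists_decomp hII x
        have hx' : conjHom (c.fitTI hII hp) u (c.psiTwo hII hp k) = c.psiTwo hII hp k := by
          rw [conjHom_mul, conjHom_of_mem _ _ (c.H_le_fitting hh), conjHom_mul,
            c.psiTwo_fix hII hp w hw] at hx
          exact hx.symm
        have huC := (c.psiTwo_orbit hII hp u hu hx').2 hk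
        exact ⟨(⟨(h : G) * u, mul_mem (c.H_le_fitting hh) (c.C_le_fitting huC)⟩, ⟨w, hw⟩),
          Subtype.ext (Subtype.ext (mul_assoc _ _ _))⟩
    rw [← Nat.card_eq_of_bijective _ hbij, Nat.card_prod, mul_comm, Config.q]
  nconj k k' x hx := by
    obtain ⟨h, u, w, hh, hu, hw, rfl⟩ := c.exists_decomp hII x
    rw [conjHom_mul, conjHom_of_mem _ _ (c.H_le_fitting hh), conjHom_mul, c.psiTwo_fix hII hp w hw] at hx
    exact (c.psiTwo_orbit hII hp u hu hx.symm).1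
  disj := c.fitting_disj hII hp
  q_prime := (c.kernelTwo hII hp).prime_q
  coprime := c.coprime_q_fitting
  congr := c.congrTwo hII hp

theorem Config.isFree_extHom {α : c.H →* ℂˣ} {ρ : c.C →* ℂˣ}
    (h : ∀ g ∈ c.U ⊔ c.W₁, Fixes c.H g α →
      (∀ a b : c.C, (b : G) = g⁻¹ * a * g → ρ b = ρ a) → g ∈ c.C) :
    (c.sideTwo hII hp).IsFree (c.extHom α ρ) := by
  intro x hx
  obtain ⟨h₀, u, w, hh, hu, hw, rfl⟩ := c.exists_decomp hII x
  have hx' : c.extHom α ρ = conjHom (c.fitTI hII hp) (u * w) (c.extHom α ρ) :=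
    hx.trans (by
      show conjHom (c.fitTI hII hp) (h₀ * (u * w)) _ = _
      rw [conjHom_mul, conjHom_of_mem _ _ (c.H_le_fitting hh)])
  have hg : ((u * w : c.S) : G) ∈ c.U ⊔ c.W₁ := mul_mem (mem_sup_left hu) (mem_sup_right hw)
  have hgC := h _ hg (fun a b e => by
    have h1 := DFunLike.congr_fun hx' (inclusion c.H_le_fitting b)
    rw [conjHom_apply, c.extHom_H] at h1
    rw [h1, ← c.extHom_H α ρ a]
    exact congrArg _ (Subtype.ext (by show ((u * w : c.S) : G)⁻¹ * (b : G) * ((u * w : c.S) : G) = (a : G); rw [e]; group))) (fun a b e => by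
    have h1 := DFunLike.congr_fun hx' (inclusion c.C_le_fitting a)
    rw [conjHom_apply, c.extHom_C] at h1
    rw [h1, ← c.extHom_C α ρ b]
    exact congrArg _ (Subtype.ext e))
  exact mul_mem (c.H_le_fitting hh) (c.C_le_fitting hgC)

theorem Config.isFree_of_free {α : c.H →* ℂˣ} (hα : IsFree c.H c.U c.W₁ α) (ρ : c.C →* ℂˣ) :
    (c.sideTwo hII hp).IsFree (c.extHom α ρ) := by
  refine c.isFree_extHom hII hp fun g hg hf _ => ?_
  have hcent := hα g hg hf
  rw [sup_comm] at hg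
  obtain ⟨u, hu, w, hw, rfl⟩ := (Core.mem_sup_iff_mul' c.S_typeP.U_normal).mp hg
  have hS : u * w ∈ ⁅c.S, c.S⁆ := c.S_typeP.fitting_le (c.S_typeP.fitting_eq ▸
    mem_sup_right (mem_inf.mpr ⟨mul_mem (c.U_le_S hu) (c.W₁_le_S hw), hcent⟩))
  have hw1 : w ∈ ⁅c.S, c.S⁆ ⊓ c.W₁ := mem_inf.mpr
    ⟨by simpa using mul_mem (inv_mem (c.S_typeP.U_compl.2.1 hu)) hS, hw⟩
  rw [c.S_typeP.W₁_compl.2.2.1, mem_bot] at hw1
  subst hw1
  rw [mul_one] at hcent ⊢
  exact mem_inf.mpr ⟨hu, hcent⟩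

theorem Config.isFree_of_ne_one {α : c.H →* ℂˣ} (hα : Regular c.H c.U α) {ρ : c.C →* ℂˣ} (hρ : ρ ≠ 1) :
    (c.sideTwo hII hp).IsFree (c.extHom α ρ) := by
  have hab : ∀ a ∈ c.U, ∀ b ∈ c.U, a * b = b * a := fun a ha b hb =>
    congrArg Subtype.val ((typeTwo_facts c.S_typeP hII).2.2.1.is_comm.comm ⟨a, ha⟩ ⟨b, hb⟩)
  refine c.isFree_extHom hII hp fun g hg hf hfr => ?_
  rw [sup_comm] at hg
  obtain ⟨u, hu, w, hw, rfl⟩ := (Core.mem_sup_iff_mul' c.S_typeP.U_normal).mp hg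
  by_cases hw1 : w = 1
  · subst hw1
    rw [mul_one] at hf ⊢
    exact mem_inf.mpr ⟨hu, hα u hu hf⟩
  exfalso
  refine hρ (MonoidHom.ext fun z => ?_)
  have hwc : ∀ a : c.C, w⁻¹ * (a : G) * w ∈ c.C := fun a => c.conj_C hII hp (mem_sup_right hw) a.2
  let f : c.C → c.C := fun a => ⟨_, hwc a⟩ * a⁻¹
  have hf' : Function.Injective f := by
    intro a b e
    have e1 : w⁻¹ * (a : G) * w * (a : G)⁻¹ = w⁻¹ * (b : G) * w * (b : G)⁻¹ := congrArg Subtype.val e
    have hbU := (mem_inf.mp b.2).1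
    have haU := (mem_inf.mp a.2).1
    have hwaU : w⁻¹ * (a : G) * w ∈ c.U := (mem_inf.mp (hwc a)).1
    have hwbU : w⁻¹ * (b : G) * w ∈ c.U := (mem_inf.mp (hwc b)).1
    have hz : w⁻¹ * ((b : G)⁻¹ * a) * w = (b : G)⁻¹ * a := by
      have hcc := hab _ (inv_mem hwbU) _ hwaU
      have e3 : w⁻¹ * (a : G) * w = w⁻¹ * (b : G) * w * (b : G)⁻¹ * a := by rw [← e1]; group
      calc w⁻¹ * ((b : G)⁻¹ * a) * w = (w⁻¹ * (b : G) * w)⁻¹ * (w⁻¹ * (a : G) * w) := by group
        _ = _ := by rw [e3]; group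
    have h3 := (c.kernelTwo hII hp).fpf w hw hw1 _ (mul_mem (inv_mem hbU) haU) (by
      conv_lhs => rw [← hz]
      group)
    exact (Subtype.ext (inv_mul_eq_one.mp h3)).symm
  obtain ⟨a, rfl⟩ := (Finite.injective_iff_surjective.mp hf') z
  show ρ (⟨_, hwc a⟩ * a⁻¹) = 1
  rw [map_mul, map_inv, mul_inv_eq_one]
  refine hfr a ⟨_, hwc a⟩ ?_
  show w⁻¹ * (a : G) * w = (u * w)⁻¹ * a * (u * w)
  rw [show (u * w)⁻¹ * (a : G) * (u * w) = w⁻¹ * (u⁻¹ * ((a : G) * u)) * w by group,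
    hab _ (mem_inf.mp a.2).1 _ hu, inv_mul_cancel_left]

/-- `#free ≥ #free(H) + (|C| − 1) #regular`. -/
theorem Config.card_free_two :
    Nat.card {α : c.H →* ℂˣ // IsFree c.H c.U c.W₁ α} +
        (Nat.card c.C - 1) * Nat.card {α : c.H →* ℂˣ // Regular c.H c.U α} ≤
      Nat.card {ψ : Cfsg.fittingOf c.S →* ℂˣ // (c.sideTwo hII hp).IsFree ψ} := by
  classical
  have := finite_hom c.H
  have := finite_hom c.C
  have := finite_hom (Cfsg.fittingOf c.S)
  have : Finite ((c.sideTwo hII hp).F →* ℂˣ) := finite_hom _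
  have : Finite {ψ : Cfsg.fittingOf c.S →* ℂˣ // (c.sideTwo hII hp).IsFree ψ} :=
    Finite.of_injective _ Subtype.val_injective
  have := Fintype.ofFinite (c.C →* ℂˣ)
  have hC : Nat.card c.C - 1 = Nat.card {ρ : c.C →* ℂˣ // ρ ≠ 1} := by
    rw [Nat.card_eq_fintype_card (α := {ρ : c.C →* ℂˣ // ρ ≠ 1}), Fintype.card_subtype_compl,
      Fintype.card_subtype_eq, ← Nat.card_eq_fintype_card, card_hom]
    intro a b
    exact Subtype.ext (congrArg (fun t : c.U => (t : G))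
      ((typeTwo_facts c.S_typeP hII).2.2.1.is_comm.comm ⟨a, (mem_inf.mp a.2).1⟩ ⟨b, (mem_inf.mp b.2).1⟩))
  rw [hC, ← Nat.card_prod, ← Nat.card_sum]
  refine Nat.card_le_card_of_injective (fun z => Sum.elim
    (fun α => (⟨c.extHom α.1 1, c.isFree_of_free hII hp α.2 1⟩ :
      {ψ : Cfsg.fittingOf c.S →* ℂˣ // (c.sideTwo hII hp).IsFree ψ}))
    (fun z => ⟨c.extHom z.2.1 z.1.1, c.isFree_of_ne_one hII hp z.2.2 z.1.2⟩) z) ?_
  have key : ∀ {α α' : c.H →* ℂˣ} {ρ ρ' : c.C →* ℂˣ}, c.extHom α ρ = c.extHom α' ρ' → α = α' ∧ ρ = ρ' :=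
    fun {α α' ρ ρ'} e => ⟨MonoidHom.ext fun a => by rw [← c.extHom_H α ρ, e, c.extHom_H],
      MonoidHom.ext fun a => by rw [← c.extHom_C α ρ, e, c.extHom_C]⟩
  rintro (α | z) (α' | z') e
  · exact congrArg Sum.inl (Subtype.ext (key (congrArg Subtype.val e)).1)
  · exact absurd (key (congrArg Subtype.val e)).2.symm z'.1.2
  · exact absurd (key (congrArg Subtype.val e)).2 z.1.2
  · obtain ⟨h1, h2⟩ := key (congrArg Subtype.val e)
    exact congrArg Sum.inr (Prod.ext (Subtype.ext h2) (Subtype.ext h1))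

/-- `qN ≥ |C| #regular / u`. -/
theorem Config.qN_two_ge :
    (Nat.card c.C : ℝ) * (Nat.card {α : c.H →* ℂˣ // Regular c.H c.U α} : ℝ) /
        ((centralizer (c.H : Set G)).relIndex c.U : ℝ) ≤ (c.sideTwo hII hp).qN := by
  have h1 := c.card_free_two hII hp
  have h2 := (c.kernelTwo hII hp).card_free_add
  have hu : (0 : ℝ) < ((centralizer (c.H : Set G)).relIndex c.U : ℝ) := by
    exact_mod_cast (c.sideTwo hII hp).u_pos
  have hC : 1 ≤ Nat.card c.C := Nat.card_pos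
  have hp1 : 1 ≤ c.p := hp.one_lt.le
  have h1' : (Nat.card {α : c.H →* ℂˣ // IsFree c.H c.U c.W₁ α} : ℝ) +
      ((Nat.card c.C : ℝ) - 1) * (Nat.card {α : c.H →* ℂˣ // Regular c.H c.U α} : ℝ) ≤
      (Nat.card {ψ : Cfsg.fittingOf c.S →* ℂˣ // (c.sideTwo hII hp).IsFree ψ} : ℝ) := by
    have h := (Nat.cast_le (α := ℝ)).mpr h1
    push_cast [hC] at h
    exact h
  have h2' : (Nat.card {α : c.H →* ℂˣ // IsFree c.H c.U c.W₁ α} : ℝ) +
      ((c.p : ℝ) - 1) * ((centralizer (c.H : Set G)).relIndex c.U : ℝ) =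
      (Nat.card {α : c.H →* ℂˣ // Regular c.H c.U α} : ℝ) := by
    have h := congrArg (Nat.cast (R := ℝ)) h2
    push_cast [hp1] at h
    exact h
  rw [Side.qN, div_le_iff₀ hu]
  have e : ((c.p : ℝ) - 1 + (Nat.card {ψ : Cfsg.fittingOf c.S →* ℂˣ // (c.sideTwo hII hp).IsFree ψ} : ℝ) /
      ((centralizer (c.H : Set G)).relIndex c.U : ℝ)) * ((centralizer (c.H : Set G)).relIndex c.U : ℝ) =
      ((c.p : ℝ) - 1) * ((centralizer (c.H : Set G)).relIndex c.U : ℝ) +
      (Nat.card {ψ : Cfsg.fittingOf c.S →* ℂˣ // (c.sideTwo hII hp).IsFree ψ} : ℝ) := by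
    field_simp
  show _ ≤ ((c.p : ℝ) - 1 + (Nat.card {ψ : Cfsg.fittingOf c.S →* ℂˣ // (c.sideTwo hII hp).IsFree ψ} : ℝ) /
      ((centralizer (c.H : Set G)).relIndex c.U : ℝ)) * _
  rw [e]
  linarith

end Two

end CfsgLib.OddLocal.FTFinal
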