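import Cfsg.Agent.Lib.OddLocal.Final.SideTwo

/-!
Owner: helper15. The configuration with the roles of `S` and `T` exchanged, and the commutation of the
fixed characters with inversion.
-/

set_option autoImplicit false
set_option linter.unusedSectionVars false

open scoped ComplexConjugate

namespace CfsgLib.OddLocal.FTFinal

open Subgroup
open CfsgLib.Char CfsgLib.CyclicTI
open CfsgLib.OddLocal.Final (Fixes)
open Cfsg (classInner indFun)

theorem indFun_congr_subgroup {G : Type*} [Group G] [Fintype G] {H H' : Subgroup G} (e : H = H')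
    (f : H' → ℂ) : indFun H' f = indFun H (fun h => f (MulEquiv.subgroupCongr e h)) := by
  subst e; rfl

namespace Config

variable {G : Type*} [Group G] [Fintype G] (c : Config G)

/-- `W₁ W₂ = W₂ W₁`. -/
noncomputable def commEquiv : ↥(c.W₁ ⊔ c.W₂) ≃* ↥(c.W₂ ⊔ c.W₁) :=
  MulEquiv.subgroupCongr (sup_comm c.W₁ c.W₂)

theorem coe_commEquiv (w : ↥(c.W₁ ⊔ c.W₂)) : ((c.commEquiv w : ↥(c.W₂ ⊔ c.W₁)) : G) = w := rfl

theorem comp_commEquiv_injective :
    Function.Injective fun ω : ↥(c.W₂ ⊔ c.W₁) →* ℂˣ => ω.comp c.commEquiv.toMonoidHom := by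
  intro ω ω' e
  refine MonoidHom.ext fun w => ?_
  obtain ⟨v, rfl⟩ := c.commEquiv.surjective w
  exact DFunLike.congr_fun e v

/-- The configuration with `S` and `T` exchanged. -/
noncomputable def swap : Config G where
  S := c.T
  T := c.S
  W₁ := c.W₂
  W₂ := c.W₁
  U := c.V
  V := c.U
  minimal := c.minimal
  S_max := c.T_max
  T_max := c.S_max
  S_typeP := c.T_typeP
  T_typeP := c.S_typeP
  χ := fun ω => c.χ (ω.comp c.commEquiv.toMonoidHom)
  family :=
    { irr_or_neg := fun ω => c.family.irr_or_neg _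
      orthonormal := fun ω ω' => by
        classical
        rw [c.family.orthonormal]
        by_cases h : ω = ω'
        · rw [if_pos h, if_pos (by rw [h])]
        · rw [if_neg h, if_neg fun e => h (c.comp_commEquiv_injective e)]
      map_one := c.family.map_one
      eq_on := fun ω w h1 h2 => by
        obtain ⟨v, rfl⟩ := c.commEquiv.surjective w
        exact c.family.eq_on _ v h2 h1
      induced_eq := fun φ ψ hφ hψ h1 h2 => by
        have hne : ∀ {ω : ↥(c.W₂ ⊔ c.W₁) →* ℂˣ}, ω ≠ 1 → ω.comp c.commEquiv.toMonoidHom ≠ 1 :=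
          fun h e => h (c.comp_commEquiv_injective (e.trans (MonoidHom.one_comp _).symm))
        rw [indFun_congr_subgroup (sup_comm c.W₁ c.W₂)]
        have h := c.family.induced_eq (ψ.comp c.commEquiv.toMonoidHom) (φ.comp c.commEquiv.toMonoidHom)
          (hne hψ) (hne hφ) (fun w hw => h2 _ hw) (fun w hw => h1 _ hw)
        have e : (φ * ψ).comp c.commEquiv.toMonoidHom =
            ψ.comp c.commEquiv.toMonoidHom * φ.comp c.commEquiv.toMonoidHom :=
          MonoidHom.ext fun w => mul_comm _ _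
        funext g
        have hg := congrFun h g
        rw [e]
        refine Eq.trans (Eq.trans ?_ hg) (by ring)
        refine congrArg (fun f => indFun (c.W₁ ⊔ c.W₂) f g) (funext fun w => ?_)
        show 1 - (φ (c.commEquiv w) : ℂ) - (ψ (c.commEquiv w) : ℂ) +
          (φ (c.commEquiv w) : ℂ) * (ψ (c.commEquiv w) : ℂ) = 1 - (ψ (c.commEquiv w) : ℂ) -
          (φ (c.commEquiv w) : ℂ) + (ψ (c.commEquiv w) : ℂ) * (φ (c.commEquiv w) : ℂ)
        ring }

theorem swap_q : c.swap.q = c.p := rfl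

theorem swap_p : c.swap.p = c.q := rfl

theorem eta_swap (l : c.W₁ →* ℂˣ) (k : c.W₂ →* ℂˣ) : c.swap.eta k l = c.eta l k := by
  have hW' : Cfsg.IsSelfNormalizingCyclic c.W₂ c.W₁ := c.T_typeP.selfNormalizing
  show c.χ ((inl hW' k * inr hW' l).comp c.commEquiv.toMonoidHom) = c.χ _
  refine congrArg c.χ (hom_ext_sup (fun w hw => ?_) fun w hw => ?_)
  · simp only [MonoidHom.comp_apply, MonoidHom.mul_apply, MulEquiv.coe_toMonoidHom]
    rw [inl_apply_W₂ hW' k (c.commEquiv w) hw, inr_apply_W₁ c.selfNorm k w hw, one_mul, mul_one]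
    refine congrArg l (Subtype.ext ?_)
    have h1 := proj_mul hW' (c.commEquiv w)
    rw [(proj₁_eq_one_iff hW' _).mpr hw, OneMemClass.coe_one, one_mul] at h1
    have h2 := proj_mul c.selfNorm w
    rw [(proj₂_eq_one_iff c.selfNorm w).mpr hw, OneMemClass.coe_one, mul_one] at h2
    exact h1.trans h2.symm
  · simp only [MonoidHom.comp_apply, MonoidHom.mul_apply, MulEquiv.coe_toMonoidHom]
    rw [inr_apply_W₁ hW' l (c.commEquiv w) hw, inl_apply_W₂ c.selfNorm l w hw, one_mul, mul_one]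
    refine congrArg k (Subtype.ext ?_)
    have h1 := proj_mul hW' (c.commEquiv w)
    rw [(proj₂_eq_one_iff hW' _).mpr hw, OneMemClass.coe_one, mul_one] at h1
    have h2 := proj_mul c.selfNorm w
    rw [(proj₁_eq_one_iff c.selfNorm w).mpr hw, OneMemClass.coe_one, one_mul] at h2
    exact h1.trans h2.symm

theorem coef_swap (θ : G → ℂ) (l : c.W₁ →* ℂˣ) (k : c.W₂ →* ℂˣ) :
    c.swap.coef θ k l = c.coef θ l k := congrArg (classInner θ) (c.eta_swap l k)

theorem alphaOf_inv (hII : Cfsg.IsOfTypeII c.S) (hp : c.p.Prime) (k : c.W₂ →* ℂˣ) :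
    c.alphaOf hII hp k⁻¹ = (c.alphaOf hII hp k)⁻¹ := by
  refine (c.kernelTwo hII hp).fixed_restrict.1 _ _ (c.alphaOf_fix hII hp k⁻¹)
    (fun w hw x x' e => congrArg Inv.inv (c.alphaOf_fix hII hp k w hw x x' e)) ?_
  rw [c.alphaOf_res hII hp]
  exact MonoidHom.ext fun w => congrArg Inv.inv (DFunLike.congr_fun (c.alphaOf_res hII hp k) w).symm

theorem psiTwo_inv (hII : Cfsg.IsOfTypeII c.S) (hp : c.p.Prime) (k : c.W₂ →* ℂˣ) :
    c.psiTwo hII hp k⁻¹ = (c.psiTwo hII hp k)⁻¹ := by
  refine c.hom_ext_fitting (fun a => ?_) fun b => ?_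
  · rw [MonoidHom.inv_apply, psiTwo, psiTwo, c.extHom_H, c.extHom_H, c.alphaOf_inv hII hp]
    rfl
  · rw [MonoidHom.inv_apply, psiTwo, psiTwo, c.extHom_C, c.extHom_C]
    simp

theorem sideTwo_psi_inv (hII : Cfsg.IsOfTypeII c.S) (hp : c.p.Prime) (k : c.W₂ →* ℂˣ) :
    (c.sideTwo hII hp).psi k⁻¹ = ((c.sideTwo hII hp).psi k)⁻¹ := c.psiTwo_inv hII hp k

end Config

end CfsgLib.OddLocal.FTFinal
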