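import Cfsg.Agent.Lib.OddLocal.Final.Parity
import Cfsg.Agent.Lib.OddLocal.Final.Finish
import Cfsg.Agent.Lib.OddLocal.Final.SideTwo
import Cfsg.Agent.Lib.OddLocal.Final.Swap
import Cfsg.Agent.Lib.TwoGroups.OvergroupEmpty

/-!
Owner: helper12. Blueprint v2 Step 4 for `T` of Type II: the kernel of a maximal subgroup over `N(U)` is
bounded, so `Config.false_of_kernel_bound` applies. The two parity inequalities enter as `ColBound` (even
`b`: `q h ≤ (u + 1) e`) and `RowBound` (even `a`: `p h ≤ (v + 1) e`).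
-/

set_option autoImplicit false
set_option linter.unusedSectionVars false

namespace CfsgLib.OddLocal.FTFinal

open Subgroup
open CfsgLib.TwoGroups
open Cfsg (fittingHall IsOfTypeI IsMinSimpleOddOrder)

variable {G : Type*} [Group G] [Fintype G]

theorem IsReps.insert_conj {R : Finset (Subgroup G)} (hR : IsReps R) [DecidableEq (Subgroup G)]
    {L L' : Subgroup G} (hL : IsCoatom L) (hL' : L' ∈ R) {g : G}
    (hg : L = L'.map (MulAut.conj g).toMonoidHom) : IsReps (insert L (R.erase L')) := by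
  have hconj : ∀ {A B : Subgroup G} {a : G}, B = A.map (MulAut.conj a).toMonoidHom →
      A = B.map (MulAut.conj a⁻¹).toMonoidHom := fun {A B a} e => by
    rw [e, Support.map_conj_mul, inv_mul_cancel, Support.map_conj_of_mem (one_mem A)]
  refine ⟨fun M hM => ?_, fun M hM N hN a e => ?_, fun M hM => ?_⟩
  · rcases Finset.mem_insert.mp hM with rfl | hM
    · exact hL
    · exact hR.max M (Finset.mem_of_mem_erase hM)
  · rcases Finset.mem_insert.mp hM with hML | hM' <;> rcases Finset.mem_insert.mp hN with hNL | hN'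
    · rw [hML, hNL]
    · exfalso
      refine Finset.ne_of_mem_erase hN' (hR.eq_of_conj L' hL' N (Finset.mem_of_mem_erase hN') (a * g) ?_).symm
      rw [e, hML, hg, Support.map_conj_mul]
    · exfalso
      refine Finset.ne_of_mem_erase hM' (hR.eq_of_conj M (Finset.mem_of_mem_erase hM') L' hL' (g⁻¹ * a) ?_)
      rw [hconj hg, ← hNL, e, Support.map_conj_mul]
    · exact hR.eq_of_conj M (Finset.mem_of_mem_erase hM') N (Finset.mem_of_mem_erase hN') a e
  · obtain ⟨N, hN, a, ha⟩ := hR.exists_conj M hM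
    by_cases hNL : N = L'
    · refine ⟨L, Finset.mem_insert_self _ _, a * g⁻¹, ?_⟩
      rw [ha, hNL, hconj hg, Support.map_conj_mul]
    · exact ⟨N, Finset.mem_insert_of_mem (Finset.mem_erase.mpr ⟨hNL, hN⟩), a, ha⟩

/-- Representatives containing two type P and one Type I subgroup. -/
theorem exists_reps_three {S T W₁ W₂ U V L : Subgroup G} (hG : IsMinSimpleOddOrder G) (hS : IsCoatom S)
    (hT : IsCoatom T) (hSP : Cfsg.IsTypePWith S W₁ U W₂) (hTP : Cfsg.IsTypePWith T W₂ V W₁) (hL : IsCoatom L)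
    (hLS : ∀ g : G, L ≠ S.map (MulAut.conj g).toMonoidHom) (hLT : ∀ g : G, L ≠ T.map (MulAut.conj g).toMonoidHom) :
    ∃ R : Finset (Subgroup G), IsReps R ∧ S ∈ R ∧ T ∈ R ∧ L ∈ R := by
  classical
  obtain ⟨R, hR, hSR, hTR⟩ := exists_reps hS hT (T_ne_S hG hS hT hSP hTP)
  obtain ⟨L', hL', g, hg⟩ := hR.exists_conj L hL
  exact ⟨insert L (R.erase L'), hR.insert_conj hL hL' hg,
    Finset.mem_insert_of_mem (Finset.mem_erase.mpr ⟨fun e => hLS g (e ▸ hg), hSR⟩),
    Finset.mem_insert_of_mem (Finset.mem_erase.mpr ⟨fun e => hLT g (e ▸ hg), hTR⟩), Finset.mem_insert_self _ _⟩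

theorem nconj_of_typeP {L M : Subgroup G} {W₁ W₂ U : Subgroup G} (hG : IsMinSimpleOddOrder G)
    (hM : IsCoatom M) (hP : Cfsg.IsTypePWith M W₁ U W₂) (hL : IsCoatom L) (hI : IsOfTypeI L) (g : G) :
    L ≠ M.map (MulAut.conj g).toMonoidHom := fun e => by
  obtain ⟨K, V, h⟩ := DadeSupport.exists_decomposition hG hM
  have hK : K ≠ ⊥ := fun e' => not_typeOne_of_typeP hG hM hP (Frob12.isOfTypeI hG hM h e')
  obtain ⟨K', U', h'⟩ := DadeSupport.exists_decomposition hG hL
  have hK' : K' = ⊥ := DadeSupport.typeI_K_eq_bot hG hL h' hI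
  have h1 : Cfsg.kappa L = ∅ := by
    by_contra hne
    obtain ⟨t, ht⟩ := Set.nonempty_iff_ne_empty.mpr hne
    have hd := h'.hall.2.2 t ht.1 ht
    rw [hK', relIndex_bot_left] at hd
    exact hd ht.2.1
  have h2 : (Cfsg.kappa M).Nonempty := by
    by_contra hne
    exact hK (Frob12.kappa_bot_of_empty h (Set.not_nonempty_iff_eq_empty.mp hne))
  obtain ⟨t, ht⟩ := h2
  rw [e] at h1
  have := Fact.mk ht.1
  exact Set.eq_empty_iff_forall_notMem.mp h1 t (OvergroupPrimes.kappa_conj hG hM g ht)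

theorem card_fittingHallOf (L : Subgroup G) : Nat.card (Cfsg.fittingHallOf L) = Nat.card (fittingHall ↥L) :=
  card_map_of_injective L.subtype_injective

theorem index_eq_card_compl {L E : Subgroup G} (h : Cfsg.IsComplIn E (Cfsg.fittingHallOf L) L) :
    (fittingHall ↥L).index = Nat.card E := by
  have h1 := IsComplIn_card_mul h
  have h2 := (fittingHall ↥L).card_mul_index
  rw [card_fittingHallOf] at h1
  exact Nat.eq_of_mul_eq_mul_left (Nat.card_pos (α := fittingHall ↥L)) (by rw [h2, ← h1, mul_comm])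

namespace Config

variable (c : Config G)

/-- Even `b` bounds the kernel: `q h ≤ (u + 1) e`. -/
def ColBound : Prop :=
  ∀ (L : Subgroup G) [Fintype L], IsCoatom L → IsOfTypeI L → ∀ (d : OneData L) (K : Coefs c d)
    (k : c.W₂ →* ℂˣ), k ≠ 1 → Even (K.C 1 k) →
    c.q * Nat.card (fittingHall ↥L) ≤ (Nat.card c.U + 1) * (fittingHall ↥L).index

/-- Even `a` bounds the kernel: `p h ≤ (v + 1) e`. -/
def RowBound : Prop :=
  ∀ (L : Subgroup G) [Fintype L], IsCoatom L → IsOfTypeI L → ∀ (d : OneData L) (K : Coefs c d)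
    (l : c.W₁ →* ℂˣ), l ≠ 1 → Even (K.C l 1) →
    c.p * Nat.card (fittingHall ↥L) ≤ (Nat.card c.V + 1) * (fittingHall ↥L).index

variable {c}

/-- The side `S` gives `ColBound`. -/
theorem colBound_of_side [Fintype (c.W₁ →* ℂˣ)] [Fintype (c.W₂ →* ℂˣ)] (hII : Cfsg.IsOfTypeII c.S)
    (s : Side c) (hF : s.F = Cfsg.fittingHallOf c.S) (hu : s.u = Nat.card c.U)
    (hfixed : ∀ k, ∀ w ∈ c.W₁, ∀ f f' : s.F, (f' : G) = w * f * w⁻¹ → s.psi k f' = s.psi k f)
    (hinv : ∀ k, s.psi k⁻¹ = (s.psi k)⁻¹) : c.ColBound := by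
  intro L _ hL hI d K k hk hb
  obtain ⟨y, hy, hy1⟩ := c.W₁.bot_or_exists_ne_one.resolve_left c.S_typeP.W₁_ne
  have hdisj : ∀ g ∈ conjSharp s.F, g ∉ tilde L := fun g hg => by
    rw [hF, ← sigmaCore_eq_of_typeTwo c.minimal c.S_max hII] at hg
    exact conjSharp_core_not_tilde c.minimal c.S_max hL
      (nconj_of_typeP c.minimal c.S_max c.S_typeP hL hI) hg
  have hnorm : y ∈ normalizer (s.F : Set G) := by
    rw [hF]; exact FittingStructure.le_normalizer_fittingHallOf c.S (c.S_typeP.W₁_compl.2.1 hy)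
  have hfix : ∀ f ∈ s.F, y * f = f * y → f ∈ c.W₂ := fun f hf hc => by
    rw [← c.S_typeP.W₂_centralizer y hy hy1]
    exact ⟨c.S_typeP.U_compl.1 (hF ▸ hf), mem_centralizer_singleton_iff.mpr hc.symm⟩
  have h := K.col_bound_side s hL hI hdisj hy hy1 hnorm hfix hk (hfixed k y hy) (hinv k) hb
  rwa [hu] at h

/-- `ColBound` for a side of Type II with `C_U(H) = 1`. -/
theorem colBound_of_typeTwo (hII : Cfsg.IsOfTypeII c.S) (hp : c.p.Prime)
    (hC : c.U ⊓ centralizer (Cfsg.fittingHallOf c.S : Set G) = ⊥) : c.ColBound := by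
  classical
  have := CyclicTI.finite_hom c.W₁
  have := CyclicTI.finite_hom c.W₂
  have := Fintype.ofFinite (c.W₁ →* ℂˣ)
  have := Fintype.ofFinite (c.W₂ →* ℂˣ)
  have hC' : c.C = ⊥ := hC
  have hF : Cfsg.fittingOf c.S = c.H := by rw [c.fitting_S, hC', sup_bot_eq]
  have hu : (centralizer (c.H : Set G)).relIndex c.U = Nat.card c.U := by
    rw [← inf_relIndex_right, inf_comm, show c.U ⊓ centralizer (c.H : Set G) = ⊥ from hC, relIndex_bot_left]
  refine colBound_of_side hII (c.sideTwo hII hp) hF hu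
    (fun k w hw (f f' : Cfsg.fittingOf c.S) (e : (f' : G) = w * f * w⁻¹) => ?_) fun k => c.sideTwo_psi_inv hII hp k
  show c.psiTwo hII hp k f' = c.psiTwo hII hp k f
  conv_lhs => rw [← c.psiTwo_fix hII hp ⟨w, c.W₁_le_S hw⟩ hw k]
  rw [conjHom_apply]
  exact congrArg _ (Subtype.ext (by show w⁻¹ * f' * w = f; rw [e]; group))

/-- `ColBound` when `C_U(H) = 1`. -/
theorem colBound_two (h : c.SGalois) : c.ColBound := colBound_of_typeTwo h.hII h.p_prime h.free_bot

end Config

open scoped Classical in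
/-- The coefficients for the configuration with the two sides exchanged. -/
def Coefs.swap {L : Subgroup G} [Fintype L] {c : Config G} {d : OneData L} (K : Coefs c d) : Coefs c.swap d where
  C := fun k l => K.C l k
  one := K.one
  inner := fun k l => (c.coef_swap d.v l k).trans (K.inner l k)
  rho_eq := fun k l a ha => (congrArg (fun f => Frob12.rho (Cfsg.typeA1 L) L (Cfsg.supportR L) f a)
    (c.eta_swap l k)).trans (K.rho_eq l k a ha)
  rel := fun k l => by rw [K.rel l k, add_comm (K.C l 1)]; rfl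
  pow := fun j hj k l => K.pow j hj l k
  bound := fun {i₁} {i₂} => by
    rw [Finset.sum_comm]
    exact @Coefs.bound _ _ _ _ _ c d K i₂ i₁

namespace Config

variable {c : Config G}

/-- `RowBound` for `T` of Type II with `C_V(Q) = 1`. -/
theorem rowBound_of_typeTwo (hT : Cfsg.IsOfTypeII c.T) (hq : c.q.Prime)
    (hVC : c.V ⊓ centralizer (Cfsg.fittingHallOf c.T : Set G) = ⊥) : c.RowBound :=
  fun L _ hL hI d K l hl ha => colBound_of_typeTwo (c := c.swap) hT hq hVC L hL hI d K.swap l hl ha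

/-- `e = q` is impossible. -/
theorem false_of_compl_eq (h : c.SGalois) (hcol : c.ColBound) {L : Subgroup G} (hL : IsCoatom L)
    (hN : normalizer (c.U : Set G) ≤ L) (hE : L ⊓ c.T = c.W₁) : False := by
  classical
  have hU := (Final.typeTwo_facts c.S_typeP h.hII).1
  obtain ⟨hI, -, -, -, -, hcompl, -, -, -, -⟩ :=
    Final.normU_config c.minimal c.S_max c.T_max c.S_typeP c.T_typeP h.hII hU hL hN
  obtain ⟨m, hm, hm2, -, hm1⟩ := Final.kernel_index c.minimal c.S_max c.T_max c.S_typeP c.T_typeP h.hII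
    h.q_prime hU hL hN
  have he : (fittingHall ↥L).index = c.q := by rw [index_eq_card_compl hcompl, hE]; rfl
  obtain ⟨d⟩ := exists_oneData c.minimal hL hI
  obtain ⟨K⟩ := exists_coefs c hL hI d
  have : Finite (c.W₂ →* ℂˣ) := CyclicTI.finite_hom c.W₂
  have : Nontrivial (c.W₂ →* ℂˣ) := Finite.one_lt_card_iff_nontrivial.mp (c.card_hom_W₂ ▸ h.p_prime.one_lt)
  obtain ⟨k, hk⟩ := exists_ne (1 : c.W₂ →* ℂˣ)
  have hb0 := K.b_eq_zero h.q_prime h.p_prime (he ▸ h.lt) hk
  have hb := hcol L hL hI d K k hk (by rw [hb0]; exact ⟨0, rfl⟩)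
  rw [he, mul_comm c.q, ← card_fittingHallOf, hm] at hb
  have h2 := Nat.le_of_mul_le_mul_right hb h.q_prime.pos
  have h3 : 2 * Nat.card c.U ≤ m * Nat.card c.U := Nat.mul_le_mul_right _ (hm1 hE)
  have h5 : 2 ≤ Nat.card c.U := by
    have h1 := Nat.card_pos (α := c.U)
    have h6 : Nat.card c.U ≠ 1 := fun e => hU (card_eq_one.mp e)
    omega
  omega

/-- The data of a complement `W₁ W₂^y`. -/
theorem card_compl {L : Subgroup G} {y : G} (hn : L ⊓ c.T ≤ normalizer (c.W₁ : Set G))
    (hE : L ⊓ c.T = c.W₁ ⊔ c.W₂.map (MulAut.conj y).toMonoidHom) :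
    Nat.card ↥(L ⊓ c.T) = c.q * c.p := by
  have hcard : Nat.card (c.W₂.map (MulAut.conj y).toMonoidHom : Subgroup G) = c.p :=
    Nat.card_congr (c.W₂.equivMapOfInjective _ (MulAut.conj y).injective).toEquiv.symm
  refine Nat.dvd_antisymm ?_ (Nat.Coprime.mul_dvd_of_dvd_of_dvd c.coprime_q_p
    (card_dvd_of_le (hE.symm ▸ le_sup_left)) (hcard ▸ card_dvd_of_le (hE.symm ▸ le_sup_right)))
  rw [hE, sup_comm, ← hcard, mul_comm]
  exact Core.card_sup_dvd _ _ ((le_sup_right.trans hE.ge).trans hn)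

/-- `T` of Type II: the kernel of `L` over `N(U)` is bounded. -/
theorem kernel_bound_two (h : c.SGalois) (hT : Cfsg.IsOfTypeII c.T)
    (hVC : c.V ⊓ centralizer (Cfsg.fittingHallOf c.T : Set G) = ⊥) (hVcyc : IsCyclic c.V)
    (hv : Nat.card c.V * (c.q - 1) = c.q ^ c.p - 1) (hcol : c.ColBound) (hrow : c.RowBound)
    {L : Subgroup G} (hL : IsCoatom L) (hN : normalizer (c.U : Set G) ≤ L) {y : G}
    (hE : L ⊓ c.T = c.W₁ ⊔ c.W₂.map (MulAut.conj y).toMonoidHom) :
    Nat.card (Cfsg.fittingHallOf L) ≤ c.p * (Nat.card c.U + 1) + 1 ∨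
      Nat.card (Cfsg.fittingHallOf L) ≤ c.p ^ 2 * c.q ^ 2 + c.p ^ 2 + 1 ∨
      (c.p = 5 ∧ c.q = 3 ∧ Nat.card (Cfsg.fittingHallOf L) ≤ 368) ∨
      IsCyclic (Cfsg.fittingHallOf L) := by
  classical
  have hG := c.minimal
  have hp := h.p_prime
  have hq := h.q_prime
  have hlt := h.lt
  have hq3 := c.q_ge_three
  have hU := (Final.typeTwo_facts c.S_typeP h.hII).1
  have hV := (Final.typeTwo_facts c.T_typeP hT).1
  obtain ⟨hI, hFL, -, -, -, hcompl, -, -, hn, -⟩ :=
    Final.normU_config hG c.S_max c.T_max c.S_typeP c.T_typeP h.hII hU hL hN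
  have he : (fittingHall ↥L).index = c.q * c.p := by rw [index_eq_card_compl hcompl, card_compl hn hE]
  obtain ⟨d⟩ := exists_oneData hG hL hI
  obtain ⟨K⟩ := exists_coefs c hL hI d
  have := CyclicTI.finite_hom c.W₁
  have := CyclicTI.finite_hom c.W₂
  have : Nontrivial (c.W₁ →* ℂˣ) := Finite.one_lt_card_iff_nontrivial.mp (c.card_hom_W₁ ▸ hq.one_lt)
  have : Nontrivial (c.W₂ →* ℂˣ) := Finite.one_lt_card_iff_nontrivial.mp (c.card_hom_W₂ ▸ hp.one_lt)
  obtain ⟨l₀, hl₀⟩ := exists_ne (1 : c.W₁ →* ℂˣ)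
  obtain ⟨k₀, hk₀⟩ := exists_ne (1 : c.W₂ →* ℂˣ)
  rw [card_fittingHallOf]
  by_cases hb : Even (K.C 1 k₀)
  · left
    have h1 := hcol L hL hI d K k₀ hk₀ hb
    rw [he, show (Nat.card c.U + 1) * (c.q * c.p) = c.q * (c.p * (Nat.card c.U + 1)) by ring] at h1
    exact (Nat.le_of_mul_le_mul_left h1 hq.pos).trans (Nat.le_succ _)
  by_cases ha : Even (K.C l₀ 1)
  · have h1 := hrow L hL hI d K l₀ hl₀ ha
    rw [he, show (Nat.card c.V + 1) * (c.q * c.p) = c.p * (c.q * (Nat.card c.V + 1)) by ring] at h1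
    have hbq := Nat.le_of_mul_le_mul_left h1 hp.pos
    obtain ⟨M, hM, hNM⟩ := (eq_top_or_exists_le_coatom _).resolve_left
      (TransitivityHyp.normalizer_ne_top hG hV (fun e => c.T_max.1 (eq_top_iff.mpr (e.ge.trans
        (c.T_typeP.U_compl.2.1.trans (commutator_le_self c.T))))))
    obtain ⟨hIM, hFM, -, hVM, -, hcomplM, -, -, hnM, -⟩ :=
      Final.normU_config hG c.T_max c.S_max c.T_typeP c.S_typeP hT hV hM hNM
    obtain ⟨m', hm', hm'2, -, -⟩ := Final.kernel_index hG c.T_max c.S_max c.T_typeP c.S_typeP hT hp hV hM hNM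
    have K2 := Final.kernelModule_two c.S_typeP h.hII hp
    have he' : (fittingHall ↥M).index ≤ c.q * c.p := by
      rw [index_eq_card_compl hcomplM]
      rcases Final.complement_cases hG c.T_max c.S_max c.T_typeP c.S_typeP hT hq hp hV K2.elem.1
          (fun x hx => K2.elem.2 x hx) h.free_bot hM hNM with e | ⟨x, -, e⟩
      · rw [e]; exact Nat.le_mul_of_pos_left _ hq.pos
      · refine Nat.le_of_dvd (Nat.mul_pos hq.pos hp.pos) ?_
        rw [e, sup_comm]
        refine (Core.card_sup_dvd _ _ ((le_sup_right.trans e.ge).trans hnM)).trans (dvd_of_eq ?_)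
        rw [Nat.card_congr (c.W₁.equivMapOfInjective _ (MulAut.conj x).injective).toEquiv.symm]
        first | rfl | exact Nat.mul_comm _ _
    by_cases hconj : ∃ g : G, M = L.map (MulAut.conj g).toMonoidHom
    · obtain ⟨g, hg⟩ := hconj
      right; right; right
      have hmap : Cfsg.fittingHallOf M = (Cfsg.fittingHallOf L).map (MulAut.conj g).toMonoidHom := by
        rw [hFM, hFL, hg, Support.sigmaCore_map_conj hG hL g]
      have hcard : Nat.card (Cfsg.fittingHallOf M) = Nat.card (Cfsg.fittingHallOf L) := by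
        rw [hmap, Transfer.card_map_conj]
      have hle : m' * Nat.card c.V ≤ c.q * (Nat.card c.V + 1) := by
        rwa [← hm', hcard, card_fittingHallOf]
      have hm1 : m' = 1 := by
        have hv2 : 2 ≤ Nat.card c.V := by
          have h1 := Nat.card_pos (α := c.V)
          have h6 : Nat.card c.V ≠ 1 := fun e => hV (card_eq_one.mp e)
          omega
        have hm'lt : m' < 2 * c.p := by
          by_contra hge
          have : 2 * c.p * Nat.card c.V ≤ m' * Nat.card c.V := Nat.mul_le_mul_right _ (not_lt.mp hge)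
          nlinarith
        have h2 := hm'2
        change m' % (2 * c.p) = 1 % (2 * c.p) at h2
        rwa [Nat.mod_eq_of_lt hm'lt, Nat.mod_eq_of_lt (by omega)] at h2
      rw [hm1, one_mul] at hm'
      have hVF : c.V = Cfsg.fittingHallOf M := eq_of_le_of_card_ge hVM hm'.le
      have hcycM : IsCyclic (Cfsg.fittingHallOf M) := hVF ▸ hVcyc
      have e2 := ((Cfsg.fittingHallOf L).equivMapOfInjective _ (MulAut.conj g).injective).trans
        (MulEquiv.subgroupCongr hmap.symm)
      exact isCyclic_of_surjective e2.symm.toMonoidHom e2.symm.surjective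
    · push Not at hconj
      obtain ⟨d'⟩ := exists_oneData hG hM hIM
      rcases d.two_typeOne c hL hI d' hM hIM hconj with h2 | h2
      · right; left
        refine h2.trans ?_
        rw [he]
        nlinarith [Nat.mul_le_mul_left (c.q * c.p) he']
      · have hvM : Nat.card c.V ≤ Nat.card (fittingHall ↥M) := by
          rw [← card_fittingHallOf]; exact card_le_of_le hVM
        by_cases h53 : c.p = 5 ∧ c.q = 3
        · right; right; left
          refine ⟨h53.1, h53.2, hbq.trans ?_⟩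
          have hv' := hv
          rw [h53.1, h53.2] at hv'
          norm_num [-Nat.card_eq_fintype_card] at hv'
          rw [h53.2]
          omega
        · exfalso
          have hlarge := v_large hp hq hq3 hlt hv h53
          rw [he] at h2
          have h3 := Nat.mul_le_mul_right (c.q * c.p + 1) he'
          nlinarith
  · right; left
    have hodd : ∀ l k, Odd (K.C l k) := by
      have hone : Odd (1 : ℤ) := odd_one
      have hr1 : ∀ l, Odd (K.C l 1) := fun l => by
        by_cases hl : l = 1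
        · rw [hl, K.one]; exact hone
        · rw [K.left_const hq hl hl₀]; exact Int.not_even_iff_odd.mp ha
      have hr2 : ∀ k, Odd (K.C 1 k) := fun k => by
        by_cases hk : k = 1
        · rw [hk, K.one]; exact hone
        · rw [K.right_const hp hk hk₀]; exact Int.not_even_iff_odd.mp hb
      exact fun l k => by rw [K.rel]; exact ((hr1 l).add_odd (hr2 k)).sub_odd hone
    have hnS := nconj_of_typeP hG c.S_max c.S_typeP hL hI
    have hnT := nconj_of_typeP hG c.T_max c.T_typeP hL hI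
    obtain ⟨R, hR, hSR, hTR, hLR⟩ := exists_reps_three hG c.S_max c.T_max c.S_typeP c.T_typeP hL hnS hnT
    have hLR' : L ∈ (R.erase c.S).erase c.T := Finset.mem_erase.mpr
      ⟨fun e => hnT 1 (by rw [Support.map_conj_of_mem (one_mem c.T)]; exact e),
        Finset.mem_erase.mpr
          ⟨fun e => hnS 1 (by rw [Support.map_conj_of_mem (one_mem c.S)]; exact e), hLR⟩⟩
    have hFS := isSide_core hG c.S_max ⟨_, _, _, c.S_typeP⟩
    have hFT := isSide_core hG c.T_max ⟨_, _, _, c.T_typeP⟩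
    have hw := K.weights_le_of_odd hq hp hR hSR hTR hFS hFT hLR' hI hodd (le_of_eq he)
    have hid := weight_identity_good hG c.S_max c.T_max c.S_typeP c.T_typeP hFS hFT hR hSR hTR
    rw [← Finset.add_sum_erase _ _ hLR'] at hid
    have hL' : (Nat.card L : ℝ) = (c.q * c.p : ℕ) * (Nat.card (fittingHall ↥L) : ℝ) := by
      rw [← Nat.cast_mul, ← he, mul_comm, Subgroup.card_mul_index]
    have hwL : weightGood L (Cfsg.sigmaCore c.S) (Cfsg.sigmaCore c.T) ≤ 1 / ((c.q : ℝ) * c.p) := by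
      rw [weightGood, hL']
      push_cast
      have hq0 : (0 : ℝ) < c.q := Nat.cast_pos.mpr hq.pos
      have hp0 : (0 : ℝ) < c.p := Nat.cast_pos.mpr hp.pos
      have hh0 : (0 : ℝ) < Nat.card (fittingHall ↥L) := Nat.cast_pos.mpr Nat.card_pos
      rw [div_le_div_iff₀ (by positivity) (by positivity), one_mul]
      refine (mul_le_mul_of_nonneg_right ?_ (by positivity)).trans (le_of_eq (mul_comm _ _))
      rw [← card_fittingHallOf, hFL]
      refine Nat.cast_le.mpr ?_
      rw [← Nat.card_coe_set_eq]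
      exact Nat.card_mono (Set.toFinite _) fun a ha => (DadeSupport.typeA1_eq hG hL ▸ ha.1 :
        a ∈ (Cfsg.sigmaCore L : Set G) \ {1}).1
    have hPS : ∀ {M W W' U' : Subgroup G}, Cfsg.IsTypePWith M W U' W' → Cfsg.IsOfTypeII M → IsCoatom M →
        ((Nat.card (Cfsg.sigmaCore M) : ℝ) - 1) / Nat.card M ≤ 1 / ((Nat.card U' : ℝ) * Nat.card W) :=
      fun {M W W' U'} hP hII hM => by
        have hc : (Nat.card M : ℝ) = Nat.card (Cfsg.sigmaCore M) * ((Nat.card U' : ℝ) * Nat.card W) := by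
          rw [← IsComplIn_card_mul hP.W₁_compl, ← IsComplIn_card_mul hP.U_compl,
            sigmaCore_eq_of_typeTwo hG hM hII]
          push_cast; ring
        have h1 : (0 : ℝ) < Nat.card (Cfsg.sigmaCore M) := Nat.cast_pos.mpr Nat.card_pos
        have h2 : (0 : ℝ) < (Nat.card U' : ℝ) * Nat.card W :=
          mul_pos (Nat.cast_pos.mpr Nat.card_pos) (Nat.cast_pos.mpr Nat.card_pos)
        rw [hc, div_le_div_iff₀ (mul_pos h1 h2) h2]
        nlinarith
    have hPS' := hPS c.S_typeP h.hII c.S_max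
    have hPT' := hPS c.T_typeP hT c.T_max
    have hqpG : (c.q : ℝ) * c.p ≤ Nat.card G := by
      rw [← Nat.cast_mul]
      exact Nat.cast_le.mpr (Nat.le_of_dvd Nat.card_pos (Nat.Coprime.mul_dvd_of_dvd_of_dvd c.coprime_q_p
        c.W₁.card_subgroup_dvd_card c.W₂.card_subgroup_dvd_card))
    have hu7 : (2 : ℝ) ≤ Nat.card c.U := by
      have h1 := Nat.card_pos (α := c.U)
      have h6 : Nat.card c.U ≠ 1 := fun e => hU (card_eq_one.mp e)
      exact_mod_cast (by omega : 2 ≤ Nat.card c.U)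
    have hv7 : (2 : ℝ) ≤ Nat.card c.V := by
      have h1 := Nat.card_pos (α := c.V)
      have h6 : Nat.card c.V ≠ 1 := fun e => hV (card_eq_one.mp e)
      exact_mod_cast (by omega : 2 ≤ Nat.card c.V)
    have hqR : (3 : ℝ) ≤ c.q := by exact_mod_cast hq3
    have hpR : (5 : ℝ) ≤ c.p := by
      have := c.p_ge_three
      have h5 : 5 ≤ c.p := by
        rcases Nat.lt_or_ge c.p 5 with h5 | h5
        · have : c.p = 4 := by omega
          rw [this] at hp; norm_num at hp
        · exact h5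
      exact_mod_cast h5
    have hh : (0 : ℝ) < Nat.card (fittingHall ↥L) := Nat.cast_pos.mpr Nat.card_pos
    rw [he] at hw
    push_cast at hw
    rw [show (Nat.card c.W₁ : ℝ) = c.q from rfl] at hPS' hid
    rw [show (Nat.card c.W₂ : ℝ) = c.p from rfl] at hPT' hid
    have hqp : (0 : ℝ) < (c.q : ℝ) * c.p := by positivity
    have hA : 1 / ((Nat.card c.U : ℝ) * c.q) ≤ 1 / (2 * (c.q : ℝ)) := by gcongr
    have hB : 1 / ((Nat.card c.V : ℝ) * c.p) ≤ 1 / (2 * (c.p : ℝ)) := by gcongr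
    have hC : (Nat.card G : ℝ)⁻¹ ≤ 1 / ((c.q : ℝ) * c.p) := by
      rw [one_div]; exact inv_anti₀ hqp hqpG
    have key : 1 / ((c.q : ℝ) * c.p) ≤ (c.q : ℝ) * c.p / Nat.card (fittingHall ↥L) := by
      have e1 : ((c.q : ℝ) - 1) * ((c.p : ℝ) - 1) / ((c.q : ℝ) * c.p) =
          1 - 1 / (c.q : ℝ) - 1 / (c.p : ℝ) + 1 / ((c.q : ℝ) * c.p) := by field_simp; ring
      have e2 : 4 * (1 / ((c.q : ℝ) * c.p)) ≤ 1 / (2 * (c.q : ℝ)) + 1 / (2 * (c.p : ℝ)) := by
        rw [show 1 / (2 * (c.q : ℝ)) + 1 / (2 * (c.p : ℝ)) =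
          ((c.q : ℝ) + c.p) / 2 * (1 / ((c.q : ℝ) * c.p)) by field_simp; ring]
        exact mul_le_mul_of_nonneg_right (by linarith) (by positivity)
      have e3 : 1 / (c.q : ℝ) = 2 * (1 / (2 * (c.q : ℝ))) := by field_simp
      have e4 : 1 / (c.p : ℝ) = 2 * (1 / (2 * (c.p : ℝ))) := by field_simp
      linarith
    rw [div_le_div_iff₀ hqp hh, one_mul] at key
    have : ((Nat.card (fittingHall ↥L) : ℕ) : ℝ) ≤ ((c.p ^ 2 * c.q ^ 2 + c.p ^ 2 + 1 : ℕ) : ℝ) := by
      push_cast; nlinarith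
    exact_mod_cast this

/-- Step 4 for `T` of Type II. -/
theorem false_of_typeTwo (h : c.SGalois) {i : ℕ} (hi : Nat.card c.U * i * (c.p - 1) = c.p ^ c.q - 1)
    (hi' : i = 1 ∨ (i = c.q ∧ c.q ∣ c.p - 1)) (hT : Cfsg.IsOfTypeII c.T)
    (hVC : c.V ⊓ centralizer (Cfsg.fittingHallOf c.T : Set G) = ⊥) (hVcyc : IsCyclic c.V)
    (hv : Nat.card c.V * (c.q - 1) = c.q ^ c.p - 1) (hcol : c.ColBound) (hrow : c.RowBound) : False := by
  have hU := (Final.typeTwo_facts c.S_typeP h.hII).1
  obtain ⟨L, hL, hN⟩ := (eq_top_or_exists_le_coatom _).resolve_left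
    (TransitivityHyp.normalizer_ne_top c.minimal hU (fun e => c.S_max.1 (eq_top_iff.mpr (e.ge.trans
      (c.S_typeP.U_compl.2.1.trans (commutator_le_self c.S))))))
  have KT := Final.kernelModule_two c.T_typeP hT h.q_prime
  rcases Final.complement_cases c.minimal c.S_max c.T_max c.S_typeP c.T_typeP h.hII h.p_prime h.q_prime hU
      KT.elem.1 (fun x hx => KT.elem.2 x hx) hVC hL hN with hE | ⟨y, hy, hE⟩
  · exact false_of_compl_eq h hcol hL hN hE
  · exact false_of_kernel_bound h hi hi' KT.elem.1 hL hN hy (hE ▸ le_sup_right)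
      (kernel_bound_two h hT hVC hVcyc hv hcol hrow hL hN hE)

/-- Step 4 for `T` of Type II, with both parity bounds supplied by the sides. -/
theorem false_of_full_sides (h : c.SGalois) {i : ℕ} (hi : Nat.card c.U * i * (c.p - 1) = c.p ^ c.q - 1)
    (hi' : i = 1 ∨ (i = c.q ∧ c.q ∣ c.p - 1)) (hT : Cfsg.IsOfTypeII c.T)
    (hVC : c.V ⊓ centralizer (Cfsg.fittingHallOf c.T : Set G) = ⊥) (hVcyc : IsCyclic c.V)
    (hv : Nat.card c.V * (c.q - 1) = c.q ^ c.p - 1) : False :=
  false_of_typeTwo h hi hi' hT hVC hVcyc hv (colBound_two h) (rowBound_of_typeTwo hT h.q_prime hVC)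

end Config

end CfsgLib.OddLocal.FTFinal
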