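import Cfsg.Agent.Lib.OddLocal.Final.TypeThreeNorm
import Cfsg.Agent.Lib.OddLocal.Final.StepFour

/-!
Owner: helper12. Step 4 of the endgame against a subgroup of type III or IV: for a maximal subgroup `L` of
type I the parity of `⟨x_L, G₁⟩ + ⟨v_L, ξ'⟩` bounds the kernel of `L` by `e (q + 1)` as soon as `|S' : S''|`
exceeds `q (e + 1) + 1` (orientation: `c.S` is the subgroup of type III or IV).
-/

set_option autoImplicit false
set_option linter.unusedSectionVars false

open scoped commutatorElement ComplexConjugate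

namespace CfsgLib.OddLocal.FTFinal

open Subgroup
open CfsgLib.Char CfsgLib.CyclicTI CfsgLib.TwoGroups CfsgLib.DadeMap
open CfsgLib.Char.Exceptional (apply_one_re_pos classInner_self_of_irr)
open Cfsg (classInner IsClassFunction IsGeneralizedCharacter indFun conjFun dadeIsometry typeA1 IsOfTypeI fittingHall)

variable {G : Type*} [Group G] [Fintype G]

/-- A signed irreducible character is not the negative of its conjugate. -/
theorem conjFun_ne_neg {χ : G → ℂ} (h : SignedIrr χ) : conjFun χ ≠ -χ := fun e => by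
  have h1 := congrArg Complex.re (congrFun e 1)
  simp only [Pi.neg_apply, conjFun, Complex.neg_re, Complex.conj_re] at h1
  rcases h with h | h
  · have := apply_one_re_pos h; linarith
  · have := apply_one_re_pos h; rw [Pi.neg_apply, Complex.neg_re] at this; linarith

theorem SignedIrr.conjFun' {χ : G → ℂ} (h : SignedIrr χ) : SignedIrr (conjFun χ) := by
  rcases h with h | h
  · exact Or.inl (Exceptional.IsIrr.conjFun h)
  · refine Or.inr ?_
    rw [show -conjFun χ = conjFun (-χ) from funext fun g => by simp [conjFun]]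
    exact Exceptional.IsIrr.conjFun h

theorem signedIrr_self {χ : G → ℂ} (h : SignedIrr χ) : classInner χ χ = 1 := by
  rcases h with h | h
  · exact classInner_self_of_irr h
  · have h1 := classInner_self_of_irr h
    rwa [classInner_neg_left, CyclicTI.inner_neg_right, neg_neg] at h1

theorem signedIrr_gen {χ : G → ℂ} (h : SignedIrr χ) : IsGeneralizedCharacter G χ := by
  rcases h with h | h
  · exact IsGen.of_irr h
  · simpa using IsGen.neg (IsGen.of_irr h)

namespace Config

variable {c : Config G}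

namespace IsThree

variable (h : c.IsThree) {X : (c.der →* ℂˣ) → G → ℂ}
  (hX1 : ∀ ξ, ξ ≠ 1 → SignedIrr (X ξ) ∧ ∀ l k, c.coef (X ξ) l k = 0)
  (hX2 : ∀ a b, a ≠ 1 → b ≠ 1 → classInner (X a) (X b) = (orbCount h.tiDerived a b : ℂ))
  (hX3 : ∀ a b, a ≠ 1 → b ≠ 1 → ind c.der a b = X a - X b)

include h hX1 hX2 hX3

theorem X_orth_inv {ξ : c.der →* ℂˣ} (hξ : ξ ≠ 1) : classInner (X ξ) (X ξ⁻¹) = 0 := by
  rw [hX2 ξ ξ⁻¹ hξ (hom_inv_ne_one hξ), h.orb_zero (h.not_conj_inv hξ), Complex.ofReal_zero]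

/-- The family commutes with complex conjugation. -/
theorem conj_X {ξ : c.der →* ℂˣ} (hξ : ξ ≠ 1) : conjFun (X ξ) = X ξ⁻¹ := by
  have hξ' := hom_inv_ne_one hξ
  set a := X ξ
  set b := X ξ⁻¹
  have hab : classInner a b = 0 := h.X_orth_inv hX1 hX2 hX3 hξ
  have hbb : classInner b b = 1 := signedIrr_self (hX1 _ hξ').1
  have e : conjFun a - conjFun b = b - a := by
    have h1 : conjFun (ind c.der 1 ξ) - ind c.der 1 ξ = a - b :=
      (conj_ind_sub ξ).trans (hX3 ξ ξ⁻¹ hξ hξ')
    funext g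
    have h2 := congrFun h1 g
    have h3 := congrArg conj h2
    simp only [conjFun, Pi.sub_apply, map_sub, Complex.conj_conj] at h2 h3 ⊢
    linear_combination -h2 - h3
  have hinner : classInner (conjFun a) b - classInner (conjFun b) b = 1 := by
    rw [← classInner_sub_left, e, classInner_sub_left, hab, hbb, sub_zero]
  rcases (SignedIrr.conjFun' (hX1 ξ hξ).1).trichotomy (hX1 _ hξ').1 with h0 | ⟨e1, -⟩ | ⟨-, h0⟩
  · rw [h0] at hinner
    rcases (SignedIrr.conjFun' (hX1 _ hξ').1).trichotomy (hX1 _ hξ').1 with h2 | ⟨-, h2⟩ | ⟨e2, -⟩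
    · rw [h2] at hinner; norm_num at hinner
    · rw [h2] at hinner; norm_num at hinner
    · exact absurd e2 (conjFun_ne_neg (hX1 _ hξ').1)
  · exact e1
  · rw [h0] at hinner
    rcases (SignedIrr.conjFun' (hX1 _ hξ').1).trichotomy (hX1 _ hξ').1 with h2 | ⟨-, h2⟩ | ⟨-, h2⟩ <;>
      · rw [h2] at hinner; norm_num at hinner

/-- The mass of `ξ'` on `S'`. -/
theorem mass_X {R : Finset (c.der →* ℂˣ)} (hR1 : ∀ r ∈ R, r ≠ 1)
    (hR2 : ∀ r ∈ R, ∀ r' ∈ R, ∀ x : c.S, r = FTFinal.conjHom h.tiDerived x r' → r = r')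
    {ξ : c.der →* ℂˣ} (hξR : ξ ∈ R) : 1 - 1 / (R.card : ℝ) ≤ mass c.der c.S (X ξ) := by
  classical
  have hξ := hR1 ξ hξR
  have hN : 1 ≤ R.card := Finset.card_pos.mpr ⟨ξ, hξR⟩
  rcases Nat.lt_or_ge R.card 2 with h2 | h2
  · rw [show R.card = 1 by omega, Nat.cast_one, div_one, sub_self]
    exact mass_nonneg h.tiDerived _
  set φ : c.der → ℂ := ∑ r ∈ R, linDiff ξ r with hφdef
  have hφ : φ 1 = 0 := by
    rw [hφdef, Finset.sum_apply, Finset.sum_eq_zero fun r _ => linDiff_one ξ r]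
  have hI : indFun c.der φ = ∑ r ∈ R, (X ξ - X r) := by
    rw [hφdef, indFun_sum]
    exact Finset.sum_congr rfl fun r hr => hX3 ξ r hξ (hR1 r hr)
  have hδ : ∀ a ∈ R, ∀ b ∈ R, classInner (X a) (X b) = if a = b then 1 else 0 := by
    intro a ha b hb
    rw [hX2 a b (hR1 a ha) (hR1 b hb)]
    split_ifs with e
    · rw [e, h.orb_self (hR1 b hb), Complex.ofReal_one]
    · rw [h.orb_zero fun x ex => e (hR2 a ha b hb x ex), Complex.ofReal_zero]
  have h1 : classInner (indFun c.der φ) (X ξ) = ((R.card : ℝ) - 1 : ℝ) := by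
    rw [hI, classInner_sum_left, Finset.sum_congr rfl fun r hr => by
      rw [classInner_sub_left, hδ ξ hξR ξ hξR, if_pos rfl, hδ r hr ξ hξR],
      Finset.sum_sub_distrib, Finset.sum_const, Finset.sum_ite_eq', if_pos hξR, nsmul_eq_mul, mul_one]
    push_cast; rfl
  have h3 : classInner (indFun c.der φ) (indFun c.der φ) = ((R.card : ℝ) * ((R.card : ℝ) - 1) : ℝ) := by
    rw [hI, classInner_sum_left, Finset.sum_congr rfl fun r hr => by
      rw [classInner_sum_right, Finset.sum_congr rfl fun s hs => by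
        rw [classInner_sub_left, classInner_sub_right, classInner_sub_right, hδ ξ hξR ξ hξR, if_pos rfl,
          hδ ξ hξR s hs, hδ r hr ξ hξR, hδ r hr s hs]]]
    simp only [Finset.sum_sub_distrib, Finset.sum_const, Finset.sum_ite_eq, Finset.sum_ite_eq', nsmul_eq_mul,
      mul_one, if_pos hξR]
    rw [Finset.sum_congr rfl (g := fun _ => (1 : ℂ)) fun r hr => if_pos hr, Finset.sum_const, nsmul_eq_mul,
      mul_one, ← Finset.mul_sum, Finset.sum_ite_eq', if_pos hξR]
    push_cast; ring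
  have hcl : IsClassFunction G (X ξ) := IsGen.isClassFunction (signedIrr_gen (hX1 ξ hξ).1)
  have h4 := normSq_inner_le h.tiDerived hφ hcl
  rw [h1, h3, Complex.ofReal_re, Complex.normSq_ofReal] at h4
  have hN2 : (2 : ℝ) ≤ R.card := by exact_mod_cast h2
  have h5 : (R.card : ℝ) - 1 ≤ R.card * mass c.der c.S (X ξ) :=
    le_of_mul_le_mul_left (h4.trans (le_of_eq (by ring))) (by linarith : (0 : ℝ) < (R.card : ℝ) - 1)
  rw [sub_le_iff_le_add, ← sub_le_iff_le_add', le_div_iff₀ (by linarith), sub_mul, one_mul]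
  linarith

omit hX1 hX2 hX3

theorem der_not_tilde {L : Subgroup G} (hL : IsCoatom L) (hI : IsOfTypeI L) {g : G}
    (hg : g ∈ conjSharp c.der) : g ∉ tilde L := by
  rw [show c.der = Cfsg.sigmaCore c.S from (sigmaCore_eq_of_typeThreeFour c.minimal c.S_max h.s34).symm] at hg
  exact conjSharp_core_not_tilde c.minimal c.S_max hL
    (nconj_of_typeP c.minimal c.S_max c.S_typeP hL hI) hg

/-- The parity bound of Step 4. -/
theorem kernel_bound {L : Subgroup G} [Fintype L] (hL : IsCoatom L) (hI : IsOfTypeI L)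
    (hv : c.q * ((fittingHall ↥L).index + 1) + 1 < c.idx) :
    Nat.card (fittingHall ↥L) ≤ (fittingHall ↥L).index * (c.q + 1) := by
  classical
  have hG := c.minimal
  obtain ⟨d⟩ := exists_oneData hG hL hI
  obtain ⟨X, hX1, hX2, hX3⟩ := h.exists_family
  obtain ⟨R, hR1, hR2, -, hR4⟩ := h.exists_orbitReps
  have hvN : c.idx ≤ c.q * R.card + 1 := h.idx_le_relIndex.trans hR4
  have hN : (fittingHall ↥L).index + 1 < R.card := by
    by_contra hle
    have := Nat.mul_le_mul_left c.q (not_lt.mp hle)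
    omega
  obtain ⟨ξ, hξR⟩ := Finset.card_pos.mp (by omega : 0 < R.card)
  have hξ := hR1 ξ hξR
  have hXs := (hX1 ξ hξ).1
  have hA0 : ∀ g ∈ tilde L, ind c.der 1 ξ g = 0 := fun g hg =>
    ind_eq_zero_off _ _ fun hm => h.der_not_tilde hL hI hm hg
  obtain ⟨K, hK⟩ := IsGen.exists_classInner_eq_intCast (d.x_gen hG hL hI) (ind_isGen (1 : c.der →* ℂˣ) ξ)
  obtain ⟨B, hB⟩ := IsGen.exists_classInner_eq_intCast (d.v_gen hG hL hI) (signedIrr_gen hXs)
  have hP1 : classInner (X ξ) (fun _ => 1) = 0 := by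
    rw [← c.eta_one_one]; exact (hX1 ξ hξ).2 1 1
  have hconj : conjFun (ind c.der 1 ξ) - ind c.der 1 ξ = X ξ - conjFun (X ξ) := by
    rw [conj_ind_sub, hX3 ξ ξ⁻¹ hξ (hom_inv_ne_one hξ), h.conj_X hX1 hX2 hX3 hξ]
  have hxP : classInner d.x (X ξ) = 0 := by
    set D := d.x - conjFun d.x with hD
    set D' := X ξ - conjFun (X ξ) with hD'
    have h0 : classInner D D' = 0 := by
      rw [Cfsg.classInner, Finset.sum_eq_zero, mul_zero]
      intro g _
      by_cases hg : g ∈ tilde L
      · have e : D' g = ind c.der ξ ξ⁻¹ g := by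
          rw [hX3 ξ ξ⁻¹ hξ (hom_inv_ne_one hξ), hD', h.conj_X hX1 hX2 hX3 hξ]
        rw [e, ind_eq_zero_off _ _ fun hm => h.der_not_tilde hL hI hm hg, map_zero, mul_zero]
      · have e : D g = 0 := by
          rw [hD, ← d.τ₁_conj hG hL hI, d.x_sub hG hL hI]
          exact DadeMap.apply_zero fun hh => hg ((mem_tilde_iff hG hL).mpr hh)
        rw [e, zero_mul]
    have hD'D : classInner D' D' = 2 := by
      have hcc : classInner (conjFun (X ξ)) (X ξ) = 0 := by
        rw [h.conj_X hX1 hX2 hX3 hξ, ← classInner_conj_symm, h.X_orth_inv hX1 hX2 hX3 hξ, map_zero]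
      rw [hD', classInner_sub_left, classInner_sub_right, classInner_sub_right, hcc,
        signedIrr_self (SignedIrr.conjFun' hXs), signedIrr_self hXs, h.conj_X hX1 hX2 hX3 hξ,
        h.X_orth_inv hX1 hX2 hX3 hξ]
      norm_num
    rcases (d.x_signed hG hL hI).trichotomy hXs with h1 | ⟨e, -⟩ | ⟨e, -⟩
    · exact h1
    · rw [show D = D' by rw [hD, hD', e], hD'D] at h0; norm_num at h0
    · rw [show D = -D' by rw [hD, hD', e]; funext g; simp [Cfsg.conjFun]; ring, classInner_neg_left,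
        hD'D] at h0
      norm_num at h0
  have hodd := d.parity_correction c hL hI (ind_isGen _ _) hA0 (inner_ind_one hξ) (signedIrr_gen hXs) hP1
    hxP hconj hK hB
  by_cases hK0 : K = 0
  swap
  · have h1 := d.inner_sq_le hG hL hI hA0 hK
    rw [h.inner_G1 hξ hξ, h.orb_self hξ, Complex.ofReal_re] at h1
    have hh : (0 : ℝ) < Nat.card (fittingHall ↥L) := Nat.cast_pos.mpr Nat.card_pos
    rw [mul_div_assoc', le_div_iff₀ hh] at h1
    have hK1 : (1 : ℝ) ≤ (K : ℝ) ^ 2 := by
      exact_mod_cast (one_le_sq_iff_one_le_abs _).mpr (Int.one_le_abs hK0)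
    have h2 : ((Nat.card (fittingHall ↥L) : ℕ) : ℝ) ≤ (((fittingHall ↥L).index * (c.q + 1) : ℕ) : ℝ) := by
      push_cast
      nlinarith
    exact_mod_cast h2
  exfalso
  rw [hK0, zero_add] at hodd
  have hB1 : (1 : ℝ) ≤ (B : ℝ) ^ 2 := by
    exact_mod_cast (one_le_sq_iff_one_le_abs _).mpr (Int.one_le_abs fun e => by rw [e] at hodd; simp at hodd)
  set s : Finset G := Finset.univ.filter fun g => g ∈ tilde L with hs
  have e : classInner d.v (X ξ) = (Nat.card G : ℂ)⁻¹ * ∑ g ∈ s, d.v g * conj (X ξ g) := by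
    rw [Cfsg.classInner, hs, Finset.sum_filter]
    refine congrArg _ (Finset.sum_congr rfl fun g _ => ?_)
    by_cases hg : g ∈ tilde L
    · rw [if_pos hg]
    · rw [if_neg hg, d.v_zero hG hL hI hg, zero_mul]
  have cs : Complex.normSq (∑ g ∈ s, d.v g * conj (X ξ g)) ≤
      (∑ g, Complex.normSq (d.v g)) * ∑ g ∈ s, Complex.normSq (X ξ g) := by
    refine le_trans ?_ (mul_le_mul_of_nonneg_right (Finset.sum_le_sum_of_subset_of_nonneg
      (Finset.subset_univ s) fun g _ _ => Complex.normSq_nonneg _)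
      (Finset.sum_nonneg fun g _ => Complex.normSq_nonneg _))
    simp only [Complex.normSq_eq_norm_sq]
    refine le_trans ?_ (Finset.sum_mul_sq_le_sq_mul_sq s (fun g => ‖d.v g‖) (fun g => ‖X ξ g‖))
    refine pow_le_pow_left₀ (norm_nonneg _) ((norm_sum_le _ _).trans (le_of_eq ?_)) 2
    exact Finset.sum_congr rfl fun g _ => by rw [norm_mul, Complex.norm_conj]
  have hrest : (Nat.card G : ℝ)⁻¹ * ∑ g ∈ s, Complex.normSq (X ξ g) ≤ 1 / (R.card : ℝ) := by
    have hm := h.mass_X hX1 hX2 hX3 hR1 hR2 hξR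
    rw [mass_eq h.tiDerived (IsGen.isClassFunction (signedIrr_gen hXs))] at hm
    have hsum : (Nat.card G : ℝ)⁻¹ * ∑ g, Complex.normSq (X ξ g) = 1 := by
      rw [← Frob12.classInner_self_eq_sum, signedIrr_self hXs, Complex.one_re]
    have hle : (∑ g : G, if g ∈ conjSharp c.der then Complex.normSq (X ξ g) else 0) +
        ∑ g ∈ s, Complex.normSq (X ξ g) ≤ ∑ g, Complex.normSq (X ξ g) := by
      rw [hs, Finset.sum_filter, ← Finset.sum_add_distrib]
      refine Finset.sum_le_sum fun g _ => ?_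
      by_cases hg : g ∈ conjSharp c.der
      · rw [if_pos hg, if_neg (h.der_not_tilde hL hI hg), add_zero]
      · rw [if_neg hg, zero_add]
        split_ifs
        · exact le_rfl
        · exact Complex.normSq_nonneg _
    have := mul_le_mul_of_nonneg_left hle (by positivity : (0 : ℝ) ≤ (Nat.card G : ℝ)⁻¹)
    rw [mul_add, hsum] at this
    linarith
  have hB2 : (B : ℝ) ^ 2 =
      ((Nat.card G : ℝ)⁻¹) ^ 2 * Complex.normSq (∑ g ∈ s, d.v g * conj (X ξ g)) := by
    have h1 := congrArg Complex.normSq (hB.symm.trans e)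
    rw [Complex.normSq_intCast, Complex.normSq_mul, map_inv₀, Complex.normSq_natCast, mul_inv] at h1
    rw [sq, sq]; exact h1
  have hvn : (Nat.card G : ℝ)⁻¹ * ∑ g, Complex.normSq (d.v g) = ((fittingHall ↥L).index : ℝ) + 1 := by
    rw [← Frob12.classInner_self_eq_sum, d.v_norm hG hL hI, Complex.add_re, Complex.natCast_re, Complex.one_re]
  have hfin : (1 : ℝ) ≤ (((fittingHall ↥L).index : ℝ) + 1) * (1 / (R.card : ℝ)) := by
    calc (1 : ℝ) ≤ (B : ℝ) ^ 2 := hB1
      _ ≤ ((Nat.card G : ℝ)⁻¹) ^ 2 *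
          ((∑ g, Complex.normSq (d.v g)) * ∑ g ∈ s, Complex.normSq (X ξ g)) := by
        rw [hB2]; exact mul_le_mul_of_nonneg_left cs (by positivity)
      _ = ((Nat.card G : ℝ)⁻¹ * ∑ g, Complex.normSq (d.v g)) *
          ((Nat.card G : ℝ)⁻¹ * ∑ g ∈ s, Complex.normSq (X ξ g)) := by ring
      _ ≤ _ := by
        rw [hvn]; exact mul_le_mul_of_nonneg_left hrest (by positivity)
  have hNR : (((fittingHall ↥L).index + 1 : ℕ) : ℝ) < (R.card : ℝ) := Nat.cast_lt.mpr hN
  push_cast at hNR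
  rw [mul_one_div, le_div_iff₀ (by linarith [(Nat.cast_nonneg (fittingHall ↥L).index : (0 : ℝ) ≤ _)])] at hfin
  linarith

end IsThree

end Config

end CfsgLib.OddLocal.FTFinal
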