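import Cfsg.Agent.Lib.OddLocal.Final.AsmThree
import Cfsg.Agent.Lib.OddLocal.Final.StepFourThree

/-!
Owner: helper15. Step 4 against a subgroup of type III or IV in the orientation of the endgame: the kernel
bound, and the exclusion of types III and IV. When `|V|` is small the bound from `RowBound` suffices, so no
lower bound on `|V|` is needed.
-/

set_option autoImplicit false
set_option linter.unusedSectionVars false

namespace CfsgLib.OddLocal.FTFinal

open Subgroup
open CfsgLib.TwoGroups CfsgLib.DadeMap CfsgLib.Char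
open Cfsg (fittingHall)

variable {G : Type*} [Group G] [Fintype G]

namespace Config

variable {c : Config G}

/-- `ColBound` for a side of type III or IV. -/
theorem colBound_of_three (h : c.IsThree) : c.ColBound := by
  classical
  have := CyclicTI.finite_hom c.W₁
  have := CyclicTI.finite_hom c.W₂
  have := Fintype.ofFinite (c.W₁ →* ℂˣ)
  have := Fintype.ofFinite (c.W₂ →* ℂˣ)
  intro L _ hL hI d K k hk hb
  obtain ⟨y, hy, hy1⟩ := c.W₁.bot_or_exists_ne_one.resolve_left c.S_typeP.W₁_ne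
  have hdisj : ∀ g ∈ conjSharp (Cfsg.fittingOf c.S), g ∉ tilde L := by
    rintro g ⟨z, f, hf, hf1, rfl⟩
    exact h.der_not_tilde hL hI ⟨z, f, c.S_typeP.fitting_le hf, hf1, rfl⟩
  have hnorm : y ∈ normalizer (Cfsg.fittingOf c.S : Set G) :=
    FittingSigma.le_normalizer_fittingOf c.S (c.S_typeP.W₁_compl.2.1 hy)
  have hfix : ∀ f ∈ Cfsg.fittingOf c.S, y * f = f * y → f ∈ c.W₂ := fun f hf hc =>
    (h.fix_fitting hy hy1).le ⟨hf, mem_centralizer_singleton_iff.mpr hc.symm⟩
  have e := K.col_bound_side h.side hL hI hdisj hy hy1 hnorm hfix hk (h.psi_fixed k hy) (h.psi_inv k) hb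
  rwa [show h.side.u = Nat.card c.U from h.idx_eq_card] at e

/-- `RowBound` when `T` is of type III or IV. -/
theorem rowBound_of_three (h : c.swap.IsThree) : c.RowBound :=
  fun L _ hL hI d K l hl ha => colBound_of_three h L hL hI d K.swap l hl ha

/-- `T` of type III or IV: the kernel of `L` over `N(U)` is bounded. -/
theorem kernel_bound_three (h : c.SGalois) (h3 : c.swap.IsThree) {L : Subgroup G} (hL : IsCoatom L)
    (hN : normalizer (c.U : Set G) ≤ L) {y : G}
    (hE : L ⊓ c.T = c.W₁ ⊔ c.W₂.map (MulAut.conj y).toMonoidHom) :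
    Nat.card (Cfsg.fittingHallOf L) ≤ c.p * (Nat.card c.U + 1) + 1 ∨
      Nat.card (Cfsg.fittingHallOf L) ≤ c.p ^ 2 * c.q ^ 2 + c.p ^ 2 + 1 ∨
      (c.p = 5 ∧ c.q = 3 ∧ Nat.card (Cfsg.fittingHallOf L) ≤ 368) ∨
      IsCyclic (Cfsg.fittingHallOf L) := by
  classical
  have hG := c.minimal
  have hp := h.p_prime
  have hq := h.q_prime
  have hlt := h.lt
  have hq3 := c.q_ge_three
  have hU := (Final.typeTwo_facts c.S_typeP h.hII).1
  obtain ⟨hI, hFL, -, -, -, hcompl, -, -, hn, -⟩ :=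
    Final.normU_config hG c.S_max c.T_max c.S_typeP c.T_typeP h.hII hU hL hN
  have he : (fittingHall ↥L).index = c.q * c.p := by rw [index_eq_card_compl hcompl, card_compl hn hE]
  obtain ⟨d⟩ := exists_oneData hG hL hI
  obtain ⟨K⟩ := exists_coefs c hL hI d
  have := CyclicTI.finite_hom c.W₁
  have := CyclicTI.finite_hom c.W₂
  have : Nontrivial (c.W₁ →* ℂˣ) := Finite.one_lt_card_iff_nontrivial.mp (c.card_hom_W₁ ▸ hq.one_lt)
  have : Nontrivial (c.W₂ →* ℂˣ) := Finite.one_lt_card_iff_nontrivial.mp (c.card_hom_W₂ ▸ hp.one_lt)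
  obtain ⟨l₀, hl₀⟩ := exists_ne (1 : c.W₁ →* ℂˣ)
  obtain ⟨k₀, hk₀⟩ := exists_ne (1 : c.W₂ →* ℂˣ)
  rw [card_fittingHallOf]
  by_cases hb : Even (K.C 1 k₀)
  · left
    have h1 := colBound_two h L hL hI d K k₀ hk₀ hb
    rw [he, show (Nat.card c.U + 1) * (c.q * c.p) = c.q * (c.p * (Nat.card c.U + 1)) by ring] at h1
    exact (Nat.le_of_mul_le_mul_left h1 hq.pos).trans (Nat.le_succ _)
  by_cases ha : Even (K.C l₀ 1)
  · right; left
    have hqp2 : c.q + 2 ≤ c.p := by
      have := Nat.odd_iff.mp (hp.odd_of_ne_two (by omega))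
      have := Nat.odd_iff.mp (hq.odd_of_ne_two (by omega))
      omega
    by_cases hv : c.p * (c.q * c.p + 1) + 1 < Nat.card c.V
    · have hv' : c.swap.q * ((fittingHall ↥L).index + 1) + 1 < c.swap.idx := by
        rw [he, h3.idx_eq_card]; exact hv
      have h1 : Nat.card (fittingHall ↥L) ≤ (fittingHall ↥L).index * (c.p + 1) := h3.kernel_bound hL hI hv'
      rw [he] at h1
      refine h1.trans ?_
      nlinarith
    · have h1 := rowBound_of_three h3 L hL hI d K l₀ hl₀ ha
      rw [he, show (Nat.card c.V + 1) * (c.q * c.p) = c.p * (c.q * (Nat.card c.V + 1)) by ring] at h1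
      have h2 := (Nat.le_of_mul_le_mul_left h1 hp.pos).trans
        (Nat.mul_le_mul_left c.q (Nat.add_le_add_right (not_lt.mp hv) 1))
      refine h2.trans ?_
      nlinarith
  · right; left
    have hodd : ∀ l k, Odd (K.C l k) := by
      have hone : Odd (1 : ℤ) := odd_one
      have hr1 : ∀ l, Odd (K.C l 1) := fun l => by
        by_cases hl : l = 1
        · rw [hl, K.one]; exact hone
        · rw [K.left_const hq hl hl₀]; exact Int.not_even_iff_odd.mp ha
      have hr2 : ∀ k, Odd (K.C 1 k) := fun k => by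
        by_cases hk : k = 1
        · rw [hk, K.one]; exact hone
        · rw [K.right_const hp hk hk₀]; exact Int.not_even_iff_odd.mp hb
      exact fun l k => by rw [K.rel]; exact ((hr1 l).add_odd (hr2 k)).sub_odd hone
    have hnS := nconj_of_typeP hG c.S_max c.S_typeP hL hI
    have hnT := nconj_of_typeP hG c.T_max c.T_typeP hL hI
    obtain ⟨R, hR, hSR, hTR, hLR⟩ := exists_reps_three hG c.S_max c.T_max c.S_typeP c.T_typeP hL hnS hnT
    have hLR' : L ∈ (R.erase c.S).erase c.T := Finset.mem_erase.mpr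
      ⟨fun e => hnT 1 (by rw [Support.map_conj_of_mem (one_mem c.T)]; exact e),
        Finset.mem_erase.mpr
          ⟨fun e => hnS 1 (by rw [Support.map_conj_of_mem (one_mem c.S)]; exact e), hLR⟩⟩
    have hFS := isSide_core hG c.S_max ⟨_, _, _, c.S_typeP⟩
    have hFT := isSide_core hG c.T_max ⟨_, _, _, c.T_typeP⟩
    have hw := K.weights_le_of_odd hq hp hR hSR hTR hFS hFT hLR' hI hodd (le_of_eq he)
    have hid := weight_identity_good hG c.S_max c.T_max c.S_typeP c.T_typeP hFS hFT hR hSR hTR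
    rw [← Finset.add_sum_erase _ _ hLR'] at hid
    have hL' : (Nat.card L : ℝ) = (c.q * c.p : ℕ) * (Nat.card (fittingHall ↥L) : ℝ) := by
      rw [← Nat.cast_mul, ← he, mul_comm, Subgroup.card_mul_index]
    have hwL : weightGood L (Cfsg.sigmaCore c.S) (Cfsg.sigmaCore c.T) ≤ 1 / ((c.q : ℝ) * c.p) := by
      rw [weightGood, hL']
      push_cast
      have hq0 : (0 : ℝ) < c.q := Nat.cast_pos.mpr hq.pos
      have hp0 : (0 : ℝ) < c.p := Nat.cast_pos.mpr hp.pos
      have hh0 : (0 : ℝ) < Nat.card (fittingHall ↥L) := Nat.cast_pos.mpr Nat.card_pos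
      rw [div_le_div_iff₀ (by positivity) (by positivity), one_mul]
      refine (mul_le_mul_of_nonneg_right ?_ (by positivity)).trans (le_of_eq (mul_comm _ _))
      rw [← card_fittingHallOf, hFL]
      refine Nat.cast_le.mpr ?_
      rw [← Nat.card_coe_set_eq]
      exact Nat.card_mono (Set.toFinite _) fun a ha => (DadeSupport.typeA1_eq hG hL ▸ ha.1 :
        a ∈ (Cfsg.sigmaCore L : Set G) \ {1}).1
    have hPS : ∀ {M W W' U' : Subgroup G}, Cfsg.IsTypePWith M W U' W' → Cfsg.IsOfTypeII M → IsCoatom M →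
        ((Nat.card (Cfsg.sigmaCore M) : ℝ) - 1) / Nat.card M ≤ 1 / ((Nat.card U' : ℝ) * Nat.card W) :=
      fun {M W W' U'} hP hII hM => by
        have hc : (Nat.card M : ℝ) = Nat.card (Cfsg.sigmaCore M) * ((Nat.card U' : ℝ) * Nat.card W) := by
          rw [← IsComplIn_card_mul hP.W₁_compl, ← IsComplIn_card_mul hP.U_compl,
            sigmaCore_eq_of_typeTwo hG hM hII]
          push_cast; ring
        have h1 : (0 : ℝ) < Nat.card (Cfsg.sigmaCore M) := Nat.cast_pos.mpr Nat.card_pos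
        have h2 : (0 : ℝ) < (Nat.card U' : ℝ) * Nat.card W :=
          mul_pos (Nat.cast_pos.mpr Nat.card_pos) (Nat.cast_pos.mpr Nat.card_pos)
        rw [hc, div_le_div_iff₀ (mul_pos h1 h2) h2]
        nlinarith
    have hPS' := hPS c.S_typeP h.hII c.S_max
    have hPT' : ((Nat.card (Cfsg.sigmaCore c.T) : ℝ) - 1) / Nat.card c.T ≤ 1 / (c.p : ℝ) := by
      rw [show Cfsg.sigmaCore c.T = c.swap.der from sigmaCore_eq_of_typeThreeFour hG c.T_max h3.s34]
      exact h3.share_der
    have hqpG : (c.q : ℝ) * c.p ≤ Nat.card G := by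
      rw [← Nat.cast_mul]
      exact Nat.cast_le.mpr (Nat.le_of_dvd Nat.card_pos (Nat.Coprime.mul_dvd_of_dvd_of_dvd c.coprime_q_p
        c.W₁.card_subgroup_dvd_card c.W₂.card_subgroup_dvd_card))
    have hu7 : (7 : ℝ) ≤ Nat.card c.U := by
      have h1 := c.index_ge h.hII h.p_prime
      rw [show (centralizer (c.H : Set G)).relIndex c.U = Nat.card c.U from h.index_eq] at h1
      exact_mod_cast (by omega : 7 ≤ Nat.card c.U)
    have hqR : (3 : ℝ) ≤ c.q := by exact_mod_cast hq3
    have hpR : (5 : ℝ) ≤ c.p := by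
      have := c.p_ge_three
      have h5 : 5 ≤ c.p := by
        rcases Nat.lt_or_ge c.p 5 with h5 | h5
        · have : c.p = 4 := by omega
          rw [this] at hp; norm_num at hp
        · exact h5
      exact_mod_cast h5
    have hh : (0 : ℝ) < Nat.card (fittingHall ↥L) := Nat.cast_pos.mpr Nat.card_pos
    rw [he] at hw
    push_cast at hw
    rw [show (Nat.card c.W₁ : ℝ) = c.q from rfl] at hPS' hid
    rw [show (Nat.card c.W₂ : ℝ) = c.p from rfl] at hid
    have hqp : (0 : ℝ) < (c.q : ℝ) * c.p := by positivity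
    have hA : 1 / ((Nat.card c.U : ℝ) * c.q) ≤ 1 / (7 * (c.q : ℝ)) := by gcongr
    have hC : (Nat.card G : ℝ)⁻¹ ≤ 1 / ((c.q : ℝ) * c.p) := by
      rw [one_div]; exact inv_anti₀ hqp hqpG
    have key : 1 / ((c.q : ℝ) * c.p) ≤ (c.q : ℝ) * c.p / Nat.card (fittingHall ↥L) := by
      have e1 : ((c.q : ℝ) - 1) * ((c.p : ℝ) - 1) / ((c.q : ℝ) * c.p) =
          1 - 1 / (c.q : ℝ) - 1 / (c.p : ℝ) + 1 / ((c.q : ℝ) * c.p) := by field_simp; ring
      have e2 : 4 * (1 / ((c.q : ℝ) * c.p)) ≤ 6 * (1 / (7 * (c.q : ℝ))) := by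
        rw [show 6 * (1 / (7 * (c.q : ℝ))) = (6 * (c.p : ℝ) / 7) * (1 / ((c.q : ℝ) * c.p)) by field_simp]
        exact mul_le_mul_of_nonneg_right (by linarith) (by positivity)
      have e3 : 1 / (c.q : ℝ) = 7 * (1 / (7 * (c.q : ℝ))) := by field_simp
      linarith
    rw [div_le_div_iff₀ hqp hh, one_mul] at key
    have : ((Nat.card (fittingHall ↥L) : ℕ) : ℝ) ≤ ((c.p ^ 2 * c.q ^ 2 + c.p ^ 2 + 1 : ℕ) : ℝ) := by
      push_cast; nlinarith
    exact_mod_cast this

/-- `T` of type III or IV is impossible. -/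
theorem false_of_two_three (c : Config G) (hS : Cfsg.IsOfTypeII c.S)
    (hT : Cfsg.IsOfTypeIII c.T ∨ Cfsg.IsOfTypeIV c.T) : False :=
  c.false_of_two_three_of hS hT fun h h3 _ hL hN _ hE => kernel_bound_three h h3 hL hN hE

end Config

end CfsgLib.OddLocal.FTFinal
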