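import Cfsg.Agent.Lib.OddLocal.Final.FreeQuot
import Mathlib.FieldTheory.Finite.Basic

/-!
Owner: helper16. The diagonal case: `U / C_U(H)` has exponent dividing `p - 1`, embeds in `q - 1` copies of
`(ZMod p)ˣ`, and an element of `U` fixing all but one line centralizes `H`.
-/

set_option autoImplicit false
set_option linter.unusedSectionVars false

namespace CfsgLib.OddLocal.Final

open Subgroup
open scoped commutatorElement

variable {G : Type*} [Group G] [Finite G]

/-- The action of `U` on an invariant line of order `p`. -/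
theorem exists_lineHom {p : ℕ} [Fact p.Prime] {U : Subgroup G} {b : G} (hb : b ≠ 1) (hbp : b ^ p = 1)
    (hn : U ≤ normalizer (zpowers b : Set G)) :
    ∃ f : U →* (ZMod p)ˣ, ∀ u : U, (u : G) * b * (u : G)⁻¹ = b ^ ((f u : ZMod p).val) := by
  have ho := orderOf_eq_prime hbp hb
  have hex : ∀ u : U, ∃ k : ZMod p, (u : G) * b * (u : G)⁻¹ = b ^ k.val := fun u => by
    obtain ⟨n, hn'⟩ := mem_powers_iff_mem_zpowers.mpr ((mem_normalizer_iff.mp (hn u.2) b).mp (mem_zpowers b))
    refine ⟨(n : ZMod p), hn'.symm.trans ?_⟩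
    rw [pow_eq_pow_iff_modEq, ho, ZMod.val_natCast]
    exact (Nat.mod_modEq n p).symm
  choose k hk using hex
  have huniq : ∀ u (c : ZMod p), (u : U).1 * b * (u : G)⁻¹ = b ^ c.val → k u = c := fun u c h => by
    have h1 := (hk u).symm.trans h
    rw [pow_eq_pow_iff_modEq, ho, ← ZMod.natCast_eq_natCast_iff, ZMod.natCast_zmod_val, ZMod.natCast_zmod_val] at h1
    exact h1
  let f₀ : U →* ZMod p :=
    { toFun := k
      map_one' := huniq 1 1 (by rw [ZMod.val_one, pow_one]; simp)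
      map_mul' := fun u v => huniq _ _ (by
        calc ((u * v : U) : G) * b * ((u * v : U) : G)⁻¹ = (u : G) * ((v : G) * b * (v : G)⁻¹) * (u : G)⁻¹ := by
              simp [mul_assoc]
          _ = b ^ ((k u).val * (k v).val) := by rw [hk v, ← conj_pow, hk u, ← pow_mul]
          _ = _ := by rw [pow_eq_pow_iff_modEq, ho, ZMod.val_mul]; exact (Nat.mod_modEq _ p).symm) }
  exact ⟨f₀.toHomUnits, fun u => hk u⟩

namespace Diag

variable {H U W₁ : Subgroup G} {x : G}

/-- The lines of a diagonal decomposition. -/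
abbrev line (_ : Diag H U W₁ x) (t : W₁) : G := (t : G) * x * (t : G)⁻¹

theorem line_mem (D : Diag H U W₁ x) (t : W₁) : D.line t ∈ H := D.span.le (mem_iSup_of_mem t (mem_zpowers _))

theorem line_ne (D : Diag H U W₁ x) (t : W₁) : D.line t ≠ 1 := fun h => D.ne (conj_eq_one_iff.mp h)

/-- An element fixing every line centralizes `H`. -/
theorem mem_centralizer_of_fix (D : Diag H U W₁ x) {u : G} (h : ∀ t : W₁, u * D.line t = D.line t * u) :
    u ∈ centralizer (H : Set G) := by
  refine mem_centralizer_iff.mpr fun y hy => ?_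
  have h1 : H ≤ centralizer {u} := by
    rw [← D.span]
    exact iSup_le fun t => zpowers_le.mpr (mem_centralizer_singleton_iff.mpr (h t).symm)
  exact mem_centralizer_singleton_iff.mp (h1 hy)

theorem line_norm (D : Diag H U W₁ x) (hn : W₁ ≤ normalizer (U : Set G)) (t : W₁) :
    U ≤ normalizer (zpowers (D.line t) : Set G) := by
  intro u hu
  have hu' : (t : G)⁻¹ * u * t ∈ U := by simpa using (mem_normalizer_iff.mp (hn (inv_mem t.2)) u).mp hu
  refine Transfer.map_conj_eq_self_iff.mp (eq_of_le_of_card_ge ?_ (Transfer.card_map_conj u _).ge)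
  rw [MonoidHom.map_zpowers, zpowers_le]
  obtain ⟨n, hn'⟩ := mem_zpowers_iff.mp ((mem_normalizer_iff.mp (D.norm hu') x).mp (mem_zpowers x))
  refine mem_zpowers_iff.mpr ⟨n, ?_⟩
  show ((t : G) * x * (t : G)⁻¹) ^ n = u * ((t : G) * x * (t : G)⁻¹) * u⁻¹
  rw [conj_zpow, hn']
  group

variable {p q : ℕ} {W₂ : Subgroup G}

/-- The diagonal homomorphism with kernel `C_U(H)`. -/
theorem exists_hom (D : Diag H U W₁ x) (K : KernelModule p q H U W₁ W₂) :
    ∃ f : W₁ → U →* (ZMod p)ˣ,
      (∀ t (u : U), (u : G) * D.line t * (u : G)⁻¹ = D.line t ^ ((f t u : ZMod p).val)) ∧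
      (∀ t (u : U), f t u = 1 ↔ (u : G) * D.line t = D.line t * u) ∧
      (∀ u : U, (∀ t, f t u = 1) ↔ (u : G) ∈ centralizer (H : Set G)) ∧
      ∀ (t w : W₁) (u : U), f (w * t) ⟨(w : G) * u * (w : G)⁻¹, K.conj_U w.2 u.2⟩ = f t u := by
  have := Fact.mk K.prime_p
  choose f hf using fun t : W₁ => exists_lineHom (D.line_ne t) (K.pow_eq_one (D.line_mem t))
    (D.line_norm K.norm_U t)
  have ho : ∀ t, orderOf (D.line t) = p := fun t => orderOf_eq_prime (K.pow_eq_one (D.line_mem t)) (D.line_ne t)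
  have huniq : ∀ t (a c : ZMod p), D.line t ^ a.val = D.line t ^ c.val → a = c := fun t a c h => by
    rw [pow_eq_pow_iff_modEq, ho, ← ZMod.natCast_eq_natCast_iff, ZMod.natCast_zmod_val, ZMod.natCast_zmod_val] at h
    exact h
  have hone : ∀ t (u : U), f t u = 1 ↔ (u : G) * D.line t = D.line t * u := fun t u => by
    rw [← mul_inv_eq_iff_eq_mul, hf]
    constructor
    · intro h; rw [h, Units.val_one, ZMod.val_one, pow_one]
    · intro h; exact Units.ext (huniq t _ _ (by rw [h, Units.val_one, ZMod.val_one, pow_one]))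
  refine ⟨f, hf, hone, fun u => ⟨fun h => D.mem_centralizer_of_fix fun t => (hone t u).mp (h t),
    fun h t => (hone t u).mpr (mem_centralizer_iff.mp h _ (D.line_mem t)).symm⟩, fun t w u => ?_⟩
  refine Units.ext (huniq (w * t) _ _ ?_)
  rw [← hf]
  have h1 : D.line (w * t) = (w : G) * D.line t * (w : G)⁻¹ := by simp [Diag.line, mul_assoc]
  rw [h1]
  calc (w : G) * u * (w : G)⁻¹ * ((w : G) * D.line t * (w : G)⁻¹) * ((w : G) * u * (w : G)⁻¹)⁻¹
      = (w : G) * ((u : G) * D.line t * (u : G)⁻¹) * (w : G)⁻¹ := by group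
    _ = (w : G) * D.line t ^ ((f t u : ZMod p).val) * (w : G)⁻¹ := by rw [hf]
    _ = _ := conj_pow.symm

/-- An element fixing all lines but one centralizes `H`. -/
theorem fix_all (D : Diag H U W₁ x) (K : KernelModule p q H U W₁ W₂) {u : G} (hu : u ∈ U) (t₀ : W₁)
    (h : ∀ t : W₁, t ≠ t₀ → u * D.line t = D.line t * u) : u ∈ centralizer (H : Set G) := by
  classical
  obtain ⟨f, -, hone, hker, hshift⟩ := D.exists_hom K
  let : Fintype W₁ := Fintype.ofFinite W₁
  let Λ : U →* (W₁ → (ZMod p)ˣ) := MonoidHom.pi f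
  let c : W₁ → U := fun w => ⟨(w : G) * u * (w : G)⁻¹, K.conj_U w.2 hu⟩
  have hmem : ∏ w, Λ (c w) ∈ Λ.range := Subgroup.prod_mem _ fun w _ => MonoidHom.mem_range.mpr ⟨_, rfl⟩
  obtain ⟨v, hv⟩ := MonoidHom.mem_range.mp hmem
  have hfu : ∀ t, t ≠ t₀ → f t ⟨u, hu⟩ = 1 := fun t ht => (hone t _).mpr (h t ht)
  have hconst : ∀ t, f t v = f t₀ ⟨u, hu⟩ := by
    intro t
    have h1 : f t v = ∏ w, f t (c w) := (congrFun hv t).trans (Finset.prod_apply t _ _)
    rw [h1, Finset.prod_eq_single (t * t₀⁻¹)]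
    · have h2 := hshift t₀ (t * t₀⁻¹) ⟨u, hu⟩
      rw [inv_mul_cancel_right] at h2
      exact h2
    · intro w _ hw
      have h2 := hshift (w⁻¹ * t) w ⟨u, hu⟩
      rw [mul_inv_cancel_left] at h2
      rw [h2, hfu]
      exact fun e => hw (by rw [← e]; group)
    · exact fun h => absurd (Finset.mem_univ _) h
  have hv1 : (v : G) ∈ centralizer (H : Set G) := K.scalar v.2 fun w hw => by
    have h1 : ⁅w, (v : G)⁆ ∈ U := by
      rw [commutatorElement_def]; exact mul_mem (K.conj_U hw v.2) (inv_mem v.2)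
    refine (hker ⟨_, h1⟩).mp fun t => ?_
    have h2 := hshift (⟨w, hw⟩⁻¹ * t) ⟨w, hw⟩ v
    rw [mul_inv_cancel_left, hconst] at h2
    rw [show (⟨_, h1⟩ : U) = ⟨(w : G) * v * w⁻¹, K.conj_U hw v.2⟩ * v⁻¹ from Subtype.ext (by
      simp [commutatorElement_def]), map_mul, map_inv, h2, hconst, mul_inv_cancel]
  refine (hker ⟨u, hu⟩).mp fun t => ?_
  by_cases ht : t = t₀
  · rw [ht, ← hconst t₀]; exact (hker v).mpr hv1 t₀
  · exact hfu t ht

/-- The exponent of `U / C_U(H)` divides `p - 1`. -/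
theorem pow_mem (D : Diag H U W₁ x) (K : KernelModule p q H U W₁ W₂) {u : G} (hu : u ∈ U) :
    u ^ (p - 1) ∈ centralizer (H : Set G) := by
  have := Fact.mk K.prime_p
  obtain ⟨f, -, -, hker, -⟩ := D.exists_hom K
  refine (hker (⟨u, hu⟩ ^ (p - 1))).mp fun t => ?_
  rw [map_pow, ← ZMod.card_units p, pow_card_eq_one]

/-- `|U : C_U(H)|` divides `(p - 1) ^ (q - 1)`. -/
theorem index_dvd_pow (D : Diag H U W₁ x) (K : KernelModule p q H U W₁ W₂) :
    (centralizer (H : Set G)).relIndex U ∣ (p - 1) ^ (q - 1) := by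
  classical
  have := Fact.mk K.prime_p
  obtain ⟨f, -, hone, hker, -⟩ := D.exists_hom K
  let : Fintype W₁ := Fintype.ofFinite W₁
  let Λ : U →* ({t : W₁ // t ≠ 1} → (ZMod p)ˣ) := MonoidHom.pi fun t => f t
  have hkerΛ : Λ.ker = (centralizer (H : Set G)).subgroupOf U := by
    ext u
    rw [MonoidHom.mem_ker, mem_subgroupOf]
    refine ⟨fun h => D.fix_all K u.2 1 fun t ht => (hone t u).mp (congrFun h ⟨t, ht⟩), fun h => ?_⟩
    exact funext fun t => (hker u).mpr h t
  have h1 : Λ.ker.index ∣ Nat.card ({t : W₁ // t ≠ 1} → (ZMod p)ˣ) := by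
    rw [index_ker]; exact card_subgroup_dvd_card _
  rw [hkerΛ, Nat.card_fun, Nat.card_eq_fintype_card (α := (ZMod p)ˣ), ZMod.card_units,
    Nat.card_eq_fintype_card, Fintype.card_subtype_compl, Fintype.card_subtype_eq, ← Nat.card_eq_fintype_card,
    K.card_left] at h1
  exact h1

/-- A non-cyclic subgroup of `U` has a non-identity element with a fixed point on `H`. -/
theorem exists_fixed_of_not_isCyclic (D : Diag H U W₁ x) (K : KernelModule p q H U W₁ W₂) {A : Subgroup G}
    (hA : A ≤ U) (hnc : ¬ IsCyclic A) : ∃ z ∈ A, z ≠ 1 ∧ H ⊓ centralizer {z} ≠ ⊥ := by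
  have := Fact.mk K.prime_p
  obtain ⟨f, -, hone, -, -⟩ := D.exists_hom K
  let g : A →* (ZMod p)ˣ := (f 1).comp (inclusion hA)
  by_contra hne
  push Not at hne
  refine hnc (isCyclic_of_injective g ((injective_iff_map_eq_one g).mpr fun a ha => ?_))
  by_contra ha1
  have h1 := hne a a.2 fun e => ha1 (Subtype.ext e)
  exact D.line_ne 1 (mem_bot.mp (h1.le (mem_inf.mpr ⟨D.line_mem 1,
    mem_centralizer_singleton_iff.mpr ((hone 1 _).mp ha).symm⟩)))

/-- A cyclic faithful `U` has order dividing `p - 1`. -/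
theorem card_dvd_of_isCyclic (D : Diag H U W₁ x) (K : KernelModule p q H U W₁ W₂) [IsCyclic U]
    (hC : U ⊓ centralizer (H : Set G) = ⊥) : Nat.card U ∣ p - 1 := by
  rw [← IsCyclic.exponent_eq_card (α := U)]
  refine Monoid.exponent_dvd_of_forall_pow_eq_one fun u => Subtype.ext ?_
  exact mem_bot.mp (hC ▸ mem_inf.mpr ⟨_root_.pow_mem u.2 _, D.pow_mem K u.2⟩)

end Diag

end CfsgLib.OddLocal.Final
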