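import Cfsg.Agent.Lib.OddLocal.Final.NormData
import Cfsg.Agent.Lib.OddLocal.Final.FreeDiag
import Cfsg.Agent.Lib.OddLocal.Final.FreeInst
import Cfsg.Agent.Lib.OddLocal.Frob12.Tools
import Cfsg.Agent.S1390

/-!
Owner: helper16. Blueprint v2, Step 4, diagonal case: if `U` is not cyclic and a conjugate of `W₂` normalises
`L_F` for a maximal `L` over `N(U)`, a rank argument gives a contradiction.
-/

set_option autoImplicit false
set_option linter.unusedSectionVars false

namespace CfsgLib.OddLocal.Final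

open Subgroup
open CfsgLib.TwoGroups

variable {G : Type*} [Group G] [Finite G] {S T W₁ U W₂ V L : Subgroup G}

theorem false_of_diag_not_cyclic (hG : Cfsg.IsMinSimpleOddOrder G) (hS : IsCoatom S) (hT : IsCoatom T)
    (hSP : Cfsg.IsTypePWith S W₁ U W₂) (hTP : Cfsg.IsTypePWith T W₂ V W₁) (hII : Cfsg.IsOfTypeII S)
    (hp : (Nat.card W₂).Prime) {x : G} (D : Diag (Cfsg.fittingHallOf S) U W₁ x)
    (hC : U ⊓ centralizer (Cfsg.fittingHallOf S : Set G) = ⊥) (hnc : ¬ IsCyclic U)
    (hL : IsCoatom L) (hN : normalizer (U : Set G) ≤ L) {y : G}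
    (hy : W₂.map (MulAut.conj y).toMonoidHom ≤ L ⊓ T) : False := by
  obtain ⟨hU, hq, hUc, -⟩ := typeTwo_facts hSP hII
  have K := kernelModule_two hSP hII hp
  set H := Cfsg.fittingHallOf S with hH
  set p := Nat.card W₂ with hpdef
  set q := Nat.card W₁ with hqdef
  obtain ⟨-, -, hfree, hUL, hSL, hcompl, -, -, -, -⟩ := normU_config hG hS hT hSP hTP hII hU hL hN
  set F := Cfsg.fittingHallOf L with hF
  -- a non-cyclic Sylow subgroup of `U`
  let _ : CommGroup U := { (inferInstance : Group U) with mul_comm := hUc.is_comm.comm }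
  obtain ⟨r, hr, P, hP⟩ : ∃ r, r.Prime ∧ ∃ P : Sylow r U, ¬ IsCyclic P := by
    by_contra hall
    push Not at hall
    have : IsZGroup U := ⟨hall⟩
    exact hnc inferInstance
  have := Fact.mk hr
  set R := (P : Subgroup U).map U.subtype with hR
  have hRp : IsPGroup r R := P.2.map _
  have hRU : R ≤ U := map_subtype_le _
  have hRnc : ¬ IsCyclic R := fun h => hP
    (isCyclic_of_injective ((equivMapOfInjective (P : Subgroup U) U.subtype U.subtype_injective).toMonoidHom)
      (equivMapOfInjective _ _ U.subtype_injective).injective)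
  obtain ⟨z, hzR, hz1, hzfix⟩ := D.exists_fixed_of_not_isCyclic K hRU hRnc
  obtain ⟨hrank, hX, -⟩ := Cfsg.Agent.S1390.result hG S hS U (Or.inr ⟨hII, hSP.U_compl⟩)
  have hCS : centralizer ({z} : Set G) ≤ S := (hX {z} (Set.singleton_subset_iff.mpr ⟨hRU hzR, hz1⟩)
    (Set.singleton_nonempty z) hzfix).1
  have hrU : r ∣ Nat.card U := by
    obtain ⟨k, hk⟩ := hRp.exists_card_eq
    have h1 : orderOf (⟨z, hzR⟩ : R) ∣ r ^ k := hk ▸ orderOf_dvd_natCard _
    obtain ⟨j, -, hj⟩ := (Nat.dvd_prime_pow hr).mp h1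
    have hj0 : j ≠ 0 := fun e => hz1 (by
      rw [e, pow_zero, orderOf_eq_one_iff] at hj; exact congrArg Subtype.val hj)
    exact ((dvd_pow_self r hj0).trans (hj ▸ orderOf_dvd_natCard _)).trans (card_dvd_of_le hRU)
  -- the Sylow subgroup of `L_F` and its `Ω₁(Z)`
  have : Group.IsNilpotent F := fittingHallOf_nilpotent L
  obtain ⟨P', hP'⟩ := ((hRp.comap_subtype : IsPGroup r (R.subgroupOf F))).exists_le_sylow
  set RL := (P' : Subgroup F).map F.subtype with hRL
  have hRLp : IsPGroup r RL := P'.2.map _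
  have hzRL : z ∈ RL := ⟨⟨z, hUL (hRU hzR)⟩, hP' hzR, rfl⟩
  have hPn : (P' : Subgroup F).Normal :=
    ((Group.isNilpotent_of_finite_tfae (G := ↥F)).out 0 3 rfl rfl).mp ‹_› _ inferInstance P'
  have : (P' : Subgroup F).Characteristic := P'.characteristic_of_normal hPn
  set Ω := Frob12.omegaCenter RL r with hΩ
  have hΩn : L ≤ normalizer (Ω : Set G) := (FittingStructure.le_normalizer_fittingHallOf L).trans
    ((OddLocal.PLengthEndgame.normalizer_le_char F (P' : Subgroup F)).trans Frob12.omega_normalizer)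
  have hΩne : Ω ≠ ⊥ := Frob12.omega_ne_bot hRLp fun e => hz1 (mem_bot.mp (e ▸ hzRL))
  have hΩF : Ω ≤ F := (Frob12.omega_le _ _).trans (map_subtype_le _)
  have hΩp : IsPGroup r Ω := hRLp.to_le (Frob12.omega_le _ _)
  have hΩU : Ω ≤ U := by
    intro a ha
    have haS : a ∈ S := hCS (mem_centralizer_singleton_iff.mpr (ha.2.1 z hzRL).symm)
    obtain ⟨u, hu, w, hw, rfl⟩ := OddLocal.mem_sup_of_le_normalizer hSP.U_normal |>.mp
      (hSL.le ⟨haS, hcompl.2.1 (hΩF ha)⟩)
    have hwF : w ∈ (F : Subgroup G) ⊓ (L ⊓ T) := by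
      refine mem_inf.mpr ⟨?_, ?_⟩
      · rw [show w = u⁻¹ * (u * w) by group]; exact mul_mem (inv_mem (hUL hu)) (hΩF ha)
      · obtain ⟨-, -, -, -, -, -, -, hW, -, -⟩ := normU_config hG hS hT hSP hTP hII hU hL hN
        exact hW hw
    rw [inf_comm, hcompl.2.2.1, mem_bot] at hwF
    subst hwF
    simpa using hu
  have hΩexp : ∀ a ∈ Ω, a ^ r = 1 := fun a ha => ha.2.2
  have hcard : Nat.card Ω ≤ r ^ 2 := by
    have hle : Ω.subgroupOf U ≤ (P : Subgroup U) := by
      have hPn' : (P : Subgroup U).Normal := inferInstance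
      obtain ⟨Q, hQ⟩ := (hΩp.comap_subtype : IsPGroup r (Ω.subgroupOf U)).exists_le_sylow
      let _ := Sylow.unique_of_normal P hPn'
      rwa [Subsingleton.elim Q P] at hQ
    have h1 := (hrank r hr P).2 ((Ω.subgroupOf U).subgroupOf P)
      ⟨⟨fun a b => Subtype.ext (Subtype.ext (mul_comm ((a : P) : U) ((b : P) : U)))⟩⟩
      fun a ha => Subtype.ext (Subtype.ext (hΩexp _ ha))
    rwa [Nat.card_congr (subgroupOfEquivOfLe hle).toEquiv,
      Nat.card_congr (subgroupOfEquivOfLe hΩU).toEquiv] at h1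
  -- `r ∣ p - 1`
  have hrp : r ∣ p - 1 := by
    obtain ⟨a, ha, ha1⟩ := Ω.bot_or_exists_ne_one.resolve_left hΩne
    rw [← orderOf_eq_prime (hΩexp a ha) ha1, orderOf_dvd_iff_pow_eq_one]
    exact mem_bot.mp (hC ▸ mem_inf.mpr ⟨_root_.pow_mem (hΩU ha) _, D.pow_mem K (hΩU ha)⟩)
  -- the conjugate of `W₂` acts without fixed points
  set A := W₂.map (MulAut.conj y).toMonoidHom with hA
  have hAc : Nat.card A = p := Transfer.card_map_conj y W₂
  have := Fact.mk hp
  have hmod : Nat.card Ω ≡ 1 [MOD p] := by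
    refine card_modEq_one hAc ((hy.trans inf_le_left).trans hΩn) fun a ha ha1 b hb hc => ?_
    by_contra hb1
    have h1 := hfree b (hΩF hb) hb1 ⟨(hy ha).1, mem_centralizer_singleton_iff.mpr hc⟩
    exact ha1 (mem_bot.mp (hcompl.2.2.1 ▸ mem_inf.mpr ⟨hy ha, h1⟩))
  have hr2 : 2 < r := by
    refine lt_of_le_of_ne hr.two_le fun e => ?_
    exact Nat.not_even_iff_odd.mpr hG.1 (even_iff_two_dvd.mpr (e ▸ hrU.trans U.card_subgroup_dvd_card))
  have hrlt : r + 1 < p := by
    have hp2 : p ≠ 2 := fun e => Nat.not_even_iff_odd.mpr hG.1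
      (even_iff_two_dvd.mpr ((dvd_of_eq e.symm).trans W₂.card_subgroup_dvd_card))
    obtain ⟨j, hj⟩ := hrp
    have hjeven : Even j := by
      have h1 : Even (r * j) := hj ▸ Nat.Prime.even_sub_one hp hp2
      exact (Nat.even_mul.mp h1).resolve_left (Nat.not_even_iff_odd.mpr (hr.odd_of_ne_two hr2.ne'))
    have hj2 : 2 ≤ j := by
      obtain ⟨i, rfl⟩ := hjeven
      rcases Nat.eq_zero_or_pos i with rfl | hi
      · have := hp.two_le; omega
      · omega
    have := Nat.mul_le_mul_left r hj2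
    omega
  obtain ⟨k, hk⟩ := hΩp.exists_card_eq
  have hk1 : k ≠ 0 := fun e => hΩne (card_eq_one.mp (by rw [hk, e, pow_zero]))
  have hk2 : k ≤ 2 := (Nat.pow_le_pow_iff_right hr.one_lt).mp (hk ▸ hcard)
  rw [hk] at hmod
  have hge : 1 ≤ r ^ k := Nat.one_le_pow _ _ hr.pos
  have hdvd : p ∣ r ^ k - 1 := (Nat.modEq_iff_dvd' hge).mp hmod.symm
  obtain rfl | rfl : k = 1 ∨ k = 2 := by omega
  · rw [pow_one] at hdvd
    have := Nat.le_of_dvd (by omega) hdvd
    omega
  · rw [show r ^ 2 - 1 = (r + 1) * (r - 1) by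
      rw [← Nat.sq_sub_sq, one_pow]] at hdvd
    rcases hp.dvd_mul.mp hdvd with h | h
    · have := Nat.le_of_dvd (by omega) h; omega
    · have := Nat.le_of_dvd (by omega) h; omega

end CfsgLib.OddLocal.Final
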