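import Cfsg.Agent.Lib.OddLocal.Final.StepThree
import Cfsg.Agent.Lib.OddLocal.Final.StepFour
import Cfsg.Agent.Lib.OddLocal.Final.Swap
import Cfsg.Agent.Lib.OddLocal.Final.DiagRank

/-!
Owner: helper5. Step 3 when both sides are of Type II, the diagonal branch, and the contradiction for two sides of Type II.
-/

set_option autoImplicit false
set_option linter.unusedSectionVars false

namespace CfsgLib.OddLocal.FTFinal

open Subgroup
open CfsgLib.TwoGroups
open CfsgLib.OddLocal.Final (IsGalois Diag)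

variable {G : Type*} [Group G] [Fintype G]

namespace Config

variable (c : Config G)

/-- The mass of `η(l, 1)` on the Fitting side of a mirror of type II. -/
theorem mass_swap_two (hT : Cfsg.IsOfTypeII c.T) (hq : c.q.Prime) :
    (c.swap.sideTwo hT hq).y ≤ 1 / ((c.q : ℝ) - 1) ∧ ∀ l : c.W₁ →* ℂˣ, l ≠ 1 →
      (1 - (c.swap.sideTwo hT hq).y) / c.p ≤ mass (Cfsg.fittingOf c.T) c.T (c.eta l 1) := by
  refine ⟨?_, fun l hl => ?_⟩
  · classical
    have := CyclicTI.finite_hom c.W₁
    have := CyclicTI.finite_hom c.W₂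
    have : Fintype (c.swap.W₁ →* ℂˣ) := Fintype.ofFinite (c.W₂ →* ℂˣ)
    have : Fintype (c.swap.W₂ →* ℂˣ) := Fintype.ofFinite (c.W₁ →* ℂˣ)
    exact (c.swap.sideTwo hT hq).y_le
  · classical
    have := CyclicTI.finite_hom c.W₁
    have := CyclicTI.finite_hom c.W₂
    have := Fintype.ofFinite (c.W₁ →* ℂˣ)
    have := Fintype.ofFinite (c.W₂ →* ℂˣ)
    have : Fintype (c.swap.W₁ →* ℂˣ) := inferInstanceAs (Fintype (c.W₂ →* ℂˣ))
    have : Fintype (c.swap.W₂ →* ℂˣ) := inferInstanceAs (Fintype (c.W₁ →* ℂˣ))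
    have := CyclicTI.finite_hom (c.swap.sideTwo hT hq).F
    have := Fintype.ofFinite (c.swap.sideTwo hT hq).Idx
    have h := (c.swap.sideTwo hT hq).mass_eta (1 : c.W₂ →* ℂˣ) (k := l) hl
    rw [c.eta_swap] at h
    exact h

/-- A side of Type II supplies the mirror data of the other side. -/
theorem massBound_two (hT : Cfsg.IsOfTypeII c.T) (hq : c.q.Prime) :
    c.MassBound (Cfsg.fittingOf c.T) ((centralizer (c.swap.H : Set G)).relIndex c.V)
      (c.swap.sideTwo hT hq).y :=
  .of_card (isSide_typeTwo c.minimal c.T_max c.T_typeP hT) (c.swap.card_S hT hq)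
    (c.mass_swap_two hT hq).1 (c.mass_swap_two hT hq).2

/-- Both sides of Type II and `q < p`: `T` is full. -/
theorem typeTwo_T_full (hS : Cfsg.IsOfTypeII c.S) (hT : Cfsg.IsOfTypeII c.T) (hp : c.p.Prime) (hq : c.q.Prime)
    (hlt : c.q < c.p) :
    c.V ⊓ centralizer (Cfsg.fittingHallOf c.T : Set G) = ⊥ ∧ IsCyclic c.V ∧
      Nat.card c.V * (c.q - 1) = c.q ^ c.p - 1 ∧
      121 ≤ (centralizer (c.swap.H : Set G)).relIndex c.V := by
  have KS := c.kernelTwo hS hp
  have KT := c.swap.kernelTwo hT hq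
  set u := (centralizer (c.H : Set G)).relIndex c.U with hu
  have hug := c.index_ge hS hp
  have huodd := Nat.odd_iff.mp (c.odd_index hS hp)
  have hcop : u.Coprime c.q := KS.index_coprime_q
  have hsmall : c.q = 3 → (c.p = 5 → 31 ≤ u) ∧ (c.p = 7 → 19 ≤ u) := by
    intro h3
    rw [h3] at hug hcop
    rcases KS.galois_or_diag with hgal | ⟨x, D⟩
    · obtain ⟨-, -, hcp, ⟨j, hj⟩, -⟩ := KS.galois_facts hgal
      rw [← hu] at hj hcp
      refine ⟨fun h5 => ?_, fun h7 => ?_⟩
      · rw [h5, h3] at hj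
        norm_num at hj
        have hd : u ∣ 31 := ⟨j, by linarith⟩
        rcases (Nat.dvd_prime (by norm_num)).mp hd with e | e <;> omega
      · rw [h7, h3] at hj
        rw [h7] at hcp
        norm_num at hj hcp
        have hd : u ∣ 3 * 19 := ⟨j, by linarith⟩
        have hd' : u ∣ 19 := hcop.dvd_of_dvd_mul_left hd
        rcases (Nat.dvd_prime (by norm_num)).mp hd' with e | e <;> omega
    · have hd := D.index_dvd_pow KS
      rw [← hu, h3] at hd
      refine ⟨fun h5 => ?_, fun h7 => ?_⟩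
      · rw [h5] at hd
        have h2 : u.Coprime (2 ^ 4) :=
          Nat.Coprime.pow_right 4 ((Nat.prime_two.coprime_iff_not_dvd.mpr (by omega)).symm)
        have := Nat.eq_one_of_dvd_coprimes h2 dvd_rfl (by norm_num at hd ⊢; exact hd)
        omega
      · rw [h7] at hd
        have h2 : u.Coprime (2 ^ 2 * 3 ^ 2) :=
          Nat.Coprime.mul_right (Nat.Coprime.pow_right 2 ((Nat.prime_two.coprime_iff_not_dvd.mpr (by omega)).symm))
            (Nat.Coprime.pow_right 2 hcop)
        have := Nat.eq_one_of_dvd_coprimes h2 dvd_rfl (by norm_num at hd ⊢; exact hd)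
        omega
  have hM : c.swap.MassBound (Cfsg.fittingOf c.swap.T)
      ((centralizer (c.swap.swap.H : Set G)).relIndex c.swap.V) (c.swap.swap.sideTwo hS hp).y :=
    c.swap.massBound_two hS hp
  obtain ⟨hC, hgal, hfull⟩ := c.swap.full_of_lt hT hq hlt hM hug
    (fun h3 h5 => (hsmall h3).1 h5) (fun h3 h7 => (hsmall h3).2 h7)
  set v := (centralizer (c.swap.H : Set G)).relIndex c.V with hv
  have hvV : v = Nat.card c.V := by
    rw [hv, show c.V = c.swap.U from rfl, ← c.swap.index_mul_card_C hT hq, hC, card_bot, one_mul]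
  obtain ⟨-, -, -, -, hcyc⟩ := KT.galois_facts hgal
  have hfull' : v * (c.q - 1) = c.q ^ c.p - 1 := hfull
  refine ⟨hC, hcyc hC, hvV ▸ hfull', ?_⟩
  have hp5 : 5 ≤ c.p := by
    have := Nat.odd_iff.mp (c.odd_p hS hp)
    have := c.q_ge_three
    omega
  have h2 := Nat.geomSum_eq hq.two_le c.p
  rw [← hfull', Nat.mul_div_cancel _ (by have := hq.two_le; omega)] at h2
  rw [← h2]
  calc 121 = ∑ k ∈ Finset.range 5, 3 ^ k := by decide
    _ ≤ ∑ k ∈ Finset.range 5, c.q ^ k := Finset.sum_le_sum fun k _ => Nat.pow_le_pow_left c.q_ge_three k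
    _ ≤ _ := Finset.sum_le_sum_of_subset (Finset.range_subset_range.mpr hp5)

/-- The diagonal branch. -/
theorem false_of_diag (hII : Cfsg.IsOfTypeII c.S) (hp : c.p.Prime) (hq : c.q.Prime) (hlt : c.q < c.p)
    (hC : c.C = ⊥) (hnc : ¬ IsCyclic c.U) {x : G} (D : Diag c.H c.U c.W₁ x)
    (hQ : IsMulCommutative (Cfsg.fittingHallOf c.T))
    (hexp : ∀ a ∈ Cfsg.fittingHallOf c.T, a ^ c.q = 1)
    (hVC : c.V ⊓ centralizer (Cfsg.fittingHallOf c.T : Set G) = ⊥) : False := by
  classical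
  have hG := c.minimal
  have hU := (Final.typeTwo_facts c.S_typeP hII).1
  obtain ⟨L, hL, hN⟩ := (eq_top_or_exists_le_coatom _).resolve_left
    (TransitivityHyp.normalizer_ne_top hG hU (fun e => c.S_max.1 (eq_top_iff.mpr (e.ge.trans
      (c.S_typeP.U_compl.2.1.trans (commutator_le_self c.S))))))
  rcases Final.complement_cases hG c.S_max c.T_max c.S_typeP c.T_typeP hII hp hq hU hQ hexp hVC hL hN with
    hE | ⟨y, hy, hE⟩
  swap
  · exact Final.false_of_diag_not_cyclic hG c.S_max c.T_max c.S_typeP c.T_typeP hII hp D hC hnc hL hN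
      (le_sup_right.trans hE.ge)
  have := Fintype.ofFinite L
  obtain ⟨hI, -, -, -, -, hcompl, -, -, -, -⟩ :=
    Final.normU_config hG c.S_max c.T_max c.S_typeP c.T_typeP hII hU hL hN
  obtain ⟨m, hm, -, -, hm1⟩ := Final.kernel_index hG c.S_max c.T_max c.S_typeP c.T_typeP hII hq hU hL hN
  have he : (Cfsg.fittingHall ↥L).index = c.q := by rw [index_eq_card_compl hcompl, hE]; rfl
  obtain ⟨d⟩ := exists_oneData hG hL hI
  obtain ⟨K⟩ := exists_coefs c hL hI d
  have := CyclicTI.finite_hom c.W₂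
  have : Nontrivial (c.W₂ →* ℂˣ) := Finite.one_lt_card_iff_nontrivial.mp (c.card_hom_W₂ ▸ hp.one_lt)
  obtain ⟨k, hk⟩ := exists_ne (1 : c.W₂ →* ℂˣ)
  have hb0 := K.b_eq_zero hq hp (he ▸ hlt) hk
  have hb := colBound_of_typeTwo (c := c) hII hp hC L hL hI d K k hk (by rw [hb0]; exact ⟨0, rfl⟩)
  rw [he, mul_comm c.q, ← card_fittingHallOf, hm] at hb
  have h2 := Nat.le_of_mul_le_mul_right hb hq.pos
  have h3 : 2 * Nat.card c.U ≤ m * Nat.card c.U := Nat.mul_le_mul_right _ (hm1 hE)
  have h5 : 2 ≤ Nat.card c.U := by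
    have h1 := Nat.card_pos (α := c.U)
    have h6 : Nat.card c.U ≠ 1 := fun e => hU (card_eq_one.mp e)
    omega
  omega

/-- Both sides of Type II with `q < p` are impossible. -/
theorem false_of_two_two (hS : Cfsg.IsOfTypeII c.S) (hT : Cfsg.IsOfTypeII c.T) (hlt : c.q < c.p) : False := by
  have hq : c.q.Prime := (Final.typeTwo_facts c.S_typeP hS).2.1
  have hp : c.p.Prime := (Final.typeTwo_facts c.T_typeP hT).2.1
  obtain ⟨hVC, hcyc, hv, h121⟩ := c.typeTwo_T_full hS hT hp hq hlt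
  have KT := c.swap.kernelTwo hT hq
  rcases c.cases_of_lt hS hp hlt (c.massBound_two hT hq) h121 with ⟨h, i, hi, hi'⟩ | ⟨-, hC, hnc, x, D⟩
  · exact false_of_full_sides h hi hi' hT hVC hcyc hv
  · exact c.false_of_diag hS hp hq hlt hC hnc D KT.elem.1 (fun a ha => KT.elem.2 a ha) hVC

end Config

end CfsgLib.OddLocal.FTFinal
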