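import Cfsg.Agent.Lib.OddLocal.Final.TypeV.Main
import Cfsg.Agent.Lib.OddLocal.Final.Eta
import Cfsg.Agent.Lib.OddLocal.Final.Coef
import Cfsg.Agent.Lib.OddLocal.Final.Struct
import Cfsg.Agent.Lib.OddLocal.Final.StructTwo
import Cfsg.Agent.Lib.OddLocal.Final.FreeQuot

/-!
Owner: helper1. In the final configuration `T` is not of Type V.

With `x` the exceptional character of `T`: its constant on `A₁(L)` for a maximal `L` of Type I is
`Σ_k m(1,k)`, an odd integer, and its mass on `Ã₁(T)` is at least `1 - 1/(2q)`, so the weights of the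
subgroups of Type I sum to at most `1/(2q)`, less than the partition allows.
-/

set_option autoImplicit false
set_option linter.unusedSectionVars false

open scoped Classical

namespace CfsgLib.OddLocal.FTFinal

open Subgroup
open CfsgLib.TwoGroups
open CfsgLib.Char CfsgLib.Char.Exceptional CfsgLib.DadeMap CfsgLib.CyclicTI
open CfsgLib.OddLocal.Frob12 (rho)
open CfsgLib.OddLocal.TypeFive (TV)

variable {G : Type*} [Group G] [Fintype G]

theorem avg_finset_sum {ι : Type*} (H : G → Subgroup G) (s : Finset ι) (f : ι → G → ℂ) (a : G) :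
    avg H (∑ i ∈ s, f i) a = ∑ i ∈ s, avg H (f i) a := by
  induction s using Finset.induction with
  | empty => simp [avg]
  | insert i t hi ih => rw [Finset.sum_insert hi, Finset.sum_insert hi, avg_add, ih]

theorem avg_of_eq_bot {H : G → Subgroup G} {a : G} (h : H a = ⊥) (f : G → ℂ) : avg H f a = f a := by
  simp [avg, h]

/-- A sum over an inversion-invariant family of integers is odd when the middle term is. -/
theorem odd_sum_of_inv {A : Type*} [Fintype A] [Group A] (hodd : ∀ a : A, a ≠ 1 → a⁻¹ ≠ a) (f : A → ℤ)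
    (hf : ∀ a, f a⁻¹ = f a) (h1 : f 1 = 1) : Odd (∑ a, f a) := by
  have h0 : ∑ a ∈ Finset.univ.erase (1 : A), (f a : ZMod 2) = 0 :=
    Finset.sum_involution (fun a _ => a⁻¹)
      (fun a _ => by rw [hf]; exact CharTwo.add_self_eq_zero _)
      (fun a ha _ => hodd a (Finset.mem_erase.mp ha).1)
      (fun a ha => Finset.mem_erase.mpr ⟨inv_ne_one.mpr (Finset.mem_erase.mp ha).1, Finset.mem_univ _⟩)
      (fun a _ => inv_inv a)
  rw [Int.odd_iff, ← Int.not_even_iff, ← ZMod.intCast_eq_zero_iff_even, Int.cast_sum,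
    ← Finset.add_sum_erase _ _ (Finset.mem_univ (1 : A)), h0, h1, add_zero, Int.cast_one]
  exact one_ne_zero

theorem sum_subgroup_le {X : Type*} [Group X] [Fintype X] (K : Subgroup X) [Fintype K] {f : X → ℝ}
    (hf : ∀ a, 0 ≤ f a) : ∑ k : K, f k ≤ ∑ a, f a :=
  (Finset.sum_map Finset.univ (Function.Embedding.subtype _) f).symm.le.trans
    (Finset.sum_le_univ_sum_of_nonneg hf)

namespace Config

variable (c : Config G)

theorem typeV_facts (hV : Cfsg.IsOfTypeV c.T) :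
    ⁅c.T, c.T⁆ = Cfsg.fittingHallOf c.T ∧ Cfsg.sigmaCore c.T = Cfsg.fittingHallOf c.T := by
  obtain ⟨W, U', X, hP, hU, -⟩ := hV
  have hU' := (TypesExclusive.U_eq_bot_iff c.T_typeP hP).mpr hU
  have h1 : ⁅c.T, c.T⁆ = Cfsg.fittingHallOf c.T := by
    refine le_antisymm (fun m hm => ?_) c.T_typeP.U_compl.1
    obtain ⟨a, ha, b, hb, rfl⟩ := c.T_typeP.U_compl.2.2.2 m hm
    rw [hU', mem_bot] at hb
    rwa [hb, mul_one]
  refine ⟨h1, le_antisymm ?_ (DadeSupport.fittingHallOf_le_sigmaCore c.minimal c.T_max)⟩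
  exact h1 ▸ OddLocal.BetaCore.sigmaCore_le_derived c.minimal c.T_max

/-- The data of `T` of Type V. -/
noncomputable def typeVData (hII : Cfsg.IsOfTypeII c.S) (hV : Cfsg.IsOfTypeV c.T) : TV G where
  T := c.T
  W₁ := c.W₁
  W₂ := c.W₂
  K := Cfsg.fittingHallOf c.T
  χ := c.χ
  family := c.family
  selfNorm := c.selfNorm
  odd := c.minimal.1
  q_prime := (Final.typeTwo_facts c.S_typeP hII).2.1
  K_le := c.T_typeP.U_compl.1.trans c.T_typeP.W₁_compl.1
  W₂_le := c.T_typeP.W₁_compl.2.1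
  normal := FittingStructure.le_normalizer_fittingHallOf c.T
  inf_eq := (c.typeV_facts hV).1 ▸ c.T_typeP.W₁_compl.2.2.1
  sup_eq := by
    refine le_antisymm (sup_le (c.T_typeP.U_compl.1.trans c.T_typeP.W₁_compl.1) c.T_typeP.W₁_compl.2.1) fun m hm => ?_
    obtain ⟨a, ha, b, hb, rfl⟩ := c.T_typeP.W₁_compl.2.2.2 m hm
    exact mul_mem (mem_sup_left ((c.typeV_facts hV).1 ▸ ha)) (mem_sup_right hb)
  nilpotent := OddLocal.fittingHallOf_nilpotent c.T
  cop := (c.typeV_facts hV).1 ▸ OddLocal.TypeP.coprime_W₁_derived c.T_typeP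
  hall := by
    obtain ⟨-, ⟨h1, h2⟩, -⟩ := OddLocal.SigmaCore.sigmaCore_hall c.minimal c.T_max
    rw [← (c.typeV_facts hV).2]
    exact Nat.coprime_of_dvd fun k hk hd hd' => h2 k hk (h1 k hk hd) hd'
  W₁_le := by
    have h := c.T_typeP.W₂_le.trans inf_le_right
    rwa [(c.typeV_facts hV).1] at h
  cent := fun x hx hx1 => (c.typeV_facts hV).1 ▸ c.T_typeP.W₂_centralizer x hx hx1
  ti := fun g hg k hk hk1 hgk => by
    obtain ⟨hti, hN⟩ := Final.typeP_ti c.minimal c.T_max ⟨_, _, _, c.T_typeP⟩ (A := Cfsg.typeA1 c.T) (Or.inl rfl)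
    have hmem : ∀ x ∈ Cfsg.fittingHallOf c.T, x ≠ 1 → x ∈ Cfsg.typeA1 c.T := fun x hx hx1 => by
      rw [DadeSupport.typeA1_eq c.minimal c.T_max, (c.typeV_facts hV).2]
      exact ⟨hx, hx1⟩
    exact hk1 (hti g (by rw [hN]; exact hg) k (hmem k hk hk1)
      (hmem _ hgk fun e => hk1 (conj_eq_one_iff.mp e)))

/-- The constants of a Galois invariant family sum to an odd number over a row. -/
theorem odd_const [Fintype (c.W₂ →* ℂˣ)] {m : (↥(c.W₁ ⊔ c.W₂) →* ℂˣ) → ℤ} (hm1 : m 1 = 1)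
    (hpow : ∀ n : ℕ, n.Coprime (Nat.card G) → ∀ ω, m (ω ^ n) = m ω) :
    Odd (∑ k : c.W₂ →* ℂˣ, m (inl c.selfNorm 1 * inr c.selfNorm k)) := by
  refine odd_sum_of_inv (fun k hk e => hk (MonoidHom.ext fun w => ?_)) _ (fun k => ?_) ?_
  · have hw : (k w : ℂˣ) ^ 2 = 1 := by
      have h := congrArg (fun f : c.W₂ →* ℂˣ => f w) e
      simp only [MonoidHom.inv_apply] at h
      rw [sq]
      nth_rw 1 [← h]
      exact inv_mul_cancel _
    have hp : (k w : ℂˣ) ^ Nat.card c.W₂ = 1 := by rw [← map_pow, pow_card_eq_one', map_one]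
    exact orderOf_eq_one_iff.mp (Nat.eq_one_of_dvd_coprimes
      (Nat.coprime_two_left.mpr (c.minimal.1.of_dvd_nat (card_subgroup_dvd_card c.W₂)))
      (orderOf_dvd_of_pow_eq_one hw) (orderOf_dvd_of_pow_eq_one hp))
  · have hn1 : (Nat.card G - 1).Coprime (Nat.card G) := by
      rw [Nat.coprime_self_sub_left Nat.card_pos]; exact Nat.coprime_one_left _
    rw [inl_one, hom_one_mul, hom_one_mul, ← hpow _ hn1 (inr c.selfNorm k)]
    refine congrArg m (MonoidHom.ext fun w => ?_)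
    show (k (proj₂ c.selfNorm w))⁻¹ = (k (proj₂ c.selfNorm w)) ^ (Nat.card G - 1)
    refine inv_eq_of_mul_eq_one_right ?_
    rw [← pow_succ', Nat.sub_add_cancel Nat.card_pos, ← map_pow, ← map_one k]
    exact congrArg k (orderOf_dvd_iff_pow_eq_one.mp ((_root_.orderOf_dvd_natCard _).trans (card_subgroup_dvd_card _)))
  · rw [inl_one, inr_one, hom_one_mul, hm1]

/-- `T` is not of Type V. -/
theorem not_typeFive (hII : Cfsg.IsOfTypeII c.S) : ¬ Cfsg.IsOfTypeV c.T := by
  intro hV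
  have hG := c.minimal
  obtain ⟨hTK, hσT⟩ := c.typeV_facts hV
  set D := c.typeVData hII hV with hD
  obtain ⟨x, b, hb, hxs, hxe, hmass⟩ := D.exists_exceptional
  have hxg : Cfsg.IsGeneralizedCharacter G x := TypeFive.signed_isGen hxs
  obtain ⟨R, hR, hSR, hTR⟩ := exists_reps c.S_max c.T_max (T_ne_S hG c.S_max c.T_max c.S_typeP c.T_typeP)
  have hsupp : ∀ a ∈ Cfsg.typeA1 c.T, Cfsg.supportR c.T a = ⊥ := fun a ha =>
    Final.supportR_eq_bot hG c.T_max ⟨_, _, _, c.T_typeP⟩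
      (Set.subset_union_left (DadeSupport.typeA1_subset_typeA hG c.T_max ha))
  -- the constant on a subgroup of Type I
  have hconst : ∀ L ∈ R, L ≠ c.S → L ≠ c.T →
      ((Nat.card (Cfsg.sigmaCore L) : ℝ) - 1) / Nat.card L ≤
        (Nat.card L : ℝ)⁻¹ * ∑ a : L, Complex.normSq (rho (Cfsg.typeA1 L) L (Cfsg.supportR L) x a) := by
    intro L hLR hLS hLT
    have hL := hR.max L hLR
    have hI : Cfsg.IsOfTypeI L := typeOne_of_nconj hG c.S_max c.T_max c.S_typeP c.T_typeP hL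
      (hR.nconj hSR hLR (Ne.symm hLS)) (hR.nconj hTR hLR (Ne.symm hLT))
    have hdis : ∀ g ∈ WhatG c.W₁ c.W₂, g ∉ tilde L := fun _ hg =>
      whatG_not_tilde hG c.S_max c.T_max c.S_typeP c.T_typeP hg hL
    obtain ⟨m, hm1, hm, -⟩ := exists_const c.selfNorm c.family hG hL hI hdis
    set z : ℤ := ∑ k : D.L₂, m (inl c.selfNorm 1 * inr c.selfNorm k) with hz
    let _ : Fintype (c.W₂ →* ℂˣ) := (inferInstance : Fintype D.L₂)
    have hzodd : Odd z := c.odd_const hm1 fun n hn ω => const_pow c.selfNorm c.family hG hL hI hdis hm hn ω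
    have hval : ∀ a : L, (a : G) ∈ Cfsg.typeA1 L → rho (Cfsg.typeA1 L) L (Cfsg.supportR L) x a = (z : ℂ) := by
      intro a ha
      have hY : avg (Cfsg.supportR L) (D.ind (D.diff1 b)) (a : G) = 0 := by
        have := Fintype.ofFinite (Cfsg.supportR L (a : G))
        rw [avg, finsum_coe_subgroup, Finset.sum_eq_zero, mul_zero]
        intro u _
        refine Exceptional.indFun_eq_zero_of_support (D.indT_support (D.diff1_zero hb)) fun y hy => ?_
        refine tilde_disjoint hG hL c.T_max (hR.nconj hLR hTR hLT) (g := (a : G) * u) ⟨(a : G), ha, u, u.2, 1, by group⟩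
          ⟨y⁻¹ * ((a : G) * u) * y, ?_, 1, one_mem _, y, by group⟩
        rw [DadeSupport.typeA1_eq hG c.T_max, hσT]
        exact hy
      rw [Frob12.rho_of_mem ha, show x = (∑ k, D.eta 1 k) - D.ind (D.diff1 b) by rw [hxe, sub_sub_cancel],
        avg_sub, hY, sub_zero, avg_finset_sum, hz, Int.cast_sum]
      refine Finset.sum_congr rfl fun k _ => ?_
      rw [← hm _ a ha, Frob12.rho_of_mem ha]
      rfl
    have hz1 : (1 : ℝ) ≤ Complex.normSq (z : ℂ) := by
      rw [← Complex.ofReal_intCast, Complex.normSq_ofReal, ← sq]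
      have : z ≠ 0 := fun e => by rw [e] at hzodd; simp at hzodd
      exact_mod_cast (show 1 ≤ z ^ 2 by have : 0 < z ^ 2 := by positivity
                                        omega)
    have h := Finset.sum_le_sum (s := (Finset.univ : Finset L))
      (f := fun a : L => if (a : G) ∈ Cfsg.typeA1 L then (1 : ℝ) else 0)
      (g := fun a : L => Complex.normSq (rho (Cfsg.typeA1 L) L (Cfsg.supportR L) x a)) fun a _ => by
        split_ifs with ha
        · rw [hval a ha]; exact hz1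
        · exact Complex.normSq_nonneg _
    rw [sum_typeA1 hG hL, nsmul_one, Nat.cast_sub Nat.card_pos, Nat.cast_one] at h
    rw [div_eq_inv_mul]
    exact mul_le_mul_of_nonneg_left h (by positivity)
  -- the mass on `T`
  have hpartT : 1 - 1 / (2 * (Nat.card c.W₁ : ℝ)) ≤
      (Nat.card c.T : ℝ)⁻¹ * ∑ a : c.T, Complex.normSq (rho (Cfsg.typeA1 c.T) c.T (Cfsg.supportR c.T) x a) := by
    have hcard : (Nat.card c.T : ℝ) = (Nat.card D.KT : ℝ) * D.p := by
      rw [← Nat.cast_mul, D.card_KT, ← D.card_T]; rfl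
    have hle : ∑ k : D.KT, (if k = 1 then 0 else Complex.normSq (x ((k : D.T) : G))) ≤
        ∑ a : c.T, Complex.normSq (rho (Cfsg.typeA1 c.T) c.T (Cfsg.supportR c.T) x a) := by
      refine le_trans (le_of_eq ?_) (sum_subgroup_le D.KT
        (f := fun a : c.T => Complex.normSq (rho (Cfsg.typeA1 c.T) c.T (Cfsg.supportR c.T) x a))
        fun _ => Complex.normSq_nonneg _)
      refine Finset.sum_congr rfl fun k _ => ?_
      by_cases hk : k = 1
      · subst hk
        rw [if_pos rfl]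
        refine ((congrArg Complex.normSq (Frob12.rho_of_notMem (A := Cfsg.typeA1 c.T) (H := Cfsg.supportR c.T)
          (χ := x) (a := (1 : c.T)) ?_)).trans (map_zero _)).symm
        rw [DadeSupport.typeA1_eq hG c.T_max]
        exact fun h => h.2 rfl
      · have hmem : ((k : D.T) : G) ∈ Cfsg.typeA1 c.T := by
          rw [DadeSupport.typeA1_eq hG c.T_max, hσT]
          exact ⟨k.2, fun e => hk (Subtype.ext (Subtype.ext e))⟩
        rw [if_neg hk]
        exact (congrArg Complex.normSq ((Frob12.rho_of_mem (L := c.T) (a := (k : D.T)) hmem).trans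
          (avg_of_eq_bot (hsupp _ hmem) x))).symm
    have hpos : (0 : ℝ) < (Nat.card c.T : ℝ) := Nat.cast_pos.mpr Nat.card_pos
    rw [le_inv_mul_iff₀ hpos, mul_comm, hcard]
    exact hmass.trans hle
  have hnorm := norm_ge hG c.S_max c.T_max c.S_typeP c.T_typeP hR (Exceptional.IsGen.isClassFunction hxg)
  rw [TypeFive.signed_self hxs, Complex.one_re] at hnorm
  have hweight := weight_identity hG c.S_max c.T_max c.S_typeP c.T_typeP hR
  have hST : c.S ≠ c.T := fun e => T_ne_S hG c.S_max c.T_max c.S_typeP c.T_typeP 1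
    (by rw [Support.map_conj_of_mem (one_mem _)]; exact e.symm)
  have hS' : c.S ∈ R.erase c.T := Finset.mem_erase.mpr ⟨hST, hSR⟩
  rw [← Finset.add_sum_erase _ _ hTR, ← Finset.add_sum_erase _ _ hS'] at hnorm hweight
  have hrest := Finset.sum_le_sum (s := (R.erase c.T).erase c.S)
    (f := fun L => ((Nat.card (Cfsg.sigmaCore L) : ℝ) - 1) / Nat.card L) fun L hL =>
    hconst L (Finset.mem_of_mem_erase (Finset.mem_of_mem_erase hL)) (Finset.mem_erase.mp hL).1
      (Finset.mem_erase.mp (Finset.mem_of_mem_erase hL)).1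
  have hS0 : 0 ≤ (Nat.card c.S : ℝ)⁻¹ *
      ∑ a : c.S, Complex.normSq (rho (Cfsg.typeA1 c.S) c.S (Cfsg.supportR c.S) x a) :=
    mul_nonneg (by positivity) (Finset.sum_nonneg fun _ _ => Complex.normSq_nonneg _)
  have hone : 0 ≤ (Nat.card G : ℝ)⁻¹ * Complex.normSq (x 1) := mul_nonneg (by positivity) (Complex.normSq_nonneg _)
  have hWhat : 0 ≤ (Nat.card ↥(c.W₁ ⊔ c.W₂) : ℝ)⁻¹ *
      ∑ w : ↥(c.W₁ ⊔ c.W₂), (if (w : G) ∈ What c.W₁ c.W₂ then Complex.normSq (x w) else 0) :=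
    mul_nonneg (by positivity) (Finset.sum_nonneg fun _ _ => by split_ifs <;> simp [Complex.normSq_nonneg])
  -- the weights of `S` and `T`
  obtain ⟨hU1, hqp, -, -⟩ := Final.typeTwo_facts c.S_typeP hII
  have hσS : Cfsg.sigmaCore c.S = Cfsg.fittingHallOf c.S := by
    have h := DadeSupport.typeA1_eq hG c.S_max
    rw [Cfsg.typeA1, Cfsg.typeCore, if_neg fun h3 => TypesExclusive.not_two_three hG c.S_max hII h3] at h
    refine SetLike.ext fun g => ?_
    by_cases hg : g = 1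
    · simp [hg]
    · have h' := Set.ext_iff.mp h g
      simp only [Set.mem_sdiff, SetLike.mem_coe, Set.mem_singleton_iff, hg, not_false_eq_true, and_true] at h'
      exact h'.symm
  have hu : 2 * Nat.card c.W₁ + 1 ≤ Nat.card c.U := by
    have := Fact.mk hqp
    have hfpf : ∀ w ∈ c.W₁, w ≠ 1 → ∀ u ∈ c.U, w * u = u * w → u = 1 := fun w hw hw1 u hu hc => by
      have h1 : u ∈ c.W₂ := (c.S_typeP.W₂_centralizer w hw hw1).le
        (mem_inf.mpr ⟨c.S_typeP.U_compl.2.1 hu, mem_centralizer_singleton_iff.mpr hc.symm⟩)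
      exact mem_bot.mp (c.S_typeP.U_compl.2.2.1 ▸ mem_inf.mpr ⟨(mem_inf.mp (c.S_typeP.W₂_le h1)).1, hu⟩)
    have hmod := Final.card_modEq_one rfl c.S_typeP.U_normal hfpf
    have hodd : Odd (Nat.card c.U) := hG.1.of_dvd_nat (card_subgroup_dvd_card _)
    have hne : Nat.card c.U ≠ 1 := fun e => hU1 (card_eq_one.mp e)
    have hqodd : Odd (Nat.card c.W₁) := hG.1.of_dvd_nat (card_subgroup_dvd_card _)
    have hpos : 1 ≤ Nat.card c.U := Nat.card_pos
    obtain ⟨t, ht⟩ := (Nat.modEq_iff_dvd' hpos).mp hmod.symm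
    have ht1 : t ≠ 0 := fun e => by rw [e, mul_zero] at ht; omega
    have ht2 : t ≠ 1 := fun e => by
      rw [e, mul_one] at ht
      rw [Nat.odd_iff] at hodd hqodd
      omega
    have := Nat.mul_le_mul_left (Nat.card c.W₁) (show 2 ≤ t by omega)
    omega
  have hwS : ((Nat.card (Cfsg.sigmaCore c.S) : ℝ) - 1) / Nat.card c.S ≤
      1 / ((Nat.card c.U : ℝ) * Nat.card c.W₁) := by
    rw [hσS, ← OddLocal.IsComplIn_card_mul c.S_typeP.W₁_compl, ← OddLocal.IsComplIn_card_mul c.S_typeP.U_compl]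
    push_cast
    have h1 : (0 : ℝ) < Nat.card (Cfsg.fittingHallOf c.S) := Nat.cast_pos.mpr Nat.card_pos
    have h2 : (0 : ℝ) < (Nat.card c.U : ℝ) * Nat.card c.W₁ :=
      mul_pos (Nat.cast_pos.mpr Nat.card_pos) (Nat.cast_pos.mpr Nat.card_pos)
    rw [mul_assoc, div_le_div_iff₀ (mul_pos h1 h2) h2]
    nlinarith
  have hwT : ((Nat.card (Cfsg.sigmaCore c.T) : ℝ) - 1) / Nat.card c.T ≤
      1 / (Nat.card c.W₂ : ℝ) - (Nat.card G : ℝ)⁻¹ := by
    rw [hσT, sub_div, show (Nat.card c.T : ℝ) = (Nat.card (Cfsg.fittingHallOf c.T) : ℝ) * Nat.card c.W₂ by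
      rw [← Nat.cast_mul]; exact congrArg Nat.cast D.card_T]
    have h1 : (0 : ℝ) < Nat.card (Cfsg.fittingHallOf c.T) := Nat.cast_pos.mpr Nat.card_pos
    have h2 : (0 : ℝ) < Nat.card c.W₂ := Nat.cast_pos.mpr Nat.card_pos
    have h3 : (Nat.card (Cfsg.fittingHallOf c.T) : ℝ) * Nat.card c.W₂ ≤ Nat.card G := by
      rw [← Nat.cast_mul, Nat.cast_le]
      exact (congrArg (· ≤ Nat.card G) D.card_T).mp (card_le_card_group c.T)
    have h4 := one_div_le_one_div_of_le (mul_pos h1 h2) h3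
    rw [div_mul_cancel_left₀ h1.ne']
    simp only [one_div] at h4 ⊢
    linarith
  -- the contradiction
  have hp3 : (3 : ℝ) ≤ Nat.card c.W₂ := by exact_mod_cast D.three_le_p
  have hq3 : (3 : ℝ) ≤ Nat.card c.W₁ := by exact_mod_cast D.three_le_q
  have hu7 : (7 : ℝ) ≤ Nat.card c.U := by
    have h7 : 7 ≤ Nat.card c.U := by
      have : 3 ≤ Nat.card c.W₁ := D.three_le_q
      omega
    exact_mod_cast h7
  have hlt : 1 / (2 * (Nat.card c.W₁ : ℝ)) < 1 / (Nat.card c.W₁ : ℝ) -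
      1 / ((Nat.card c.W₁ : ℝ) * Nat.card c.W₂) - 1 / ((Nat.card c.U : ℝ) * Nat.card c.W₁) := by
    have a1 : 1 / (Nat.card c.W₂ : ℝ) ≤ 1 / 3 := one_div_le_one_div_of_le (by norm_num) hp3
    have a2 : 1 / (Nat.card c.U : ℝ) ≤ 1 / 7 := one_div_le_one_div_of_le (by norm_num) hu7
    have hq0 : (0 : ℝ) < 1 / (Nat.card c.W₁ : ℝ) := by positivity
    rw [show 1 / (2 * (Nat.card c.W₁ : ℝ)) = 1 / (Nat.card c.W₁ : ℝ) * (1 / 2) by ring,
      show 1 / ((Nat.card c.W₁ : ℝ) * Nat.card c.W₂) = 1 / (Nat.card c.W₁ : ℝ) * (1 / Nat.card c.W₂) by ring,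
      show 1 / ((Nat.card c.U : ℝ) * Nat.card c.W₁) = 1 / (Nat.card c.W₁ : ℝ) * (1 / Nat.card c.U) by ring]
    nlinarith
  have hsplit : ((Nat.card c.W₁ : ℝ) - 1) * ((Nat.card c.W₂ : ℝ) - 1) /
      ((Nat.card c.W₁ : ℝ) * Nat.card c.W₂) = 1 - 1 / (Nat.card c.W₁ : ℝ) - 1 / (Nat.card c.W₂ : ℝ) +
        1 / ((Nat.card c.W₁ : ℝ) * Nat.card c.W₂) := by field_simp; ring
  rw [hsplit] at hweight
  linarith

end Config

end CfsgLib.OddLocal.FTFinal
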