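import Cfsg.Agent.Lib.OddLocal.Final.Cases
import Cfsg.Agent.Lib.OddLocal.Final.StepThreeTwo
import Cfsg.Agent.Lib.OddLocal.Final.TypeFive
import Cfsg.Agent.Lib.OddLocal.Final.FalseThree

/-!
Owner: helper16. The Odd Order Theorem from the three cases of the endgame.
-/

set_option autoImplicit false

namespace CfsgLib.OddLocal.FTFinal

universe u

/-- The configuration is impossible. -/
theorem Config.false_of_typeTwo_config {G : Type u} [Group G] [Fintype G] (c : Config G) (hS : Cfsg.IsOfTypeII c.S)
    (hT : Cfsg.IsOfTypeII c.T ∨ Cfsg.IsOfTypeIII c.T ∨ Cfsg.IsOfTypeIV c.T ∨ Cfsg.IsOfTypeV c.T) : False :=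
  c.false_of_cases hS hT (fun c h1 h2 => c.not_typeFive h1 h2) (fun c h1 h2 => c.false_of_two_three h1 h2) fun c h1 h2 hlt => c.false_of_two_two h1 h2 hlt

/-- There is no minimal simple group of odd order. -/
theorem not_isMinSimpleOddOrder {G : Type u} [Group G] [Finite G] : ¬ Cfsg.IsMinSimpleOddOrder G :=
  not_minSimpleOdd fun c => c.false_of_typeTwo_config

/-- Groups of odd order are solvable. -/
theorem odd_order_solvable {G : Type u} [Group G] [Finite G] (hG : Odd (Nat.card G)) : Group.IsSolvable G :=
  isSolvable_of_odd (fun _ _ _ => not_isMinSimpleOddOrder) hG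

/-- The odd order theorem as a hypothesis-shaped statement. -/
theorem odd_solvable_all : ∀ (H : Type u) [Group H] [Finite H], Odd (Nat.card H) → Group.IsSolvable H :=
  fun _ _ _ h => odd_order_solvable h

end CfsgLib.OddLocal.FTFinal
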