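import Cfsg.Agent.Lib.OddLocal.Final.FreeInst

/-!
Owner: helper16. The abelianisation of `T'` for `T` of type II, III or IV: with `Q₀ = C_Q(V)` and
`D = C_V([Q, V])`, `|T' : T''| = |Q₀ : Q₀'| |D : V'| |V : D|`, at least `(2 p + 1) v` unless `Q₀ = 1` and `D = V'`.
-/

set_option autoImplicit false
set_option linter.unusedSectionVars false

namespace CfsgLib.OddLocal.Final

open Subgroup
open CfsgLib.TwoGroups
open scoped commutatorElement

variable {G : Type*} [Group G]

theorem commutator_sup_le {A B N : Subgroup G} (hBA : B ≤ normalizer (A : Set G))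
    (hN : A ⊔ B ≤ normalizer (N : Set G)) (hAA : ⁅A, A⁆ ≤ N) (hAB : ⁅A, B⁆ ≤ N) (hBB : ⁅B, B⁆ ≤ N) :
    ⁅A ⊔ B, A ⊔ B⁆ ≤ N := by
  rw [commutator_le]
  intro g hg h hh
  obtain ⟨x, hx, v, hv, rfl⟩ := OddLocal.mem_sup_of_le_normalizer hBA |>.mp hg
  obtain ⟨y, hy, w, hw, rfl⟩ := OddLocal.mem_sup_of_le_normalizer hBA |>.mp hh
  have conj : ∀ c ∈ A, ∀ n ∈ N, c * n * c⁻¹ ∈ N := fun c hc n hn =>
    (mem_normalizer_iff.mp (hN (mem_sup_left hc)) n).mp hn
  rw [show ⁅x * v, y * w⁆ = x * (⁅v, y⁆ * (y * ⁅v, w⁆ * y⁻¹)) * x⁻¹ * (⁅x, y⁆ * (y * ⁅x, w⁆ * y⁻¹)) by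
    simp only [commutatorElement_def]; group]
  refine mul_mem (conj x hx _ (mul_mem ?_ (conj y hy _ (hBB (commutator_mem_commutator hv hw)))))
    (mul_mem (hAA (commutator_mem_commutator hx hy)) (conj y hy _ (hAB (commutator_mem_commutator hx hw))))
  rw [← commutatorElement_inv]
  exact inv_mem (hAB (commutator_mem_commutator hy hv))

variable [Finite G]

/-- A fixed-point-free section has order `1` or at least `2 p + 1`. -/
theorem two_mul_add_one_le {A B W : Subgroup G} {p : ℕ} [Fact p.Prime] (hW : Nat.card W = p)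
    (hodd : Odd (Nat.card G)) (hBA : B ≤ A) (hA : W ≤ normalizer (A : Set G)) (hB : W ≤ normalizer (B : Set G))
    (hfpf : ∀ w ∈ W, w ≠ 1 → ∀ u ∈ A, w * u = u * w → u = 1) (hne : B ≠ A) : 2 * p + 1 ≤ B.relIndex A := by
  have h3 : Nat.card B * B.relIndex A = Nat.card A := by
    rw [← relIndex_bot_left B, ← relIndex_bot_left A]
    exact relIndex_mul_relIndex ⊥ B A bot_le hBA
  have h1 := card_modEq_one hW hA hfpf
  have h2 := card_modEq_one hW hB fun w hw hw1 u hu => hfpf w hw hw1 u (hBA hu)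
  rw [← h3] at h1
  have hi : B.relIndex A ≡ 1 [MOD p] := by simpa using (h2.mul_right (B.relIndex A)).symm.trans h1
  have hp := (Fact.out : p.Prime)
  have hi2 : B.relIndex A ≡ 1 [MOD 2] := Nat.odd_iff.mp
    (hodd.of_dvd_nat ((Dvd.intro_left _ h3).trans A.card_subgroup_dvd_card))
  have hp2 : Nat.Coprime 2 p := (hodd.of_dvd_nat (hW ▸ W.card_subgroup_dvd_card)).coprime_two_left
  have h4 : B.relIndex A ≡ 1 [MOD 2 * p] := (Nat.modEq_and_modEq_iff_modEq_mul hp2).mp ⟨hi2, hi⟩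
  have h0 : B.relIndex A ≠ 0 := fun e => by rw [e, mul_zero] at h3; exact Nat.card_pos.ne' h3.symm
  have h5 : B.relIndex A ≠ 1 := fun e => hne (le_antisymm hBA (relIndex_eq_one.mp e))
  have := Nat.le_of_dvd (by omega) ((Nat.modEq_iff_dvd' (by omega)).mp h4.symm)
  omega

variable {T W V X : Subgroup G}

/-- The index of `T''` in `T'`. -/
theorem derived_index (hP : Cfsg.IsTypePWith T W V X) (hV : V ≠ ⊥) (hX : (Nat.card X).Prime)
    (hodd : Odd (Nat.card G)) :
    ⁅⁅T, T⁆, ⁅T, T⁆⁆.relIndex ⁅T, T⁆ = ⁅kernelZero T V, kernelZero T V⁆.relIndex (kernelZero T V) *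
        (⁅V, V⁆.relIndex (V ⊓ centralizer (kernelOne T V : Set G)) *
          (centralizer (kernelOne T V : Set G)).relIndex V) := by
  have K := kernelBasic hP hV hX
  obtain ⟨helem, -, -, hsup, hdis, hcomm, -⟩ := kernel_split hP hV hX hodd
  set Q := Cfsg.fittingHallOf T with hQ
  set Q₁ := kernelOne T V with hQ₁
  set Q₀ := kernelZero T V with hQ₀
  set A := ⁅Q₀, Q₀⁆ with hA
  set B := ⁅V, V⁆ with hB
  have hVV : V ≤ V ⊔ W := le_sup_left
  have hAQ₀ : A ≤ Q₀ := commutator_le_self Q₀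
  have hBV : B ≤ V := commutator_le_self V
  have hQ₁Q₀ : Q₀ ≤ normalizer (Q₁ : Set G) := hcomm.trans (Subgroup.centralizer_le_normalizer _)
  have hBQ : B ≤ centralizer (Q : Set G) := TypeP.U_derived_le hP
  have hBD : B ≤ V ⊓ centralizer (Q₁ : Set G) := le_inf hBV (hBQ.trans (Subgroup.centralizer_le K.le))
  have hderiv : ⁅T, T⁆ = Q ⊔ V := le_antisymm (fun t ht => by
      obtain ⟨a, ha, b, hb, rfl⟩ := hP.U_compl.2.2.2 t ht
      exact mul_mem (mem_sup_left ha) (mem_sup_right hb))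
    (sup_le hP.U_compl.1 hP.U_compl.2.1)
  have hVQ : V ≤ normalizer (Q : Set G) := le_sup_left.trans (typeP_sup_normalizes hP)
  -- normality of `N`
  set N := Q₁ ⊔ A ⊔ B with hN
  have hnorm : ∀ g : G, g ∈ normalizer (Q₁ : Set G) → g ∈ normalizer (A : Set G) → g ∈ normalizer (B : Set G) →
      g ∈ normalizer (N : Set G) := fun g h1 h2 h3 => Transfer.map_conj_eq_self_iff.mp (by
    rw [hN, Subgroup.map_sup, Subgroup.map_sup, Transfer.map_conj_eq_self_iff.mpr h1,
      Transfer.map_conj_eq_self_iff.mpr h2, Transfer.map_conj_eq_self_iff.mpr h3])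
  have hcomN : ∀ {E : Subgroup G} {g : G}, g ∈ normalizer (E : Set G) → g ∈ normalizer ((⁅E, E⁆ : Subgroup G) : Set G) :=
    fun {E g} h => Transfer.map_conj_eq_self_iff.mp (by
      rw [map_commutator, Transfer.map_conj_eq_self_iff.mpr h])
  have hQNB : Q ≤ normalizer (B : Set G) := (le_centralizer_iff.mp hBQ).trans (Subgroup.centralizer_le_normalizer _)
  have hQ₁A : Q₁ ≤ normalizer (A : Set G) :=
    ((le_centralizer_iff.mp hcomm).trans (Subgroup.centralizer_le hAQ₀)).trans (Subgroup.centralizer_le_normalizer _)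
  have hQN : Q ≤ normalizer (N : Set G) := by
    rw [← hsup]
    exact sup_le (fun g hg => hnorm g (le_normalizer hg) (hQ₁A hg) (hQNB (K.le hg)))
      fun g hg => hnorm g (hQ₁Q₀ hg) (hcomN (le_normalizer hg)) (hQNB (hsup ▸ mem_sup_right hg))
  have hVN : V ≤ normalizer (N : Set G) := fun g hg =>
    hnorm g (K.norm (mem_sup_right (mem_sup_left hg))) (hcomN (K.norm_zero (mem_sup_left hg)))
      (hcomN (le_normalizer hg))
  have hTN : ⁅⁅T, T⁆, ⁅T, T⁆⁆ = N := by
    refine le_antisymm ?_ (sup_le (sup_le ?_ ?_) ?_)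
    · rw [hderiv]
      refine commutator_sup_le hVQ (sup_le hQN hVN) ?_ (le_sup_left.trans' le_sup_left) le_sup_right
      rw [← hsup]
      refine commutator_sup_le hQ₁Q₀ (hsup.symm ▸ hQN) ?_ ?_ (le_sup_left.trans' le_sup_right)
      · rw [commutator_eq_bot_iff_le_centralizer.mpr
          (le_centralizer_iff_isMulCommutative.mpr helem.1)]
        exact bot_le
      · rw [commutator_eq_bot_iff_le_centralizer.mpr (le_centralizer_iff.mp hcomm)]; exact bot_le
    · exact commutator_mono hP.U_compl.1 hP.U_compl.2.1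
    · exact commutator_mono (inf_le_left.trans hP.U_compl.1) (inf_le_left.trans hP.U_compl.1)
    · exact commutator_mono hP.U_compl.2.1 hP.U_compl.2.1
  -- orders
  have hQ₁A' : Nat.card ↥(Q₁ ⊔ A) = Nat.card Q₁ * Nat.card A := by
    refine le_antisymm ?_ ?_
    · refine Nat.le_of_dvd (Nat.mul_pos Nat.card_pos Nat.card_pos) ?_
      rw [sup_comm, mul_comm]; exact Core.card_sup_dvd A Q₁ (hAQ₀.trans hQ₁Q₀)
    · rw [← Nat.card_prod]
      refine Nat.card_le_card_of_injective (fun a : Q₁ × A =>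
        (⟨(a.1 : G) * a.2, mul_mem (mem_sup_left a.1.2) (mem_sup_right a.2.2)⟩ : ↥(Q₁ ⊔ A))) ?_
      rintro ⟨a, b⟩ ⟨a', b'⟩ h
      have h' : (a : G) * b = a' * b' := congrArg Subtype.val h
      have h2 : (a' : G)⁻¹ * a = b' * (b : G)⁻¹ := by
        rw [eq_mul_inv_iff_mul_eq, mul_assoc, h', inv_mul_cancel_left]
      have h3 : (a' : G)⁻¹ * a ∈ Q₁ ⊓ Q₀ := mem_inf.mpr
        ⟨mul_mem (inv_mem a'.2) a.2, h2 ▸ hAQ₀ (mul_mem b'.2 (inv_mem b.2))⟩
      rw [hdis, mem_bot, inv_mul_eq_one] at h3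
      exact Prod.ext (Subtype.ext h3.symm) (Subtype.ext (by simpa [h3.symm] using h'))
  have hcardSup : ∀ {E F : Subgroup G}, E ≤ Q → F ≤ V → F ≤ normalizer (E : Set G) →
      Nat.card ↥(E ⊔ F) = Nat.card E * Nat.card F := by
    intro E F hE hF hFE
    refine le_antisymm ?_ ?_
    · refine Nat.le_of_dvd (Nat.mul_pos Nat.card_pos Nat.card_pos) ?_
      rw [sup_comm, mul_comm]; exact Core.card_sup_dvd F E hFE
    · rw [← Nat.card_prod]
      refine Nat.card_le_card_of_injective (fun a : E × F =>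
        (⟨(a.1 : G) * a.2, mul_mem (mem_sup_left a.1.2) (mem_sup_right a.2.2)⟩ : ↥(E ⊔ F))) ?_
      rintro ⟨a, b⟩ ⟨a', b'⟩ h
      have h' : (a : G) * b = a' * b' := congrArg Subtype.val h
      have h2 : (a' : G)⁻¹ * a = b' * (b : G)⁻¹ := by
        rw [eq_mul_inv_iff_mul_eq, mul_assoc, h', inv_mul_cancel_left]
      have h3 : (a' : G)⁻¹ * a ∈ Q ⊓ V := mem_inf.mpr
        ⟨mul_mem (inv_mem (hE a'.2)) (hE a.2), h2 ▸ hF (mul_mem b'.2 (inv_mem b.2))⟩
      rw [hP.U_compl.2.2.1, mem_bot, inv_mul_eq_one] at h3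
      exact Prod.ext (Subtype.ext h3.symm) (Subtype.ext (by simpa [h3.symm] using h'))
  have hQ₁AQ : Q₁ ⊔ A ≤ Q := sup_le K.le (hAQ₀.trans inf_le_left)
  have hNc : Nat.card N = Nat.card Q₁ * Nat.card A * Nat.card B := by
    rw [hN, hcardSup hQ₁AQ hBV, hQ₁A']
    exact fun g hg => Transfer.map_conj_eq_self_iff.mp (by
      rw [Subgroup.map_sup, Transfer.map_conj_eq_self_iff.mpr (K.norm (mem_sup_right (mem_sup_left (hBV hg)))),
        Transfer.map_conj_eq_self_iff.mpr (hcomN (K.norm_zero (mem_sup_left (hBV hg))))])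
  have hQc : Nat.card Q = Nat.card Q₁ * Nat.card Q₀ := by
    refine le_antisymm ?_ ?_
    · refine Nat.le_of_dvd (Nat.mul_pos Nat.card_pos Nat.card_pos) ?_
      rw [← hsup, sup_comm, mul_comm]; exact Core.card_sup_dvd Q₀ Q₁ hQ₁Q₀
    · rw [← Nat.card_prod]
      refine Nat.card_le_card_of_injective (fun a : Q₁ × Q₀ =>
        (⟨(a.1 : G) * a.2, mul_mem (K.le a.1.2) (inf_le_left (b := centralizer (V : Set G)) a.2.2)⟩ : ↥Q)) ?_
      rintro ⟨a, b⟩ ⟨a', b'⟩ h
      have h' : (a : G) * b = a' * b' := congrArg Subtype.val h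
      have h2 : (a' : G)⁻¹ * a = b' * (b : G)⁻¹ := by
        rw [eq_mul_inv_iff_mul_eq, mul_assoc, h', inv_mul_cancel_left]
      have h3 : (a' : G)⁻¹ * a ∈ Q₁ ⊓ Q₀ := mem_inf.mpr
        ⟨mul_mem (inv_mem a'.2) a.2, h2 ▸ mul_mem b'.2 (inv_mem b.2)⟩
      rw [hdis, mem_bot, inv_mul_eq_one] at h3
      exact Prod.ext (Subtype.ext h3.symm) (Subtype.ext (by simpa [h3.symm] using h'))
  have hTc : Nat.card ↥⁅T, T⁆ = Nat.card Q * Nat.card V := by
    rw [hderiv]; exact hcardSup le_rfl le_rfl hVQ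
  -- assemble
  have mul : ∀ {E F : Subgroup G}, E ≤ F → Nat.card E * E.relIndex F = Nat.card F := fun {E F} h => by
    rw [← relIndex_bot_left E, ← relIndex_bot_left F]; exact relIndex_mul_relIndex ⊥ E F bot_le h
  have h1 := mul (commutator_le_self (G := G) ⁅T, T⁆)
  have h2 := mul hAQ₀
  have h3 := mul hBD
  have h4 := mul (inf_le_left : V ⊓ centralizer (Q₁ : Set G) ≤ V)
  rw [inf_comm V (centralizer (Q₁ : Set G)), inf_relIndex_right, inf_comm] at h4
  rw [hTN, hNc, hTc, hQc] at h1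
  rw [hTN]
  refine Nat.eq_of_mul_eq_mul_left (Nat.mul_pos (Nat.mul_pos (Nat.card_pos (α := Q₁)) (Nat.card_pos (α := A)))
    (Nat.card_pos (α := B))) (h1.trans ?_)
  rw [← h2, ← h4, ← h3]
  ring

/-- Unless `Q₀ = 1` and `D = V'`, the index is at least `(2 p + 1) v`. -/
theorem derived_index_ge (hP : Cfsg.IsTypePWith T W V X) (hV : V ≠ ⊥) (hX : (Nat.card X).Prime)
    (hW : (Nat.card W).Prime) (hodd : Odd (Nat.card G))
    (h : kernelZero T V ≠ ⊥ ∨ V ⊓ centralizer (kernelOne T V : Set G) ≠ ⁅V, V⁆) :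
    (2 * Nat.card W + 1) * (centralizer (kernelOne T V : Set G)).relIndex V ≤
      ⁅⁅T, T⁆, ⁅T, T⁆⁆.relIndex ⁅T, T⁆ := by
  have := Fact.mk hW
  have K := kernelBasic hP hV hX
  obtain ⟨-, -, -, -, -, -, hW0⟩ := kernel_split hP hV hX hodd
  have hcomN : ∀ {E : Subgroup G} {g : G}, g ∈ normalizer (E : Set G) → g ∈ normalizer ((⁅E, E⁆ : Subgroup G) : Set G) :=
    fun {E g} h => Transfer.map_conj_eq_self_iff.mp (by
      rw [map_commutator, Transfer.map_conj_eq_self_iff.mpr h])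
  rw [derived_index hP hV hX hodd]
  have hposA : 1 ≤ ⁅kernelZero T V, kernelZero T V⁆.relIndex (kernelZero T V) :=
    Nat.one_le_iff_ne_zero.mpr index_ne_zero_of_finite
  have hposB : 1 ≤ ⁅V, V⁆.relIndex (V ⊓ centralizer (kernelOne T V : Set G)) :=
    Nat.one_le_iff_ne_zero.mpr index_ne_zero_of_finite
  rcases h with h | h
  · have hfpf : ∀ w ∈ W, w ≠ 1 → ∀ u ∈ kernelZero T V, w * u = u * w → u = 1 := by
      intro w hw hw1 u hu hc
      have hgen : W = zpowers w := by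
        refine (eq_of_le_of_card_ge (zpowers_le.mpr hw) ?_).symm
        rw [Nat.card_zpowers, orderOf_eq_prime
          (orderOf_dvd_iff_pow_eq_one.mp (W.orderOf_dvd_natCard hw)) hw1]
      refine mem_bot.mp (hW0 ▸ mem_inf.mpr ⟨hu, mem_centralizer_iff.mpr fun a ha => ?_⟩)
      rw [hgen] at ha
      obtain ⟨n, rfl⟩ := mem_zpowers_iff.mp ha
      exact ((show Commute w u from hc).zpow_left n).eq
    have hnil : Group.IsNilpotent ↥(kernelZero T V) := by
      have : Group.IsNilpotent ↥(Cfsg.fittingHallOf T) := fittingHallOf_nilpotent T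
      exact Group.nilpotent_of_mulEquiv (subgroupOfEquivOfLe (inf_le_left : kernelZero T V ≤ _))
    have hne : ⁅kernelZero T V, kernelZero T V⁆ ≠ kernelZero T V := by
      intro e
      have : Nontrivial ↥(kernelZero T V) := (Subgroup.nontrivial_iff_ne_bot _).mpr h
      refine (Group.IsSolvable.commutator_lt_top_of_nontrivial ↥(kernelZero T V)).ne
        (map_injective (kernelZero T V).subtype_injective ?_)
      rw [map_subtype_commutator, e, ← MonoidHom.range_eq_map, range_subtype]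
    have h1 := two_mul_add_one_le rfl hodd (commutator_le_self _) (le_sup_right.trans K.norm_zero)
      (fun g hg => hcomN (K.norm_zero (mem_sup_right hg))) hfpf hne
    exact Nat.mul_le_mul h1 (Nat.le_mul_of_pos_left _ hposB)
  · have hBD : ⁅V, V⁆ ≤ V ⊓ centralizer (kernelOne T V : Set G) :=
      le_inf (commutator_le_self V) ((TypeP.U_derived_le hP).trans (Subgroup.centralizer_le K.le))
    have hWD : W ≤ normalizer ((V ⊓ centralizer (kernelOne T V : Set G) : Subgroup G) : Set G) := by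
      intro g hg
      refine Transfer.map_conj_eq_self_iff.mp (eq_of_le_of_card_ge ?_ (Transfer.card_map_conj g _).ge)
      rintro _ ⟨c, hc, rfl⟩
      refine mem_inf.mpr ⟨(mem_normalizer_iff.mp (hP.U_normal hg) c).mp (mem_inf.mp hc).1,
        mem_centralizer_iff.mpr fun x hx => ?_⟩
      have hgN := K.norm (mem_sup_right (mem_sup_right hg))
      have hx' : g⁻¹ * x * g ∈ kernelOne T V := by simpa using (mem_normalizer_iff.mp (inv_mem hgN) x).mp hx
      show x * (g * c * g⁻¹) = g * c * g⁻¹ * x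
      calc x * (g * c * g⁻¹) = g * (g⁻¹ * x * g * c) * g⁻¹ := by group
        _ = g * (c * (g⁻¹ * x * g)) * g⁻¹ := by rw [mem_centralizer_iff.mp (mem_inf.mp hc).2 _ hx']
        _ = _ := by group
    have h1 := two_mul_add_one_le rfl hodd hBD hWD (fun g hg => hcomN (hP.U_normal hg))
      (fun w hw hw1 u hu hc => typeP_fpf hP hw hw1 (mem_inf.mp hu).1 hc) (Ne.symm h)
    exact (Nat.mul_le_mul_right _ h1).trans (Nat.le_mul_of_pos_left _ hposA)

end CfsgLib.OddLocal.Final
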