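import Cfsg.Agent.Lib.OddLocal.Final.SideThree
import Cfsg.Agent.Lib.OddLocal.Final.DerivedIndex
import Mathlib.GroupTheory.Abelianization.Defs

/-!
Owner: helper16. The free characters of the Fitting side of a subgroup of type III or IV: a free character
of `Q₁` times any character of `Q₀` and of `C / U'`, or a regular one times a non-trivial one. Hence
`qN ≥ m #regular / idx` with `m = |Q₀ : Q₀'| |C : U'|`, and the diagonal case has a free character.
-/

set_option autoImplicit false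
set_option linter.unusedSectionVars false

open scoped commutatorElement

namespace CfsgLib.OddLocal.FTFinal

open Subgroup
open CfsgLib.Char CfsgLib.CyclicTI
open CfsgLib.OddLocal.Final (KernelModule Fixes Regular IsFree IsGalois Diag kernelOne kernelZero)

/-- A character fixed by a coprime cyclic group without fixed points is trivial. -/
theorem hom_eq_one_of_fixed {G : Type*} [Group G] [Finite G] {N W : Subgroup G} [IsCyclic W]
    (hn : W ≤ normalizer (N : Set G)) (hcop : (Nat.card W).Coprime (Nat.card N))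
    (hfix : N ⊓ centralizer (W : Set G) = ⊥) (β : N →* ℂˣ)
    (hβ : ∀ w ∈ W, ∀ x x' : N, (x' : G) = w * x * w⁻¹ → β x' = β x) : β = 1 := by
  set M := β.ker.map N.subtype with hM
  have hMn : W ≤ normalizer (M : Set G) := by
    intro w hw
    refine Transfer.map_conj_eq_self_iff.mp (eq_of_le_of_card_ge ?_ (Transfer.card_map_conj w _).ge)
    rintro _ ⟨_, ⟨x, hx, rfl⟩, rfl⟩
    exact ⟨⟨w * (x : G) * w⁻¹, (mem_normalizer_iff.mp (hn hw) _).mp x.2⟩, (hβ w hw x _ rfl).trans hx, rfl⟩
  refine MonoidHom.ext fun x => ?_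
  have := IsCyclic.isMulCommutative (α := W)
  obtain ⟨m, hm, hc⟩ := Core.exists_centralizing_in_coset hMn
    (hcop.coprime_dvd_right (card_dvd_of_le (map_subtype_le _)))
    (Or.inl (Group.isSolvable_of_comm fun a b => this.is_comm.comm a b)) (k := (x : G))
    fun w hw => by
      have hy : w * (x : G) * w⁻¹ ∈ N := (mem_normalizer_iff.mp (hn hw) _).mp x.2
      refine ⟨x⁻¹ * ⟨_, hy⟩, ?_, rfl⟩
      show β (x⁻¹ * ⟨_, hy⟩) = 1
      rw [map_mul, map_inv, inv_mul_eq_one]
      exact (hβ w hw x _ rfl).symm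
  obtain ⟨m', hm', rfl⟩ := hm
  have h1 : (x : G) * m' = 1 := mem_bot.mp (hfix ▸ mem_inf.mpr ⟨mul_mem x.2 m'.2, hc⟩)
  rw [show x = m'⁻¹ from Subtype.ext (by rw [coe_inv]; exact eq_inv_of_mul_eq_one_left h1), map_inv,
    MonoidHom.one_apply, inv_eq_one]
  exact hm'

namespace Config.IsThree

variable {G : Type*} [Group G] [Fintype G] {c : Config G} (h : c.IsThree)
include h

theorem centU_le_fitting : c.centU ≤ Cfsg.fittingOf c.S := h.fitting_eq ▸ le_sup_right

theorem kernelZero_le_fitting : kernelZero c.S c.U ≤ Cfsg.fittingOf c.S :=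
  h.fitting_eq ▸ inf_le_left.trans le_sup_left

/-- `U'` is contained in `C_U(H)`. -/
theorem derived_le_centU : ⁅c.U, c.U⁆ ≤ c.centU :=
  le_inf (commutator_le_self _) (TypeP.U_derived_le c.S_typeP)

/-- `F(S) = (Q₁ × Q₀) × C`. -/
theorem exists_equiv : ∃ e : (kernelOne c.S c.U × kernelZero c.S c.U) × c.centU ≃* Cfsg.fittingOf c.S,
    ∀ z, ((e z : Cfsg.fittingOf c.S) : G) = z.1.1 * z.1.2 * z.2 := by
  obtain ⟨-, -, -, hsup, hdis, hcom, -⟩ := Final.kernel_split c.S_typeP h.U_ne h.p_prime c.minimal.1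
  have hQ₁H : kernelOne c.S c.U ≤ Cfsg.fittingHallOf c.S :=
    (Final.kernelBasic c.S_typeP h.U_ne h.p_prime).le
  let f₁ : kernelOne c.S c.U × kernelZero c.S c.U →* Cfsg.fittingOf c.S :=
    MonoidHom.noncommCoprod (inclusion h.kernelOne_le) (inclusion h.kernelZero_le_fitting)
      fun a b => Subtype.ext (mem_centralizer_iff.mp (hcom b.2) a a.2)
  have hf₁ : ∀ z, ((f₁ z : Cfsg.fittingOf c.S) : G) = z.1 * z.2 := fun z => rfl
  let f : (kernelOne c.S c.U × kernelZero c.S c.U) × c.centU →* Cfsg.fittingOf c.S :=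
    MonoidHom.noncommCoprod f₁ (inclusion h.centU_le_fitting) fun a d => Subtype.ext (by
      show ((f₁ a : Cfsg.fittingOf c.S) : G) * d = d * ((f₁ a : Cfsg.fittingOf c.S) : G)
      exact mem_centralizer_iff.mp d.2.2 _ (by rw [hf₁]; exact mul_mem (hQ₁H a.1.2) a.2.2.1))
  have hf : Function.Bijective f := by
    refine ⟨(injective_iff_map_eq_one f).mpr fun z hz => ?_, fun m => ?_⟩
    · obtain ⟨⟨a, b⟩, d⟩ := z
      have e : (a : G) * b * d = 1 := congrArg Subtype.val hz
      have hd : (d : G) = 1 := mem_bot.mp (h.inf_centU ▸ mem_inf.mpr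
        ⟨by rw [eq_inv_of_mul_eq_one_right e]; exact inv_mem (mul_mem (hQ₁H a.2) b.2.1), d.2⟩)
      rw [hd, mul_one] at e
      have ha : (a : G) = 1 := mem_bot.mp (hdis ▸ mem_inf.mpr
        ⟨a.2, by rw [eq_inv_of_mul_eq_one_left e]; exact inv_mem b.2⟩)
      rw [ha, one_mul] at e
      exact Prod.ext (Prod.ext (Subtype.ext ha) (Subtype.ext e)) (Subtype.ext hd)
    · obtain ⟨x, hx, d, hd, e⟩ := (OddLocal.mem_sup_of_le_normalizer h.centU_normalizes).mp (h.fitting_eq.le m.2)
      obtain ⟨a, ha, b, hb, rfl⟩ := (OddLocal.mem_sup_of_le_normalizer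
        (hcom.trans (Subgroup.centralizer_le_normalizer _))).mp (hsup.ge hx)
      exact ⟨((⟨a, ha⟩, ⟨b, hb⟩), ⟨d, hd⟩), Subtype.ext e.symm⟩
  exact ⟨MulEquiv.ofBijective f hf, fun z => rfl⟩

/-- The character of `F(S)` with the three given restrictions. -/
noncomputable def prodHom (α : kernelOne c.S c.U →* ℂˣ) (β : kernelZero c.S c.U →* ℂˣ)
    (σ : c.centU →* ℂˣ) : Cfsg.fittingOf c.S →* ℂˣ :=
  ((α.coprod β).coprod σ).comp (Classical.choose h.exists_equiv).symm.toMonoidHom

theorem prodHom_mul (α : kernelOne c.S c.U →* ℂˣ) (β : kernelZero c.S c.U →* ℂˣ) (σ : c.centU →* ℂˣ)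
    (a : kernelOne c.S c.U) (b : kernelZero c.S c.U) (d : c.centU) (f : Cfsg.fittingOf c.S)
    (e : (f : G) = a * b * d) : h.prodHom α β σ f = α a * β b * σ d := by
  rw [show f = Classical.choose h.exists_equiv ((a, b), d) from
    Subtype.ext (by rw [Classical.choose_spec h.exists_equiv]; exact e)]
  simp [prodHom]

/-- The freeness criterion for `prodHom`. -/
theorem isFree_prodHom {α : kernelOne c.S c.U →* ℂˣ} (hα : Regular (kernelOne c.S c.U) c.U α)
    {β : kernelZero c.S c.U →* ℂˣ} {σ : c.centU →* ℂˣ}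
    (hσ : ∀ d : c.centU, (d : G) ∈ ⁅c.U, c.U⁆ → σ d = 1)
    (hne : IsFree (kernelOne c.S c.U) c.U c.W₁ α ∨ β ≠ 1 ∨ σ ≠ 1) :
    h.side.IsFree (h.prodHom α β σ) := by
  intro x hx
  obtain ⟨-, -, -, -, -, -, hW0⟩ := Final.kernel_split c.S_typeP h.U_ne h.p_prime c.minimal.1
  have K := h.kernel
  have KB := Final.kernelBasic c.S_typeP h.U_ne h.p_prime
  obtain ⟨m, hm, w, hw, hxe⟩ := c.S_typeP.W₁_compl.2.2.2 x x.2
  obtain ⟨a, ha, u, hu, rfl⟩ := h.exists_mul hm
  have haF : a ∈ Cfsg.fittingOf c.S := h.fitting_eq ▸ mem_sup_left ha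
  have hguw : u * w ∈ c.U ⊔ c.W₁ := mul_mem (mem_sup_left hu) (mem_sup_right hw)
  have hgS : u * w ∈ c.S := mul_mem ((c.S_typeP.U_compl.2.1.trans (commutator_le_self _)) hu)
    (c.S_typeP.W₁_compl.2.1 hw)
  have hstab : ∀ f f' : Cfsg.fittingOf c.S, (f' : G) = u * w * f * (u * w)⁻¹ →
      h.prodHom α β σ f' = h.prodHom α β σ f := by
    intro f f' e
    have hx' : h.prodHom α β σ = FTFinal.conjHom h.tiFitting ⟨u * w, hgS⟩ (h.prodHom α β σ) := by
      obtain ⟨xv, xm⟩ := x
      subst hxe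
      have hy : h.prodHom α β σ = FTFinal.conjHom h.tiFitting (⟨a * u * w, xm⟩ : c.S) (h.prodHom α β σ) := hx
      rw [show (⟨a * u * w, xm⟩ : c.S) = ⟨a, h.tiFitting.le haF⟩ * ⟨u * w, hgS⟩ from
        Subtype.ext (mul_assoc _ _ _), FTFinal.conjHom_mul, FTFinal.conjHom_of_mem h.tiFitting _ haF] at hy
      exact hy
    conv_lhs => rw [hx']
    rw [FTFinal.conjHom_apply]
    congr 1
    exact Subtype.ext (by show (u * w)⁻¹ * (f' : G) * (u * w) = f; rw [e]; group)
  have hfα : Fixes (kernelOne c.S c.U) (u * w) α := by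
    intro z z' e
    have h1 := hstab ⟨z, h.kernelOne_le z.2⟩ ⟨z', h.kernelOne_le z'.2⟩ e
    rwa [h.prodHom_mul α β σ z' 1 1 _ (by simp), h.prodHom_mul α β σ z 1 1 _ (by simp), map_one, map_one,
      mul_one, mul_one, mul_one, mul_one] at h1
  have hwu : w = 1 := by
    by_contra hw1
    have := Fact.mk (show (Nat.card c.W₁).Prime from h.q_prime)
    have : IsCyclic c.W₁ := c.S_typeP.W₁_cyclic
    have hgen : ∀ {P : G → Prop}, P 1 → (∀ g, P g → P (w * g)) → ∀ v ∈ c.W₁, P v := by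
      intro P h0 hs v hv
      have hWz : c.W₁ = zpowers w := by
        refine (eq_of_le_of_card_ge (zpowers_le.mpr hw) ?_).symm
        rw [Nat.card_zpowers, orderOf_eq_prime
          (orderOf_dvd_iff_pow_eq_one.mp (c.W₁.orderOf_dvd_natCard hw)) hw1]
      obtain ⟨n, rfl⟩ := mem_powers_iff_mem_zpowers.mpr (hWz.le hv)
      clear hv
      induction n with
      | zero => simpa using h0
      | succ n ih => show P (w ^ (n + 1)); rw [pow_succ']; exact hs _ ih
    rcases hne with hfree | hβσ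
    · have hc : u * w ∈ centralizer (kernelOne c.S c.U : Set G) := hfree _ hguw hfα
      have key : ∀ z ∈ kernelOne c.S c.U, w * z * w⁻¹ = u⁻¹ * z * u := fun z hz => by
        have h1 := mem_centralizer_iff.mp hc _ (K.conj_mem hguw hz)
        have h2 : u * w * z * (u * w)⁻¹ = z := by
          calc u * w * z * (u * w)⁻¹ = (u * w)⁻¹ * (u * w * (u * w * z * (u * w)⁻¹)) := by group
            _ = (u * w)⁻¹ * (u * w * z * (u * w)⁻¹ * (u * w)) := by rw [h1]
            _ = z := by group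
        calc w * z * w⁻¹ = u⁻¹ * (u * w * z * (u * w)⁻¹) * u := by group
          _ = _ := by rw [h2]
      refine K.nontriv fun v hv => K.scalar_of hv hw hw1 fun z hz => ?_
      rw [key _ (K.conj_mem (mem_sup_left hv) hz), key z hz]
      have h3 := K.act_comm (inv_mem hu) hv hz
      simpa using h3
    · have hWn : c.W₁ ≤ c.U ⊔ c.W₁ := le_sup_right
      have hCn : c.W₁ ≤ normalizer (c.centU : Set G) := by
        refine (le_inf c.S_typeP.U_normal fun v hv => ?_).trans inf_normalizer_le_normalizer_inf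
        refine Transfer.map_conj_eq_self_iff.mp (eq_of_le_of_card_ge ?_ (Transfer.card_map_conj v _).ge)
        rintro _ ⟨d, hd, rfl⟩
        refine mem_centralizer_iff.mpr fun z hz => ?_
        have hvH := Final.typeP_sup_normalizes c.S_typeP (mem_sup_right hv)
        have hz' : v⁻¹ * z * v ∈ Cfsg.fittingHallOf c.S := by
          simpa using (mem_normalizer_iff.mp (inv_mem hvH) z).mp hz
        show z * (v * d * v⁻¹) = v * d * v⁻¹ * z
        calc z * (v * d * v⁻¹) = v * (v⁻¹ * z * v * d) * v⁻¹ := by group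
          _ = v * (d * (v⁻¹ * z * v)) * v⁻¹ := by rw [mem_centralizer_iff.mp hd _ hz']
          _ = _ := by group
      have hcopU : (Nat.card c.W₁).Coprime (Nat.card c.centU) := h.coprime_derived.coprime_dvd_right
        (card_dvd_of_le (inf_le_left.trans c.S_typeP.U_compl.2.1))
      rcases hβσ with hβ | hσ1
      · refine hβ (hom_eq_one_of_fixed (W := c.W₁) (le_sup_right.trans KB.norm_zero)
          (h.coprime_derived.coprime_dvd_right (card_dvd_of_le (inf_le_left.trans c.S_typeP.U_compl.1))) hW0 β ?_)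
        have hb : ∀ z z' : kernelZero c.S c.U, (z' : G) = w * z * w⁻¹ → β z' = β z := by
          intro z z' e
          have h1 := hstab ⟨z, h.kernelZero_le_fitting z.2⟩ ⟨z', h.kernelZero_le_fitting z'.2⟩ (by
            show (z' : G) = u * w * z * (u * w)⁻¹
            have h2 := mem_centralizer_iff.mp z'.2.2 u hu
            calc (z' : G) = u * z' * u⁻¹ := by rw [h2, mul_inv_cancel_right]
              _ = _ := by rw [e]; group)
          rwa [h.prodHom_mul α β σ 1 z' 1 _ (by simp), h.prodHom_mul α β σ 1 z 1 _ (by simp), map_one, map_one,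
            one_mul, one_mul, mul_one, mul_one] at h1
        refine hgen (P := fun v => ∀ z z' : kernelZero c.S c.U, (z' : G) = v * z * v⁻¹ → β z' = β z)
          (fun z z' e => by rw [show z' = z from Subtype.ext (by simpa using e)]) fun g hg z z' e => ?_
        have hy : w⁻¹ * (z' : G) * w ∈ kernelZero c.S c.U := by
          simpa using (mem_normalizer_iff.mp (inv_mem (KB.norm_zero (mem_sup_right hw))) _).mp z'.2
        exact (hb ⟨_, hy⟩ z' (by group)).trans (hg z ⟨_, hy⟩ (by show w⁻¹ * (z' : G) * w = _; rw [e]; group))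
      · have hfixC : c.centU ⊓ centralizer (c.W₁ : Set G) = ⊥ := by
          refine (eq_bot_iff_forall _).mpr fun d hd => ?_
          exact Final.typeP_fpf c.S_typeP hw hw1 (mem_inf.mp hd).1.1
            (mem_centralizer_iff.mp (mem_inf.mp hd).2 w hw)
        refine hσ1 (hom_eq_one_of_fixed (W := c.W₁) hCn hcopU hfixC σ ?_)
        have hs : ∀ z z' : c.centU, (z' : G) = w * z * w⁻¹ → σ z' = σ z := by
          intro z z' e
          have hz'' : u * (z' : G) * u⁻¹ ∈ c.centU := by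
            refine mem_inf.mpr ⟨mul_mem (mul_mem hu z'.2.1) (inv_mem hu), mem_centralizer_iff.mpr fun y hy => ?_⟩
            have huH := h.U_normalizes_H hu
            have hy' : u⁻¹ * y * u ∈ Cfsg.fittingHallOf c.S := by
              simpa using (mem_normalizer_iff.mp (inv_mem huH) y).mp hy
            calc y * (u * (z' : G) * u⁻¹) = u * (u⁻¹ * y * u * z') * u⁻¹ := by group
              _ = u * ((z' : G) * (u⁻¹ * y * u)) * u⁻¹ := by rw [mem_centralizer_iff.mp z'.2.2 _ hy']
              _ = _ := by group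
          have h1 := hstab ⟨z, h.centU_le_fitting z.2⟩ ⟨_, h.centU_le_fitting hz''⟩
            (by show u * (z' : G) * u⁻¹ = _; rw [e]; group)
          rw [h.prodHom_mul α β σ 1 1 ⟨_, hz''⟩ _ (by simp), h.prodHom_mul α β σ 1 1 z _ (by simp), map_one,
            map_one, one_mul, one_mul, one_mul] at h1
          rw [← h1, show (⟨_, hz''⟩ : c.centU) = ⟨⁅u, (z' : G)⁆, h.derived_le_centU
            (commutator_mem_commutator hu z'.2.1)⟩ * z' from Subtype.ext (by
              simp [commutatorElement_def]), map_mul, hσ ⟨⁅u, (z' : G)⁆, _⟩ (commutator_mem_commutator hu z'.2.1), one_mul]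
        refine hgen (P := fun v => ∀ z z' : c.centU, (z' : G) = v * z * v⁻¹ → σ z' = σ z)
          (fun z z' e => by rw [show z' = z from Subtype.ext (by simpa using e)]) fun g hg z z' e => ?_
        have hy : w⁻¹ * (z' : G) * w ∈ c.centU := by
          simpa using (mem_normalizer_iff.mp (inv_mem (hCn hw)) _).mp z'.2
        exact (hs ⟨_, hy⟩ z' (by group)).trans (hg z ⟨_, hy⟩ (by show w⁻¹ * (z' : G) * w = _; rw [e]; group))
  subst hwu
  rw [mul_one] at hfα hxe
  have hu' : u ∈ c.centU := by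
    rw [h.centU_eq]; exact mem_inf.mpr ⟨hu, hα u hu hfα⟩
  rw [hxe]
  exact mul_mem haF (h.centU_le_fitting hu')

/-- The characters of `Q₀` and those of `C` trivial on `U'`. -/
theorem card_restHom :
    Nat.card ((kernelZero c.S c.U →* ℂˣ) × {σ : c.centU →* ℂˣ // ∀ d : c.centU, (d : G) ∈ ⁅c.U, c.U⁆ → σ d = 1}) =
      ⁅kernelZero c.S c.U, kernelZero c.S c.U⁆.relIndex (kernelZero c.S c.U) *
        ⁅c.U, c.U⁆.relIndex c.centU := by
  rw [Nat.card_prod]
  congr 1
  · let A := kernelZero c.S c.U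
    rw [Nat.card_congr (Abelianization.lift (G := kernelZero c.S c.U) (A := ℂˣ)),
      card_hom fun a b => mul_comm a b, relIndex]
    show (_root_.commutator A).index = _
    congr 1
    refine map_injective A.subtype_injective ?_
    rw [map_subtype_commutator, subgroupOf_map_subtype, inf_eq_left.mpr (commutator_le_self A)]
  · set B := ⁅c.U, c.U⁆.subgroupOf c.centU with hB
    have hBn : B.Normal := ⟨fun b hb d => by
      rw [hB, mem_subgroupOf] at hb ⊢
      rw [show ((d * b * d⁻¹ : c.centU) : G) = ⁅(d : G), (b : G)⁆ * b by simp [commutatorElement_def]]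
      exact mul_mem (commutator_mem_commutator d.2.1 b.2.1) hb⟩
    let q := QuotientGroup.mk' B
    have hcomm : ∀ a b : c.centU ⧸ B, a * b = b * a := by
      intro a b
      obtain ⟨a, rfl⟩ := QuotientGroup.mk_surjective a
      obtain ⟨b, rfl⟩ := QuotientGroup.mk_surjective b
      rw [← QuotientGroup.mk_mul, ← QuotientGroup.mk_mul, QuotientGroup.eq, hB, mem_subgroupOf]
      have := commutator_mem_commutator (inv_mem b.2.1 : (b : G)⁻¹ ∈ c.U) (inv_mem a.2.1 : (a : G)⁻¹ ∈ c.U)
      simpa [commutatorElement_def, mul_assoc] using this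
    refine ((Nat.card_congr
      { toFun := fun (σ : {σ : c.centU →* ℂˣ // ∀ d : c.centU, (d : G) ∈ ⁅c.U, c.U⁆ → σ d = 1}) => QuotientGroup.lift B σ.1 fun d hd => σ.2 d (mem_subgroupOf.mp hd)
        invFun := fun τ => ⟨τ.comp q, fun d hd => by
          show τ (q d) = 1
          rw [show q d = 1 from (QuotientGroup.eq_one_iff d).mpr (mem_subgroupOf.mpr hd), map_one]⟩
        left_inv := fun σ => Subtype.ext (MonoidHom.ext fun d => rfl)
        right_inv := fun τ => MonoidHom.ext fun d => by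
          obtain ⟨d, rfl⟩ := QuotientGroup.mk_surjective d
          rfl }).trans (card_hom hcomm)).trans ?_
    rfl

/-- `#free ≥ #free(Q₁) + (m - 1) #regular(Q₁)`. -/
theorem card_free_three :
    Nat.card {α : kernelOne c.S c.U →* ℂˣ // IsFree (kernelOne c.S c.U) c.U c.W₁ α} +
        (⁅kernelZero c.S c.U, kernelZero c.S c.U⁆.relIndex (kernelZero c.S c.U) *
          ⁅c.U, c.U⁆.relIndex c.centU - 1) *
          Nat.card {α : kernelOne c.S c.U →* ℂˣ // Regular (kernelOne c.S c.U) c.U α} ≤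
      Nat.card {ψ : Cfsg.fittingOf c.S →* ℂˣ // h.side.IsFree ψ} := by
  classical
  have := finite_hom (kernelOne c.S c.U)
  have := finite_hom (kernelZero c.S c.U)
  have := finite_hom c.centU
  have := finite_hom (Cfsg.fittingOf c.S)
  have : Finite (h.side.F →* ℂˣ) := finite_hom _
  have : Finite {ψ : Cfsg.fittingOf c.S →* ℂˣ // h.side.IsFree ψ} := Finite.of_injective _ Subtype.val_injective
  set Rst := (kernelZero c.S c.U →* ℂˣ) ×
    {σ : c.centU →* ℂˣ // ∀ d : c.centU, (d : G) ∈ ⁅c.U, c.U⁆ → σ d = 1}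
  let one : Rst := (1, ⟨1, fun _ _ => rfl⟩)
  have := Fintype.ofFinite Rst
  have hR : ⁅kernelZero c.S c.U, kernelZero c.S c.U⁆.relIndex (kernelZero c.S c.U) *
      ⁅c.U, c.U⁆.relIndex c.centU - 1 = Nat.card {r : Rst // r ≠ one} := by
    rw [← h.card_restHom, Nat.card_eq_fintype_card (α := {r : Rst // r ≠ one}), Fintype.card_subtype_compl,
      Fintype.card_subtype_eq, ← Nat.card_eq_fintype_card]
  rw [hR, ← Nat.card_prod, ← Nat.card_sum]
  refine Nat.card_le_card_of_injective (fun z => Sum.elim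
    (fun α => (⟨h.prodHom α.1 1 1, h.isFree_prodHom (fun u hu => α.2 u (mem_sup_left hu)) (fun _ _ => rfl)
      (Or.inl α.2)⟩ : {ψ : Cfsg.fittingOf c.S →* ℂˣ // h.side.IsFree ψ}))
    (fun z => ⟨h.prodHom z.2.1 z.1.1.1 z.1.1.2.1, h.isFree_prodHom z.2.2 z.1.1.2.2 (Or.inr (by
      by_contra hh
      push Not at hh
      exact z.1.2 (Prod.ext hh.1 (Subtype.ext hh.2))))⟩) z) ?_
  have key : ∀ {α α' : kernelOne c.S c.U →* ℂˣ} {β β' : kernelZero c.S c.U →* ℂˣ}
      {σ σ' : c.centU →* ℂˣ}, h.prodHom α β σ = h.prodHom α' β' σ' → α = α' ∧ β = β' ∧ σ = σ' := by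
    intro α α' β β' σ σ' e
    refine ⟨MonoidHom.ext fun a => ?_, MonoidHom.ext fun b => ?_, MonoidHom.ext fun d => ?_⟩
    · have h1 := DFunLike.congr_fun e ⟨a, h.kernelOne_le a.2⟩
      simpa [h.prodHom_mul α β σ a 1 1 ⟨a, h.kernelOne_le a.2⟩ (by simp),
        h.prodHom_mul α' β' σ' a 1 1 ⟨a, h.kernelOne_le a.2⟩ (by simp)] using h1
    · have h1 := DFunLike.congr_fun e ⟨b, h.kernelZero_le_fitting b.2⟩
      simpa [h.prodHom_mul α β σ 1 b 1 ⟨b, h.kernelZero_le_fitting b.2⟩ (by simp),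
        h.prodHom_mul α' β' σ' 1 b 1 ⟨b, h.kernelZero_le_fitting b.2⟩ (by simp)] using h1
    · have h1 := DFunLike.congr_fun e ⟨d, h.centU_le_fitting d.2⟩
      simpa [h.prodHom_mul α β σ 1 1 d ⟨d, h.centU_le_fitting d.2⟩ (by simp),
        h.prodHom_mul α' β' σ' 1 1 d ⟨d, h.centU_le_fitting d.2⟩ (by simp)] using h1
  rintro (α | z) (α' | z') e
  · exact congrArg Sum.inl (Subtype.ext (key (congrArg Subtype.val e)).1)
  · obtain ⟨-, h2, h3⟩ := key (congrArg Subtype.val e)
    exact absurd (Prod.ext h2.symm (Subtype.ext h3.symm)) z'.1.2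
  · obtain ⟨-, h2, h3⟩ := key (congrArg Subtype.val e)
    exact absurd (Prod.ext h2 (Subtype.ext h3)) z.1.2
  · obtain ⟨h1, h2, h3⟩ := key (congrArg Subtype.val e)
    exact congrArg Sum.inr (Prod.ext (Subtype.ext (Prod.ext h2 (Subtype.ext h3))) (Subtype.ext h1))

/-- `qN ≥ m #regular / idx`. -/
theorem qN_three_ge :
    ((⁅kernelZero c.S c.U, kernelZero c.S c.U⁆.relIndex (kernelZero c.S c.U) *
        ⁅c.U, c.U⁆.relIndex c.centU : ℕ) : ℝ) *
        (Nat.card {α : kernelOne c.S c.U →* ℂˣ // Regular (kernelOne c.S c.U) c.U α} : ℝ) / (c.idx : ℝ) ≤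
      h.side.qN := by
  have h1 := h.card_free_three
  have h2 := h.kernel.card_free_add
  set m := ⁅kernelZero c.S c.U, kernelZero c.S c.U⁆.relIndex (kernelZero c.S c.U) *
    ⁅c.U, c.U⁆.relIndex c.centU with hm
  have hm1 : 1 ≤ m := Nat.one_le_iff_ne_zero.mpr (mul_ne_zero index_ne_zero_of_finite index_ne_zero_of_finite)
  have hu : (0 : ℝ) < (c.idx : ℝ) := by exact_mod_cast h.side.u_pos
  have hp1 : 1 ≤ c.p := h.p_prime.one_lt.le
  have h1' := (Nat.cast_le (α := ℝ)).mpr h1
  push_cast [hm1] at h1'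
  have h2' := congrArg (Nat.cast (R := ℝ)) h2
  push_cast [hp1] at h2'
  rw [Side.qN, div_le_iff₀ hu]
  have e : ((c.p : ℝ) - 1 + (Nat.card {ψ : Cfsg.fittingOf c.S →* ℂˣ // h.side.IsFree ψ} : ℝ) / (c.idx : ℝ)) *
      (c.idx : ℝ) = ((c.p : ℝ) - 1) * (c.idx : ℝ) +
        (Nat.card {ψ : Cfsg.fittingOf c.S →* ℂˣ // h.side.IsFree ψ} : ℝ) := by
    field_simp
  show _ ≤ ((c.p : ℝ) - 1 + (Nat.card {ψ : Cfsg.fittingOf c.S →* ℂˣ // h.side.IsFree ψ} : ℝ) / (c.idx : ℝ)) * _
  rw [e]
  linarith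

/-- The same bound with `|S' : S''| / idx` as the factor. -/
theorem derived_index_eq :
    ⁅⁅c.S, c.S⁆, ⁅c.S, c.S⁆⁆.relIndex ⁅c.S, c.S⁆ =
      ⁅kernelZero c.S c.U, kernelZero c.S c.U⁆.relIndex (kernelZero c.S c.U) *
        ⁅c.U, c.U⁆.relIndex c.centU * c.idx := by
  rw [Final.derived_index c.S_typeP h.U_ne h.p_prime c.minimal.1, h.centU_eq, mul_assoc]

/-- In the diagonal case `qN ≥ p - 1 + q` and there is a free character. -/
theorem diag_facts {x : G} (D : Diag (kernelOne c.S c.U) c.U c.W₁ x) :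
    (c.p : ℝ) - 1 + c.q ≤ h.side.qN ∧ ∃ ψ, h.side.IsFree ψ := by
  have hreg := h.kernel.card_regular_diag D
  have hidx : c.idx ≤ (c.p - 1) ^ (c.q - 1) :=
    Nat.le_of_dvd (pow_pos (by have := h.p_prime.two_le; omega) _) (D.index_dvd_pow h.kernel)
  have hp1 : 1 ≤ c.p := h.p_prime.one_lt.le
  have hq : 1 ≤ c.q := h.q_prime.one_lt.le
  have hmul : c.idx * (c.p - 1 + c.q) ≤
      Nat.card {α : kernelOne c.S c.U →* ℂˣ // Regular (kernelOne c.S c.U) c.U α} :=
    (Nat.mul_le_mul_right _ hidx).trans hreg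
  set m := ⁅kernelZero c.S c.U, kernelZero c.S c.U⁆.relIndex (kernelZero c.S c.U) *
    ⁅c.U, c.U⁆.relIndex c.centU with hm
  have hm1 : 1 ≤ m := Nat.one_le_iff_ne_zero.mpr (mul_ne_zero index_ne_zero_of_finite index_ne_zero_of_finite)
  have hu : (0 : ℝ) < (c.idx : ℝ) := by exact_mod_cast h.side.u_pos
  refine ⟨le_trans ?_ h.qN_three_ge, ?_⟩
  · rw [le_div_iff₀ hu]
    have h3 := (Nat.cast_le (α := ℝ)).mpr (hmul.trans (Nat.le_mul_of_pos_left _ hm1))
    push_cast [hp1] at h3
    rw [mul_comm]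
    exact h3
  · by_contra hne
    push Not at hne
    have : IsEmpty {ψ : Cfsg.fittingOf c.S →* ℂˣ // h.side.IsFree ψ} := ⟨fun ψ => hne ψ.1 ψ.2⟩
    have h1 := h.card_free_three
    rw [Nat.card_of_isEmpty (α := {ψ : Cfsg.fittingOf c.S →* ℂˣ // h.side.IsFree ψ})] at h1
    have h2 := h.kernel.card_free_add
    have : c.idx * (c.p - 1 + c.q) ≤ (c.p - 1) * c.idx := by
      refine hmul.trans (h2.ge.trans ?_)
      show _ + (c.p - 1) * c.idx ≤ _
      omega
    have hpos : 0 < c.idx := h.side.u_pos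
    nlinarith

end Config.IsThree

end CfsgLib.OddLocal.FTFinal
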