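import Cfsg.Agent.Lib.OddLocal.Final.TypeThreeNorm
import Cfsg.Agent.Lib.OddLocal.Final.SideThreeCount
import Cfsg.Agent.Lib.OddLocal.Final.StepThreeTwo
import Cfsg.Agent.Lib.PGroups.Basic

/-!
Owner: helper27. The counting inputs of a side `S` of type III or IV whose partner `T` is of type II:

* `IsThree.galois`: the inequality of the mirror side leaves no room for the diagonal shape, so `U` is
  irreducible on the kernel, whence `U` is cyclic, `C_U(H) = 1` and `F(S) = H` is elementary of order `p ^ q`;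
* `IsThree.mass_derived`: the mass of `η(1, k)` on all of `S'`;
* `IsThree.massBound`: the data of Step 3 for the configuration with `S` and `T` exchanged.
-/

set_option autoImplicit false
set_option linter.unusedSectionVars false

open scoped commutatorElement ComplexConjugate

namespace CfsgLib.OddLocal.FTFinal

open Subgroup
open CfsgLib.Char CfsgLib.CyclicTI CfsgLib.TwoGroups
open CfsgLib.OddLocal.Final (kernelOne kernelZero IsGalois Diag Regular)
open Cfsg (classInner IsClassFunction indFun)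

variable {G : Type*} [Group G] [Fintype G]

theorem sq_lt_two_pow {q : ℕ} (hq : 11 ≤ q) : 5 * q ^ 2 < 2 ^ (q - 1) := by
  induction q, hq using Nat.le_induction with
  | base => norm_num
  | succ n hn ih =>
    obtain ⟨k, rfl⟩ : ∃ k, n = k + 1 := ⟨n - 1, by omega⟩
    simp only [Nat.add_sub_cancel, pow_succ] at *
    nlinarith

/-- The mirror inequality excludes the diagonal shape. -/
theorem diag_arith {p q u : ℕ} (hp : 7 ≤ p) (hpq : p + 2 ≤ q) (hq : 11 ≤ q) (hu : 2 * p + 1 ≤ u) {x y : ℝ}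
    (hx : x ≤ 1 / ((q : ℝ) - 1)) (hy : y ≤ 1 / ((2 : ℝ) ^ (q - 1) * ((p : ℝ) - 1 + q)))
    (h : (1 - x) / p ≤ q * y + 1 / q + 1 / ((p : ℝ) * u)) : False := by
  have hpR : (7 : ℝ) ≤ p := by exact_mod_cast hp
  have hqR : (p : ℝ) + 2 ≤ q := by exact_mod_cast hpq
  have huR : 2 * (p : ℝ) + 1 ≤ u := by exact_mod_cast hu
  have h5 : (5 : ℝ) * (q : ℝ) ^ 2 < (2 : ℝ) ^ (q - 1) := by exact_mod_cast sq_lt_two_pow hq
  have hx' : x ≤ 1 / ((p : ℝ) + 1) := hx.trans (one_div_le_one_div_of_le (by linarith) (by linarith))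
  have hu' : 1 / ((p : ℝ) * u) ≤ 1 / ((p : ℝ) * (2 * p + 1)) :=
    one_div_le_one_div_of_le (by positivity) (mul_le_mul_of_nonneg_left huR (by linarith))
  have hq' : 1 / (q : ℝ) ≤ 1 / ((p : ℝ) + 2) := one_div_le_one_div_of_le (by linarith) hqR
  have hqy : (q : ℝ) * y ≤ 1 / (5 * (q : ℝ) ^ 2) := by
    refine le_trans (mul_le_mul_of_nonneg_left hy (Nat.cast_nonneg _)) ?_
    rw [mul_one_div, div_le_div_iff₀ (mul_pos (by positivity) (by linarith)) (by nlinarith), one_mul]
    have : (q : ℝ) * (5 * (q : ℝ) ^ 2) ≤ ((p : ℝ) - 1 + q) * (2 : ℝ) ^ (q - 1) :=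
      mul_le_mul (by linarith) h5.le (by positivity) (by linarith)
    linarith
  have hq5 : 1 / (5 * (q : ℝ) ^ 2) < 1 / (5 * p * ((p : ℝ) + 1)) :=
    one_div_lt_one_div_of_lt (by positivity) (by nlinarith)
  have h1 : (1 - x) / p ≥ (1 - 1 / ((p : ℝ) + 1)) / p := div_le_div_of_nonneg_right (by linarith) (by linarith)
  have key : 1 / (5 * p * ((p : ℝ) + 1)) ≤
      (1 - 1 / ((p : ℝ) + 1)) / p - 1 / ((p : ℝ) + 2) - 1 / ((p : ℝ) * (2 * p + 1)) := by
    have e : (1 - 1 / ((p : ℝ) + 1)) / p - 1 / ((p : ℝ) + 2) - 1 / ((p : ℝ) * (2 * p + 1)) =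
        ((p : ℝ) ^ 2 - 2 * p - 2) / (p * (p + 1) * (p + 2) * (2 * p + 1)) := by
      have : (p : ℝ) ≠ 0 := by linarith
      have : (p : ℝ) + 1 ≠ 0 := by linarith
      have : (p : ℝ) + 2 ≠ 0 := by linarith
      have : 2 * (p : ℝ) + 1 ≠ 0 := by linarith
      field_simp
      ring
    rw [e, div_le_div_iff₀ (by positivity) (by positivity), one_mul]
    have h3 : (0 : ℝ) ≤ 5 * ((p : ℝ) ^ 2 - 2 * p - 2) - (p + 2) * (2 * p + 1) := by nlinarith
    nlinarith [mul_nonneg (mul_nonneg (show (0 : ℝ) ≤ p by linarith) (show (0 : ℝ) ≤ (p : ℝ) + 1 by linarith)) h3]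
  linarith

theorem six_cube_lt_three {q : ℕ} (hq : 11 ≤ q) : 6 * q ^ 3 < 3 ^ (q - 2) := by
  induction q, hq using Nat.le_induction with
  | base => norm_num
  | succ n hn ih =>
    obtain ⟨k, rfl⟩ : ∃ k, n = k + 2 := ⟨n - 2, by omega⟩
    rw [show k + 2 + 1 - 2 = k + 1 by omega, pow_succ (3 : ℕ)]
    rw [Nat.add_sub_cancel] at ih
    nlinarith [Nat.mul_le_mul_left ((k + 2) ^ 2) hn, Nat.mul_le_mul_left (k + 2) hn]

theorem six_cube_lt_five {q : ℕ} (hq : 7 ≤ q) : 6 * q ^ 3 < 5 ^ (q - 2) := by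
  induction q, hq using Nat.le_induction with
  | base => norm_num
  | succ n hn ih =>
    obtain ⟨k, rfl⟩ : ∃ k, n = k + 2 := ⟨n - 2, by omega⟩
    rw [show k + 2 + 1 - 2 = k + 1 by omega, pow_succ (5 : ℕ)]
    rw [Nat.add_sub_cancel] at ih
    nlinarith [Nat.mul_le_mul_left ((k + 2) ^ 2) hn, Nat.mul_le_mul_left (k + 2) hn]

/-- The mass of a class function splits over a class-invariant set. -/
theorem mass_split {F F' : Subgroup G} (hle : F ≤ F') (M : Subgroup G) (χ : G → ℂ)
    [DecidablePred (· ∈ conjSharp F)] :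
    mass F M χ + mass F' M (fun g => if g ∈ conjSharp F then 0 else χ g) ≤ mass F' M χ := by
  classical
  have := Fintype.ofFinite F'
  have hF : mass F M χ = mass F M (fun g => if g ∈ conjSharp F then χ g else 0) := by
    simp only [mass]
    refine congrArg _ (finsum_congr fun f => ?_)
    by_cases hf : f = 1
    · rw [if_pos hf, if_pos hf]
    · rw [if_neg hf, if_neg hf, if_pos ⟨1, f, f.2, fun e => hf (Subtype.ext e), by group⟩]
  rw [hF]
  refine le_trans (add_le_add (mass_le_of_le hle M _) le_rfl) (le_of_eq ?_)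
  simp only [mass, finsum_eq_sum_of_fintype, ← mul_add, ← Finset.sum_add_distrib]
  refine congrArg _ (Finset.sum_congr rfl fun f _ => ?_)
  by_cases hf : f = 1
  · simp only [if_pos hf, add_zero]
  · simp only [if_neg hf]
    by_cases hm : (f : G) ∈ conjSharp F
    · simp only [if_pos hm, map_zero, add_zero]
    · simp only [if_neg hm, map_zero, zero_add]

namespace Config

variable {c : Config G}

namespace IsThree

variable (h : c.IsThree)
include h

theorem share_der : ((Nat.card c.der : ℝ) - 1) / Nat.card c.S ≤ 1 / c.q := by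
  rw [h.card_S_der, Nat.cast_mul]
  have hq : (0 : ℝ) < c.q := by exact_mod_cast h.q_prime.pos
  have : (0 : ℝ) < Nat.card c.der := Nat.cast_pos.mpr Nat.card_pos
  rw [div_le_div_iff₀ (by positivity) hq]
  nlinarith

/-- The diagonal shape is impossible. -/
theorem not_diag {x₀ : G} (D : Diag (kernelOne c.S c.U) c.U c.W₁ x₀) : False := by
  classical
  have := CyclicTI.finite_hom c.W₁
  have := CyclicTI.finite_hom c.W₂
  have := Fintype.ofFinite (c.W₁ →* ℂˣ)
  have := Fintype.ofFinite (c.W₂ →* ℂˣ)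
  have hdvd := D.index_dvd_pow h.kernel
  have hodd : Odd c.idx :=
    (c.minimal.1.of_dvd_nat (card_subgroup_dvd_card c.U)).of_dvd_nat ⟨_, ((mul_comm _ _).trans h.idx_mul).symm⟩
  have hidx := h.idx_large
  have hpodd := Nat.odd_iff.mp (c.minimal.1.of_dvd_nat (card_subgroup_dvd_card c.W₂) : Odd c.p)
  have hp3 := c.p_ge_three
  have hp7 : 7 ≤ c.p := by
    by_contra hlt
    have h2 : c.idx ∣ 2 ^ (2 * (c.q - 1)) := by
      refine hdvd.trans ?_
      rw [pow_mul]
      rcases (show c.p = 3 ∨ c.p = 5 by omega) with e | e <;> rw [e]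
      · exact pow_dvd_pow_of_dvd (by norm_num) _
      · exact dvd_of_eq (by norm_num)
    have := Nat.eq_one_of_dvd_coprimes
      ((Nat.coprime_two_right.mpr hodd).pow_right (2 * (c.q - 1))) dvd_rfl h2
    have := c.q_ge_three
    omega
  have hqodd := Nat.odd_iff.mp (h.q_prime.odd_of_ne_two (by have := c.q_ge_three; omega))
  have hlt := h.lt
  have hq11 : 11 ≤ c.q := by
    by_contra h11
    have : c.q = 9 := by omega
    exact absurd (this ▸ h.q_prime) (by norm_num)
  obtain ⟨-, ψ, hψ⟩ := h.diag_facts D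
  obtain ⟨j, hj⟩ := hdvd
  have hj' : 2 ^ (c.q - 1) ∣ j := two_pow_dvd_of (Nat.odd_iff.mpr hpodd) hodd hj
  have hj0 : 0 < j := Nat.pos_of_ne_zero fun e => by
    rw [e, mul_zero] at hj
    exact pow_ne_zero _ (by omega) hj
  have hreg : c.idx * 2 ^ (c.q - 1) * (c.p - 1 + c.q) ≤
      Nat.card {α : kernelOne c.S c.U →* ℂˣ // Regular (kernelOne c.S c.U) c.U α} :=
    le_trans (Nat.mul_le_mul_right _ ((Nat.mul_le_mul_left _ (Nat.le_of_dvd hj0 hj')).trans hj.ge))
      (h.kernel.card_regular_diag D)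
  have hqN : (2 : ℝ) ^ (c.q - 1) * ((c.p : ℝ) - 1 + c.q) ≤ h.side.qN := by
    refine le_trans ?_ h.qN_three_ge
    have hu : (0 : ℝ) < (c.idx : ℝ) := by exact_mod_cast h.side.u_pos
    have h1 := (Nat.cast_le (α := ℝ)).mpr (hreg.trans (Nat.le_mul_of_pos_left _
      (Nat.pos_of_ne_zero (mul_ne_zero index_ne_zero_of_finite index_ne_zero_of_finite) :
        0 < ⁅kernelZero c.S c.U, kernelZero c.S c.U⁆.relIndex (kernelZero c.S c.U) *
          ⁅c.U, c.U⁆.relIndex c.centU)))
    push_cast [show 1 ≤ c.p by omega] at h1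
    rw [le_div_iff₀ hu]
    push_cast
    linarith
  have hy : h.side.y ≤ 1 / ((2 : ℝ) ^ (c.q - 1) * ((c.p : ℝ) - 1 + c.q)) :=
    one_div_le_one_div_of_le (mul_pos (by positivity) (by
      have : (7 : ℝ) ≤ c.p := by exact_mod_cast hp7
      have : (0 : ℝ) ≤ c.q := Nat.cast_nonneg _
      linarith)) hqN
  obtain ⟨hx, hmass⟩ := c.mass_swap_two h.tII h.q_prime
  obtain ⟨hu, hT⟩ := h.index_V
  set u := (centralizer (c.swap.H : Set G)).relIndex c.V
  have hcount := h.side.count rfl h.fitting_le_der h.isSide (isSide_typeTwo c.minimal c.T_max c.T_typeP h.tII)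
    h.p_prime hψ hmass (β := 0) (fun l _ => mass_nonneg h.tiDerived _)
  have hPT : ((Nat.card (Cfsg.fittingOf c.T) : ℝ) - 1) / Nat.card c.T ≤ 1 / ((c.p : ℝ) * u) := by
    rw [hT, Nat.cast_mul, Nat.cast_mul]
    have : (0 : ℝ) < Nat.card (Cfsg.fittingOf c.T) := Nat.cast_pos.mpr Nat.card_pos
    have : (0 : ℝ) < (c.p : ℝ) * u := by
      have : 0 < c.p * u := Nat.mul_pos (by omega) (by omega)
      exact_mod_cast this
    rw [div_le_div_iff₀ (by positivity) this]
    nlinarith
  have := h.share_der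
  have hg : (0 : ℝ) ≤ (Nat.card G : ℝ)⁻¹ := inv_nonneg.mpr (Nat.cast_nonneg _)
  exact diag_arith hp7 (by omega) hq11 hu hx hy (by linarith)

/-- `U` is irreducible on the kernel. -/
theorem galois : IsGalois (kernelOne c.S c.U) c.U :=
  h.kernel.galois_or_diag.resolve_right fun ⟨_, D⟩ => h.not_diag D

/-- `U` is cyclic and acts faithfully. -/
theorem U_cyclic : IsCyclic c.U ∧ c.centU = ⊥ := by
  obtain ⟨-, ⟨g, hg, hgen⟩, -, -, -⟩ := h.kernel.galois_facts h.galois
  have := c.S_typeP.U_nilpotent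
  have htop : zpowers (⟨g, hg⟩ : c.U) = ⊤ := by
    refine frattini_nongenerating (eq_top_iff.mpr fun u _ => ?_)
    obtain ⟨n, hn⟩ := hgen u u.2
    have hC : (g ^ n)⁻¹ * (u : G) ∈ ⁅c.U, c.U⁆ := by
      rw [← h.centU_eq_derived, h.centU_eq]
      exact mem_inf.mpr ⟨mul_mem (inv_mem (pow_mem hg n)) u.2, hn⟩
    rw [← map_subtype_commutator] at hC
    obtain ⟨z, hz, hze⟩ := hC
    have e : u = (⟨g, hg⟩ : c.U) ^ n * z := Subtype.ext (by
      show (u : G) = g ^ n * (z : G)
      rw [show (z : G) = (g ^ n)⁻¹ * u from hze, mul_inv_cancel_left])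
    rw [e]
    exact mul_mem (mem_sup_left (pow_mem (mem_zpowers _) n))
      (mem_sup_right (CfsgLib.PGroups.commutator_le_frattini hz))
  have hcyc : IsCyclic c.U := isCyclic_iff_exists_zpowers_eq_top.mpr ⟨_, htop⟩
  refine ⟨hcyc, h.centU_eq_derived.trans (commutator_eq_bot_iff_le_centralizer.mpr fun a ha => ?_)⟩
  have := IsCyclic.isMulCommutative (α := c.U)
  exact mem_centralizer_iff.mpr fun b hb => congrArg Subtype.val (this.is_comm.comm ⟨b, hb⟩ ⟨a, ha⟩)

theorem centU_eq_bot : c.centU = ⊥ := h.U_cyclic.2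

theorem idx_eq_card : c.idx = Nat.card c.U := by
  have e := h.idx_mul
  rwa [h.centU_eq_bot, card_bot, one_mul] at e

/-- `F(S) = H`. -/
theorem fitting_eq_hall : Cfsg.fittingOf c.S = Cfsg.fittingHallOf c.S := by
  rw [h.fitting_eq, h.centU_eq_bot, sup_bot_eq]

theorem fitting_card_pow : Nat.card (Cfsg.fittingOf c.S) = c.p ^ c.q := by
  rw [h.fitting_eq_hall, h.fittingHall_card]

theorem idx_mul_dvd : c.idx * (c.p - 1) ∣ c.p ^ c.q - 1 := (h.kernel.galois_facts h.galois).2.2.2.1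

theorem qN_ge_galois {j : ℕ} (hj : c.p ^ c.q - 1 = c.idx * (c.p - 1) * j) :
    ((c.p : ℝ) - 1) * j ≤ h.side.qN := by
  refine le_trans ?_ h.qN_three_ge
  have hu : (0 : ℝ) < (c.idx : ℝ) := by exact_mod_cast h.side.u_pos
  have h1 := (Nat.cast_le (α := ℝ)).mpr (((h.kernel.card_regular_galois h.galois).trans hj).ge.trans
    (Nat.le_mul_of_pos_left _
      (Nat.pos_of_ne_zero (mul_ne_zero index_ne_zero_of_finite index_ne_zero_of_finite) :
        0 < ⁅kernelZero c.S c.U, kernelZero c.S c.U⁆.relIndex (kernelZero c.S c.U) *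
          ⁅c.U, c.U⁆.relIndex c.centU)))
  push_cast [h.p_prime.one_lt.le] at h1
  rw [le_div_iff₀ hu]
  push_cast
  linarith

/-- `y + 1 / v ≤ 1 / (p - 1) + 1 / 121`. -/
theorem y_bound : h.side.y + 1 / (c.idx : ℝ) - 1 / 121 ≤ 1 / ((c.p : ℝ) - 1) := by
  classical
  have := CyclicTI.finite_hom c.W₁
  have := CyclicTI.finite_hom c.W₂
  have := Fintype.ofFinite (c.W₁ →* ℂˣ)
  have := Fintype.ofFinite (c.W₂ →* ℂˣ)
  have hp3 : (3 : ℝ) ≤ c.p := by exact_mod_cast c.p_ge_three
  rcases Nat.lt_or_ge c.idx 121 with hlt | hge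
  · obtain ⟨j, hj⟩ := h.idx_mul_dvd
    have hq5 : 5 ≤ c.q := by
      have := c.p_ge_three
      have := h.lt
      have := Nat.odd_iff.mp (h.q_prime.odd_of_ne_two (by omega))
      omega
    have hj2 : 2 ≤ j := by
      by_contra hj'
      have h1 : c.p ^ c.q - 1 ≤ c.idx * (c.p - 1) * 1 :=
        hj.le.trans (Nat.mul_le_mul_left _ (by omega))
      have h5 : c.p ^ 5 ≤ c.p ^ c.q := Nat.pow_le_pow_right (by have := c.p_ge_three; omega) hq5
      have h2 : c.idx * (c.p - 1) ≤ 120 * (c.p - 1) := Nat.mul_le_mul_right _ (by omega)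
      obtain ⟨a, ha⟩ : ∃ a, c.p = a + 3 := ⟨c.p - 3, by have := c.p_ge_three; omega⟩
      rw [ha] at h1 h2 h5
      have h6 : 243 + 405 * a ≤ (a + 3) ^ 5 := by ring_nf; omega
      simp only [show a + 3 - 1 = a + 2 by omega] at h1 h2
      omega
    have h1 : h.side.y ≤ 1 / (((c.p : ℝ) - 1) * 2) :=
      one_div_le_one_div_of_le (by linarith) (le_trans (mul_le_mul_of_nonneg_left
        (by exact_mod_cast hj2) (by linarith)) (h.qN_ge_galois hj))
    have h2 : 1 / (c.idx : ℝ) ≤ 1 / (((c.p : ℝ) - 1) * 2) := by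
      refine one_div_le_one_div_of_le (by linarith) ?_
      have : (2 * c.q + 1 : ℝ) ≤ c.idx := by exact_mod_cast h.idx_large
      have : (c.p : ℝ) ≤ c.q := by exact_mod_cast h.lt.le
      linarith
    have e : 1 / (((c.p : ℝ) - 1) * 2) = 1 / ((c.p : ℝ) - 1) / 2 := by rw [div_div]
    linarith
  · have h1 : 1 / (c.idx : ℝ) ≤ 1 / 121 := one_div_le_one_div_of_le (by norm_num) (by exact_mod_cast hge)
    have h2 := h.side.y_le
    linarith

/-- The linear characters of `S'` are trivial on `F(S)`. -/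
theorem hom_fitting (r : c.der →* ℂˣ) (f : c.der) (hf : (f : G) ∈ Cfsg.fittingOf c.S) : r f = 1 := by
  rw [← h.derived_two_eq, ← map_subtype_commutator] at hf
  obtain ⟨z, hz, hze⟩ := hf
  rw [← show z = f from Subtype.ext hze]
  exact Abelianization.commutator_subset_ker r hz

/-- A class function with a coefficient of absolute value one at every `Ind (1 - ξ)` has mass on `S' \ F(S)`. -/
theorem mass_off_fitting {θ : G → ℂ} (hθ : IsClassFunction G θ) {t : ℂ} (ht : Complex.normSq t = 1)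
    (hinner : ∀ r : c.der →* ℂˣ, r ≠ 1 → classInner (ind c.der 1 r) θ = t) :
    mass (Cfsg.fittingOf c.S) c.S θ + (1 - 1 / (c.idx : ℝ)) / c.q ≤ mass c.der c.S θ := by
  classical
  have := Fintype.ofFinite c.der
  obtain ⟨R, hR1, hR2, -, hR4⟩ := h.exists_orbitReps
  set χ : G → ℂ := fun g => if g ∈ conjSharp (Cfsg.fittingOf c.S) then 0 else θ g with hχdef
  have hsplit : mass (Cfsg.fittingOf c.S) c.S θ + mass c.der c.S χ ≤ mass c.der c.S θ :=
    mass_split h.fitting_le_der c.S _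
  have hinv : ∀ g y : G, y * g * y⁻¹ ∈ conjSharp (Cfsg.fittingOf c.S) ↔ g ∈ conjSharp (Cfsg.fittingOf c.S) := by
    intro g y
    simp only [mem_conjSharp, ne_eq, conj_eq_one_iff]
    refine and_congr_right fun _ => ⟨fun ⟨z, hz⟩ => ⟨z * y, ?_⟩, fun ⟨z, hz⟩ => ⟨z * y⁻¹, ?_⟩⟩
    · simpa [mul_assoc] using hz
    · simpa [mul_assoc] using hz
  have hχc : IsClassFunction G χ := fun g y => by
    simp only [hχdef, hinv, hθ g y]
  set φ : c.der → ℂ := ∑ r ∈ R, linDiff (1 : c.der →* ℂˣ) r with hφdef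
  have hφ : φ 1 = 0 := by
    rw [hφdef, Finset.sum_apply, Finset.sum_eq_zero fun r _ => linDiff_one _ _]
  have hΦ : indFun c.der φ = ∑ r ∈ R, ind c.der 1 r := by
    rw [hφdef, indFun_sum]
    rfl
  have hin : ∀ r ∈ R, classInner (ind c.der 1 r) χ = t := by
    intro r hr
    rw [← hinner r (hR1 r hr), FTFinal.ind, frobenius_reciprocity _ _ hχc, frobenius_reciprocity _ _ hθ]
    simp only [classInner]
    refine congrArg _ (Finset.sum_congr rfl fun f _ => ?_)
    by_cases hm : (f : G) ∈ conjSharp (Cfsg.fittingOf c.S)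
    · obtain ⟨y, a, ha, ha1, e⟩ := hm
      have hy : y ∈ c.S := h.tiDerived.ti y a (h.fitting_le_der ha) ha1 (e ▸ f.2)
      have hfF : (f : G) ∈ Cfsg.fittingOf c.S := e ▸ h.tiFitting.conj_mem y hy a ha
      simp [linDiff, h.hom_fitting r f hfF]
    · simp only [hχdef, if_neg hm]
  have hΦχ : classInner (indFun c.der φ) χ = (R.card : ℂ) * t := by
    rw [hΦ, classInner_sum_left, Finset.sum_congr rfl hin, Finset.sum_const, nsmul_eq_mul]
  have hΦΦ : classInner (indFun c.der φ) (indFun c.der φ) =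
      (((R.card : ℝ) * ((R.card : ℝ) * c.q + 1) : ℝ) : ℂ) := by
    rw [hΦ, classInner_sum_left, Finset.sum_congr rfl (g := fun _ => (R.card : ℂ) * c.q + 1) fun a ha => by
        rw [classInner_sum_right, Finset.sum_congr rfl (g := fun b => (c.q : ℂ) + if b = a then 1 else 0)
          fun b hb => by
            rw [h.inner_G1 (hR1 a ha) (hR1 b hb)]
            split_ifs with hba
            · subst hba; rw [h.orb_self (hR1 b hb)]; push_cast; ring
            · rw [h.orb_zero fun x e => hba (hR2 a ha b hb x e).symm]; push_cast; ring,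
          Finset.sum_add_distrib, Finset.sum_const, Finset.sum_ite_eq', if_pos ha, nsmul_eq_mul],
      Finset.sum_const, nsmul_eq_mul]
    push_cast; ring
  have hcs := normSq_inner_le h.tiDerived hφ hχc
  rw [hΦχ, hΦΦ, Complex.ofReal_re, Complex.normSq_mul, ht, mul_one, Complex.normSq_natCast] at hcs
  have hv := h.idx_large
  have hvN : c.idx ≤ c.q * R.card + 1 := h.idx_le_relIndex.trans hR4
  have hN : (1 : ℝ) ≤ R.card := by
    have : 1 ≤ R.card := by
      by_contra hlt
      rw [show R.card = 0 by omega, mul_zero] at hvN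
      have := c.q_ge_three
      omega
    exact_mod_cast this
  have hq : (0 : ℝ) < c.q := by exact_mod_cast h.q_prime.pos
  have hm0 : (R.card : ℝ) ≤ ((R.card : ℝ) * c.q + 1) * mass c.der c.S χ :=
    le_of_mul_le_mul_left (by linarith) (lt_of_lt_of_le one_pos hN)
  have hder : (1 - 1 / (c.idx : ℝ)) / c.q ≤ mass c.der c.S χ := by
    have hvR : (c.idx : ℝ) ≤ c.q * R.card + 1 := by exact_mod_cast hvN
    have hv0 : (0 : ℝ) < c.idx := by exact_mod_cast (show 0 < c.idx by omega)
    refine le_trans ?_ ((div_le_iff₀' (by positivity)).mpr hm0)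
    rw [one_sub_div hv0.ne', div_div, div_le_div_iff₀ (by positivity) (by positivity)]
    nlinarith
  linarith

/-- The mass of `η(1, k)` on all of `S'`. -/
theorem mass_derived {k : c.W₂ →* ℂˣ} (hk : k ≠ 1) :
    (2 - h.side.y - 1 / (c.idx : ℝ)) / c.q ≤ mass c.der c.S (c.eta 1 k) := by
  classical
  have := CyclicTI.finite_hom c.W₁
  have := CyclicTI.finite_hom c.W₂
  have := Fintype.ofFinite (c.W₁ →* ℂˣ)
  have := Fintype.ofFinite (c.W₂ →* ℂˣ)
  have hF : (1 - h.side.y) / c.q ≤ mass (Cfsg.fittingOf c.S) c.S (c.eta 1 k) := h.side.mass_eta 1 hk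
  have := h.mass_off_fitting (c.eta_isClassFunction 1 k) Complex.normSq_one
    fun r hr => (h.col.2 r hr 1 k).trans (if_pos rfl)
  rw [show (2 - h.side.y - 1 / (c.idx : ℝ)) / c.q = (1 - h.side.y) / c.q + (1 - 1 / (c.idx : ℝ)) / c.q by ring]
  linarith

/-- The mass of a free constituent on all of `S'`. -/
theorem mass_Z_derived [Fintype (c.W₁ →* ℂˣ)] {ψ : h.side.F →* ℂˣ} (hψ : h.side.IsFree ψ) {eps : ℤ}
    {Z : G → ℂ} (hZ : h.side.FreeRule ψ eps Z) :
    1 - c.q * h.side.y + (1 - 1 / (c.idx : ℝ)) / c.q ≤ mass c.der c.S Z := by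
  classical
  have := CyclicTI.finite_hom c.W₁
  have := CyclicTI.finite_hom c.W₂
  have := Fintype.ofFinite (c.W₂ →* ℂˣ)
  have hZc : IsClassFunction G Z := by
    rcases hZ.signed with h' | h'
    · exact IsIrr.isClassFunction h'
    · intro g x; simpa using IsIrr.isClassFunction h' g x
  obtain ⟨j, hj, -⟩ := Side.exists_third (c := c) (j := 1)
  have ht : Complex.normSq (-(eps : ℂ)) = 1 := by
    rcases hZ.sign with e | ⟨e, -⟩ <;> rw [e] <;> simp
  have hinner : ∀ r : c.der →* ℂˣ, r ≠ 1 → classInner (ind c.der 1 r) Z = -(eps : ℂ) := by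
    intro r hr
    have := Fintype.ofFinite (Cfsg.fittingOf c.S)
    have := Fintype.ofFinite c.der
    have := Fintype.ofFinite c.S
    have hzero : ∀ f : Cfsg.fittingOf c.S, ind c.der 1 r f = 0 := by
      intro f
      by_cases hf : f = 1
      · rw [hf, OneMemClass.coe_one, ind_apply_one]
      · have hfd : (f : G) ∈ c.der := h.fitting_le_der f.2
        rw [FTFinal.ind, indFun_apply_mem h.tiDerived (linDiff 1 r) (f := ⟨f, hfd⟩)
          (fun e => hf (Subtype.ext (congrArg Subtype.val e : _))), Finset.sum_eq_zero, mul_zero]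
        intro x _
        simp only [linDiff]
        rw [h.hom_fitting r _ (by simpa using h.tiFitting.conj_mem _ (inv_mem x.2) _ f.2)]
        simp
    have h0 : classInner (ind c.der 1 r) (ind h.side.F (h.side.psi j) ψ) = 0 := by
      rw [← classInner_conj_symm]
      show conj (classInner (indFun h.side.F (linDiff (h.side.psi j) ψ)) (ind c.der 1 r)) = 0
      rw [frobenius_reciprocity _ _ (ind_isClassFunction 1 r)]
      simp only [classInner]
      rw [Finset.sum_eq_zero, mul_zero, map_zero]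
      intro f _
      rw [show ind c.der 1 r (f : G) = 0 from hzero f, map_zero, mul_zero]
    have h1 : classInner (ind c.der 1 r) (Side.col c (Side.tw eps j)) = 1 := by
      rw [Side.inner_col, Finset.sum_congr rfl fun l _ => h.col.2 r hr l (Side.tw eps j), Finset.sum_ite_eq',
        if_pos (Finset.mem_univ _)]
    rw [hZ.eq j hj, classInner_add_right, classInner_smul_right, h1, map_intCast] at h0
    linear_combination h0
  have := h.mass_off_fitting hZc ht hinner
  have hF : 1 - c.q * h.side.y ≤ mass (Cfsg.fittingOf c.S) c.S Z := h.side.mass_Z hψ hZ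
  linarith

/-- The data of Step 3 of the exchanged configuration. -/
theorem massBound : c.swap.MassBound c.der 121 (h.side.y + 1 / (c.idx : ℝ) - 1 / 121) where
  side := h.isSide
  bound := h.y_bound
  mass l hl := by
    classical
    show _ / (c.q : ℝ) + ((Nat.card c.der : ℝ) - 1) / Nat.card c.S ≤ mass c.der c.S (c.swap.eta l 1)
    have e : c.swap.eta l (1 : c.W₁ →* ℂˣ) = c.eta 1 l := c.eta_swap 1 l
    rw [show c.swap.eta l 1 = c.eta 1 l from e]
    refine le_trans ?_ (h.mass_derived (k := l) hl)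
    have h1 := h.share_der
    have hq : (0 : ℝ) < c.q := by exact_mod_cast h.q_prime.pos
    push_cast
    rw [show (2 - h.side.y - 1 / (c.idx : ℝ)) / c.q = (1 - h.side.y - 1 / (c.idx : ℝ)) / c.q + 1 / c.q by ring]
    refine add_le_add (div_le_div_of_nonneg_right ?_ hq.le) h1
    linarith

/-- `(1 - x - 1 / u) / p ≤ q y + y / (q v²)`: the mirror inequality on all of `S'`. -/
theorem mirror_ineq {ψ : h.side.F →* ℂˣ} (hψ : h.side.IsFree ψ) :
    (1 / (c.p : ℝ)) * (1 - (c.swap.sideTwo h.tII h.q_prime).y -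
        1 / ((centralizer (c.swap.H : Set G)).relIndex c.V : ℝ)) ≤
      c.q * h.side.y + h.side.y / (c.q * (c.idx : ℝ) ^ 2) := by
  classical
  have := CyclicTI.finite_hom c.W₁
  have := CyclicTI.finite_hom c.W₂
  have := Fintype.ofFinite (c.W₁ →* ℂˣ)
  have := Fintype.ofFinite (c.W₂ →* ℂˣ)
  obtain ⟨-, hmass⟩ := c.mass_swap_two h.tII h.q_prime
  obtain ⟨hu, hT⟩ := h.index_V
  set u := (centralizer (c.swap.H : Set G)).relIndex c.V
  set x := (c.swap.sideTwo h.tII h.q_prime).y
  have hF : 1 / ((c.q : ℝ) * ((c.idx : ℝ) + h.side.y)) = 1 / ((c.q : ℝ) * (h.side.u + h.side.y)) := rfl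
  have hcount := h.side.count_extra rfl h.fitting_le_der h.isSide
    (isSide_typeTwo c.minimal c.T_max c.T_typeP h.tII) h.p_prime hψ hmass
    (fun l _ => (h.side.mass_eta_axis₁ l).trans (mass_le_of_le h.fitting_le_der _ _))
    (fun eps Z hZ => h.mass_Z_derived hψ hZ)
  have hp0 : (0 : ℝ) < c.p := by exact_mod_cast h.p_prime.pos
  have hq0 : (0 : ℝ) < c.q := by exact_mod_cast h.q_prime.pos
  have hv : (0 : ℝ) < c.idx := by exact_mod_cast (show 0 < c.idx from h.side.u_pos)
  have hy := h.side.y_pos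
  have hu0 : (0 : ℝ) < u := by exact_mod_cast (show 0 < u by omega)
  have hPT : ((Nat.card (Cfsg.fittingOf c.T) : ℝ) - 1) / Nat.card c.T ≤ 1 / ((c.p : ℝ) * u) := by
    rw [hT, Nat.cast_mul, Nat.cast_mul]
    have : (0 : ℝ) < Nat.card (Cfsg.fittingOf c.T) := Nat.cast_pos.mpr Nat.card_pos
    rw [div_le_div_iff₀ (by positivity) (by positivity)]
    nlinarith
  have hkey : 1 / ((c.q : ℝ) * c.idx) - 1 / ((c.q : ℝ) * (c.idx + h.side.y)) ≤
      h.side.y / (c.q * (c.idx : ℝ) ^ 2) := by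
    rw [div_sub_div _ _ (by positivity) (by positivity), div_le_div_iff₀ (by positivity) (by positivity)]
    nlinarith [mul_pos (mul_pos hq0 hq0) (mul_pos hv (mul_pos hy hy))]
  have h1 := h.share_der
  have hg : (0 : ℝ) ≤ (Nat.card G : ℝ)⁻¹ := inv_nonneg.mpr (Nat.cast_nonneg _)
  rw [show (1 / (c.p : ℝ)) * (1 - x - 1 / (u : ℝ)) = (1 - x) / c.p - 1 / ((c.p : ℝ) * u) by field_simp]
  rw [show (1 - 1 / (c.idx : ℝ)) / c.q = 1 / (c.q : ℝ) - 1 / ((c.q : ℝ) * c.idx) by field_simp] at hcount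
  rw [← hF] at hcount
  linarith

/-- `|V : C_V(Q)| ≥ 31` when `(p, q) = (3, 5)`. -/
theorem index_V_three_five (hp : c.p = 3) (hq : c.q = 5) :
    31 ≤ (centralizer (c.swap.H : Set G)).relIndex c.V := by
  have K := c.swap.kernelTwo h.tII h.q_prime
  obtain ⟨hu, -⟩ := h.index_V
  have hodd := c.swap.odd_index h.tII h.q_prime
  change Odd ((centralizer (c.swap.H : Set G)).relIndex c.V) at hodd
  rcases K.galois_or_diag with hgal | ⟨x, D⟩
  · obtain ⟨-, -, -, hd, -⟩ := K.galois_facts hgal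
    change (centralizer (c.swap.H : Set G)).relIndex c.V * (c.q - 1) ∣ c.q ^ c.p - 1 at hd
    rw [hp, hq] at hd
    have h31 : (centralizer (c.swap.H : Set G)).relIndex c.V ∣ 31 :=
      Nat.dvd_of_mul_dvd_mul_right (show 0 < 4 by norm_num) (by simpa using hd)
    rcases (Nat.dvd_prime (by norm_num)).mp h31 with e | e <;> omega
  · have hd : (centralizer (c.swap.H : Set G)).relIndex c.V ∣ (c.q - 1) ^ (c.p - 1) := D.index_dvd_pow K
    rw [hp, hq] at hd
    have := Nat.eq_one_of_dvd_coprimes ((Nat.coprime_two_right.mpr hodd).pow_right 4) dvd_rfl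
      (by norm_num at hd ⊢; exact hd)
    omega

/-- `v` is large: `q (q p + 1) + 1 < v`. -/
theorem idx_lower : c.q * (c.q * c.p + 1) + 1 < c.idx := by
  classical
  have := CyclicTI.finite_hom c.W₁
  have := CyclicTI.finite_hom c.W₂
  have := Fintype.ofFinite (c.W₁ →* ℂˣ)
  have := Fintype.ofFinite (c.W₂ →* ℂˣ)
  have hp3 := c.p_ge_three
  have hlt := h.lt
  have hp := h.p_prime
  have hq := h.q_prime
  have hv := h.idx_large
  have hqodd := Nat.odd_iff.mp (hq.odd_of_ne_two (by omega))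
  have hpodd := Nat.odd_iff.mp (hp.odd_of_ne_two (by omega))
  obtain ⟨j, hj⟩ := h.idx_mul_dvd
  have hj0 : 0 < j := Nat.pos_of_ne_zero fun e => by
    rw [e, mul_zero] at hj
    have : 1 < c.p ^ c.q := Nat.one_lt_pow hq.ne_zero hp.one_lt
    omega
  have key : j ≤ 3 * c.q ∧ (c.p = 3 → c.q = 5 → j ≤ 10) := by
    by_cases hj1 : j ≤ 1
    · exact ⟨by omega, fun _ _ => by omega⟩
    obtain ⟨ψ, hψ⟩ : ∃ ψ, h.side.IsFree ψ := by
      by_contra hno
      push Not at hno
      have : IsEmpty {ψ : h.side.F →* ℂˣ // h.side.IsFree ψ} := ⟨fun ψ => hno ψ.1 ψ.2⟩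
      have h2 := h.qN_ge_galois hj
      rw [Side.qN, Nat.card_of_isEmpty (α := {ψ : h.side.F →* ℂˣ // h.side.IsFree ψ}), Nat.cast_zero,
        zero_div, add_zero] at h2
      have h3 : (0 : ℝ) < (c.p : ℝ) - 1 := by
        have : (3 : ℝ) ≤ c.p := by exact_mod_cast hp3
        linarith
      exact hj1 (by exact_mod_cast (mul_le_iff_le_one_right h3).mp h2)
    have hm := h.mirror_ineq hψ
    have hx := (c.mass_swap_two h.tII h.q_prime).1
    set x := (c.swap.sideTwo h.tII h.q_prime).y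
    have hu5 := h.index_V_three_five
    obtain ⟨hu, -⟩ := h.index_V
    set u := (centralizer (c.swap.H : Set G)).relIndex c.V
    have hpR : (3 : ℝ) ≤ c.p := by exact_mod_cast hp3
    have hqR : (5 : ℝ) ≤ c.q := by exact_mod_cast (show 5 ≤ c.q by omega)
    have hjR : (1 : ℝ) ≤ j := by exact_mod_cast hj0
    have hvR : (11 : ℝ) ≤ c.idx := by exact_mod_cast (show 11 ≤ c.idx by omega)
    have hy : h.side.y ≤ 1 / (((c.p : ℝ) - 1) * j) :=
      one_div_le_one_div_of_le (mul_pos (by linarith) (by linarith)) (h.qN_ge_galois hj)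
    have hy' : h.side.y / (c.q * (c.idx : ℝ) ^ 2) ≤ h.side.y / 605 :=
      div_le_div_of_nonneg_left h.side.y_pos.le (by norm_num) (by nlinarith)
    have hx' : x ≤ 1 / 4 := hx.trans (one_div_le_one_div_of_le (by norm_num) (by linarith))
    have main : ∀ a : ℝ, 0 ≤ a → a ≤ 1 - x - 1 / (u : ℝ) →
        a * (((c.p : ℝ) - 1) * j) ≤ c.p * (c.q + 1 / 605) := by
      intro a ha hale
      have h1 : a / c.p ≤ ((c.q : ℝ) + 1 / 605) * (1 / (((c.p : ℝ) - 1) * j)) := by
        refine le_trans ?_ ((hm.trans (add_le_add le_rfl hy')).trans ?_)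
        · rw [div_eq_inv_mul, ← one_div]
          exact mul_le_mul_of_nonneg_left hale (by positivity)
        · rw [show c.q * h.side.y + h.side.y / 605 = ((c.q : ℝ) + 1 / 605) * h.side.y by ring]
          exact mul_le_mul_of_nonneg_left hy (by positivity)
      rw [mul_one_div, div_le_div_iff₀ (by positivity) (mul_pos (by linarith) (by linarith))] at h1
      linarith
    refine ⟨?_, fun e3 e5 => ?_⟩
    · have h7 : (1 : ℝ) / u ≤ 1 / 7 :=
        one_div_le_one_div_of_le (by norm_num) (by exact_mod_cast (show 7 ≤ u by omega))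
      have h1 := main (17 / 28) (by norm_num) (by linarith)
      by_contra hgt
      have h2 : 3 * (c.q : ℝ) + 1 ≤ j := by exact_mod_cast (show 3 * c.q + 1 ≤ j by omega)
      nlinarith [mul_le_mul_of_nonneg_left h2 (show (0 : ℝ) ≤ (c.p : ℝ) - 1 by linarith)]
    · have h31 : (1 : ℝ) / u ≤ 1 / 31 :=
        one_div_le_one_div_of_le (by norm_num) (by exact_mod_cast hu5 e3 e5)
      have h1 := main (717 / 1000) (by norm_num) (by linarith)
      rw [e3, e5] at h1
      push_cast at h1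
      by_contra hgt
      have h2 : (11 : ℝ) ≤ j := by exact_mod_cast (show 11 ≤ j by omega)
      linarith
  obtain ⟨hjq, hj35⟩ := key
  by_contra hcon
  push Not at hcon
  by_cases h35 : c.p = 3 ∧ c.q = 5
  · obtain ⟨e3, e5⟩ := h35
    have := hj35 e3 e5
    rw [e3, e5] at hcon hj
    norm_num at hj
    have hd : c.idx ∣ 11 ^ 2 := ⟨j, by linarith⟩
    obtain ⟨i, hi, hi'⟩ := (Nat.dvd_prime_pow (by norm_num)).mp hd
    interval_cases i <;> simp_all <;> omega
  by_cases h37 : c.p = 3 ∧ c.q = 7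
  · obtain ⟨e3, e7⟩ := h37
    rw [e3, e7] at hcon hj
    norm_num at hj
    have hd : c.idx ∣ 1093 := ⟨j, by linarith⟩
    rcases (Nat.dvd_prime (by norm_num)).mp hd with e | e <;> omega
  have h6 : 6 * c.q ^ 3 < c.p ^ (c.q - 2) := by
    by_cases e3 : c.p = 3
    · rw [e3]
      refine six_cube_lt_three ?_
      by_contra hh
      have : c.q = 9 := by omega
      exact absurd (this ▸ hq) (by norm_num)
    · exact (six_cube_lt_five (by omega)).trans_le (Nat.pow_le_pow_left (by omega) _)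
  have h1 : c.p ^ c.q - 1 ≤ (2 * (c.p * c.q ^ 2)) * c.p * (3 * c.q) := by
    rw [hj]
    refine Nat.mul_le_mul (Nat.mul_le_mul ?_ (Nat.sub_le _ _)) hjq
    have e1 : c.q * (c.q * c.p + 1) + 1 = c.p * c.q ^ 2 + c.q + 1 := by ring
    have e2 : 3 * (5 * c.q) ≤ c.p * (c.q * c.q) :=
      Nat.mul_le_mul hp3 (Nat.mul_le_mul_right _ (by omega))
    rw [← sq] at e2
    omega
  have h2 : (6 * c.q ^ 3 + 1) * c.p ^ 2 ≤ c.p ^ c.q := by
    calc (6 * c.q ^ 3 + 1) * c.p ^ 2 ≤ c.p ^ (c.q - 2) * c.p ^ 2 := Nat.mul_le_mul_right _ h6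
      _ = c.p ^ c.q := by rw [← pow_add]; congr 1; omega
  have h3 : 9 ≤ c.p ^ 2 := by nlinarith
  have e : (2 * (c.p * c.q ^ 2)) * c.p * (3 * c.q) = 6 * c.q ^ 3 * c.p ^ 2 := by ring
  rw [e] at h1
  rw [add_mul, one_mul] at h2
  omega

end IsThree

end Config

end CfsgLib.OddLocal.FTFinal
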