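import Cfsg.Agent.Lib.OddLocal.Final.StepThreeTwo
import Cfsg.Agent.Lib.OddLocal.Final.TypeThreeCount

/-!
Owner: helper15. The assembly of the type III/IV case from the bound of Step 4 on the kernel.
-/

set_option autoImplicit false
set_option linter.unusedSectionVars false

namespace CfsgLib.OddLocal.FTFinal

open Subgroup
open CfsgLib.TwoGroups
open CfsgLib.OddLocal.Final (IsGalois Diag)

variable {G : Type*} [Group G] [Fintype G]

namespace Config

variable (c : Config G)

/-- `T` of type III or IV is impossible, given Step 4's bound on the kernel. -/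
theorem false_of_two_three_of (hS : Cfsg.IsOfTypeII c.S) (hT : Cfsg.IsOfTypeIII c.T ∨ Cfsg.IsOfTypeIV c.T)
    (hkb : c.SGalois → c.swap.IsThree → ∀ (L : Subgroup G), IsCoatom L → normalizer (c.U : Set G) ≤ L →
      ∀ y : G, L ⊓ c.T = c.W₁ ⊔ c.W₂.map (MulAut.conj y).toMonoidHom →
        Nat.card (Cfsg.fittingHallOf L) ≤ c.p * (Nat.card c.U + 1) + 1 ∨
        Nat.card (Cfsg.fittingHallOf L) ≤ c.p ^ 2 * c.q ^ 2 + c.p ^ 2 + 1 ∨
        (c.p = 5 ∧ c.q = 3 ∧ Nat.card (Cfsg.fittingHallOf L) ≤ 368) ∨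
        IsCyclic (Cfsg.fittingHallOf L)) : False := by
  have h : c.swap.IsThree := ⟨hT, hS⟩
  have hp : c.p.Prime := h.q_prime
  have hq : c.q.Prime := h.p_prime
  have hlt : c.q < c.p := h.lt
  have hQ : Cfsg.IsElementaryAbelian c.q (Cfsg.fittingHallOf c.T) := h.fittingHall_elementary
  have hVC : c.V ⊓ centralizer (Cfsg.fittingHallOf c.T : Set G) = ⊥ := h.centU_eq_bot
  have hmass := h.massBound
  rcases c.cases_of_lt hS hp hlt hmass le_rfl with ⟨hg, i, hi, hi'⟩ | ⟨-, hC, hnc, x, D⟩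
  · have hU := (Final.typeTwo_facts c.S_typeP hS).1
    obtain ⟨L, hL, hN⟩ := (eq_top_or_exists_le_coatom _).resolve_left
      (TransitivityHyp.normalizer_ne_top c.minimal hU (fun e => c.S_max.1 (eq_top_iff.mpr (e.ge.trans
        (c.S_typeP.U_compl.2.1.trans (commutator_le_self c.S))))))
    rcases Final.complement_cases c.minimal c.S_max c.T_max c.S_typeP c.T_typeP hS hp hq hU
        hQ.1 (fun a ha => hQ.2 a ha) hVC hL hN with hE | ⟨y, hy, hE⟩
    · exact false_of_compl_eq hg (colBound_two hg) hL hN hE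
    · exact false_of_kernel_bound hg hi hi' hQ.1 hL hN hy (hE ▸ le_sup_right) (hkb hg h L hL hN y hE)
  · exact c.false_of_diag hS hp hq hlt hC hnc D hQ.1 (fun a ha => hQ.2 a ha) hVC

end Config

end CfsgLib.OddLocal.FTFinal
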