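import Cfsg.Agent.Lib.OddLocal.Final.Setup
import Cfsg.Agent.Lib.OddLocal.Frob12.TypePairs
import Cfsg.Agent.S1502
import Cfsg.Agent.S1541

/-!
Owner: helper5. The read-off of the odd order endgame: the standing data `Config` exists in every minimal
simple group of odd order, and the absence of such groups gives the solvability of all groups of odd order.
-/

set_option autoImplicit false
set_option linter.unusedSectionVars false

namespace CfsgLib.OddLocal.FTFinal

open Subgroup
open CfsgLib.TwoGroups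

universe u

variable {G : Type u} [Group G] [Finite G] {M K U : Subgroup G}

/-- Every maximal subgroup with `K ≠ 1` carries type P data on `K` and `C_{M_σ}(K)`. -/
theorem exists_typePWith (hG : Cfsg.IsMinSimpleOddOrder G) (hM : IsCoatom M)
    (h : Cfsg.IsSigmaDecomposition M K U) (hK : K ≠ ⊥) :
    ∃ V, Cfsg.IsTypePWith M K V (Cfsg.sigmaCore M ⊓ centralizer (K : Set G)) := by
  have hDM : ⁅M, M⁆ ≤ M := Subgroup.commutator_le_self M
  obtain ⟨V, hV, hKV⟩ := HallComplements.exists_invariant (A := K) (H := Cfsg.fittingHallOf M) (M := ⁅M, M⁆)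
    (Core.isSolvable_of_le (hG.2.2.2 M hM.1) hDM) (TypePData.fittingHall_le hG hM)
    (hDM.trans (FittingStructure.le_normalizer_fittingHallOf M)) (TypePData.coprime_fittingHall hG hM)
    (h.hall.1.trans (TypePData.le_normalizer_derived M))
    (h.hall.1.trans (FittingStructure.le_normalizer_fittingHallOf M)) (TypePData.coprime_K_derived hG hM h hK)
  exact ⟨V, TypePData.isTypePWith hG hM h hK (TypeTwoThree.nilpotent_compl hG hM hV) hKV hV⟩

/-- The standing data exists, with `S` of type II and `T` of type II, III, IV or V. -/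
theorem exists_config [Fintype G] (hG : Cfsg.IsMinSimpleOddOrder G) :
    ∃ c : Config G, Cfsg.IsOfTypeII c.S ∧
      (Cfsg.IsOfTypeII c.T ∨ Cfsg.IsOfTypeIII c.T ∨ Cfsg.IsOfTypeIV c.T ∨ Cfsg.IsOfTypeV c.T) := by
  obtain ⟨S, hS, hnI⟩ := Cfsg.Agent.S1541.result hG
  obtain ⟨K, U, h⟩ := DadeSupport.exists_decomposition hG hS
  have hK : K ≠ ⊥ := fun e => hnI (Frob12.isOfTypeI hG hS h e)
  obtain ⟨T, ⟨hT, hKst, hKstH⟩, -⟩ := Cfsg.Agent.S1366.result hG S hS K U h hK
  obtain ⟨hKsc, hKs1, -, -⟩ := Cfsg.Agent.S1364.result hG S hS K U h hK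
  obtain ⟨⟨U', h'⟩, -⟩ := Cfsg.Agent.S1352.result hG T hT _ hKsc hKstH
  obtain ⟨hor, -⟩ := Cfsg.Agent.S1369.result hG S hS K U h hK T hT hKst hKstH
  obtain ⟨VS, hSP⟩ := exists_typePWith hG hS h hK
  obtain ⟨VT, hTP'⟩ := exists_typePWith hG hT h' hKs1
  have hTP : Cfsg.IsTypePWith T (Cfsg.sigmaCore S ⊓ centralizer (K : Set G)) VT K := by
    convert hTP' using 1
    exact hKst
  have hodd : ∀ X : Subgroup G, Odd (Nat.card X) := fun X => hG.1.of_dvd_nat X.card_subgroup_dvd_card
  rcases hor with hU | hU'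
  · obtain ⟨χ, hχ⟩ := Cfsg.Agent.S1502.result K _ hSP.selfNormalizing (hodd _)
    exact ⟨⟨S, T, K, _, VS, VT, hG, hS, hT, hSP, hTP, χ, hχ⟩, TypeTwoThree.typeTwo hG hS h hK hU,
      Frob12.type_cases hG hT h' hKs1⟩
  · obtain ⟨χ, hχ⟩ := Cfsg.Agent.S1502.result _ _ hTP.selfNormalizing (hodd _)
    exact ⟨⟨T, S, _, K, VT, VS, hG, hT, hS, hTP, hSP, χ, hχ⟩,
      TypeTwoThree.typeTwo hG hT h' hKs1 (hU' U' h'), Frob12.type_cases hG hS h hK⟩

/-- A contradiction from the standing data excludes minimal simple groups of odd order. -/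
theorem not_minSimpleOdd
    (hfalse : ∀ [Fintype G] (c : Config G), Cfsg.IsOfTypeII c.S →
      (Cfsg.IsOfTypeII c.T ∨ Cfsg.IsOfTypeIII c.T ∨ Cfsg.IsOfTypeIV c.T ∨ Cfsg.IsOfTypeV c.T) → False) :
    ¬ Cfsg.IsMinSimpleOddOrder G := fun hG => by
  have := Fintype.ofFinite G
  obtain ⟨c, h1, h2⟩ := exists_config hG
  exact hfalse c h1 h2

/-- Without minimal simple groups of odd order every group of odd order is solvable. -/
theorem isSolvable_of_odd (hno : ∀ (H : Type u) [Group H] [Finite H], ¬ Cfsg.IsMinSimpleOddOrder H)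
    (hodd : Odd (Nat.card G)) : Group.IsSolvable G := by
  suffices key : ∀ (n : ℕ) (H : Type u) [Group H] [Finite H], Nat.card H = n → Odd n → Group.IsSolvable H from
    key _ G rfl hodd
  intro n
  induction n using Nat.strong_induction_on with
  | _ n ih =>
    intro H _ _ hn hno'
    by_contra hns
    have hsub : ∀ X : Subgroup H, X ≠ ⊤ → Group.IsSolvable X := fun X hX => by
      have hlt : Nat.card X < n := hn ▸ lt_of_le_of_ne (Subgroup.card_le_card_group X)
        (fun e => hX (Subgroup.eq_top_of_card_eq X e))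
      exact ih _ hlt X rfl (hno'.of_dvd_nat (hn ▸ X.card_subgroup_dvd_card))
    have hnc : ¬ IsMulCommutative H := fun h => hns (Group.isSolvable_of_comm fun a b => h.is_comm.comm a b)
    have hnt : Nontrivial H := by
      by_contra hnt
      have := not_nontrivial_iff_subsingleton.mp hnt
      exact hns inferInstance
    refine hno H ⟨hn ▸ hno', ⟨fun N hN => or_iff_not_imp_right.mpr fun hNtop => ?_⟩, hnc, hsub⟩
    by_contra hNbot
    have := hN
    have h1 : Group.IsSolvable N := hsub N hNtop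
    have hq : Nat.card (H ⧸ N) < n := by
      rw [← hn, ← Subgroup.index_eq_card, ← Subgroup.index_bot]
      exact Subgroup.index_strictAnti (bot_lt_iff_ne_bot.mpr hNbot)
    have h2 : Group.IsSolvable (H ⧸ N) := ih _ hq (H ⧸ N) rfl
      (hno'.of_dvd_nat (hn ▸ N.card_quotient_dvd_card))
    exact hns (Group.isSolvable_of_ker_le_range N.subtype (QuotientGroup.mk' N)
      (by rw [QuotientGroup.ker_mk', N.range_subtype]))

end CfsgLib.OddLocal.FTFinal
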