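import Cfsg.Agent.Lib.OddLocal.Final.Swap
import Cfsg.Agent.Lib.OddLocal.Final.ReadOff
import Cfsg.Agent.Lib.OddLocal.Final.Finish

/-!
Owner: helper15. The case division of the endgame: two subgroups of type II ordered by `q < p`, type III/IV,
type V.
-/

set_option autoImplicit false
set_option linter.unusedSectionVars false

namespace CfsgLib.OddLocal.FTFinal

open CfsgLib.OddLocal.Final (typeTwo_facts)

namespace Config

variable {G : Type*} [Group G] [Fintype G]

theorem q_prime_of_typeTwo (c : Config G) (hII : Cfsg.IsOfTypeII c.S) : c.q.Prime :=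
  (typeTwo_facts c.S_typeP hII).2.1

theorem p_prime_of_typeTwo (c : Config G) (hT : Cfsg.IsOfTypeII c.T) : c.p.Prime :=
  (typeTwo_facts c.T_typeP hT).2.1

/-- Two subgroups of type II may be ordered by `q < p`. -/
theorem exists_ordered (c : Config G) (hS : Cfsg.IsOfTypeII c.S) (hT : Cfsg.IsOfTypeII c.T) :
    ∃ c' : Config G, Cfsg.IsOfTypeII c'.S ∧ Cfsg.IsOfTypeII c'.T ∧ c'.q < c'.p := by
  have hne : c.q ≠ c.p := fun e => by
    have h := c.coprime_q_p
    rw [e, Nat.coprime_self] at h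
    exact (c.p_prime_of_typeTwo hT).ne_one h
  rcases lt_or_gt_of_ne hne with h | h
  · exact ⟨c, hS, hT, h⟩
  · exact ⟨c.swap, hT, hS, h⟩

/-- The case division. -/
theorem false_of_cases (c : Config G) (hS : Cfsg.IsOfTypeII c.S)
    (hT : Cfsg.IsOfTypeII c.T ∨ Cfsg.IsOfTypeIII c.T ∨ Cfsg.IsOfTypeIV c.T ∨ Cfsg.IsOfTypeV c.T)
    (hFive : ∀ c : Config G, Cfsg.IsOfTypeII c.S → Cfsg.IsOfTypeV c.T → False)
    (hThree : ∀ c : Config G, Cfsg.IsOfTypeII c.S → (Cfsg.IsOfTypeIII c.T ∨ Cfsg.IsOfTypeIV c.T) → False)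
    (hTwo : ∀ c : Config G, Cfsg.IsOfTypeII c.S → Cfsg.IsOfTypeII c.T → c.q < c.p → False) : False := by
  rcases hT with h | h | h | h
  · obtain ⟨c', h1, h2, h3⟩ := c.exists_ordered hS h
    exact hTwo c' h1 h2 h3
  · exact hThree c hS (Or.inl h)
  · exact hThree c hS (Or.inr h)
  · exact hFive c hS h

end Config

end CfsgLib.OddLocal.FTFinal
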