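import Cfsg.Agent.Lib.OddLocal.Final.Rules
import Cfsg.Agent.Lib.OddLocal.Final.Overlap
import Cfsg.Agent.Lib.OddLocal.Final.Arith

/-!
Owner: helper5. Step 3 of the endgame: on every good coset of a maximal subgroup of Type I either `η(l,1)`
or the new constituent of a free character has a non-zero constant average, so the weights of these cosets
are bounded by what the two masses leave. This is the inequality `(1 - x - 1/v)/p ≤ q y + small`.
-/

set_option autoImplicit false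
set_option linter.unusedSectionVars false

namespace CfsgLib.OddLocal.FTFinal

open Subgroup
open CfsgLib.Char CfsgLib.CyclicTI
open CfsgLib.DadeMap (avg)
open CfsgLib.OddLocal.Frob12 (rho)
open Cfsg (classInner IsClassFunction)

variable {G : Type*} [Group G] [Fintype G]

/-- A signed irreducible character has degree of absolute value at least one. -/
theorem one_le_normSq_one {Z : G → ℂ} (h : SignedIrr Z) : 1 ≤ Complex.normSq (Z 1) := by
  obtain ⟨t, a, ht, rfl⟩ := h.exists_sign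
  obtain ⟨n, hn, ha⟩ := IsIrr.exists_degree a.2
  have h1 : (1 : ℝ) ≤ n := by exact_mod_cast hn
  rcases ht with rfl | rfl <;> simp [ha, Complex.normSq_natCast] <;> nlinarith

/-- The mass grows with the subgroup. -/
theorem mass_le_of_le {F F' : Subgroup G} (hle : F ≤ F') (M : Subgroup G) (χ : G → ℂ) :
    mass F M χ ≤ mass F' M χ := by
  classical
  have := Fintype.ofFinite F
  have := Fintype.ofFinite F'
  rw [mass, mass, finsum_eq_sum_of_fintype, finsum_eq_sum_of_fintype]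
  refine mul_le_mul_of_nonneg_left ?_ (by positivity)
  calc (∑ f : F, if f = 1 then 0 else Complex.normSq (χ f))
      = ∑ g ∈ Finset.univ.map ⟨Subgroup.inclusion hle, Subgroup.inclusion_injective hle⟩,
          (if g = 1 then 0 else Complex.normSq (χ (g : G))) := by
        rw [Finset.sum_map]
        refine Finset.sum_congr rfl fun f _ => ?_
        simp only [Function.Embedding.coeFn_mk, Subgroup.coe_inclusion]
        exact if_congr (map_eq_one_iff _ (Subgroup.inclusion_injective hle)).symm rfl rfl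
    _ ≤ _ := Finset.sum_le_sum_of_subset_of_nonneg (Finset.subset_univ _) fun f _ _ => by
        split_ifs
        · exact le_rfl
        · exact Complex.normSq_nonneg _

namespace Config

variable (c : Config G)

open scoped Classical in
/-- A member of the family has absolute value one on `Ŵ`. -/
theorem partWhat_eta (l : c.W₁ →* ℂˣ) (k : c.W₂ →* ℂˣ) :
    (Nat.card ↥(c.W₁ ⊔ c.W₂) : ℝ)⁻¹ * ∑ w : ↥(c.W₁ ⊔ c.W₂),
        (if (w : G) ∈ What c.W₁ c.W₂ then Complex.normSq (c.eta l k w) else 0) =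
      ((c.q : ℝ) - 1) * ((c.p : ℝ) - 1) / ((c.q : ℝ) * c.p) := by
  have h := congrArg Complex.re (partWhat_one (W₁ := c.W₁) (W₂ := c.W₂) c.selfNorm)
  rw [Complex.ofReal_re, partWhat, ← Complex.ofReal_natCast, ← Complex.ofReal_inv, Complex.re_ofReal_mul,
    Complex.re_sum] at h
  rw [Config.q, Config.p, ← h]
  refine congrArg _ (Finset.sum_congr rfl fun w _ => ?_)
  by_cases hw : (w : G) ∈ What c.W₁ c.W₂
  · rw [if_pos hw, if_pos hw, Complex.one_re]
    obtain ⟨-, hno⟩ := hw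
    rw [Config.eta, c.family.eq_on _ w (fun h' => hno (Or.inl h')) (fun h' => hno (Or.inr h')),
      Complex.normSq_eq_norm_sq, Complex.norm_eq_one_of_pow_eq_one (n := Nat.card ↥(c.W₁ ⊔ c.W₂))
        (by rw [← Units.val_pow_eq_pow_val, ← map_pow, pow_card_eq_one', map_one, Units.val_one])
        Nat.card_pos.ne', one_pow]
  · rw [if_neg hw, if_neg hw, Complex.zero_re]

end Config

namespace Side

variable {c : Config G} (s : Side c)

open scoped Classical in
/-- The averages of a free constituent on the good cosets. -/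
theorem rho_good_Z [Fintype (c.W₁ →* ℂˣ)] {L : Subgroup G} [Fintype L] {d : OneData L} (K : Coefs c d)
    {Fs F' : Subgroup G} (hFs : s.F ≤ Fs) {ψ : s.F →* ℂˣ} {eps : ℤ} {Z : G → ℂ}
    (hZ : s.FreeRule ψ eps Z) {j : c.W₂ →* ℂˣ} (hj : j ≠ 1) {a : L}
    (ha : (a : G) ∈ good L Fs F') :
    rho (good L Fs F') L (Cfsg.supportR L) Z a = ((-(eps * ∑ l, K.C l (tw eps j)) : ℤ) : ℂ) := by
  have := Fintype.ofFinite (Cfsg.supportR L (a : G))
  have hval : ∀ r : Cfsg.supportR L (a : G),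
      Z ((a : G) * r) = -((eps : ℂ) * ∑ l, c.eta l (tw eps j) ((a : G) * r)) := fun r => by
    have h := congrFun (hZ.eq j hj) ((a : G) * r)
    rw [ind_eq_zero_off _ _ fun hm => (ha.2 r r.2).1
      (mem_conjSharp.mpr ⟨(mem_conjSharp.mp hm).1,
        (mem_conjSharp.mp hm).2.imp fun _ hy => hFs hy⟩)] at h
    simp only [Pi.add_apply, Pi.smul_apply, smul_eq_mul, col, Finset.sum_apply] at h
    linear_combination -h
  have hrho : ∀ l, (Nat.card (Cfsg.supportR L (a : G)) : ℂ)⁻¹ *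
      ∑ r : Cfsg.supportR L (a : G), c.eta l (tw eps j) ((a : G) * r) = (K.C l (tw eps j) : ℂ) := fun l => by
    rw [← K.rho_eq l (tw eps j) a ha.1, Frob12.rho_of_mem ha.1, avg, DadeMap.finsum_coe_subgroup]
  rw [Frob12.rho_of_mem ha, avg, DadeMap.finsum_coe_subgroup, Finset.sum_congr rfl fun r _ => hval r,
    Finset.sum_neg_distrib, ← Finset.mul_sum, Finset.sum_comm, mul_neg, mul_left_comm, Finset.mul_sum,
    Finset.sum_congr rfl fun l _ => hrho l]
  push_cast
  ring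

open scoped Classical in
/-- The weights of the good cosets, with an extra `γ` for the mass of the free constituent. -/
theorem count_extra [Fintype (c.W₁ →* ℂˣ)] {Fs F' : Subgroup G} (hM : s.M = c.S) (hFs : s.F ≤ Fs) (hFS : IsSide c.S Fs)
    (hFT : IsSide c.T F') (hp : c.p.Prime) {ψ : s.F →* ℂˣ} (hψ : s.IsFree ψ) {α β : ℝ}
    (hα : ∀ l : c.W₁ →* ℂˣ, l ≠ 1 → α ≤ mass F' c.T (c.eta l 1))
    (hβ : ∀ l : c.W₁ →* ℂˣ, l ≠ 1 → β ≤ mass Fs c.S (c.eta l 1)) {γ : ℝ}
    (hγ : ∀ eps Z, s.FreeRule ψ eps Z → 1 - c.q * s.y + γ ≤ mass Fs c.S Z) :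
    α + β + γ + (Nat.card G : ℝ)⁻¹ ≤ c.q * s.y + ((Nat.card Fs : ℝ) - 1) / Nat.card c.S +
      ((Nat.card F' : ℝ) - 1) / Nat.card c.T := by
  have hG := c.minimal
  have hq := s.q_prime
  have := CyclicTI.finite_hom c.W₁
  have := CyclicTI.finite_hom c.W₂
  have := CyclicTI.finite_hom s.F
  have := Fintype.ofFinite (c.W₂ →* ℂˣ)
  have := Fintype.ofFinite s.Idx
  have : Nontrivial (c.W₁ →* ℂˣ) := Finite.one_lt_card_iff_nontrivial.mp (c.card_hom_W₁ ▸ hq.one_lt)
  have : Nontrivial (c.W₂ →* ℂˣ) := Finite.one_lt_card_iff_nontrivial.mp (c.card_hom_W₂ ▸ hp.one_lt)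
  obtain ⟨l₀, hl₀⟩ := exists_ne (1 : c.W₁ →* ℂˣ)
  obtain ⟨j, hj⟩ := exists_ne (1 : c.W₂ →* ℂˣ)
  obtain ⟨eps, Z, hZ⟩ := s.exists_ruleZ hψ
  obtain ⟨R, hR, hSR, hTR⟩ := exists_reps c.S_max c.T_max
    (T_ne_S c.minimal c.S_max c.T_max c.S_typeP c.T_typeP)
  have hid := weight_identity_good hG c.S_max c.T_max c.S_typeP c.T_typeP hFS hFT hR hSR hTR
  have hηc := c.eta_isClassFunction l₀ 1
  have hZc : IsClassFunction G Z := by
    rcases hZ.signed with h | h
    · exact IsIrr.isClassFunction h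
    · intro g x; simpa using IsIrr.isClassFunction h g x
  have hη := norm_ge_good hG c.S_max c.T_max c.S_typeP c.T_typeP hFS hFT hR hSR hTR hηc
  have hZn := norm_ge_good hG c.S_max c.T_max c.S_typeP c.T_typeP hFS hFT hR hSR hTR hZc
  rw [c.partWhat_eta, c.eta_self, Complex.one_re] at hη
  have hZZ : classInner Z Z = 1 := by
    have h := (s.ruleZ_pair hψ hψ hZ hZ).2.2
    rwa [s.orbCount_free hψ, Complex.ofReal_one] at h
  rw [hZZ, Complex.one_re] at hZn
  set R' := (R.erase c.S).erase c.T with hR'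
  have hsum : ∑ M ∈ R', weightGood M Fs F' ≤
      ∑ M ∈ R', (Nat.card M : ℝ)⁻¹ *
          ∑ a : M, Complex.normSq (rho (good M Fs F') M (Cfsg.supportR M) (c.eta l₀ 1) a) +
        ∑ M ∈ R', (Nat.card M : ℝ)⁻¹ *
          ∑ a : M, Complex.normSq (rho (good M Fs F') M (Cfsg.supportR M) Z a) := by
    rw [← Finset.sum_add_distrib]
    refine Finset.sum_le_sum fun M hM' => ?_
    have hMR : M ∈ R := Finset.mem_of_mem_erase (Finset.mem_of_mem_erase hM')
    have hMmax := hR.max M hMR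
    have hMI : Cfsg.IsOfTypeI M := typeOne_of_nconj hG c.S_max c.T_max c.S_typeP c.T_typeP hMmax
      (hR.nconj hSR hMR (Finset.ne_of_mem_erase (Finset.mem_of_mem_erase hM')).symm)
      (hR.nconj hTR hMR (Finset.ne_of_mem_erase hM').symm)
    obtain ⟨d⟩ := exists_oneData hG hMmax hMI
    obtain ⟨K⟩ := exists_coefs c hMmax hMI d
    set A : ℤ := K.C l₀ 1 with hA
    set z : ℤ := -(eps * ∑ l, K.C l (tw eps j)) with hz
    have hne : A ≠ 0 ∨ z ≠ 0 := by
      by_cases hA0 : A = 0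
      · right
        have he : eps ≠ 0 := by rcases hZ.sign with h | ⟨h, -⟩ <;> rw [h] <;> norm_num
        have hsz : ∑ l, K.C l (tw eps j) = (c.q : ℤ) * K.C 1 (tw eps j) - ((c.q : ℤ) - 1) := by
          rw [← Finset.add_sum_erase Finset.univ _ (Finset.mem_univ (1 : c.W₁ →* ℂˣ)),
            Finset.sum_congr rfl (g := fun _ => K.C 1 (tw eps j) - 1) fun l hl => by
              rw [K.rel l, K.left_const hq (Finset.ne_of_mem_erase hl) hl₀, ← hA, hA0, zero_add],
            Finset.sum_const, Finset.card_erase_of_mem (Finset.mem_univ _), Finset.card_univ,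
            c.card_hom₁, nsmul_eq_mul, Nat.cast_sub hq.one_le]
          push_cast; ring
        rw [hz, neg_ne_zero]
        refine mul_ne_zero he fun h0 => ?_
        rw [hsz] at h0
        have hd : (c.q : ℤ) ∣ 1 := ⟨1 - K.C 1 (tw eps j), by linarith⟩
        have h1 := Int.le_of_dvd one_pos hd
        have h2 := hq.two_le
        omega
      · exact Or.inl hA0
    have hsub := (dade_good hG hMmax Fs F').subset
    have hval : ∀ a : M, (if (a : G) ∈ good M Fs F' then (1 : ℝ) else 0) ≤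
        Complex.normSq (rho (good M Fs F') M (Cfsg.supportR M) (c.eta l₀ 1) a) +
          Complex.normSq (rho (good M Fs F') M (Cfsg.supportR M) Z a) := fun a => by
      by_cases ha : (a : G) ∈ good M Fs F'
      · rw [if_pos ha, rho_good_of_mem Fs F' ha, K.rho_eq l₀ 1 a ha.1, s.rho_good_Z K hFs hZ hj ha,
          ← hA, ← hz, Complex.normSq_intCast, Complex.normSq_intCast]
        have h1 : ∀ t : ℤ, t ≠ 0 → (1 : ℝ) ≤ (t : ℝ) * t := fun t ht => by
          exact_mod_cast (mul_self_pos.mpr ht : 0 < t * t)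
        rcases hne with h | h
        · exact le_add_of_le_of_nonneg (h1 A h) (mul_self_nonneg _)
        · exact le_add_of_nonneg_of_le (mul_self_nonneg _) (h1 z h)
      · rw [if_neg ha]
        exact add_nonneg (Complex.normSq_nonneg _) (Complex.normSq_nonneg _)
    have hw : weightGood M Fs F' =
        (Nat.card M : ℝ)⁻¹ * ∑ a : M, (if (a : G) ∈ good M Fs F' then (1 : ℝ) else 0) := by
      rw [Finset.sum_boole, ← Fintype.card_subtype, ← Nat.card_eq_fintype_card, weightGood,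
        ← Nat.card_coe_set_eq, Nat.card_congr (Equiv.subtypeSubtypeEquivSubtype fun {a} h => hsub h :
          {a : M // (a : G) ∈ good M Fs F'} ≃ _), inv_mul_eq_div]
    rw [hw, ← mul_add, ← Finset.sum_add_distrib]
    exact mul_le_mul_of_nonneg_left (Finset.sum_le_sum fun a _ => hval a) (by positivity)
  have hg : (0 : ℝ) < (Nat.card G : ℝ)⁻¹ := inv_pos.mpr (Nat.cast_pos.mpr Nat.card_pos)
  have h1 : (Nat.card G : ℝ)⁻¹ ≤ (Nat.card G : ℝ)⁻¹ * Complex.normSq (c.eta l₀ 1 1) :=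
    le_mul_of_one_le_right hg.le (one_le_normSq_one (c.eta_irr_or_neg l₀ 1))
  have h2 : (Nat.card G : ℝ)⁻¹ ≤ (Nat.card G : ℝ)⁻¹ * Complex.normSq (Z 1) :=
    le_mul_of_one_le_right hg.le (one_le_normSq_one hZ.signed)
  have h3 := hα l₀ hl₀
  have h4 := hβ l₀ hl₀
  have h5 := hγ eps Z hZ
  have h6 : 0 ≤ mass F' c.T Z := mass_nonneg (hFT.isTISide hG) Z
  have h7 : (0 : ℝ) ≤ (Nat.card ↥(c.W₁ ⊔ c.W₂) : ℝ)⁻¹ * ∑ w : ↥(c.W₁ ⊔ c.W₂),
      (if (w : G) ∈ What c.W₁ c.W₂ then Complex.normSq (Z w) else 0) :=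
    mul_nonneg (by positivity) (Finset.sum_nonneg fun w _ => by
      split_ifs
      · exact Complex.normSq_nonneg _
      · exact le_rfl)
  rw [show (Nat.card c.W₁ : ℝ) = c.q from rfl, show (Nat.card c.W₂ : ℝ) = c.p from rfl] at hid
  linarith

open scoped Classical in
/-- The weights of the good cosets between the masses of `η(l,1)` and of a free constituent. -/
theorem count {Fs F' : Subgroup G} (hM : s.M = c.S) (hFs : s.F ≤ Fs) (hFS : IsSide c.S Fs)
    (hFT : IsSide c.T F') (hp : c.p.Prime) {ψ : s.F →* ℂˣ} (hψ : s.IsFree ψ) {α β : ℝ}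
    (hα : ∀ l : c.W₁ →* ℂˣ, l ≠ 1 → α ≤ mass F' c.T (c.eta l 1))
    (hβ : ∀ l : c.W₁ →* ℂˣ, l ≠ 1 → β ≤ mass Fs c.S (c.eta l 1)) :
    α + β + (Nat.card G : ℝ)⁻¹ ≤ c.q * s.y + ((Nat.card Fs : ℝ) - 1) / Nat.card c.S +
      ((Nat.card F' : ℝ) - 1) / Nat.card c.T := by
  have := CyclicTI.finite_hom c.W₁
  have := CyclicTI.finite_hom c.W₂
  have := Fintype.ofFinite (c.W₁ →* ℂˣ)
  have := Fintype.ofFinite (c.W₂ →* ℂˣ)
  simpa using s.count_extra hM hFs hFS hFT hp hψ hα hβ (γ := 0) fun eps Z hZ => by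
    rw [add_zero]; exact (hM ▸ s.mass_Z hψ hZ).trans (mass_le_of_le hFs _ _)

/-- The master inequality of Step 3 when the whole piece of `S` is the Fitting side. -/
theorem master_ineq {F' : Subgroup G} (hM : s.M = c.S) (hFS : IsSide c.S s.F) (hFT : IsSide c.T F')
    (hp : c.p.Prime) {ψ : s.F →* ℂˣ} (hψ : s.IsFree ψ) {v : ℕ}
    {x : ℝ} (hx : ∀ l : c.W₁ →* ℂˣ, l ≠ 1 →
      (1 - x - 1 / v) / c.p + ((Nat.card F' : ℝ) - 1) / Nat.card c.T ≤ mass F' c.T (c.eta l 1)) :
    (1 / (c.p : ℝ)) * (1 - x - 1 / v) ≤ c.q * s.y + s.y / (c.q * (s.u : ℝ) ^ 2) := by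
  classical
  have := CyclicTI.finite_hom c.W₁
  have := CyclicTI.finite_hom c.W₂
  have := CyclicTI.finite_hom s.F
  have := Fintype.ofFinite (c.W₁ →* ℂˣ)
  have := Fintype.ofFinite (c.W₂ →* ℂˣ)
  have := Fintype.ofFinite s.Idx
  have h := s.count hM le_rfl hFS hFT hp hψ hx fun l hl => by
    have := s.mass_eta_axis₁ l
    rwa [hM] at this
  have hg : (0 : ℝ) ≤ (Nat.card G : ℝ)⁻¹ := inv_nonneg.mpr (Nat.cast_nonneg _)
  have hu : (0 : ℝ) < s.u := by exact_mod_cast s.u_pos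
  have hq : (0 : ℝ) < c.q := by exact_mod_cast s.q_prime.pos
  have hp0 : (0 : ℝ) < c.p := by exact_mod_cast hp.pos
  have hy := s.y_pos
  have hPS : ((Nat.card s.F : ℝ) - 1) / Nat.card c.S ≤ 1 / ((c.q : ℝ) * s.u) := by
    rw [← hM, s.card_M]
    push_cast
    have : (0 : ℝ) < Nat.card s.F := Nat.cast_pos.mpr Nat.card_pos
    rw [div_le_div_iff₀ (by positivity) (by positivity)]
    nlinarith [mul_pos hq hu]
  have hkey : 1 / ((c.q : ℝ) * s.u) - 1 / ((c.q : ℝ) * (s.u + s.y)) ≤ s.y / (c.q * (s.u : ℝ) ^ 2) := by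
    rw [div_sub_div _ _ (by positivity) (by positivity), div_le_div_iff₀ (by positivity) (by positivity)]
    nlinarith [mul_pos (mul_pos hq hq) (mul_pos hu (mul_pos hy hy))]
  rw [show (1 / (c.p : ℝ)) * (1 - x - 1 / v) = (1 - x - 1 / v) / c.p by ring]
  linarith

/-- The index of `U` and the fixed part of `C` are bounded by the counting. -/
theorem index_bound (hq : c.q.Prime) (hp : c.p.Prime) (hlt : c.q < c.p) {F' : Subgroup G} (hM : s.M = c.S)
    (hFS : IsSide c.S s.F) (hFT : IsSide c.T F') {ψ : s.F →* ℂˣ} (hψ : s.IsFree ψ) {v : ℕ}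
    (hv : 121 ≤ v) {x : ℝ} (hx : x ≤ 1 / ((c.q : ℝ) - 1))
    (hmass : ∀ l : c.W₁ →* ℂˣ, l ≠ 1 →
      (1 - x - 1 / v) / c.p + ((Nat.card F' : ℝ) - 1) / Nat.card c.T ≤ mass F' c.T (c.eta l 1))
    (hu : 2 * c.q + 1 ≤ s.u) {k : ℕ} (hy : s.y ≤ 1 / (((c.p : ℝ) - 1) * k)) :
    (c.q = 3 → k ≤ 7) ∧ (c.q = 3 → 11 ≤ c.p → k < 7) ∧ (5 ≤ c.q → k < 2 * c.q + 1) := by
  classical
  have := CyclicTI.finite_hom c.W₁
  have := CyclicTI.finite_hom c.W₂
  have := Fintype.ofFinite (c.W₁ →* ℂˣ)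
  have := Fintype.ofFinite (c.W₂ →* ℂˣ)
  by_cases hk : k < 7
  · exact ⟨fun _ => hk.le, fun _ _ => hk, fun h5 => by omega⟩
  push Not at hk
  have hq3 := c.q_ge_three
  have h := s.master_ineq hM hFS hFT hp hψ hmass
  refine S_bound hp hq hq3 hlt (by omega) (by exact_mod_cast hv) hx hy ?_ h
  have hqR : (3 : ℝ) ≤ c.q := by exact_mod_cast hq3
  have hpR : (5 : ℝ) ≤ c.p := by
    have := hp.eq_two_or_odd
    exact_mod_cast (show 5 ≤ c.p by omega)
  have huR : 2 * (c.q : ℝ) + 1 ≤ s.u := by exact_mod_cast hu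
  have hkR : (7 : ℝ) ≤ k := by exact_mod_cast hk
  have hden : (3 : ℝ) * 49 ≤ c.q * (s.u : ℝ) ^ 2 :=
    mul_le_mul hqR (by nlinarith) (by norm_num) (by linarith)
  refine le_trans (div_le_div_of_nonneg_left s.y_pos.le (by norm_num) hden) ?_
  have hy' : s.y ≤ 1 / (((c.p : ℝ) - 1) * 7) := hy.trans (by gcongr <;> linarith)
  refine le_trans ((div_le_div_iff_of_pos_right (by norm_num)).mpr hy') ?_
  rw [div_div, div_le_div_iff₀ (by nlinarith) (by positivity)]
  nlinarith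

/-- On the mirror side the counting leaves no free character. -/
theorem not_free (hq : c.q.Prime) (hp : c.p.Prime) (hlt : c.p < c.q) {F' : Subgroup G} (hM : s.M = c.S)
    (hFS : IsSide c.S s.F) (hFT : IsSide c.T F') {v : ℕ}
    (hv : 2 * c.p + 1 ≤ v) (hv5 : c.p = 3 → c.q = 5 → 31 ≤ v) (hv7 : c.p = 3 → c.q = 7 → 19 ≤ v) {x : ℝ}
    (hx : x ≤ 1 / ((c.q : ℝ) - 1))
    (hmass : ∀ l : c.W₁ →* ℂˣ, l ≠ 1 →
      (1 - x - 1 / v) / c.p + ((Nat.card F' : ℝ) - 1) / Nat.card c.T ≤ mass F' c.T (c.eta l 1))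
    (hu : 2 * c.q + 1 ≤ s.u)
    (hy : ∀ ψ, s.IsFree ψ → s.y ≤ 1 / (((c.p : ℝ) - 1) * (2 * c.q + 1))) : ∀ ψ, ¬ s.IsFree ψ := by
  intro ψ hψ
  classical
  have := CyclicTI.finite_hom c.W₁
  have := CyclicTI.finite_hom c.W₂
  have := Fintype.ofFinite (c.W₁ →* ℂˣ)
  have := Fintype.ofFinite (c.W₂ →* ℂˣ)
  have hy := hy ψ hψ
  have hp3 := c.p_ge_three
  refine T_full hq hp hp3 hlt hv hv5 hv7 hx hy ?_ (s.master_ineq hM hFS hFT hp hψ hmass)
  have hpR : (3 : ℝ) ≤ c.p := by exact_mod_cast hp3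
  have hqR : (5 : ℝ) ≤ c.q := by
    have := hq.eq_two_or_odd
    exact_mod_cast (show 5 ≤ c.q by omega)
  have huR : 2 * (c.q : ℝ) + 1 ≤ s.u := by exact_mod_cast hu
  have hden : (5 : ℝ) * 121 ≤ c.q * (s.u : ℝ) ^ 2 :=
    mul_le_mul hqR (by nlinarith) (by norm_num) (by linarith)
  refine le_trans (div_le_div_of_nonneg_left s.y_pos.le (by norm_num) hden) ?_
  have hy' : s.y ≤ 1 / (((c.p : ℝ) - 1) * 11) := hy.trans (by gcongr <;> linarith)
  refine le_trans ((div_le_div_iff_of_pos_right (by norm_num)).mpr hy') ?_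
  rw [div_div, div_le_div_iff₀ (by nlinarith) (by positivity)]
  nlinarith

end Side

end CfsgLib.OddLocal.FTFinal
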