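import Cfsg.Agent.Lib.OddLocal.Final.FalseThree

/-!
Owner: helper27. Import path of `Config.false_of_two_three`, proved in `Final/FalseThree.lean` (helper15); kept so
that the two announced module names do not declare the theorem twice.
-/
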