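import Cfsg.Agent.Lib.OddLocal.Final.StructThree
import Mathlib.RingTheory.IntegralDomain
import Mathlib.RingTheory.RootsOfUnity.Basic

/-!
Owner: helper16. An elementary abelian group `H` of order `p ^ q` on which `U W₁` acts irreducibly, `U`
inducing an abelian group (Peterfalvi 9.7): either `U` is irreducible (Galois) or `H` is a sum of `q` lines
permuted by `W₁` (diagonal).
-/

set_option autoImplicit false
set_option linter.unusedSectionVars false

namespace CfsgLib.OddLocal.Final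

open Subgroup
open scoped commutatorElement

variable {G : Type*} [Group G]

/-- The standing hypotheses on `H`, `U`, `W₁`, `W₂`. -/
structure KernelModule (p q : ℕ) (H U W₁ W₂ : Subgroup G) : Prop where
  prime_p : p.Prime
  prime_q : q.Prime
  ne : q ≠ p
  elem : Cfsg.IsElementaryAbelian p H
  card : Nat.card H = p ^ q
  le : W₂ ≤ H
  card_right : Nat.card W₂ = p
  card_left : Nat.card W₁ = q
  norm : U ⊔ W₁ ≤ normalizer (H : Set G)
  norm_U : W₁ ≤ normalizer (U : Set G)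
  comm : ∀ a ∈ U, ∀ b ∈ U, ⁅a, b⁆ ∈ centralizer (H : Set G)
  fix : H ⊓ centralizer (W₁ : Set G) = W₂
  minimal : ∀ Y : Subgroup G, Y ≤ H → U ⊔ W₁ ≤ normalizer (Y : Set G) → Y = ⊥ ∨ Y = H
  nontriv : ¬ U ≤ centralizer (H : Set G)
  fpf : ∀ w ∈ W₁, w ≠ 1 → ∀ u ∈ U, w * u = u * w → u = 1
  cop_p : (Nat.card U).Coprime p
  cop_q : (Nat.card U).Coprime q

/-- `U` leaves no proper subgroup of `H` invariant. -/
def IsGalois (H U : Subgroup G) : Prop :=
  ∀ Y : Subgroup G, Y ≤ H → U ≤ normalizer (Y : Set G) → Y = ⊥ ∨ Y = H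

/-- `H` is spanned by the `W₁`-translates of an element spanning a `U`-invariant line. -/
structure Diag (H U W₁ : Subgroup G) (x : G) : Prop where
  mem : x ∈ H
  ne : x ≠ 1
  norm : U ≤ normalizer (zpowers x : Set G)
  span : (⨆ t : W₁, zpowers ((t : G) * x * (t : G)⁻¹)) = H

namespace KernelModule

variable {p q : ℕ} {H U W₁ W₂ : Subgroup G} (K : KernelModule p q H U W₁ W₂)
include K

theorem mem_normalizer_of_mem_U {g : G} (hg : g ∈ U) : g ∈ normalizer (H : Set G) := K.norm (mem_sup_left hg)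

theorem mem_normalizer_of_mem_W {g : G} (hg : g ∈ W₁) : g ∈ normalizer (H : Set G) := K.norm (mem_sup_right hg)

theorem conj_mem {g x : G} (hg : g ∈ U ⊔ W₁) (hx : x ∈ H) : g * x * g⁻¹ ∈ H :=
  (mem_normalizer_iff.mp (K.norm hg) x).mp hx

theorem commute_H {a b : G} (ha : a ∈ H) (hb : b ∈ H) : a * b = b * a :=
  congrArg Subtype.val (K.elem.1.is_comm.comm ⟨a, ha⟩ ⟨b, hb⟩)

theorem pow_eq_one {x : G} (hx : x ∈ H) : x ^ p = 1 := K.elem.2 x hx

theorem conj_U {w u : G} (hw : w ∈ W₁) (hu : u ∈ U) : w * u * w⁻¹ ∈ U :=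
  (mem_normalizer_iff.mp (K.norm_U hw) u).mp hu

theorem centralizer_normal : ((centralizer (H : Set G)).subgroupOf U).Normal := by
  refine ⟨fun c hc g => mem_subgroupOf.mpr (mem_centralizer_iff.mpr fun x hx => ?_)⟩
  have hc' := mem_centralizer_iff.mp (mem_subgroupOf.mp hc) _
    (K.conj_mem (mem_sup_left (inv_mem g.2)) hx)
  simp only [coe_mul, coe_inv] at hc' ⊢
  simp only [inv_inv] at hc'
  calc x * ((g : G) * c * (g : G)⁻¹) = (g : G) * ((g : G)⁻¹ * x * g * c) * (g : G)⁻¹ := by group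
    _ = (g : G) * (c * ((g : G)⁻¹ * x * g)) * (g : G)⁻¹ := by rw [hc']
    _ = _ := by group

/-- `U` commutes in its action on `H`. -/
theorem act_comm {a b x : G} (ha : a ∈ U) (hb : b ∈ U) (hx : x ∈ H) :
    a * (b * x * b⁻¹) * a⁻¹ = b * (a * x * a⁻¹) * b⁻¹ := by
  have hy : b * (a * x * a⁻¹) * b⁻¹ ∈ H := K.conj_mem (mem_sup_left hb) (K.conj_mem (mem_sup_left ha) hx)
  have h := mem_centralizer_iff.mp (K.comm a ha b hb) _ hy
  calc a * (b * x * b⁻¹) * a⁻¹ = ⁅a, b⁆ * (b * (a * x * a⁻¹) * b⁻¹) * ⁅a, b⁆⁻¹ := by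
        rw [commutatorElement_def]; group
    _ = _ := by rw [← h, mul_inv_cancel_right]

variable [Finite G]

theorem isCyclic_left : IsCyclic W₁ := by
  have := Fact.mk K.prime_q
  exact isCyclic_of_prime_card K.card_left

/-- An element of `U` whose action commutes with that of `W₁` centralizes `H`. -/
theorem scalar {u : G} (hu : u ∈ U) (h : ∀ w ∈ W₁, ⁅w, u⁆ ∈ centralizer (H : Set G)) :
    u ∈ centralizer (H : Set G) := by
  have := K.isCyclic_left
  have hcent : ∀ g ∈ normalizer (H : Set G), g ∈ normalizer (centralizer (H : Set G) : Set G) := by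
    intro g hg
    refine Transfer.map_conj_eq_self_iff.mp (eq_of_le_of_card_ge ?_ (Transfer.card_map_conj g _).ge)
    rintro _ ⟨c, hc, rfl⟩
    refine mem_centralizer_iff.mpr fun x hx => ?_
    have hx' : g⁻¹ * x * g ∈ H := by simpa using (mem_normalizer_iff.mp (inv_mem hg) x).mp hx
    show x * (g * c * g⁻¹) = g * c * g⁻¹ * x
    calc x * (g * c * g⁻¹) = g * (g⁻¹ * x * g * c) * g⁻¹ := by group
      _ = g * (c * (g⁻¹ * x * g)) * g⁻¹ := by rw [mem_centralizer_iff.mp hc _ hx']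
      _ = _ := by group
  obtain ⟨n, hn, hun⟩ := Core.exists_centralizing_in_coset (A := W₁) (N := U ⊓ centralizer (H : Set G))
    (k := u) ((le_inf K.norm_U (fun w hw => hcent w (K.mem_normalizer_of_mem_W hw))).trans
      inf_normalizer_le_normalizer_inf)
    (by rw [K.card_left]; exact (K.cop_q.coprime_dvd_left (card_dvd_of_le inf_le_left)).symm)
    (Or.inl (have := IsCyclic.isMulCommutative (α := W₁);
      isSolvable_of_comm (fun a b => this.is_comm.comm a b)))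
    (fun w hw => by
      refine mem_inf.mpr ⟨mul_mem (inv_mem hu) (K.conj_U hw hu), ?_⟩
      have h1 := (mem_normalizer_iff.mp (hcent _ (inv_mem (K.mem_normalizer_of_mem_U hu))) _).mp (h w hw)
      rw [commutatorElement_def] at h1
      simpa [mul_assoc] using h1)
  obtain ⟨w, hw, hw1⟩ := W₁.bot_or_exists_ne_one.resolve_left fun e =>
    K.prime_q.ne_one (by rw [← K.card_left, e, card_bot])
  have h1 : u * n = 1 := K.fpf w hw hw1 _ (mul_mem hu (mem_inf.mp hn).1)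
    (mem_centralizer_iff.mp hun w hw)
  rw [eq_inv_of_mul_eq_one_left h1]
  exact inv_mem (mem_inf.mp hn).2

/-- The scalar criterion for a generator of `W₁`. -/
theorem scalar_of {u w : G} (hu : u ∈ U) (hw : w ∈ W₁) (hw1 : w ≠ 1)
    (h : ∀ x ∈ H, w * (u * x * u⁻¹) * w⁻¹ = u * (w * x * w⁻¹) * u⁻¹) : u ∈ centralizer (H : Set G) := by
  have hgen : W₁ = zpowers w := by
    refine (eq_of_le_of_card_ge (zpowers_le.mpr hw) ?_).symm
    have := Fact.mk K.prime_q
    rw [K.card_left, Nat.card_zpowers,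
      orderOf_eq_prime (orderOf_dvd_iff_pow_eq_one.mp (K.card_left ▸ W₁.orderOf_dvd_natCard hw)) hw1]
  refine K.scalar hu fun w' hw' => ?_
  let St : Subgroup G :=
    { carrier := {g | g ∈ W₁ ∧ ∀ x ∈ H, g * (u * x * u⁻¹) * g⁻¹ = u * (g * x * g⁻¹) * u⁻¹}
      one_mem' := ⟨one_mem _, fun x _ => by group⟩
      mul_mem' := fun {a b} ha hb => ⟨mul_mem ha.1 hb.1, fun x hx => by
        have h2 := ha.2 _ (K.conj_mem (mem_sup_right hb.1) hx)
        calc a * b * (u * x * u⁻¹) * (a * b)⁻¹ = a * (b * (u * x * u⁻¹) * b⁻¹) * a⁻¹ := by group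
          _ = a * (u * (b * x * b⁻¹) * u⁻¹) * a⁻¹ := by rw [hb.2 x hx]
          _ = _ := by rw [h2]; group⟩
      inv_mem' := fun {a} ha => ⟨inv_mem ha.1, fun x hx => by
        have h2 := ha.2 _ (K.conj_mem (mem_sup_right (inv_mem ha.1)) hx)
        calc a⁻¹ * (u * x * u⁻¹) * a⁻¹⁻¹
            = a⁻¹ * (u * (a * (a⁻¹ * x * a⁻¹⁻¹) * a⁻¹) * u⁻¹) * a := by group
          _ = a⁻¹ * (a * (u * (a⁻¹ * x * a⁻¹⁻¹) * u⁻¹) * a⁻¹) * a := by rw [h2]
          _ = _ := by group⟩ }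
  have hwSt : w ∈ St := ⟨hw, h⟩
  have hc := ((zpowers_le.mpr hwSt) (hgen ▸ hw') : w' ∈ St).2
  refine mem_centralizer_iff.mpr fun x hx => ?_
  have hy : w'⁻¹ * (u⁻¹ * x * u) * w' ∈ H := by
    simpa using K.conj_mem (mem_sup_right (inv_mem hw')) (K.conj_mem (mem_sup_left (inv_mem hu)) hx)
  have h2 : w' * (u * (w'⁻¹ * (u⁻¹ * x * u) * w') * u⁻¹) * w'⁻¹ = x := by rw [hc _ hy]; group
  have h3 : ⁅w', u⁆ * x * ⁅w', u⁆⁻¹ = x := by
    refine Eq.trans ?_ h2
    rw [commutatorElement_def]; group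
  exact (mul_inv_eq_iff_eq_mul.mp h3).symm

/-- The quotient `U / C_U(H)` has the trivial action only at the identity. -/
theorem H_inf_centralizer : H ⊓ centralizer (U : Set G) = ⊥ := by
  refine (K.minimal _ inf_le_left ?_).resolve_right fun e => K.nontriv
    (le_centralizer_iff.mp (inf_eq_left.mp e))
  refine (le_inf K.norm (sup_le (fun g hg => ?_) fun g hg => ?_)).trans inf_normalizer_le_normalizer_inf
  all_goals refine Transfer.map_conj_eq_self_iff.mp (eq_of_le_of_card_ge ?_ (Transfer.card_map_conj g _).ge)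
  all_goals rintro _ ⟨c, hc, rfl⟩
  all_goals refine mem_centralizer_iff.mpr fun v hv => ?_
  all_goals show v * (g * c * g⁻¹) = g * c * g⁻¹ * v
  · have hv' : g⁻¹ * v * g ∈ U := mul_mem (mul_mem (inv_mem hg) hv) hg
    calc v * (g * c * g⁻¹) = g * (g⁻¹ * v * g * c) * g⁻¹ := by group
      _ = g * (c * (g⁻¹ * v * g)) * g⁻¹ := by rw [mem_centralizer_iff.mp hc _ hv']
      _ = _ := by group
  · have hv' : g⁻¹ * v * g ∈ U := by simpa using K.conj_U (inv_mem hg) hv
    calc v * (g * c * g⁻¹) = g * (g⁻¹ * v * g * c) * g⁻¹ := by group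
      _ = g * (c * (g⁻¹ * v * g)) * g⁻¹ := by rw [mem_centralizer_iff.mp hc _ hv']
      _ = _ := by group

/-- The dichotomy. -/
theorem galois_or_diag : IsGalois H U ∨ ∃ x, Diag H U W₁ x := by
  classical
  refine or_iff_not_imp_left.mpr fun hG => ?_
  obtain ⟨Y₀, hY₀, hY₀n, hY₀b, hY₀H⟩ : ∃ Y : Subgroup G, Y ≤ H ∧ U ≤ normalizer (Y : Set G) ∧ Y ≠ ⊥ ∧ Y ≠ H := by
    simp only [IsGalois, not_forall, not_or] at hG
    obtain ⟨Y, h1, h2, h3, h4⟩ := hG
    exact ⟨Y, h1, h2, h3, h4⟩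
  obtain ⟨Y, ⟨hYn, hYb, hYle⟩, hYmin⟩ : ∃ Y : Subgroup G, (U ≤ normalizer (Y : Set G) ∧ Y ≠ ⊥ ∧ Y ≤ Y₀) ∧
      ∀ Z : Subgroup G, (U ≤ normalizer (Z : Set G) ∧ Z ≠ ⊥ ∧ Z ≤ Y₀) → Z ≤ Y → Z = Y := by
    obtain ⟨Y, hY, hmin⟩ := (Set.toFinite {Y : Subgroup G | U ≤ normalizer (Y : Set G) ∧ Y ≠ ⊥ ∧ Y ≤ Y₀}).exists_minimal
      ⟨Y₀, hY₀n, hY₀b, le_rfl⟩
    exact ⟨Y, hY, fun Z hZ hle => le_antisymm hle (hmin hZ hle)⟩
  have hYH : Y ≤ H := hYle.trans hY₀
  set Yt : W₁ → Subgroup G := fun t => Y.map (MulAut.conj (t : G)).toMonoidHom with hYt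
  have hYtH : ∀ t, Yt t ≤ H := by
    rintro t _ ⟨y, hy, rfl⟩
    exact K.conj_mem (mem_sup_right t.2) (hYH hy)
  have hYtn : ∀ t, U ≤ normalizer (Yt t : Set G) := by
    intro t u hu
    refine Transfer.map_conj_eq_self_iff.mp (eq_of_le_of_card_ge ?_ (Transfer.card_map_conj u _).ge)
    rintro _ ⟨_, ⟨y, hy, rfl⟩, rfl⟩
    have hu' : (t : G)⁻¹ * u * t ∈ U := by simpa using K.conj_U (inv_mem t.2) hu
    exact ⟨_, (mem_normalizer_iff.mp (hYn hu') y).mp hy, by simp [mul_assoc]⟩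
  obtain ⟨Z, ⟨hZH, hZn, k, hZc⟩, hZmax⟩ : ∃ Z : Subgroup G,
      (Z ≤ H ∧ U ≤ normalizer (Z : Set G) ∧ ∃ k, Nat.card Z = Nat.card Y ^ k) ∧
      ∀ Z' : Subgroup G, (Z' ≤ H ∧ U ≤ normalizer (Z' : Set G) ∧ ∃ k, Nat.card Z' = Nat.card Y ^ k) →
        Z ≤ Z' → Z' = Z := by
    obtain ⟨Z, hZ, hmax⟩ := (Set.toFinite {Z : Subgroup G | Z ≤ H ∧ U ≤ normalizer (Z : Set G) ∧
      ∃ k, Nat.card Z = Nat.card Y ^ k}).exists_maximal
      ⟨⊥, bot_le, fun u _ => Transfer.map_conj_eq_self_iff.mp (Subgroup.map_bot _), 0, by simp⟩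
    exact ⟨Z, hZ, fun Z' hZ' hle => le_antisymm (hmax hZ' hle) hle⟩
  have hall : ∀ t, Yt t ≤ Z := by
    intro t
    by_contra hne
    have hI : Yt t ⊓ Z = ⊥ := by
      by_contra hI
      set I := (Yt t ⊓ Z).map (MulAut.conj (t : G)⁻¹).toMonoidHom with hIdef
      have hIY : I ≤ Y := by
        rintro _ ⟨_, ⟨⟨y, hy, rfl⟩, -⟩, rfl⟩
        simpa [mul_assoc] using hy
      have hIn : U ≤ normalizer (I : Set G) := by
        intro u hu
        refine Transfer.map_conj_eq_self_iff.mp (eq_of_le_of_card_ge ?_ (Transfer.card_map_conj u _).ge)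
        rintro _ ⟨_, ⟨z, hz, rfl⟩, rfl⟩
        have hu' := K.conj_U t.2 hu
        exact ⟨_, ⟨(mem_normalizer_iff.mp (hYtn t hu') z).mp hz.1, (mem_normalizer_iff.mp (hZn hu') z).mp hz.2⟩,
          by simp [mul_assoc]⟩
      have hIb : I ≠ ⊥ := fun e => hI ((map_eq_bot_iff_of_injective _ (MulAut.conj _).injective).mp e)
      have hIeq := hYmin I ⟨hIn, hIb, hIY.trans hYle⟩ hIY
      refine hne (inf_eq_left.mp (eq_of_le_of_card_ge inf_le_left ?_))
      rw [← Transfer.card_map_conj (t : G)⁻¹ (Yt t ⊓ Z), Transfer.card_map_conj (t : G) Y]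
      exact le_of_eq (congrArg (fun S : Subgroup G => Nat.card S) hIeq).symm
    have hn2 : U ≤ normalizer ((Yt t ⊔ Z : Subgroup G) : Set G) := fun u hu =>
      Transfer.map_conj_eq_self_iff.mp (by
        rw [Subgroup.map_sup, Transfer.map_conj_eq_self_iff.mpr (hYtn t hu),
          Transfer.map_conj_eq_self_iff.mpr (hZn hu)])
    have hZcn : Z ≤ normalizer (Yt t : Set G) := fun z hz => Subgroup.centralizer_le_normalizer _
      (mem_centralizer_iff.mpr fun y hy => K.commute_H (hYtH t hy) (hZH hz))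
    have hc : Nat.card ↥(Yt t ⊔ Z) = Nat.card Y ^ (k + 1) := by
      have h1 := (Core.card_sup_dvd Z (Yt t) hZcn)
      refine le_antisymm ?_ ?_
      · rw [sup_comm, pow_succ, ← hZc]
        refine (Nat.le_of_dvd (Nat.mul_pos Nat.card_pos Nat.card_pos) h1).trans_eq ?_
        rw [Transfer.card_map_conj]
      · rw [pow_succ, ← hZc, ← Transfer.card_map_conj (t : G) Y]
        refine Nat.card_le_card_of_injective (fun a : Z × Yt t => (⟨(a.1 : G) * a.2,
          mul_mem (mem_sup_right a.1.2) (mem_sup_left a.2.2)⟩ : ↥(Yt t ⊔ Z))) ?_ |>.trans' (Nat.card_prod _ _).ge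
        rintro ⟨a, b⟩ ⟨a', b'⟩ h
        have h' : (a : G) * b = a' * b' := congrArg Subtype.val h
        have h2 : (a' : G)⁻¹ * a = b' * (b : G)⁻¹ := by
          rw [eq_mul_inv_iff_mul_eq, mul_assoc, h', inv_mul_cancel_left]
        have h3 : (a' : G)⁻¹ * a ∈ Yt t ⊓ Z := mem_inf.mpr
          ⟨h2 ▸ mul_mem b'.2 (inv_mem b.2), mul_mem (inv_mem a'.2) a.2⟩
        rw [hI, mem_bot, inv_mul_eq_one] at h3
        refine Prod.ext (Subtype.ext h3.symm) (Subtype.ext ?_)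
        simpa [h3.symm] using h'
    exact hne (sup_eq_right.mp (hZmax _ ⟨sup_le (hYtH t) hZH, hn2, k + 1, hc⟩ le_sup_right))
  set J : Subgroup G := ⨆ t : W₁, Yt t with hJ
  have hJn : U ⊔ W₁ ≤ normalizer (J : Set G) := by
    refine sup_le (fun u hu => ?_) fun w hw => ?_
    · refine Transfer.map_conj_eq_self_iff.mp ?_
      rw [hJ, Subgroup.map_iSup]
      exact iSup_congr fun t => Transfer.map_conj_eq_self_iff.mpr (hYtn t hu)
    · refine Transfer.map_conj_eq_self_iff.mp (eq_of_le_of_card_ge ?_ (Transfer.card_map_conj w _).ge)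
      rw [hJ, Subgroup.map_iSup]
      refine iSup_le fun t => le_iSup_of_le (⟨w, hw⟩ * t) (le_of_eq ?_)
      simp only [hYt, map_map]
      congr 1
      ext z
      simp [mul_assoc]
  have hY1 : Y ≤ Yt 1 := fun y hy => ⟨y, hy, by simp⟩
  have hJH : J = H := (K.minimal J (iSup_le hYtH) hJn).resolve_left fun e =>
    hYb (le_bot_iff.mp (e ▸ (hY1.trans (le_iSup Yt 1))))
  have hZe : Z = H := le_antisymm hZH (hJH ▸ iSup_le hall)
  obtain ⟨d, hd⟩ := (Nat.dvd_prime_pow K.prime_p).mp (K.card ▸ card_dvd_of_le hYH)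
  rw [hZe, K.card, hd.2, ← pow_mul] at hZc
  have hdk : d * k = q := (Nat.pow_right_injective K.prime_p.two_le hZc).symm
  have hd1 : d = 1 := ((Nat.dvd_prime K.prime_q).mp (Dvd.intro k hdk)).resolve_right fun e => hY₀H
    (le_antisymm hY₀ ((eq_of_le_of_card_ge hYH (by rw [K.card, hd.2, e])).ge.trans hYle))
  obtain ⟨x, hx, hx1⟩ := Y.bot_or_exists_ne_one.resolve_left hYb
  have hxY : zpowers x = Y := by
    refine eq_of_le_of_card_ge (zpowers_le.mpr hx) ?_
    have := Fact.mk K.prime_p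
    rw [hd.2, hd1, pow_one, Nat.card_zpowers, orderOf_eq_prime (K.pow_eq_one (hYH hx)) hx1]
  refine ⟨x, hYH hx, hx1, hxY ▸ hYn, ?_⟩
  rw [← hJH, hJ]
  refine iSup_congr fun t => ?_
  rw [hYt, ← hxY]
  simp [MonoidHom.map_zpowers]

end KernelModule

end CfsgLib.OddLocal.Final
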