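import Cfsg.Agent.Lib.OddLocal.Final.FreeHom

/-!
Owner: helper16. Characters of `H` seen on `F = H × C`: the projection and the pull-back of the free ones.
-/

set_option autoImplicit false
set_option linter.unusedSectionVars false

namespace CfsgLib.OddLocal.Final

open Subgroup

variable {G : Type*} [Group G]

/-- The projection of `F = H × C` on `H`, commuting with every `g` normalising both factors. -/
theorem exists_proj {H C F : Subgroup G} (hF : F = H ⊔ C) (hcent : C ≤ centralizer (H : Set G))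
    (hdis : H ⊓ C = ⊥) :
    ∃ π : F →* H, (∀ (h : H) (c : C) (f : F), (f : G) = h * c → π f = h) ∧
      (∀ g : G, g ∈ normalizer (H : Set G) → g ∈ normalizer (C : Set G) → ∀ f f' : F,
        (f' : G) = g * f * g⁻¹ → (π f' : G) = g * π f * g⁻¹) := by
  subst hF
  have hex : ∀ f : ↥(H ⊔ C), ∃ h : H, ∃ c : C, (f : G) = h * c := fun f => by
    obtain ⟨a, ha, b, hb, e⟩ :=
      OddLocal.mem_sup_of_le_normalizer (hcent.trans (Subgroup.centralizer_le_normalizer _)) |>.mp f.2
    exact ⟨⟨a, ha⟩, ⟨b, hb⟩, e⟩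
  choose π hπ using hex
  have huniq : ∀ (f : ↥(H ⊔ C)) (h : H) (c : C), (f : G) = h * c → π f = h := by
    intro f h c e
    obtain ⟨c', hc'⟩ := hπ f
    have h1 : (h : G)⁻¹ * π f = c * (c' : G)⁻¹ := by
      rw [eq_mul_inv_iff_mul_eq, mul_assoc, ← hc', e, inv_mul_cancel_left]
    have h2 : (h : G)⁻¹ * π f ∈ H ⊓ C :=
      mem_inf.mpr ⟨mul_mem (inv_mem h.2) (π f).2, h1 ▸ mul_mem c.2 (inv_mem c'.2)⟩
    rw [hdis, mem_bot, inv_mul_eq_one] at h2
    exact Subtype.ext h2.symm
  refine ⟨{ toFun := π, map_one' := huniq 1 1 1 (by simp), map_mul' := fun a b => ?_ },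
    fun h c f e => huniq f h c e, fun g hgH hgC f f' e => ?_⟩
  · obtain ⟨ca, ha⟩ := hπ a
    obtain ⟨cb, hb⟩ := hπ b
    refine huniq _ _ (ca * cb) ?_
    have hc : (π b : G) * ca = ca * π b := mem_centralizer_iff.mp (hcent ca.2) _ (π b).2
    rw [Subgroup.coe_mul, ha, hb, Subgroup.coe_mul, Subgroup.coe_mul]
    calc (π a : G) * ca * (π b * cb) = π a * (ca * π b) * cb := by group
      _ = π a * (π b * ca) * cb := by rw [hc]
      _ = _ := by group
  · obtain ⟨c, hc⟩ := hπ f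
    have h3 := huniq f' ⟨g * π f * g⁻¹, (mem_normalizer_iff.mp hgH _).mp (π f).2⟩
      ⟨g * c * g⁻¹, (mem_normalizer_iff.mp hgC _).mp c.2⟩ (by
        rw [e, hc]
        show g * ((π f : G) * c) * g⁻¹ = g * π f * g⁻¹ * (g * c * g⁻¹)
        group)
    exact congrArg Subtype.val h3

/-- Pulling back along the projection keeps stabilisers. -/
theorem fixes_proj {H C F : Subgroup G} (hF : F = H ⊔ C) {π : F →* H}
    (hπ : ∀ (h : H) (c : C) (f : F), (f : G) = h * c → π f = h)
    (hequiv : ∀ g : G, g ∈ normalizer (H : Set G) → g ∈ normalizer (C : Set G) → ∀ f f' : F,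
        (f' : G) = g * f * g⁻¹ → (π f' : G) = g * π f * g⁻¹)
    (α : H →* ℂˣ) {g : G} (hgH : g ∈ normalizer (H : Set G)) (hgC : g ∈ normalizer (C : Set G)) :
    (∀ f f' : F, (f' : G) = g * f * g⁻¹ → α (π f') = α (π f)) ↔ Fixes H g α := by
  refine ⟨fun h x x' e => ?_, fun h f f' e => h (π f) (π f') (hequiv g hgH hgC f f' e)⟩
  subst hF
  have hp : ∀ z : H, π ⟨z, mem_sup_left z.2⟩ = z := fun z => hπ z 1 _ (by simp)
  simpa [hp] using h ⟨x, mem_sup_left x.2⟩ ⟨x', mem_sup_left x'.2⟩ e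

end CfsgLib.OddLocal.Final
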