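import Cfsg.Agent.Lib.OddLocal.Final.FreeDiag
import Mathlib.GroupTheory.FiniteAbelian.Duality
import Mathlib.Analysis.Complex.Polynomial.Basic
import Mathlib.RingTheory.RootsOfUnity.Complex

/-!
Owner: helper16. Linear characters of `H`: those fixed by `W₁` correspond to the characters of `W₂` and are
regular for `U`; the regular ones that are not conjugate to these are free for `U W₁` (counts of blueprint v2).
-/

set_option autoImplicit false
set_option linter.unusedSectionVars false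

namespace CfsgLib.OddLocal.Final

open Subgroup
open scoped commutatorElement

variable {G : Type*} [Group G]

/-- `g` fixes the character `α` of `H`. -/
def Fixes (H : Subgroup G) (g : G) (α : H →* ℂˣ) : Prop :=
  ∀ x x' : H, (x' : G) = g * x * g⁻¹ → α x' = α x

/-- Only `C_U(H)` fixes `α` in `U`. -/
def Regular (H U : Subgroup G) (α : H →* ℂˣ) : Prop :=
  ∀ u ∈ U, Fixes H u α → u ∈ centralizer (H : Set G)

/-- Only `C_U(H)` fixes `α` in `U W₁`. -/
def IsFree (H U W₁ : Subgroup G) (α : H →* ℂˣ) : Prop :=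
  ∀ g ∈ U ⊔ W₁, Fixes H g α → g ∈ centralizer (H : Set G)

theorem fixes_iff {H : Subgroup G} {g : G} (hg : g ∈ normalizer (H : Set G)) {α : H →* ℂˣ} :
    Fixes H g α ↔ α.comp (conjHom H g hg) = α := by
  refine ⟨fun h => MonoidHom.ext fun x => h x (conjHom H g hg x) rfl, fun h x x' e => ?_⟩
  rw [show x' = conjHom H g hg x from Subtype.ext e]
  exact DFunLike.congr_fun h x

theorem fixes_comp {H : Subgroup G} {g v : G} (hg : g ∈ normalizer (H : Set G))
    (hv : v ∈ normalizer (H : Set G)) {α : H →* ℂˣ} :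
    Fixes H g (α.comp (conjHom H v hv)) ↔ Fixes H (v * g * v⁻¹) α := by
  have hv' : ∀ x : H, v * (x : G) * v⁻¹ ∈ H := fun x => (mem_normalizer_iff.mp hv x).mp x.2
  constructor
  · intro h x x' e
    have hx : v⁻¹ * (x : G) * v ∈ H := by simpa using (mem_normalizer_iff.mp (inv_mem hv) x).mp x.2
    have hx' : v⁻¹ * (x' : G) * v ∈ H := by simpa using (mem_normalizer_iff.mp (inv_mem hv) x').mp x'.2
    have h1 := h ⟨_, hx⟩ ⟨_, hx'⟩ (by show v⁻¹ * (x' : G) * v = _; rw [e]; group)
    have h2 : ∀ (y : G) (hy : v⁻¹ * y * v ∈ H) (hy' : y ∈ H), conjHom H v hv ⟨_, hy⟩ = ⟨y, hy'⟩ :=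
      fun y _ _ => Subtype.ext (by show v * (v⁻¹ * y * v) * v⁻¹ = y; group)
    simpa [h2 _ hx x.2, h2 _ hx' x'.2] using h1
  · intro h x x' e
    exact h (conjHom H v hv x) (conjHom H v hv x') (by
      show v * (x' : G) * v⁻¹ = v * g * v⁻¹ * (v * x * v⁻¹) * (v * g * v⁻¹)⁻¹
      rw [e]; group)

theorem fixes_of_centralizer {H : Subgroup G} {g : G} (hg : g ∈ centralizer (H : Set G)) (α : H →* ℂˣ) :
    Fixes H g α := fun x x' e => by
  rw [show x' = x from Subtype.ext (e.trans (mul_inv_eq_iff_eq_mul.mpr (mem_centralizer_iff.mp hg x x.2).symm))]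

theorem fixes_mul {H : Subgroup G} {g g' : G} (hg' : g' ∈ normalizer (H : Set G)) {α : H →* ℂˣ}
    (h : Fixes H g α) (h' : Fixes H g' α) : Fixes H (g * g') α := fun x x' e => by
  have hy : g' * (x : G) * g'⁻¹ ∈ H := (mem_normalizer_iff.mp hg' x).mp x.2
  exact (h ⟨_, hy⟩ x' (by rw [e]; group)).trans (h' x ⟨_, hy⟩ rfl)

theorem fixes_inv {H : Subgroup G} {g : G} {α : H →* ℂˣ} (h : Fixes H g α) : Fixes H g⁻¹ α :=
  fun x x' e => (h x' x (by rw [e]; group)).symm

theorem finite_homs (H : Subgroup G) [Finite G] : Finite (H →* ℂˣ) := by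
  have hne : NeZero (Nat.card H) := ⟨Nat.card_pos.ne'⟩
  let f : (H →* ℂˣ) → (H → rootsOfUnity (Nat.card H) ℂ) := fun α x =>
    ⟨α x, by rw [mem_rootsOfUnity, ← map_pow, pow_card_eq_one', map_one]⟩
  exact Finite.of_injective f fun α β h => MonoidHom.ext fun x =>
    congrArg (fun t : rootsOfUnity (Nat.card H) ℂ => (t : ℂˣ)) (congrFun h x)

variable [Finite G] {p q : ℕ} {H U W₁ W₂ : Subgroup G}

namespace KernelModule

variable (K : KernelModule p q H U W₁ W₂)
include K

theorem pow_apply (α : H →* ℂˣ) (x : H) : α x ^ p = 1 := by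
  rw [← map_pow, show x ^ p = 1 from Subtype.ext (by simpa using K.pow_eq_one x.2), map_one]

theorem card_homs : Nat.card (H →* ℂˣ) = p ^ q := by
  let _ : CommGroup H := { (inferInstance : Group H) with mul_comm := K.elem.1.is_comm.comm }
  rw [CommGroup.card_monoidHom_of_hasEnoughRootsOfUnity, K.card]

/-- Characters of `W₂` extend uniquely to `W₁`-fixed characters of `H`. -/
theorem fixed_restrict :
    (∀ α β : H →* ℂˣ, (∀ w ∈ W₁, Fixes H w α) → (∀ w ∈ W₁, Fixes H w β) →
      α.comp (inclusion K.le) = β.comp (inclusion K.le) → α = β) ∧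
    ∀ β : W₂ →* ℂˣ, ∃ α : H →* ℂˣ, (∀ w ∈ W₁, Fixes H w α) ∧ α.comp (inclusion K.le) = β := by
  classical
  let _ : CommGroup H := { (inferInstance : Group H) with mul_comm := K.elem.1.is_comm.comm }
  let : Fintype W₁ := Fintype.ofFinite W₁
  let c : W₁ → H →* H := fun w => conjHom H w (K.mem_normalizer_of_mem_W w.2)
  let N : H →* H := ∏ w, c w
  have hNapply : ∀ x, N x = ∏ w, c w x := fun x => MonoidHom.finsetProd_apply _ _ x
  have hcN : ∀ v x, c v (N x) = N x := by
    intro v x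
    rw [hNapply, map_prod]
    refine Fintype.prod_equiv (Equiv.mulLeft v) _ _ fun w => Subtype.ext ?_
    show (v : G) * ((w : G) * x * (w : G)⁻¹) * (v : G)⁻¹ = ((v * w : W₁) : G) * x * ((v * w : W₁) : G)⁻¹
    simp [mul_assoc]
  have hNc : ∀ v x, N (c v x) = N x := by
    intro v x
    rw [hNapply, hNapply]
    refine Fintype.prod_equiv (Equiv.mulRight v) _ _ fun w => Subtype.ext ?_
    show (w : G) * ((v : G) * x * (v : G)⁻¹) * (w : G)⁻¹ = ((w * v : W₁) : G) * x * ((w * v : W₁) : G)⁻¹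
    simp [mul_assoc]
  have hNW₂ : ∀ x, (N x : G) ∈ W₂ := fun x => K.fix.le (mem_inf.mpr ⟨(N x).2, mem_centralizer_iff.mpr fun v hv =>
    mul_inv_eq_iff_eq_mul.mp (congrArg Subtype.val (hcN ⟨v, hv⟩ x))⟩)
  have hq : Fintype.card W₁ = q := by rw [← Nat.card_eq_fintype_card, K.card_left]
  have hαN : ∀ α : H →* ℂˣ, (∀ w ∈ W₁, Fixes H w α) → ∀ x, α (N x) = α x ^ q := by
    intro α hα x
    rw [hNapply, map_prod, Finset.prod_congr rfl (fun (w : W₁) _ => hα w w.2 x (c w x) rfl), Finset.prod_const,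
      Finset.card_univ, hq]
  have hN2 : ∀ x : W₂, N (inclusion K.le x) = inclusion K.le x ^ q := by
    intro x
    rw [hNapply, Finset.prod_congr rfl fun w _ => (Subtype.ext ?_ : c w (inclusion K.le x) = inclusion K.le x),
      Finset.prod_const, Finset.card_univ, hq]
    show (w : G) * x * (w : G)⁻¹ = x
    exact mul_inv_eq_iff_eq_mul.mpr (mem_centralizer_iff.mp (K.fix.ge x.2).2 w w.2)
  have hcop : q.Coprime p := (Nat.coprime_primes K.prime_q K.prime_p).mpr K.ne
  obtain ⟨m, -, hm⟩ := Nat.exists_mul_mod_eq_one_of_coprime hcop K.prime_p.one_lt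
  have hroot : ∀ z : ℂˣ, z ^ p = 1 → (z ^ q) ^ m = z := fun z hz => by
    rw [← pow_mul, ← Nat.mod_add_div (q * m) p, hm, pow_add, pow_mul, hz, one_pow, mul_one, pow_one]
  refine ⟨fun α β hα hβ h => MonoidHom.ext fun x => ?_, fun β => ?_⟩
  · rw [← hroot _ (K.pow_apply α x), ← hroot _ (K.pow_apply β x), ← hαN α hα, ← hαN β hβ]
    congr 1
    exact DFunLike.congr_fun h ⟨_, hNW₂ x⟩
  · let N' : H →* W₂ :=
      { toFun := fun x => ⟨_, hNW₂ x⟩
        map_one' := Subtype.ext (by simp)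
        map_mul' := fun x y => Subtype.ext (by simp) }
    refine ⟨(powMonoidHom m).comp (β.comp N'), fun w hw x x' e => ?_, MonoidHom.ext fun x => ?_⟩
    · show β (N' x') ^ m = β (N' x) ^ m
      congr 2
      refine Subtype.ext ?_
      show ((N x' : H) : G) = ((N x : H) : G)
      rw [← hNc ⟨w, hw⟩ x, show x' = c ⟨w, hw⟩ x from Subtype.ext e]
    · show β (N' (inclusion K.le x)) ^ m = β x
      rw [show N' (inclusion K.le x) = x ^ q from Subtype.ext (by
        show ((N (inclusion K.le x) : H) : G) = _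
        rw [hN2]; simp), map_pow]
      refine hroot _ ?_
      rw [← map_pow, ← K.card_right, pow_card_eq_one', map_one]

/-- There are `p - 1` non-trivial `W₁`-fixed characters. -/
theorem card_fixed : Nat.card {α : H →* ℂˣ // α ≠ 1 ∧ ∀ w ∈ W₁, Fixes H w α} = p - 1 := by
  classical
  obtain ⟨hinj, hsurj⟩ := K.fixed_restrict
  have := finite_homs H
  have := finite_homs W₂
  let e : {α : H →* ℂˣ // α ≠ 1 ∧ ∀ w ∈ W₁, Fixes H w α} → {β : W₂ →* ℂˣ // β ≠ 1} := fun α =>
    ⟨α.1.comp (inclusion K.le), fun h => α.2.1 (hinj _ 1 α.2.2 (fun _ _ _ _ _ => rfl) (h.trans rfl))⟩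
  have he : Function.Bijective e := by
    refine ⟨fun α β h => Subtype.ext (hinj _ _ α.2.2 β.2.2 (congrArg Subtype.val h)), fun β => ?_⟩
    obtain ⟨α, hα, hαβ⟩ := hsurj β.1
    exact ⟨⟨α, fun h => β.2 (by rw [← hαβ, h]; rfl), hα⟩, Subtype.ext hαβ⟩
  rw [Nat.card_eq_of_bijective e he]
  let : Fintype (W₂ →* ℂˣ) := Fintype.ofFinite _
  rw [Nat.card_eq_fintype_card, Fintype.card_subtype_compl, Fintype.card_subtype_eq, ← Nat.card_eq_fintype_card]
  congr 1
  have := Fact.mk K.prime_p
  have : IsCyclic W₂ := isCyclic_of_prime_card K.card_right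
  let _ : CommGroup W₂ := IsCyclic.commGroup
  rw [CommGroup.card_monoidHom_of_hasEnoughRootsOfUnity, K.card_right]

/-- Galois: every non-trivial character is regular. -/
theorem regular_of_galois (hgal : IsGalois H U) {α : H →* ℂˣ} (hα : α ≠ 1) : Regular H U α := by
  intro u hu hfix
  by_contra hne
  have hfree := (K.galois_facts hgal).1 u hu hne
  let f : H → H := fun x => conjHom H u (K.mem_normalizer_of_mem_U hu) x * x⁻¹
  have hf : Function.Injective f := by
    intro x y h
    have h' : u * (x : G) * u⁻¹ * (x : G)⁻¹ = u * (y : G) * u⁻¹ * (y : G)⁻¹ := congrArg Subtype.val h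
    have hz : (y : G)⁻¹ * x ∈ H ⊓ centralizer {u} := by
      refine mem_inf.mpr ⟨mul_mem (inv_mem y.2) x.2, mem_centralizer_singleton_iff.mpr ?_⟩
      have hyz : u * ((y : G)⁻¹ * x) * u⁻¹ = (y : G)⁻¹ * x := by
        have hc := K.commute_H (K.conj_mem (mem_sup_left hu) y.2) (inv_mem y.2)
        calc u * ((y : G)⁻¹ * x) * u⁻¹ = (u * (y : G) * u⁻¹)⁻¹ * (u * (x : G) * u⁻¹ * (x : G)⁻¹) * x := by group
          _ = (u * (y : G) * u⁻¹)⁻¹ * (u * (y : G) * u⁻¹ * (y : G)⁻¹) * x := by rw [h']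
          _ = _ := by group
      exact (mul_inv_eq_iff_eq_mul.mp hyz).symm
    rw [hfree, mem_bot, inv_mul_eq_one] at hz
    exact (Subtype.ext hz).symm
  refine hα (MonoidHom.ext fun x => ?_)
  obtain ⟨y, rfl⟩ := (Finite.injective_iff_surjective.mp hf) x
  rw [MonoidHom.one_apply, map_mul, map_inv, mul_inv_eq_one]
  exact hfix y _ rfl

/-- Non-trivial `W₁`-fixed characters are regular. -/
theorem regular_of_fixed {α : H →* ℂˣ} (hα : α ≠ 1) (hfix : ∀ w ∈ W₁, Fixes H w α) : Regular H U α := by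
  rcases K.galois_or_diag with hgal | ⟨x, D⟩
  · exact K.regular_of_galois hgal hα
  have := Fact.mk K.prime_p
  obtain ⟨f, hf, hone, hker, -⟩ := D.exists_hom K
  have hval : ∀ t : W₁, α ⟨D.line t, D.line_mem t⟩ = α ⟨x, D.mem⟩ := fun t =>
    hfix t t.2 ⟨x, D.mem⟩ ⟨D.line t, D.line_mem t⟩ rfl
  have hx : α ⟨x, D.mem⟩ ≠ 1 := by
    intro h
    refine hα (MonoidHom.ext fun y => ?_)
    have hle : H ≤ (α.ker).map H.subtype := by
      conv_lhs => rw [← D.span]
      exact iSup_le fun t => zpowers_le.mpr ⟨⟨D.line t, D.line_mem t⟩, (hval t).trans h, rfl⟩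
    obtain ⟨z, hz, hze⟩ := hle y.2
    rw [← show z = y from Subtype.ext hze]
    exact hz
  intro u hu hfu
  refine (hker ⟨u, hu⟩).mp fun t => ?_
  have h1 : α ⟨x, D.mem⟩ ^ ((f t ⟨u, hu⟩ : ZMod p).val) = α ⟨x, D.mem⟩ := by
    rw [← hval t, ← map_pow]
    exact hfu ⟨D.line t, D.line_mem t⟩ _ (by simpa using (hf t ⟨u, hu⟩).symm)
  have ho := orderOf_eq_prime (K.pow_apply α ⟨x, D.mem⟩) hx
  refine Units.ext (ZMod.val_injective p ?_)
  rw [Units.val_one, ZMod.val_one]
  have h2 := pow_inj_mod.mp (h1.trans (pow_one _).symm)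
  rwa [ho, Nat.mod_eq_of_lt (ZMod.val_lt _), Nat.mod_eq_of_lt K.prime_p.one_lt] at h2

/-- The free characters and the conjugates of the fixed ones make up the regular ones. -/
theorem card_free_add :
    Nat.card {α : H →* ℂˣ // IsFree H U W₁ α} + (p - 1) * (centralizer (H : Set G)).relIndex U =
      Nat.card {α : H →* ℂˣ // Regular H U α} := by
  classical
  have := finite_homs H
  have hnormal := K.centralizer_normal
  set C := (centralizer (H : Set G)).subgroupOf U with hC
  have hmk : ∀ a b : U, ((a : U ⧸ C) = b ↔ (a : G)⁻¹ * b ∈ centralizer (H : Set G)) := fun a b =>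
    QuotientGroup.eq.trans mem_subgroupOf
  have hsame : ∀ (a b : G) (ha : a ∈ normalizer (H : Set G)) (hb : b ∈ normalizer (H : Set G)),
      a⁻¹ * b ∈ centralizer (H : Set G) → conjHom H a ha = conjHom H b hb := fun a b ha hb h =>
    MonoidHom.ext fun x => Subtype.ext (by
      show a * x * a⁻¹ = b * x * b⁻¹
      have h1 : (a⁻¹ * b) * x * (a⁻¹ * b)⁻¹ = x :=
        mul_inv_eq_iff_eq_mul.mpr (mem_centralizer_iff.mp h x x.2).symm
      calc a * x * a⁻¹ = a * ((a⁻¹ * b) * x * (a⁻¹ * b)⁻¹) * a⁻¹ := by rw [h1]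
        _ = _ := by group)
  have hNU : ∀ u : U, (u : G)⁻¹ ∈ normalizer (H : Set G) := fun u => K.mem_normalizer_of_mem_U (inv_mem u.2)
  set Conj : Set (H →* ℂˣ) := {α | Regular H U α ∧ ∃ v ∈ U, ∀ w ∈ W₁, Fixes H (v * w * v⁻¹) α} with hConj
  have hreg_ne : ∀ α : H →* ℂˣ, Regular H U α → α ≠ 1 := fun α h e =>
    K.nontriv fun u hu => h u hu (e ▸ fun _ _ _ => rfl)
  -- regular characters moved by `U`
  have hreg : ∀ (β : H →* ℂˣ) (v : U), Regular H U β →
      Regular H U (β.comp (conjHom H (v : G)⁻¹ (hNU v))) := by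
    intro β v hβ u hu hfu
    have h1 := hβ _ (mul_mem (mul_mem (inv_mem v.2) hu) (inv_mem (inv_mem v.2)))
      ((fixes_comp (K.mem_normalizer_of_mem_U hu) _).mp hfu)
    have h2 := hnormal.conj_mem ⟨_, mul_mem (mul_mem (inv_mem v.2) hu) (inv_mem (inv_mem v.2))⟩
      (mem_subgroupOf.mpr h1) v
    simpa [mul_assoc] using mem_subgroupOf.mp h2
  -- the conjugates of the fixed characters
  have hcard : Conj.ncard = (p - 1) * (centralizer (H : Set G)).relIndex U := by
    rw [← Nat.card_coe_set_eq, ← K.card_fixed, Subgroup.relIndex, ← hC, index, ← Nat.card_prod, eq_comm]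
    refine Nat.card_eq_of_bijective (fun a => ⟨a.1.1.comp (conjHom H (a.2.out : G)⁻¹ (hNU _)),
      hreg _ _ (K.regular_of_fixed a.1.2.1 a.1.2.2), (a.2.out : G), a.2.out.2, fun w hw => ?_⟩) ⟨?_, ?_⟩
    · refine (fixes_comp (K.norm ?_) _).mpr ?_
      · exact mul_mem (mul_mem (mem_sup_left a.2.out.2) (mem_sup_right hw)) (inv_mem (mem_sup_left a.2.out.2))
      · simpa [mul_assoc] using a.1.2.2 w hw
    · rintro ⟨β, c⟩ ⟨β', c'⟩ h
      have h' : β.1.comp (conjHom H (c.out : G)⁻¹ (hNU _)) = β'.1.comp (conjHom H (c'.out : G)⁻¹ (hNU _)) :=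
        congrArg Subtype.val h
      set a : U := c.out⁻¹ * c'.out with ha
      have haN := K.mem_normalizer_of_mem_U a.2
      have h2 : β'.1 = β.1.comp (conjHom H (a : G) haN) := by
        ext1 x
        have h3 := DFunLike.congr_fun h' (conjHom H (c'.out : G) (K.mem_normalizer_of_mem_U c'.out.2) x)
        simp only [MonoidHom.comp_apply] at h3 ⊢
        convert h3.symm using 2 <;> exact Subtype.ext (by simp [conjHom, ha, mul_assoc])
      have haC : (a : G) ∈ centralizer (H : Set G) := K.scalar a.2 fun w hw => by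
        have hwa : Fixes H ((a : G) * w * (a : G)⁻¹) β.1 :=
          (fixes_comp (K.mem_normalizer_of_mem_W hw) haN).mp (h2 ▸ β'.2.2 w hw)
        refine K.regular_of_fixed β.2.1 β.2.2 _
          (by rw [commutatorElement_def]; exact mul_mem (K.conj_U hw a.2) (inv_mem a.2)) ?_
        rw [show ⁅w, (a : G)⁆ = w * ((a : G) * w⁻¹ * (a : G)⁻¹) by rw [commutatorElement_def]; group]
        refine fixes_mul (K.norm (mul_mem (mul_mem (mem_sup_left a.2) (mem_sup_right (inv_mem hw)))
          (inv_mem (mem_sup_left a.2)))) (β.2.2 w hw) ?_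
        rw [show (a : G) * w⁻¹ * (a : G)⁻¹ = ((a : G) * w * (a : G)⁻¹)⁻¹ by group]
        exact fixes_inv hwa
      have hc : c = c' := by
        rw [← Quotient.out_eq c, ← Quotient.out_eq c']
        exact (hmk c.out c'.out).mpr haC
      refine Prod.ext (Subtype.ext ?_) hc
      rw [h2]
      exact ((fixes_iff haN).mp (fixes_of_centralizer haC _)).symm
    · rintro ⟨α, hα, v, hv, hfix⟩
      have hvN := K.mem_normalizer_of_mem_U hv
      let β : {β : H →* ℂˣ // β ≠ 1 ∧ ∀ w ∈ W₁, Fixes H w β} := ⟨α.comp (conjHom H v hvN), fun h => hreg_ne α hα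
          (MonoidHom.ext fun x => by
            have hx : v⁻¹ * (x : G) * v ∈ H := by simpa using (mem_normalizer_iff.mp (inv_mem hvN) x).mp x.2
            have h4 := DFunLike.congr_fun h ⟨_, hx⟩
            rwa [MonoidHom.comp_apply, show conjHom H v hvN ⟨_, hx⟩ = x from Subtype.ext (by simp [conjHom, mul_assoc])]
              at h4),
        fun w hw => (fixes_comp (K.mem_normalizer_of_mem_W hw) hvN).mpr (hfix w hw)⟩
      refine ⟨(β, (⟨v, hv⟩ : U)), Subtype.ext (MonoidHom.ext fun x => ?_)⟩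
      set c : U ⧸ C := ((⟨v, hv⟩ : U) : U ⧸ C)
      show α (conjHom H v hvN (conjHom H (c.out : G)⁻¹ (hNU _) x)) = α x
      have h3 := (hmk c.out ⟨v, hv⟩).mp (Quotient.out_eq c)
      rw [← hsame _ _ (K.mem_normalizer_of_mem_U c.out.2) hvN h3]
      congr 1
      exact Subtype.ext (by simp [conjHom, mul_assoc])
  rw [← hcard, ← Nat.card_coe_set_eq]
  rw [show Nat.card {α : H →* ℂˣ // IsFree H U W₁ α} = {α : H →* ℂˣ | IsFree H U W₁ α}.ncard from
    Nat.card_coe_set_eq _, Nat.card_coe_set_eq,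
    show Nat.card {α : H →* ℂˣ // Regular H U α} = {α : H →* ℂˣ | Regular H U α}.ncard from Nat.card_coe_set_eq _]
  rw [← Set.ncard_union_eq ?_]
  · congr 1
    ext α
    refine ⟨fun h => h.elim (fun hf u hu => hf u (mem_sup_left hu)) And.left, fun hα => ?_⟩
    by_contra hne
    obtain ⟨g, hg, hfg, hgC⟩ : ∃ g ∈ U ⊔ W₁, Fixes H g α ∧ g ∉ centralizer (H : Set G) := by
      have h1 : ¬ IsFree H U W₁ α := fun h => hne (Or.inl h)
      simp only [IsFree, not_forall] at h1
      obtain ⟨g, hg, hf, hc⟩ := h1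
      exact ⟨g, hg, hf, hc⟩
    refine hne (Or.inr ⟨hα, ?_⟩)
    rw [sup_comm] at hg
    obtain ⟨a, ha, w, hw, rfl⟩ := (Core.mem_sup_iff_mul' K.norm_U).mp hg
    have hw1 : w ≠ 1 := by
      rintro rfl
      rw [mul_one] at hfg hgC
      exact hgC (hα a ha hfg)
    let _ : CommGroup (U ⧸ C) :=
      { (inferInstance : Group (U ⧸ C)) with
        mul_comm := fun a b => by
          obtain ⟨a, rfl⟩ := QuotientGroup.mk_surjective a
          obtain ⟨b, rfl⟩ := QuotientGroup.mk_surjective b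
          rw [← QuotientGroup.mk_mul, ← QuotientGroup.mk_mul, hmk]
          have := K.comm _ (inv_mem b.2) _ (inv_mem a.2)
          simpa [commutatorElement_def, mul_assoc] using this }
    let σ : U → U := fun v => ⟨w * v * w⁻¹, K.conj_U hw v.2⟩
    let φ : U ⧸ C → U ⧸ C := fun c => (c.out : U ⧸ C) * ((σ c.out : U) : U ⧸ C)⁻¹
    have hφ : Function.Injective φ := by
      intro c c' h
      have h1 : (((c'.out⁻¹ * c.out : U)) : U ⧸ C) = ((σ (c'.out⁻¹ * c.out) : U) : U ⧸ C) := by
        rw [show σ (c'.out⁻¹ * c.out) = (σ c'.out)⁻¹ * σ c.out from Subtype.ext (by simp [σ, mul_assoc]),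
          QuotientGroup.mk_mul, QuotientGroup.mk_mul, QuotientGroup.mk_inv, QuotientGroup.mk_inv]
        have h' : (c.out : U ⧸ C) * ((σ c.out : U) : U ⧸ C)⁻¹ = (c'.out : U ⧸ C) * ((σ c'.out : U) : U ⧸ C)⁻¹ := h
        rw [mul_inv_eq_iff_eq_mul] at h'
        rw [h']
        simp [mul_assoc]
      set z : U := c'.out⁻¹ * c.out
      have h2 : (z : G) ∈ centralizer (H : Set G) := K.scalar_of z.2 hw hw1 fun x hx => by
        have h3 := congrArg Subtype.val (DFunLike.congr_fun (hsame _ _ (K.mem_normalizer_of_mem_U z.2)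
          (K.mem_normalizer_of_mem_U (σ z).2) ((hmk z (σ z)).mp h1))
          ⟨w * x * w⁻¹, K.conj_mem (mem_sup_right hw) hx⟩)
        refine Eq.trans ?_ h3.symm
        show _ = w * z * w⁻¹ * (w * x * w⁻¹) * (w * (z : G) * w⁻¹)⁻¹
        group
      rw [← Quotient.out_eq c, ← Quotient.out_eq c']
      exact ((hmk c'.out c.out).mpr h2).symm
    obtain ⟨c, hc⟩ := (Finite.injective_iff_surjective.mp hφ) ((⟨a, ha⟩ : U) : U ⧸ C)
    refine ⟨c.out, c.out.2, ?_⟩
    have hc' : ((⟨a, ha⟩ : U) : U ⧸ C) = ((c.out * (σ c.out)⁻¹ : U) : U ⧸ C) := hc.symm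
    have h4 := (hmk _ _).mp hc'
    set d : U := c.out * (σ c.out)⁻¹ with hd
    have hd' : (d : G) * w = (c.out : G) * w * (c.out : G)⁻¹ := by simp [hd, σ, mul_assoc]
    have hfd : Fixes H ((c.out : G) * w * (c.out : G)⁻¹) α := by
      rw [← hd', show (d : G) * w = a * w * (w⁻¹ * (a⁻¹ * d) * w) by group]
      refine fixes_mul ?_ hfg ?_
      · refine K.norm (mul_mem (mul_mem (inv_mem (mem_sup_right hw)) ?_) (mem_sup_right hw))
        exact mul_mem (inv_mem (mem_sup_left ha)) (mem_sup_left d.2)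
      · refine fixes_of_centralizer (mem_centralizer_iff.mpr fun x hx => ?_) α
        have h5 := mem_centralizer_iff.mp h4 _ (K.conj_mem (mem_sup_right hw) hx)
        calc x * (w⁻¹ * (a⁻¹ * d) * w) = w⁻¹ * (w * x * w⁻¹ * (a⁻¹ * d)) * w := by group
          _ = w⁻¹ * (a⁻¹ * d * (w * x * w⁻¹)) * w := by rw [h5]
          _ = _ := by group
    intro w' hw'
    have hgen : W₁ = zpowers w := by
      refine (eq_of_le_of_card_ge (zpowers_le.mpr hw) ?_).symm
      have := Fact.mk K.prime_q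
      rw [K.card_left, Nat.card_zpowers,
        orderOf_eq_prime (orderOf_dvd_iff_pow_eq_one.mp (K.card_left ▸ W₁.orderOf_dvd_natCard hw)) hw1]
    obtain ⟨n, rfl⟩ := mem_powers_iff_mem_zpowers.mpr (hgen.le hw')
    clear hw'
    induction n with
    | zero => simpa using fixes_of_centralizer (one_mem (centralizer (H : Set G))) α
    | succ n ih =>
      rw [show (c.out : G) * w ^ (n + 1) * (c.out : G)⁻¹ =
        ((c.out : G) * w ^ n * (c.out : G)⁻¹) * ((c.out : G) * w * (c.out : G)⁻¹) by rw [pow_succ]; group]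
      exact fixes_mul (K.norm (mul_mem (mul_mem (mem_sup_left c.out.2) (mem_sup_right hw))
        (inv_mem (mem_sup_left c.out.2)))) ih hfd
  · rw [Set.disjoint_left]
    rintro α hf ⟨hα, v, hv, hfix⟩
    obtain ⟨w, hw, hw1⟩ := W₁.bot_or_exists_ne_one.resolve_left fun e =>
      K.prime_q.ne_one (by rw [← K.card_left, e, card_bot])
    have h1 := hf _ (mul_mem (mul_mem (mem_sup_left hv) (mem_sup_right hw)) (inv_mem (mem_sup_left hv))) (hfix w hw)
    refine K.nontriv fun u hu => K.scalar_of hu hw hw1 fun x hx => ?_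
    have key : ∀ y ∈ H, w * y * w⁻¹ = y := fun y hy => by
      have h2 := mem_centralizer_iff.mp h1 _ (K.conj_mem (mem_sup_left hv) hy)
      calc w * y * w⁻¹ = v⁻¹ * (v * w * v⁻¹ * (v * y * v⁻¹) * (v * w * v⁻¹)⁻¹) * v := by group
        _ = v⁻¹ * (v * y * v⁻¹) * v := by rw [← h2, mul_inv_cancel_right]
        _ = y := by group
    rw [key x hx, key _ (K.conj_mem (mem_sup_left hu) hx)]

/-- Galois: `p ^ q - 1` regular characters. -/
theorem card_regular_galois (hgal : IsGalois H U) :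
    Nat.card {α : H →* ℂˣ // Regular H U α} = p ^ q - 1 := by
  classical
  have := finite_homs H
  let : Fintype (H →* ℂˣ) := Fintype.ofFinite _
  have h : ∀ α : H →* ℂˣ, Regular H U α ↔ α ≠ 1 := fun α =>
    ⟨fun h e => K.nontriv fun u hu => h u hu (e ▸ fun _ _ _ => rfl), K.regular_of_galois hgal⟩
  rw [Nat.card_congr (Equiv.subtypeEquivRight h), Nat.card_eq_fintype_card, Fintype.card_subtype_compl,
    Fintype.card_subtype_eq, ← Nat.card_eq_fintype_card, K.card_homs]

/-- Diagonal: at least `(p - 1) ^ (q - 1) (p - 1 + q)` regular characters. -/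
theorem card_regular_diag {x : G} (D : Diag H U W₁ x) :
    (p - 1) ^ (q - 1) * (p - 1 + q) ≤ Nat.card {α : H →* ℂˣ // Regular H U α} := by
  classical
  have := Fact.mk K.prime_p
  have := finite_homs H
  have : NeZero p := ⟨K.prime_p.ne_zero⟩
  obtain ⟨f, hf, hone, -, -⟩ := D.exists_hom K
  let : Fintype W₁ := Fintype.ofFinite W₁
  let : Fintype (rootsOfUnity p ℂ) := Fintype.ofFinite _
  have hμ : Fintype.card (rootsOfUnity p ℂ) = p := by
    rw [← Nat.card_eq_fintype_card, Complex.card_rootsOfUnity]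
  let z : (H →* ℂˣ) → (W₁ → rootsOfUnity p ℂ) := fun α t =>
    ⟨α ⟨D.line t, D.line_mem t⟩, by rw [mem_rootsOfUnity]; exact K.pow_apply α _⟩
  have hz : Function.Bijective z := by
    refine (Nat.bijective_iff_injective_and_card z).mpr ⟨fun α β h => MonoidHom.ext fun y => ?_, ?_⟩
    · have hle : H ≤ (α.eqLocus β).map H.subtype := by
        conv_lhs => rw [← D.span]
        exact iSup_le fun t => zpowers_le.mpr ⟨⟨D.line t, D.line_mem t⟩,
          congrArg (fun u : rootsOfUnity p ℂ => (u : ℂˣ)) (congrFun h t), rfl⟩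
      obtain ⟨y', hy', hye⟩ := hle y.2
      rw [← show y' = y from Subtype.ext hye]
      exact hy'
    · rw [K.card_homs, Nat.card_fun, Complex.card_rootsOfUnity, K.card_left]
  set μ' := (Finset.univ : Finset (rootsOfUnity p ℂ)).erase 1 with hμ'
  have hμ'c : μ'.card = p - 1 := by rw [Finset.card_erase_of_mem (Finset.mem_univ _), Finset.card_univ, hμ]
  let E : Option W₁ → Finset (W₁ → rootsOfUnity p ℂ) := fun i =>
    Fintype.piFinset fun t => if i = some t then {1} else μ'
  have hdisj : (↑(Finset.univ : Finset (Option W₁)) : Set (Option W₁)).PairwiseDisjoint E := by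
    intro i _ j _ hij
    rw [Function.onFun, Finset.disjoint_left]
    intro a ha ha'
    simp only [E, Fintype.mem_piFinset] at ha ha'
    have key : ∀ (i j : Option W₁) t, i = some t → j ≠ i →
        a t ∈ (if i = some t then {1} else μ') → a t ∈ (if j = some t then {1} else μ') → False := by
      intro i j t hi hji h1 h2
      rw [if_pos hi, Finset.mem_singleton] at h1
      rw [if_neg (hi ▸ hji), hμ', Finset.mem_erase] at h2
      exact h2.1 h1
    cases i with
    | none =>
      cases j with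
      | none => exact hij rfl
      | some t => exact key (some t) none t rfl (by simp) (ha' t) (ha t)
    | some t => exact key (some t) j t rfl (Ne.symm hij) (ha t) (ha' t)
  have hsum : ((Finset.univ : Finset (Option W₁)).biUnion E).card = (p - 1) ^ (q - 1) * (p - 1 + q) := by
    rw [Finset.card_biUnion hdisj, Fintype.sum_option]
    have hq : Fintype.card W₁ = q := by rw [← Nat.card_eq_fintype_card, K.card_left]
    have h0 : (E none).card = (p - 1) ^ q := by
      simp [E, Fintype.card_piFinset, hμ'c, hq]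
    have h1 : ∀ t, (E (some t)).card = (p - 1) ^ (q - 1) := by
      intro t
      rw [Fintype.card_piFinset, ← Finset.mul_prod_erase _ _ (Finset.mem_univ t)]
      simp only [↓reduceIte, Finset.card_singleton, one_mul]
      rw [Finset.prod_congr rfl fun s hs => by
        rw [if_neg (fun e => (Finset.mem_erase.mp hs).1 (Option.some.inj e).symm), hμ'c],
        Finset.prod_const, Finset.card_erase_of_mem (Finset.mem_univ t), Finset.card_univ, hq]
    rw [h0, Finset.sum_congr rfl fun t _ => h1 t, Finset.sum_const, Finset.card_univ, hq, smul_eq_mul]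
    obtain ⟨n, rfl⟩ : ∃ n, q = n + 1 := ⟨q - 1, by have := K.prime_q.two_le; omega⟩
    simp only [Nat.add_sub_cancel, pow_succ]
    ring
  have hreg : ∀ a ∈ (Finset.univ : Finset (Option W₁)).biUnion E, ∀ α : H →* ℂˣ, z α = a → Regular H U α := by
    intro a ha α hα u hu hfu
    obtain ⟨i, -, hi⟩ := Finset.mem_biUnion.mp ha
    simp only [E, Fintype.mem_piFinset] at hi
    refine D.fix_all K hu (i.getD 1) fun t ht => ?_
    have hne : a t ≠ 1 := by
      have h1 := hi t
      rw [if_neg (fun e => ht (by rw [e]; rfl))] at h1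
      exact (Finset.mem_erase.mp h1).1
    have hne' : α ⟨D.line t, D.line_mem t⟩ ≠ 1 := fun e => hne (by rw [← hα]; exact Subtype.ext e)
    refine (hone t ⟨u, hu⟩).mp (Units.ext (ZMod.val_injective p ?_))
    rw [Units.val_one, ZMod.val_one]
    have h2 : α ⟨D.line t, D.line_mem t⟩ ^ ((f t ⟨u, hu⟩ : ZMod p).val) = α ⟨D.line t, D.line_mem t⟩ := by
      rw [← map_pow]
      exact hfu ⟨D.line t, D.line_mem t⟩ _ (by simpa using (hf t ⟨u, hu⟩).symm)
    have h3 := pow_inj_mod.mp (h2.trans (pow_one _).symm)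
    rwa [orderOf_eq_prime (K.pow_apply α _) hne', Nat.mod_eq_of_lt (ZMod.val_lt _),
      Nat.mod_eq_of_lt K.prime_p.one_lt] at h3
  choose g hg using hz.2
  rw [← hsum, ← Nat.card_eq_finsetCard]
  refine Nat.card_le_card_of_injective (fun a => ⟨g a.1, hreg a.1 a.2 _ (hg a.1)⟩) fun a b h => ?_
  have h' : g a.1 = g b.1 := congrArg Subtype.val h
  exact Subtype.ext (by rw [← hg a.1, h', hg])

end KernelModule

end CfsgLib.OddLocal.Final
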