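import Cfsg.Agent.Lib.OddLocal.Basic
import Mathlib.Data.Nat.ModEq

/-!
Owner: helper16. Blueprint O4: `h < (2 p q + 1) u` makes the kernel over `N(U)` equal to `U`, so the whole
complement normalises `U`.
-/

set_option autoImplicit false

namespace CfsgLib.OddLocal.Final

open Subgroup

variable {G : Type*} [Group G] [Finite G] {U K E L : Subgroup G}

theorem kernel_eq_of_bound {N : ℕ} (hUK : U ≤ K) (hu : Nat.card U ≡ 1 [MOD N]) (hk : Nat.card K ≡ 1 [MOD N])
    (hb : Nat.card K < (N + 1) * Nat.card U) : U = K := by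
  obtain ⟨m, hm⟩ := card_dvd_of_le hUK
  refine eq_of_le_of_card_ge hUK ?_
  rw [hm] at hk hb ⊢
  have hm1 : m ≡ 1 [MOD N] := by
    simpa using (hu.mul_right m).symm.trans hk
  have hm0 : m ≠ 0 := by
    rintro rfl
    have := Nat.card_pos (α := K)
    omega
  have hlt : m < N + 1 := by
    by_contra h
    push Not at h
    have := Nat.mul_le_mul_left (Nat.card U) h
    nlinarith
  rcases Nat.lt_or_ge m 2 with h | h
  · have : m = 1 := by omega
    rw [this, mul_one]
  · exfalso
    have := (Nat.modEq_iff_dvd' (by omega : 1 ≤ m)).mp hm1.symm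
    have := Nat.le_of_dvd (by omega) this
    omega

theorem le_normalizer_of_bound {N : ℕ} (hUK : U ≤ K) (hu : Nat.card U ≡ 1 [MOD N])
    (hk : Nat.card K ≡ 1 [MOD N]) (hb : Nat.card K < (N + 1) * Nat.card U) (hE : E ≤ L)
    (hL : L ≤ normalizer (K : Set G)) : E ≤ normalizer (U : Set G) := by
  rw [kernel_eq_of_bound hUK hu hk hb]
  exact hE.trans hL

end CfsgLib.OddLocal.Final
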