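import Cfsg.Agent.Lib.OddLocal.P2SignalizerMain
import Cfsg.Agent.Lib.OddLocal.Frob12.TypePairs
import Cfsg.Agent.Lib.Core.FPFComplement

/-!
Owner: helper16. The maximal subgroups over `N(U)` for a subgroup of type II (Peterfalvi 14, first part):
they are of Type I, Frobenius, contain `U` in the kernel, and `H ∩ M*` is a complement with `K` normal in it.
-/

set_option autoImplicit false

namespace CfsgLib.OddLocal.Final

open Subgroup
open CfsgLib.TwoGroups
open CfsgLib.OddLocal.Kappa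
open PrimeActionTools FixedTauOne TauThree
open SigmaOrderP (sigmaCore_le le_normalizer_sigmaCore le_sigmaCore)

variable {G : Type*} [Group G] [Finite G] {M K U E L H : Subgroup G}

/-- `N(U)` is not contained in `M`. -/
theorem normalizer_not_le (hG : Cfsg.IsMinSimpleOddOrder G) (d : Data M K E)
    (h : Cfsg.IsSigmaDecomposition M K U) (hU : U ≠ ⊥) (P : Pair M K L) :
    ¬ normalizer (U : Set G) ≤ M := by
  intro hle
  obtain ⟨r, hr, hrd⟩ := Nat.exists_prime_and_dvd (fun e : Nat.card U = 1 => hU (eq_bot_of_card_eq _ e))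
  have := Fact.mk hr
  obtain ⟨R⟩ : Nonempty (Sylow r U) := inferInstance
  obtain ⟨hRp, hR1, -⟩ := Signal.sylow_sub hG d.max h d.ne_bot hrd R
  obtain ⟨H, hH, hNH⟩ := (eq_top_or_exists_le_coatom _).resolve_left
    (TransitivityHyp.normalizer_ne_top hG hR1 (Uniqueness.ne_top_of_pGroup hG hRp))
  exact (signalizer hG d h hU P hrd R hH hNH).2.2.2.1 (inf_le_right.trans hle)

/-- Any maximal subgroup over `N(U)` carries the setting of the signalizer theorem. -/
theorem signal_of_normalizer_U (hG : Cfsg.IsMinSimpleOddOrder G) (d : Data M K E)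
    (h : Cfsg.IsSigmaDecomposition M K U) (hU : U ≠ ⊥) (P : Pair M K L) (hH : IsCoatom H)
    (hN : normalizer (U : Set G) ≤ H) : Signal M K U L H := by
  have hM := d.max
  have hp := TypeP2.card_K_prime hG hM h d.ne_bot hU
  have := Fact.mk hp
  obtain ⟨F, dL⟩ := P.data
  have hle : U ⊔ K ≤ H := (sup_le le_normalizer h.normal).trans hN
  refine ⟨⟨E, d⟩, h, d.ne_bot, hU, P, hH, hp, hle, fun g e => hU ?_, fun g e => ?_⟩
  · have hKL : K ≤ L := P.K_le_core.trans (sigmaCore_le L)
    have hg : g ∈ L := SigmaIntersection.mem_of_only hG dL.max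
      (TauTwo.mem_sigma_of_dvd hp (card_dvd_of_le P.K_le_core) hG dL.max) (isPGroup_of_card_eq rfl)
      d.ne_bot hKL (dL.only_fixed hG rfl P.star_star.ge).1 (e ▸ le_sup_right.trans hle)
    rw [Support.map_conj_of_mem hg] at e
    refine le_bot_iff.mp ((le_inf le_rfl ?_).trans h.compl.2.2.1.le)
    exact ((le_inf h.compl.1 (e ▸ le_sup_left.trans hle)).trans (P.inf_eq d hG).le).trans
      (sup_le_sup_left inf_le_left K)
  · -- `U` and `U^g` are Hall subgroups of `H`
    have hall := hall_of_compl hG hM h.hall h.compl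
    have : Group.IsSolvable H := hG.2.2.2 H hH.1
    set U' := U.map (MulAut.conj g).toMonoidHom with hU'
    have hU'H : U' ≤ H := e ▸ map_mono hall.1
    have hUH : U ≤ H := le_sup_left.trans hle
    have hcH : Nat.card H = Nat.card M := by rw [e, Transfer.card_map_conj]
    have key : ∀ V : Subgroup G, V ≤ H → Nat.card V = Nat.card U →
        Cfsg.IsPiHall (restPrimes M) (V.subgroupOf H) := by
      intro V hV hc
      refine ⟨fun t ht hd => ?_, fun t ht hπ hd => hall.2.2 t ht hπ ?_⟩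
      · rw [Nat.card_congr (subgroupOfEquivOfLe hV).toEquiv, hc] at hd
        exact hall.2.1 t ht hd
      · have h1 := relIndex_mul_relIndex ⊥ V H bot_le hV
        have h2 := relIndex_mul_relIndex ⊥ U M bot_le hall.1
        rw [relIndex_bot_left, relIndex_bot_left] at h1 h2
        rw [hcH, ← h2, hc] at h1
        rwa [← Nat.eq_of_mul_eq_mul_left Nat.card_pos h1]
    obtain ⟨⟨m, hm⟩, hmU⟩ := Core.piHall_conj (key U' hU'H (Transfer.card_map_conj g U)) (key U hUH rfl)
    have hn : m * g ∈ normalizer (U : Set G) := by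
      refine Transfer.map_conj_eq_self_iff.mp (eq_of_le_of_card_ge ?_ (Transfer.card_map_conj _ U).ge)
      rintro _ ⟨u, hu, rfl⟩
      have h1 : g * u * g⁻¹ ∈ U' := ⟨u, hu, rfl⟩
      have h2 := hmU.le ((Subgroup.smul_mem_pointwise_smul_iff (a := MulAut.conj (⟨m, hm⟩ : H))).mpr
        (show (⟨g * u * g⁻¹, hU'H h1⟩ : H) ∈ U'.subgroupOf H from h1))
      show m * g * u * (m * g)⁻¹ ∈ U
      rw [show m * g * u * (m * g)⁻¹ = m * (g * u * g⁻¹) * m⁻¹ by group]
      exact mem_subgroupOf.mp h2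
    have hgH : g ∈ H := by simpa using mul_mem (inv_mem hm) (hN hn)
    rw [e] at hgH
    have hgM : g ∈ M := by simpa [mul_assoc] using Transfer.mem_map_conj.mp hgH
    rw [Support.map_conj_of_mem hgM] at e
    exact normalizer_not_le hG d h hU P (e ▸ hN)

/-- A maximal subgroup over `N(U)` has `U` in its `σ`-core. -/
theorem U_le_core (hG : Cfsg.IsMinSimpleOddOrder G) (d : Data M K E)
    (h : Cfsg.IsSigmaDecomposition M K U) (hU : U ≠ ⊥) (P : Pair M K L) (hH : IsCoatom H)
    (hN : normalizer (U : Set G) ≤ H) : U ≤ Cfsg.sigmaCore H := by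
  have S := signal_of_normalizer_U hG d h hU P hH hN
  have hle := S.le_H
  have hUH : U ≤ H := le_sup_left.trans hle
  have hUc := SigmaFactor.commutative_of_ne_bot hG d.max h d.ne_bot
  obtain ⟨r, hr, hrd, hrσ⟩ : ∃ r : ℕ, r.Prime ∧ r ∣ Nat.card U ∧ r ∈ Cfsg.sigma H := by
    by_contra hno
    push Not at hno
    obtain ⟨F, hF, hUF⟩ := TauTwo.exists_complement_ge hG hH hle fun v hv hd => by
      have h1 := hd.trans (sup_comm U K ▸ Core.card_sup_dvd K U h.normal)
      rcases hv.dvd_mul.mp h1 with h2 | h2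
      · rw [(Nat.prime_dvd_prime_iff_eq hv S.prime).mp h2]; exact S.prime_not_sigma hG
      · exact hno v hv h2
    have hFL := S.complement_le_star hG hF (le_sup_right.trans hUF)
    refine hU (le_bot_iff.mp ((le_inf le_rfl ?_).trans h.compl.2.2.1.le))
    exact ((le_inf h.compl.1 ((le_sup_left.trans hUF).trans hFL)).trans (P.inf_eq d hG).le).trans
      (sup_le_sup_left inf_le_left K)
  have := Fact.mk hr
  obtain ⟨R⟩ : Nonempty (Sylow r U) := inferInstance
  obtain ⟨hRp, hR1, -⟩ := Signal.sylow_sub hG d.max h d.ne_bot hrd R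
  set R' := (R : Subgroup U).map U.subtype with hR'
  have hRU : R' ≤ U := map_subtype_le _
  have hRO : R' ≤ Cfsg.sigmaCore H := le_sigmaCore hG hH hrσ hRp (hRU.trans hUH)
  refine SigmaEmbedding.le_sigmaCore_of_pi hG hH hUH fun s hs hd => ?_
  have := Fact.mk hs
  obtain ⟨T⟩ : Nonempty (Sylow s U) := inferInstance
  obtain ⟨hTp, hT1, hTN⟩ := Signal.sylow_sub hG d.max h d.ne_bot hd T
  set T' := (T : Subgroup U).map U.subtype with hT'
  have hTU : T' ≤ U := map_subtype_le _
  refine S.mem_sigma_of_sub hG hTp hT1 hTU (le_sup_right.trans hTN) fun h1 hσ => ?_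
  obtain ⟨V, hV, hVT⟩ := exists_line hTp hT1
  have hne : Cfsg.sigmaCore H ⊓ centralizer (V : Set G) ≠ ⊥ := fun e => hR1 (le_bot_iff.mp (e ▸ le_inf hRO
    ((hRU.trans (le_centralizer_iff_isMulCommutative.mpr hUc)).trans
      (Subgroup.centralizer_le (hVT.trans hTU)))))
  have hκ := mem_kappa hG hσ h1 hV ((hVT.trans hTU).trans hUH) hne
  rw [S.kappa_eq hG] at hκ
  exact hκ

/-- The complement `H ∩ M*` of `H_σ` is a Z-group having `K` as a normal subgroup. -/
theorem complement_facts (hG : Cfsg.IsMinSimpleOddOrder G) (S : Signal M K U L H) :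
    IsZGroup ↥(H ⊓ L) ∧ H ⊓ L ≤ normalizer (K : Set G) := by
  obtain ⟨hKF, hC⟩ := S.star_compl hG
  have hfree := Frob12.compl_free hG S.max (S.kappa_eq hG) hC
  have hO : Cfsg.sigmaCore H ≠ ⊥ := TauTwo.sigmaCore_ne_bot hG S.max
  have hZ : IsZGroup ↥(H ⊓ L) := by
    refine Core.FPF.isZGroup_of_odd (K := Cfsg.sigmaCore H) (inf_le_left.trans (le_normalizer_sigmaCore H))
      (fun a ha ha1 => (eq_bot_iff_forall _).mpr fun y hy => hfree a ha ha1 y hy.1
        (mem_centralizer_singleton_iff.mp hy.2).symm) hO ?_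
    intro h2
    exact Nat.not_even_iff_odd.mpr hG.1 (even_iff_two_dvd.mpr (h2.trans (H ⊓ L).card_subgroup_dvd_card))
  refine ⟨hZ, fun g hg => ?_⟩
  set F := Cfsg.fittingOf (H ⊓ L) with hF
  have hFle : F ≤ H ⊓ L := map_subtype_le _
  have : IsZGroup F := IsZGroup.of_injective (f := inclusion hFle) (inclusion_injective hFle)
  have : Group.IsNilpotent F := FittingSigma.isNilpotent_fittingOf _
  have hFc : IsCyclic F := inferInstance
  have := Fact.mk S.prime
  have hgF : K.map (MulAut.conj g).toMonoidHom ≤ F :=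
    (map_mono hKF).trans (Transfer.map_conj_eq_self_iff.mpr (FittingSigma.le_normalizer_fittingOf _ hg)).le
  refine Transfer.map_conj_eq_self_iff.mp ?_
  have h1 := NonSigma.eq_of_card_prime (p := Nat.card K) hFc
    (H := (K.map (MulAut.conj g).toMonoidHom).subgroupOf F) (K := K.subgroupOf F)
    (by rw [Nat.card_congr (subgroupOfEquivOfLe hgF).toEquiv, Transfer.card_map_conj])
    (by rw [Nat.card_congr (subgroupOfEquivOfLe hKF).toEquiv])
  have h2 := subgroupOf_inj.mp h1
  rwa [inf_eq_left.mpr hgF, inf_eq_left.mpr hKF] at h2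

/-- Everything about a maximal subgroup over `N(U)`. -/
theorem normU (hG : Cfsg.IsMinSimpleOddOrder G) (d : Data M K E)
    (h : Cfsg.IsSigmaDecomposition M K U) (hU : U ≠ ⊥) (P : Pair M K L) (hH : IsCoatom H)
    (hN : normalizer (U : Set G) ≤ H) :
    Cfsg.IsOfTypeI H ∧ Cfsg.fittingHallOf H = Cfsg.sigmaCore H ∧
      (∀ x ∈ Cfsg.fittingHallOf H, x ≠ 1 → H ⊓ centralizer ({x} : Set G) ≤ Cfsg.fittingHallOf H) ∧
      U ≤ Cfsg.fittingHallOf H ∧ M ⊓ H = U ⊔ K ∧
      Cfsg.IsComplIn (H ⊓ L) (Cfsg.fittingHallOf H) H ∧ IsZGroup ↥(H ⊓ L) ∧ K ≤ H ⊓ L ∧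
      H ⊓ L ≤ normalizer (K : Set G) := by
  have S := signal_of_normalizer_U hG d h hU P hH hN
  have hκ := S.kappa_eq hG
  have hI := Frob12.typeOne_of_kappa_empty hG hH hκ
  obtain ⟨-, hF⟩ := Frob12.typeOne_facts hG hH hI
  obtain ⟨hZ, hn⟩ := complement_facts hG S
  refine ⟨hI, hF, fun x hx hx1 => ?_, hF ▸ U_le_core hG d h hU P hH hN, S.inf_eq hG,
    hF ▸ (S.star_compl hG).2, hZ, le_inf (le_sup_right.trans S.le_H) (P.K_le_core.trans (sigmaCore_le L)), hn⟩
  rw [hF] at hx ⊢
  exact Frob12.centralizer_le hG hH hκ hx hx1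

end CfsgLib.OddLocal.Final
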