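import Cfsg.Agent.Lib.CharAction.Galois
import Cfsg.Agent.Lib.Char.Integral
import Cfsg.Agent.Lib.OddLocal.Final.TISide
import Cfsg.Agent.Lib.Char.CyclicTI.Family

/-!
Owner: helper12. Congruences modulo the order `r` of an element `y` (blueprint rule (K), redteam `q | ν`):
a generalized character vanishing at all `w y`, `w ∈ W#`, `[w, y] = 1`, is `≡ 0 (mod r)` on `W#`, hence
`r` divides its inner product with `Ind_F^G (1 − ψ)` when `C_F(y) ≤ W` and `ψ` is fixed by `y`.
-/

set_option autoImplicit false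
set_option linter.unusedSectionVars false

open scoped ComplexConjugate

namespace CfsgLib.OddLocal.FTFinal

open Subgroup
open CfsgLib.Char (frobenius_reciprocity)
open CfsgLib.CharAction (CongMod congMod_char_pow congMod_sum_fixed)
open Cfsg (classInner IsGeneralizedCharacter IsClassFunction)

variable {G : Type*} [Group G] [Fintype G] {r : ℕ} [Fact r.Prime] {y : G} {W F : Subgroup G}

/-- A generalized character vanishing at `w y` for `w ∈ W#` is divisible by `r` on `W#`. -/
theorem congMod_zero_of_vanish (hy : orderOf y = r) (hWy : ∀ w ∈ W, Commute w y)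
    (hcop : (Nat.card W).Coprime r) {χ : G → ℂ} (hχ : IsGeneralizedCharacter G χ)
    (h0 : ∀ w ∈ W, w ≠ 1 → χ (w * y) = 0) {w : G} (hw : w ∈ W) (hw1 : w ≠ 1) : CongMod r (χ w) 0 := by
  obtain ⟨k, hk, -⟩ := Nat.chineseRemainder hcop 1 0
  obtain ⟨j, hj⟩ : ∃ j : ℕ, (w ^ j) ^ r = w := by
    obtain ⟨n, hn⟩ := exists_pow_eq_self_of_coprime
      (show r.Coprime (orderOf w) from (hcop.coprime_dvd_left (W.orderOf_dvd_natCard hw)).symm)
    exact ⟨n, by rw [← pow_mul, mul_comm, pow_mul, hn]⟩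
  have hj1 : w ^ j ≠ 1 := fun e => hw1 (by rw [← hj, e, one_pow])
  have hpow : (w ^ j * y) ^ r = w := by
    rw [((hWy w hw).pow_left j).mul_pow, hj, ← hy, pow_orderOf_eq_one, mul_one]
  have hzero := h0 _ (pow_mem hw j) hj1
  obtain ⟨a, b, ha, hb, rfl⟩ := hχ
  rw [Pi.sub_apply, sub_eq_zero] at hzero
  have h1 := congMod_char_pow (p := r) ha (w ^ j * y) 1
  have h2 := congMod_char_pow (p := r) hb (w ^ j * y) 1
  rw [pow_one, hpow] at h1 h2
  rw [hzero] at h1
  obtain ⟨t, ht, e⟩ := h1.symm.trans h2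
  exact ⟨t, ht, by rw [Pi.sub_apply, sub_zero, e]⟩

theorem isIntegral_hom (ψ : F →* ℂˣ) (f : F) : IsIntegral ℤ (ψ f : ℂ) := by
  refine IsIntegral.of_pow (Nat.card_pos (α := F)) ?_
  rw [← Units.val_pow_eq_pow_val, ← map_pow, pow_card_eq_one', map_one, Units.val_one]
  exact isIntegral_one

/-- `r ∣ ⟨χ, Ind_F^G (1 − ψ)⟩`. -/
theorem dvd_inner_ind (hy : orderOf y = r) (hWy : ∀ w ∈ W, Commute w y) (hcop : (Nat.card W).Coprime r)
    (hcopF : (Nat.card F).Coprime r) (hnorm : y ∈ normalizer (F : Set G))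
    (hfix : ∀ f ∈ F, y * f = f * y → f ∈ W) {ψ : F →* ℂˣ}
    (hψ : ∀ f f' : F, (f' : G) = y * f * y⁻¹ → ψ f' = ψ f)
    {χ : G → ℂ} (hχ : IsGeneralizedCharacter G χ) (h0 : ∀ w ∈ W, w ≠ 1 → χ (w * y) = 0)
    {K : ℤ} (hK : classInner χ (ind F 1 ψ) = (K : ℂ)) : (r : ℤ) ∣ K := by
  classical
  have := Fintype.ofFinite F
  have hr : r.Prime := Fact.out
  have hχint : ∀ g : G, IsIntegral ℤ (χ g) := fun g => by
    obtain ⟨a, b, ha, hb, rfl⟩ := id hχ
    exact (CfsgLib.CharIntegral.isIntegral_of_isCharacter ha g).sub (CfsgLib.CharIntegral.isIntegral_of_isCharacter hb g)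
  set f : F → ℂ := fun x => χ x * ((1 : ℂ) - (ψ x⁻¹ : ℂ)) with hf
  have hint : ∀ x, IsIntegral ℤ (f x) := fun x =>
    (hχint _).mul (isIntegral_one.sub (isIntegral_hom ψ _))
  have hsum : ∑ x, f x = ((Nat.card F : ℤ) * K : ℤ) := by
    have h1 : classInner (ind F 1 ψ) χ = (K : ℂ) := by
      rw [← CfsgLib.Char.classInner_conj_symm, hK, map_intCast]
    rw [ind, frobenius_reciprocity F _ (CfsgLib.Char.IsGen.isClassFunction hχ)] at h1
    have h2 := congrArg (starRingEnd ℂ) h1
    simp only [classInner, map_mul, map_inv₀, map_natCast, map_sum, map_intCast, Complex.conj_conj] at h2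
    rw [inv_mul_eq_iff_eq_mul₀ (Nat.cast_ne_zero.mpr Nat.card_pos.ne')] at h2
    push_cast
    rw [← h2]
    refine Finset.sum_congr rfl fun x _ => ?_
    simp only [hf, linDiff, map_sub, MonoidHom.one_apply, Units.val_one, map_one]
    rw [map_inv, Units.val_inv_eq_inv_val, Complex.inv_eq_conj (Complex.norm_eq_one_of_pow_eq_one
      (n := Nat.card F) (by rw [← Units.val_pow_eq_pow_val, ← map_pow, pow_card_eq_one', map_one,
        Units.val_one]) Nat.card_pos.ne')]
    ring
  have hconj : ∀ a : zpowers y, ∀ x : F, (a : G) * x * (a : G)⁻¹ ∈ F := fun a x =>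
    (mem_normalizer_iff.mp ((zpowers_le.mpr hnorm) a.2) x).mp x.2
  let act : MulAction (zpowers y) F :=
    { smul := fun a x => ⟨(a : G) * x * (a : G)⁻¹, hconj a x⟩
      one_smul := fun x => Subtype.ext (show ((1 : zpowers y) : G) * x * ((1 : zpowers y) : G)⁻¹ = x by simp)
      mul_smul := fun a b x => Subtype.ext (show ((a * b : zpowers y) : G) * x * ((a * b : zpowers y) : G)⁻¹ =
        (a : G) * ((b : G) * x * (b : G)⁻¹) * (a : G)⁻¹ by simp [mul_assoc]) }
  have hinv : ∀ (a : zpowers y) x, f (a • x) = f x := by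
    have key : ∀ a ∈ zpowers y, ∀ x x' : F, (x' : G) = a * x * a⁻¹ → ψ x' = ψ x := by
      intro a ha
      obtain ⟨n, rfl⟩ := (mem_powers_iff_mem_zpowers (G := G)).mpr ha
      induction n with
      | zero => intro x x' e; rw [show x' = x from Subtype.ext (by simpa using e)]
      | succ n ih =>
        intro x x' e
        have hm : y * (x : G) * y⁻¹ ∈ F := (mem_normalizer_iff.mp hnorm x).mp x.2
        refine (ih (npow_mem_zpowers y n) ⟨_, hm⟩ x' ?_).trans (hψ x ⟨_, hm⟩ rfl)
        simp only [e, pow_succ]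
        group
    intro a x
    show χ ((a : G) * x * (a : G)⁻¹) * ((1 : ℂ) - (ψ (a • x)⁻¹ : ℂ)) = f x
    rw [CfsgLib.Char.IsGen.isClassFunction hχ, map_inv, key a a.2 x (a • x) rfl, ← map_inv]
  have hA : IsPGroup r (zpowers y) := IsPGroup.of_card (n := 1) (by rw [Nat.card_zpowers, hy, pow_one])
  have hcong := congMod_sum_fixed hA f hint hinv
  have hfixed : CongMod r (∑ x ∈ Finset.univ.filter (fun x : F => ∀ a : zpowers y, a • x = x), f x)
      (∑ x ∈ Finset.univ.filter (fun x : F => ∀ a : zpowers y, a • x = x), (0 : ℂ)) := by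
    refine CongMod.sum _ fun x hx => ?_
    have hxW : (x : G) ∈ W := hfix x x.2 (by
      have h : y * x * y⁻¹ = x := congrArg Subtype.val ((Finset.mem_filter.mp hx).2 ⟨y, mem_zpowers y⟩)
      calc y * x = y * x * y⁻¹ * y := by group
        _ = x * y := by rw [h])
    by_cases hx1 : x = 1
    · refine CongMod.of_eq ?_
      simp [hf, hx1]
    · have h := (congMod_zero_of_vanish hy hWy hcop hχ h0 hxW fun e => hx1 (Subtype.ext e)).mul_right
        (isIntegral_one.sub (isIntegral_hom ψ x⁻¹))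
      rwa [zero_mul] at h
  rw [Finset.sum_const_zero] at hfixed
  have h := hcong.trans hfixed
  rw [hsum, ← Int.cast_zero] at h
  have hd := CongMod.dvd_sub_of_intCast hr.ne_zero h
  rw [sub_zero] at hd
  exact (Int.isCoprime_iff_nat_coprime.mpr (by simpa using hcopF.symm)).dvd_of_dvd_mul_left hd

end CfsgLib.OddLocal.FTFinal
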