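import Cfsg.Agent.Lib.OddLocal.Final.Coef
import Cfsg.Agent.Lib.OddLocal.Final.TISide

/-!
Owner: helper15. The rules for the functions induced from the Fitting side `F ≤ M` of a configuration:
(D) for two `W₁`-fixed characters, (Z) for a free one, and the lower bounds for the mass of the members
of the family and of the new constituents on `F`.
-/

set_option autoImplicit false
set_option linter.unusedSectionVars false

open scoped ComplexConjugate

namespace CfsgLib.OddLocal.FTFinal

open Subgroup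
open CfsgLib.Char CfsgLib.CyclicTI
open Cfsg (classInner IsClassFunction IsGeneralizedCharacter indFun conjFun)

theorem hom_inv_inv {A : Type*} [MulOneClass A] (f : A →* ℂˣ) : f⁻¹⁻¹ = f :=
  MonoidHom.ext fun _ => inv_inv _

theorem hom_inv_ne_one {A : Type*} [MulOneClass A] {f : A →* ℂˣ} (hf : f ≠ 1) : f⁻¹ ≠ 1 := fun e =>
  hf (MonoidHom.ext fun a => inv_eq_one.mp (congrFun (congrArg DFunLike.coe e) a))

variable {G : Type*} [Group G] [Fintype G]

section Orbit

variable {F M : Subgroup G} (h : IsTISide F M)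

open scoped Classical in
/-- `|F|⁻¹` times the number of elements of `M` conjugating `b` to `a`. -/
noncomputable def orbCount (a b : F →* ℂˣ) : ℝ :=
  (Nat.card F : ℝ)⁻¹ * (Nat.card {x : M // a = conjHom h x b} : ℝ)

theorem conjHom_mul (x y : M) (ψ : F →* ℂˣ) : conjHom h (x * y) ψ = conjHom h x (conjHom h y ψ) := by
  refine MonoidHom.ext fun f => ?_
  simp only [conjHom_apply]
  congr 1
  exact Subtype.ext (by simp [mul_assoc])

theorem conjHom_one (ψ : F →* ℂˣ) : conjHom h 1 ψ = ψ := by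
  refine MonoidHom.ext fun f => ?_
  rw [conjHom_apply]
  congr 1
  exact Subtype.ext (by simp)

theorem conjHom_inv_apply (x : M) (ψ : F →* ℂˣ) : conjHom h x⁻¹ (conjHom h x ψ) = ψ := by
  rw [← conjHom_mul, inv_mul_cancel, conjHom_one]

theorem conjHom_trivial (x : M) : conjHom h x (1 : F →* ℂˣ) = 1 := rfl

theorem conjHom_map_inv (x : M) (ψ : F →* ℂˣ) : conjHom h x ψ⁻¹ = (conjHom h x ψ)⁻¹ := rfl

theorem conjHom_of_mem (x : M) (hx : (x : G) ∈ F) (ψ : F →* ℂˣ) : conjHom h x ψ = ψ := by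
  refine MonoidHom.ext fun f => ?_
  rw [conjHom_apply]
  have e : (⟨(x : G)⁻¹ * f * x, by simpa using h.conj_mem _ (M.inv_mem x.2) _ f.2⟩ : F) =
      (⟨x, hx⟩ : F)⁻¹ * f * ⟨x, hx⟩ := Subtype.ext rfl
  rw [e, map_mul, map_mul, map_inv, mul_comm, ← mul_assoc, mul_inv_cancel, one_mul]

theorem orbCount_symm (a b : F →* ℂˣ) : orbCount h a b = orbCount h b a := by
  simp only [orbCount]
  congr 2
  refine Nat.card_congr ((Equiv.inv M).subtypeEquiv fun x => ?_)
  simp only [Equiv.inv_apply]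
  constructor
  · intro e; rw [e, conjHom_inv_apply]
  · intro e; rw [e, ← conjHom_mul, mul_inv_cancel, conjHom_one]

theorem orbCount_conj_right (a b : F →* ℂˣ) (y : M) :
    orbCount h a (conjHom h y b) = orbCount h a b := by
  simp only [orbCount]
  congr 2
  refine Nat.card_congr ((Equiv.mulRight y).subtypeEquiv fun x => ?_)
  rw [Equiv.coe_mulRight, conjHom_mul]

theorem inner_ind_orbCount (a b a' b' : F →* ℂˣ) :
    classInner (ind F a b) (ind F a' b') =
      ((orbCount h a a' - orbCount h b a' - orbCount h a b' + orbCount h b b' : ℝ) : ℂ) := by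
  classical
  have := Fintype.ofFinite M
  rw [inner_ind h]
  have key : ∀ u v : F →* ℂˣ,
      ∑ x : M, (if u = conjHom h x v then (1 : ℂ) else 0) = (Nat.card {x : M // u = conjHom h x v} : ℂ) := by
    intro u v
    rw [Finset.sum_boole, Nat.card_eq_fintype_card, Fintype.card_subtype]
  simp only [Finset.sum_add_distrib, Finset.sum_sub_distrib, key, orbCount]
  push_cast
  ring

/-- Conjugate characters give the same induced function. -/
theorem ind_conjHom_eq_zero (ψ : F →* ℂˣ) (x : M) : ind F ψ (conjHom h x ψ) = 0 := by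
  apply Exceptional.eq_zero_of_classInner_self
  rw [inner_ind_orbCount h, Complex.ofReal_re, orbCount_conj_right, orbCount_conj_right,
    orbCount_symm h (conjHom h x ψ) ψ, orbCount_conj_right]
  ring

end Orbit

/-- The Fitting side of a configuration: `F` with normaliser `M`, the `W₁`-fixed characters `psi`. -/
structure Side (c : Config G) where
  F : Subgroup G
  M : Subgroup G
  u : ℕ
  ti : IsTISide F M
  psi : (c.W₂ →* ℂˣ) → (F →* ℂˣ)
  psi_one : psi 1 = 1
  card_M : Nat.card M = c.q * u * Nat.card F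
  card_stab : ∀ k, k ≠ 1 → Nat.card {x : M // psi k = conjHom ti x (psi k)} = c.q * Nat.card F
  nconj : ∀ k k' (x : M), psi k = conjHom ti x (psi k') → k = k'
  disj : ∀ g ∈ What c.W₁ c.W₂, g ∉ conjSharp F
  q_prime : c.q.Prime
  coprime : c.q.Coprime (Nat.card F)
  congr : ∀ (l : c.W₁ →* ℂˣ) (k i j : c.W₂ →* ℂˣ) (C : ℤ),
    c.coef (ind F (psi i) (psi j)) l k = C →
      ((i = k → j ≠ k → (c.q : ℤ) ∣ C - 1) ∧ (i ≠ k → j = k → (c.q : ℤ) ∣ C + 1))

namespace Side

variable {c : Config G} (s : Side c)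

/-- A character of `F` with stabiliser `F` in `M`. -/
def IsFree (ψ : s.F →* ℂˣ) : Prop := ∀ x : s.M, ψ = conjHom s.ti x ψ → (x : G) ∈ s.F

theorem u_pos : 0 < s.u := by
  rcases Nat.eq_zero_or_pos s.u with h | h
  · have := s.card_M
    rw [h, mul_zero, zero_mul] at this
    exact absurd this Nat.card_pos.ne'
  · exact h

theorem card_F_lt : Nat.card s.F < Nat.card s.M := by
  rw [s.card_M]
  have := c.q_ge_three
  have := s.u_pos
  have : 2 ≤ c.q * s.u := by nlinarith
  nlinarith [Nat.card_pos (α := s.F)]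

theorem free_ne_one {ψ : s.F →* ℂˣ} (hψ : s.IsFree ψ) : ψ ≠ 1 := by
  rintro rfl
  exact absurd (Nat.card_le_card_of_injective (fun x : s.M => (⟨x, hψ x (conjHom_trivial s.ti x).symm⟩ : s.F))
    fun a b e => Subtype.ext (congrArg Subtype.val e :)) s.card_F_lt.not_ge

theorem free_conj {ψ : s.F →* ℂˣ} (hψ : s.IsFree ψ) (x : s.M) : s.IsFree (conjHom s.ti x ψ) := by
  intro z hz
  have h1 : ψ = conjHom s.ti (x⁻¹ * z * x) ψ := by
    rw [conjHom_mul, conjHom_mul, ← hz, conjHom_inv_apply]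
  have h2 := s.ti.conj_mem _ x.2 _ (hψ _ h1)
  simpa [mul_assoc] using h2

theorem free_inv {ψ : s.F →* ℂˣ} (hψ : s.IsFree ψ) : s.IsFree ψ⁻¹ := fun x hx =>
  hψ x (inv_injective (hx.trans (conjHom_map_inv s.ti x ψ)))

theorem orbCount_free {ψ : s.F →* ℂˣ} (hψ : s.IsFree ψ) : orbCount s.ti ψ ψ = 1 := by
  have e : Nat.card {x : s.M // ψ = conjHom s.ti x ψ} = Nat.card s.F :=
    Nat.card_congr
      { toFun := fun x => ⟨(x : s.M), hψ x.1 x.2⟩
        invFun := fun f => ⟨⟨f, s.ti.le f.2⟩, (conjHom_of_mem s.ti ⟨f, s.ti.le f.2⟩ f.2 ψ).symm⟩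
        left_inv := fun x => rfl
        right_inv := fun f => rfl }
  rw [orbCount, e, inv_mul_cancel₀ (Nat.cast_ne_zero.mpr Nat.card_pos.ne')]

theorem free_ne_psi {ψ : s.F →* ℂˣ} (hψ : s.IsFree ψ) (k : c.W₂ →* ℂˣ) (x : s.M) :
    ψ ≠ conjHom s.ti x (s.psi k) := by
  intro e
  by_cases hk : k = 1
  · rw [hk, s.psi_one, conjHom_trivial] at e
    exact s.free_ne_one hψ e
  have h2 : s.IsFree (s.psi k) := by
    have := s.free_conj hψ x⁻¹
    rwa [e, conjHom_inv_apply] at this
  have h := s.orbCount_free h2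
  rw [orbCount, s.card_stab k hk] at h
  push_cast at h
  rw [mul_comm (c.q : ℝ), ← mul_assoc, inv_mul_cancel₀ (Nat.cast_ne_zero.mpr Nat.card_pos.ne'), one_mul] at h
  have : c.q = 1 := by exact_mod_cast h
  exact s.q_prime.ne_one this

theorem orbCount_zero {a b : s.F →* ℂˣ} (h : ∀ x : s.M, a ≠ conjHom s.ti x b) :
    orbCount s.ti a b = 0 := by
  have : IsEmpty {x : s.M // a = conjHom s.ti x b} := ⟨fun x => h x.1 x.2⟩
  rw [orbCount, Nat.card_of_isEmpty (α := {x : s.M // a = conjHom s.ti x b}), Nat.cast_zero, mul_zero]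

theorem orbCount_psi (i j : c.W₂ →* ℂˣ) [Decidable (i = j)] [Decidable (i = 1)] :
    orbCount s.ti (s.psi i) (s.psi j) =
      if i = j then (if i = 1 then (c.q : ℝ) * s.u else c.q) else 0 := by
  by_cases h : i = j
  · subst h
    rw [if_pos rfl, orbCount]
    by_cases hi : i = 1
    · subst hi
      rw [if_pos rfl, s.psi_one, Nat.card_congr (Equiv.subtypeUnivEquiv fun x => (conjHom_trivial s.ti x).symm),
        s.card_M]
      push_cast
      rw [mul_comm ((c.q : ℝ) * s.u), ← mul_assoc, inv_mul_cancel₀ (Nat.cast_ne_zero.mpr Nat.card_pos.ne'),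
        one_mul]
    · rw [if_neg hi, s.card_stab i hi]
      push_cast
      rw [mul_comm (c.q : ℝ), ← mul_assoc, inv_mul_cancel₀ (Nat.cast_ne_zero.mpr Nat.card_pos.ne'), one_mul]
  · rw [if_neg h]
    exact s.orbCount_zero fun x e => h (s.nconj i j x e)

theorem orbCount_psi_free (i : c.W₂ →* ℂˣ) {ψ : s.F →* ℂˣ} (hψ : s.IsFree ψ) :
    orbCount s.ti (s.psi i) ψ = 0 := by
  rw [orbCount_symm]
  exact s.orbCount_zero fun x => s.free_ne_psi hψ i x

theorem orbCount_free_psi (i : c.W₂ →* ℂˣ) {ψ : s.F →* ℂˣ} (hψ : s.IsFree ψ) :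
    orbCount s.ti ψ (s.psi i) = 0 := s.orbCount_zero fun x => s.free_ne_psi hψ i x

theorem psi_ne_one {k : c.W₂ →* ℂˣ} (hk : k ≠ 1) : s.psi k ≠ 1 := fun e =>
  hk (s.nconj k 1 1 (by rw [e, s.psi_one]; rfl))

theorem ind_zero_on_What (a b : s.F →* ℂˣ) : ∀ g ∈ What c.W₁ c.W₂, ind s.F a b g = 0 :=
  fun g hg => ind_eq_zero_off a b (s.disj g hg)

theorem inner_one {a b : s.F →* ℂˣ} (ha : a ≠ 1) (hb : b ≠ 1) :
    classInner (ind s.F a b) (fun _ => 1) = 0 := by
  classical
  have := Fintype.ofFinite s.F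
  rw [ind, frobenius_reciprocity _ _ (fun _ _ => rfl)]
  rw [show linDiff a b = (fun f => (a f : ℂ)) - fun f => (b f : ℂ) from rfl,
    show (fun _ : s.F => (1 : ℂ)) = (fun f => (((1 : s.F →* ℂˣ) f : ℂˣ) : ℂ)) from funext fun f => by simp,
    classInner_sub_left, inner_linear, inner_linear, if_neg ha, if_neg hb, sub_zero]

/-- Exponents congruent to one modulo `|F|` fix the induced functions. -/
theorem ind_galois {n : ℕ} (hn : n.Coprime (Nat.card G)) (h1 : n ≡ 1 [MOD Nat.card s.F])
    (a b : s.F →* ℂˣ) : (fun g => ind s.F a b (g ^ n)) = ind s.F a b := by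
  have e : ∀ a : s.F →* ℂˣ, a ^ n = a := fun a => MonoidHom.ext fun f => by
    rw [MonoidHom.pow_apply, ← map_pow]
    congr 1
    conv_rhs => rw [← pow_one f]
    exact pow_eq_pow_iff_modEq.mpr (h1.of_dvd (orderOf_dvd_natCard f))
  rw [ind_apply_pow hn, e, e]

section Columns

variable [Fintype (c.W₁ →* ℂˣ)] [Fintype (c.W₂ →* ℂˣ)]

/-- The sum of a column of the family. -/
noncomputable def col (c : Config G) [Fintype (c.W₁ →* ℂˣ)] (k : c.W₂ →* ℂˣ) : G → ℂ :=
  ∑ l, c.eta l k

theorem coef_col [DecidableEq (c.W₂ →* ℂˣ)] (j : c.W₂ →* ℂˣ) (l : c.W₁ →* ℂˣ) (k : c.W₂ →* ℂˣ) :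
    c.coef (col c j) l k = if j = k then 1 else 0 := by
  classical
  rw [Config.coef, col, classInner_sum_left]
  simp only [c.eta_inner]
  by_cases h : j = k
  · rw [if_pos h, Finset.sum_eq_single l (fun l' _ hne => if_neg fun e => hne e.1)
      (fun hh => absurd (Finset.mem_univ _) hh), if_pos ⟨rfl, h⟩]
  · rw [if_neg h, Finset.sum_eq_zero fun l' _ => if_neg fun e => h e.2]

theorem inner_col (θ : G → ℂ) (j : c.W₂ →* ℂˣ) : classInner θ (col c j) = ∑ l, c.coef θ l j := by
  rw [col, classInner_sum_right]; rfl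

theorem col_isGen (j : c.W₂ →* ℂˣ) : IsGeneralizedCharacter G (col c j) :=
  IsGen.sum _ _ fun l _ => c.eta_isGen l j

/-- (D): the difference of two fixed characters induces a difference of two columns. -/
theorem ruleD {i j : c.W₂ →* ℂˣ} (hi : i ≠ 1) (hj : j ≠ 1) (hij : i ≠ j) :
    ind s.F (s.psi i) (s.psi j) = col c i - col c j := by
  classical
  set θ := ind s.F (s.psi i) (s.psi j) with hθ
  obtain ⟨C, hC⟩ := c.exists_icoef (ind_isGen (F := s.F) (s.psi i) (s.psi j))
  have hnorm : classInner θ θ = ((2 * c.q : ℕ) : ℂ) := by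
    rw [hθ, inner_ind_orbCount s.ti, s.orbCount_psi, s.orbCount_psi, s.orbCount_psi, s.orbCount_psi,
      if_pos rfl, if_neg hij.symm, if_neg hij, if_pos rfl, if_neg hi, if_neg hj]
    push_cast; ring
  have hb := c.bessel_eta θ
  rw [hnorm, Complex.natCast_re] at hb
  simp only [hθ, hC, Complex.normSq_intCast] at hb
  have hZ : ∑ l, ∑ k, C l k * C l k ≤ 2 * (c.q : ℤ) := by
    have : ((∑ l, ∑ k, C l k * C l k : ℤ) : ℝ) ≤ ((2 * c.q : ℕ) : ℤ) := by
      push_cast at hb ⊢; linarith
    exact_mod_cast this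
  have hq3 : (3 : ℤ) ≤ c.q := by exact_mod_cast c.q_ge_three
  have hne : ∀ l, C l i ≠ 0 ∧ C l j ≠ 0 := fun l => by
    refine ⟨fun h0 => ?_, fun h0 => ?_⟩
    · have h := (s.congr l i i j (C l i) (hC l i)).1 rfl hij.symm
      rw [h0] at h
      have := Int.le_of_dvd one_pos (by simpa using h : (c.q : ℤ) ∣ 1); omega
    · have h := (s.congr l j i j (C l j) (hC l j)).2 hij rfl
      rw [h0] at h
      have := Int.le_of_dvd one_pos (by simpa using h : (c.q : ℤ) ∣ 1); omega
  have hpair : ∀ l, C l i * C l i + C l j * C l j ≤ ∑ k, C l k * C l k := fun l =>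
    Finset.add_le_sum (f := fun k => C l k * C l k) (fun k _ => mul_self_nonneg _)
      (Finset.mem_univ i) (Finset.mem_univ j) hij
  have h2 : ∀ l, 2 ≤ C l i * C l i + C l j * C l j := fun l => by
    have h1 := mul_self_pos.mpr (hne l).1
    have h2 := mul_self_pos.mpr (hne l).2
    omega
  have heq : ∀ l, C l i * C l i + C l j * C l j = 2 := by
    intro l
    by_contra hne2
    have h3 : ∑ _l : c.W₁ →* ℂˣ, (2 : ℤ) < ∑ l, ∑ k, C l k * C l k :=
      Finset.sum_lt_sum (fun l _ => (h2 l).trans (hpair l))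
        ⟨l, Finset.mem_univ _, lt_of_lt_of_le (lt_of_le_of_ne (h2 l) (Ne.symm hne2)) (hpair l)⟩
    rw [Finset.sum_const, Finset.card_univ, c.card_hom₁, nsmul_eq_mul] at h3
    linarith
  have hval : ∀ l, C l i = 1 ∧ C l j = -1 := fun l => by
    have h1 := mul_self_pos.mpr (hne l).1
    have h2 := mul_self_pos.mpr (hne l).2
    have hl := heq l
    have e1 : C l i * C l i = 1 := by omega
    have e2 : C l j * C l j = 1 := by omega
    refine ⟨?_, ?_⟩
    · rcases mul_self_eq_one_iff.mp e1 with e | e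
      · exact e
      · have h := (s.congr l i i j (C l i) (hC l i)).1 rfl hij.symm
        rw [e] at h
        have := Int.le_of_dvd two_pos (by simpa using h : (c.q : ℤ) ∣ 2); omega
    · rcases mul_self_eq_one_iff.mp e2 with e | e
      · have h := (s.congr l j i j (C l j) (hC l j)).2 hij rfl
        rw [e] at h
        have := Int.le_of_dvd two_pos (by simpa using h : (c.q : ℤ) ∣ 2); omega
      · exact e
  have hsum : ∀ k, classInner θ (col c k) = ∑ l, (C l k : ℂ) := fun k => by
    rw [inner_col]; exact Finset.sum_congr rfl fun l _ => hC l k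
  rw [← sub_eq_zero]
  apply Exceptional.eq_zero_of_classInner_self
  have e1 : classInner θ (col c i - col c j) = ((2 * c.q : ℕ) : ℂ) := by
    rw [classInner_sub_right, hsum, hsum]
    simp only [(hval _).1, (hval _).2, Finset.sum_const, Finset.card_univ, c.card_hom₁]
    push_cast; ring
  have e2 : classInner (col c i - col c j) θ = ((2 * c.q : ℕ) : ℂ) := by
    rw [← classInner_conj_symm, e1, map_natCast]
  have e3 : classInner (col c i - col c j) (col c i - col c j) = ((2 * c.q : ℕ) : ℂ) := by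
    rw [classInner_sub_right]
    simp only [inner_col, c.coef_sub, coef_col, if_pos, if_neg hij,
      if_neg hij.symm, Finset.sum_const, Finset.card_univ, c.card_hom₁]
    push_cast; ring
  rw [classInner_sub_left, classInner_sub_right θ, classInner_sub_right (col c i - col c j), hnorm, e1, e2, e3]
  simp

/-- The twist of the columns in rule (Z). -/
noncomputable def tw (eps : ℤ) (j : c.W₂ →* ℂˣ) : c.W₂ →* ℂˣ := if eps = 1 then j else j⁻¹

/-- (Z) for one free character. -/
structure FreeRule (ψ : s.F →* ℂˣ) (eps : ℤ) (Z : G → ℂ) : Prop where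
  sign : eps = 1 ∨ (eps = -1 ∧ c.p = 3)
  signed : SignedIrr Z
  orth : ∀ l k, c.coef Z l k = 0
  eq : ∀ j, j ≠ 1 → ind s.F (s.psi j) ψ = (eps : ℂ) • col c (tw eps j) + Z

theorem eq_inv_of_three (hp : c.p = 3) {i j : c.W₂ →* ℂˣ} (hi : i ≠ 1) (hj : j ≠ 1) (hij : i ≠ j) :
    i = j⁻¹ := by
  classical
  have := Fact.mk (Nat.prime_three)
  have hc : Nat.card (c.W₂ →* ℂˣ) = 3 := c.card_hom_W₂.trans hp
  have hu : (Finset.univ : Finset (c.W₂ →* ℂˣ)) = {1, i, j} := by
    symm
    apply Finset.eq_univ_of_card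
    rw [← Nat.card_eq_fintype_card, hc, Finset.card_eq_three.mpr ⟨1, i, j, hi.symm, hj.symm, hij, rfl⟩]
  have hm := hu ▸ Finset.mem_univ (j⁻¹)
  simp only [Finset.mem_insert, Finset.mem_singleton] at hm
  rcases hm with h | h | h
  · exact absurd h (hom_inv_ne_one hj)
  · exact h.symm
  · exfalso
    refine hj (MonoidHom.ext fun a => ?_)
    have h3 : j a ^ 3 = 1 := by
      rw [← map_pow, show a ^ 3 = 1 by rw [← hp]; exact pow_card_eq_one', map_one]
    have h1 : (j a)⁻¹ = j a := congrFun (congrArg DFunLike.coe h) a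
    have h2 : j a * j a = 1 := by nth_rewrite 1 [← h1]; exact inv_mul_cancel _
    rw [pow_succ, pow_two, h2, one_mul] at h3
    exact h3

theorem exists_third {j : c.W₂ →* ℂˣ} : ∃ i : c.W₂ →* ℂˣ, i ≠ 1 ∧ i ≠ j := by
  classical
  by_contra h
  push Not at h
  have hle := Finset.card_le_card (s := Finset.univ) (t := ({1, j} : Finset (c.W₂ →* ℂˣ)))
    fun a _ => by
      simp only [Finset.mem_insert, Finset.mem_singleton]
      by_cases ha : a = 1
      · exact Or.inl ha
      · exact Or.inr (h a ha)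
  have := Finset.card_le_two (a := (1 : c.W₂ →* ℂˣ)) (b := j)
  rw [Finset.card_univ, c.card_hom₂] at *
  have := c.p_ge_three
  omega

/-- The coefficient pattern of rule (Z). -/
theorem ruleZ_core {ψ : s.F →* ℂˣ} (hψ : s.IsFree ψ) {j : c.W₂ →* ℂˣ} (hj : j ≠ 1) :
    ∃ eps : ℤ, (eps = 1 ∨ (eps = -1 ∧ c.p = 3)) ∧
      ∀ l k, c.coef (ind s.F (s.psi j) ψ) l k = (eps : ℂ) * c.coef (col c (tw eps j)) l k := by
  classical
  set θ := ind s.F (s.psi j) ψ with hθ
  obtain ⟨C, hC⟩ := c.exists_icoef (ind_isGen (F := s.F) (s.psi j) ψ)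
  have h11 : C 1 1 = 0 := by
    have h := c.coef_one_one θ
    rw [s.inner_one (s.psi_ne_one hj) (s.free_ne_one hψ), hC] at h
    exact_mod_cast h
  have hadd : ∀ l k, C l k = C l 1 + C 1 k := by
    intro l k
    have h := c.coef_add (ind_isClassFunction (s.psi j) ψ) (s.ind_zero_on_What _ _) l k
    rw [hC, hC, hC, hC, h11, Int.cast_zero, sub_zero] at h
    exact_mod_cast h
  have hnorm : classInner θ θ = ((c.q + 1 : ℕ) : ℂ) := by
    rw [hθ, inner_ind_orbCount s.ti, s.orbCount_psi, if_pos rfl, if_neg hj, s.orbCount_psi_free j hψ,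
      s.orbCount_free_psi j hψ, s.orbCount_free hψ]
    push_cast; ring
  have hb := c.bessel_eta θ
  rw [hnorm, Complex.natCast_re] at hb
  simp only [hθ, hC, Complex.normSq_intCast] at hb
  have hZ : ∑ k, ∑ l, C l k * C l k ≤ (c.q : ℤ) + 1 := by
    rw [Finset.sum_comm]
    have : ((∑ l, ∑ k, C l k * C l k : ℤ) : ℝ) ≤ ((c.q + 1 : ℕ) : ℤ) := by
      push_cast at hb ⊢; linarith
    exact_mod_cast this
  obtain ⟨l₀, hl₀⟩ := Fintype.exists_ne_of_one_lt_card
    (by rw [c.card_hom₁]; have := c.q_ge_three; omega : 1 < Fintype.card (c.W₁ →* ℂˣ)) 1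
  set a := C l₀ 1 with ha_def
  have ha : ∀ l, l ≠ 1 → C l 1 = a := by
    intro l hl
    have h := c.coef_axis₁ s.q_prime (Subgroup.card_subgroup_dvd_card s.F) s.coprime
      (θ := θ) (fun n hn hn1 l k => by rw [hθ, s.ind_galois hn hn1]) hl₀ hl
    rw [hθ, hC, hC] at h
    exact_mod_cast h
  have hcolsum : ∀ k, ∑ l, C l k = C 1 k + ((c.q : ℤ) - 1) * (a + C 1 k) := by
    intro k
    rw [← Finset.add_sum_erase _ _ (Finset.mem_univ (1 : c.W₁ →* ℂˣ)),
      Finset.sum_eq_card_nsmul (b := a + C 1 k) (fun l hl => by rw [hadd l k, ha l (Finset.ne_of_mem_erase hl)]),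
      Finset.card_erase_of_mem (Finset.mem_univ _), Finset.card_univ, c.card_hom₁, nsmul_eq_mul]
    push_cast [Nat.one_le_iff_ne_zero.mpr s.q_prime.ne_zero]
    ring
  have hcolsq : ∀ k, ∑ l, C l k * C l k =
      C 1 k * C 1 k + ((c.q : ℤ) - 1) * ((a + C 1 k) * (a + C 1 k)) := by
    intro k
    rw [← Finset.add_sum_erase _ _ (Finset.mem_univ (1 : c.W₁ →* ℂˣ)),
      Finset.sum_eq_card_nsmul (b := (a + C 1 k) * (a + C 1 k))
        (fun l hl => by rw [hadd l k, ha l (Finset.ne_of_mem_erase hl)]),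
      Finset.card_erase_of_mem (Finset.mem_univ _), Finset.card_univ, c.card_hom₁, nsmul_eq_mul]
    push_cast [Nat.one_le_iff_ne_zero.mpr s.q_prime.ne_zero]
    ring
  have hdiff : ∀ i, i ≠ 1 → i ≠ j → C 1 i = C 1 j - 1 := by
    intro i hi hij
    have h1 : classInner θ (ind s.F (s.psi j) (s.psi i)) = (c.q : ℂ) := by
      rw [hθ, inner_ind_orbCount s.ti, s.orbCount_psi, s.orbCount_psi, if_pos rfl, if_neg hij.symm,
        if_neg hj, s.orbCount_free_psi j hψ, s.orbCount_free_psi i hψ]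
      push_cast; ring
    rw [s.ruleD hj hi hij.symm, classInner_sub_right, inner_col, inner_col] at h1
    simp only [hθ, hC] at h1
    have h2 : ∑ l, C l j - ∑ l, C l i = (c.q : ℤ) := by exact_mod_cast h1
    rw [hcolsum, hcolsum] at h2
    have h3 : (c.q : ℤ) * (C 1 j - C 1 i - 1) = 0 := by linear_combination h2
    rcases mul_eq_zero.mp h3 with h4 | h4
    · exact absurd (by exact_mod_cast h4) s.q_prime.ne_zero
    · omega
  obtain ⟨i, hi, hij⟩ := exists_third (c := c) (j := j)
  have hq3 : (3 : ℤ) ≤ c.q := by exact_mod_cast c.q_ge_three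
  have sq1 : ∀ {x : ℤ}, x ≠ 0 → 1 ≤ x * x := fun h => by have := mul_self_pos.mpr h; omega
  have hnn : ∀ k ∈ (Finset.univ : Finset (c.W₂ →* ℂˣ)), 0 ≤ ∑ l, C l k * C l k :=
    fun k _ => Finset.sum_nonneg fun l _ => mul_self_nonneg _
  have hA : a = 0 := by
    by_contra ha0
    have h1a : (c.q : ℤ) - 1 ≤ ∑ l, C l 1 * C l 1 := by
      rw [hcolsq, h11, add_zero, mul_zero, zero_add]
      exact le_mul_of_one_le_right (by linarith) (sq1 ha0)
    by_cases hq : c.q = 3
    · have hp : 4 ≤ c.p := by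
        have := c.p_ge_three
        by_contra hlt
        have : c.p = 3 := by omega
        have hh := c.coprime_q_p
        rw [hq, this] at hh
        norm_num at hh
      have hall : ∀ k : c.W₂ →* ℂˣ, 1 ≤ ∑ l, C l k * C l k := by
        intro k
        by_cases hk : k = 1
        · rw [hk]; linarith
        rw [hcolsq]
        by_cases hk0 : C 1 k = 0
        · rw [hk0, add_zero, mul_zero, zero_add]
          nlinarith [sq1 ha0]
        · nlinarith [sq1 hk0, mul_self_nonneg (a + C 1 k)]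
      have h3 : ∑ k ∈ Finset.univ.erase (1 : c.W₂ →* ℂˣ), (1 : ℤ) ≤
          ∑ k ∈ Finset.univ.erase (1 : c.W₂ →* ℂˣ), ∑ l, C l k * C l k :=
        Finset.sum_le_sum fun k _ => hall k
      rw [Finset.sum_const, Finset.card_erase_of_mem (Finset.mem_univ _), Finset.card_univ, c.card_hom₂,
        nsmul_one] at h3
      rw [← Finset.add_sum_erase _ _ (Finset.mem_univ (1 : c.W₂ →* ℂˣ))] at hZ
      rw [hq] at hZ h1a
      push_cast at h3 hZ h1a
      omega
    · have hq4 : (4 : ℤ) ≤ c.q := by have := c.q_ge_three; omega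
      have hz : ∀ k, k ≠ 1 → a + C 1 k = 0 := by
        intro k hk
        by_contra hne
        have h2 : (c.q : ℤ) - 1 ≤ ∑ l, C l k * C l k := by
          rw [hcolsq]
          nlinarith [sq1 hne, mul_self_nonneg (C 1 k)]
        have h3 := Finset.add_le_sum hnn (Finset.mem_univ 1) (Finset.mem_univ k) (Ne.symm hk)
        linarith
      have := hdiff i hi hij
      have := hz i hi
      have := hz j hj
      omega
  have hCk : ∀ l k, C l k = C 1 k := by
    intro l k
    by_cases hl : l = 1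
    · rw [hl]
    · rw [hadd, ha l hl, hA, zero_add]
  have hcolq : ∀ k, ∑ l, C l k * C l k = (c.q : ℤ) * (C 1 k * C 1 k) := fun k => by
    rw [hcolsq, hA, zero_add]; ring
  have hsq : ∑ k, C 1 k * C 1 k ≤ 1 := by
    by_contra hgt
    push Not at hgt
    simp only [hcolq, ← Finset.mul_sum] at hZ
    nlinarith
  have hb0 : C 1 j = 1 ∨ (C 1 j = 0 ∧ c.p = 3) := by
    have h2 := (Finset.add_le_sum (f := fun k => C 1 k * C 1 k) (fun k _ => mul_self_nonneg _)
      (Finset.mem_univ i) (Finset.mem_univ j) hij).trans hsq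
    rw [hdiff i hi hij] at h2
    by_cases h1 : C 1 j = 1
    · exact Or.inl h1
    by_cases h0 : C 1 j = 0
    · refine Or.inr ⟨h0, ?_⟩
      have h3 : ∑ k ∈ (Finset.univ.erase (1 : c.W₂ →* ℂˣ)).erase j, (1 : ℤ) ≤ ∑ k, C 1 k * C 1 k := by
        refine (Finset.sum_le_sum fun k hk => ?_).trans
          (Finset.sum_le_sum_of_subset_of_nonneg (Finset.subset_univ _) fun k _ _ => mul_self_nonneg _)
        simp only [Finset.mem_erase] at hk
        rw [hdiff k hk.2.1 hk.1, h0]; norm_num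
      rw [Finset.sum_const, Finset.card_erase_of_mem (Finset.mem_erase.mpr ⟨hj, Finset.mem_univ _⟩),
        Finset.card_erase_of_mem (Finset.mem_univ _), Finset.card_univ, c.card_hom₂, nsmul_one] at h3
      have := c.p_ge_three
      omega
    · exfalso
      have := sq1 h0
      have := sq1 (sub_ne_zero.mpr h1)
      omega
  rcases hb0 with h1 | ⟨h0, hp⟩
  · refine ⟨1, Or.inl rfl, fun l k => ?_⟩
    rw [hθ, hC, hCk, tw, if_pos rfl, Int.cast_one, one_mul, coef_col]
    by_cases hk : j = k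
    · rw [if_pos hk, ← hk, h1, Int.cast_one]
    · rw [if_neg hk]
      by_cases hk1 : k = 1
      · rw [hk1, h11, Int.cast_zero]
      · rw [hdiff k hk1 (Ne.symm hk), h1, sub_self, Int.cast_zero]
  · refine ⟨-1, Or.inr ⟨rfl, hp⟩, fun l k => ?_⟩
    rw [hθ, hC, hCk, tw, if_neg (by norm_num), coef_col]
    by_cases hk1 : k = 1
    · rw [hk1, h11, if_neg (hom_inv_ne_one hj), mul_zero, Int.cast_zero]
    by_cases hk : k = j
    · subst hk
      rw [h0, if_neg fun e => hij (eq_inv_of_three hp hi hj hij ▸ e), mul_zero, Int.cast_zero]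
    · rw [hdiff k hk1 hk, h0, if_pos (eq_inv_of_three hp hk1 hj hk).symm]
      norm_num

/-- (Z): a free character adds one signed irreducible character orthogonal to the family. -/
theorem exists_ruleZ {ψ : s.F →* ℂˣ} (hψ : s.IsFree ψ) : ∃ eps Z, s.FreeRule ψ eps Z := by
  classical
  obtain ⟨j, hj, -⟩ := exists_third (c := c) (j := 1)
  obtain ⟨eps, he, hcoef⟩ := s.ruleZ_core hψ hj
  set j' := tw eps j with hj'
  set θ := ind s.F (s.psi j) ψ with hθ
  have horth : ∀ l k, c.coef (θ - (eps : ℂ) • col c j') l k = 0 := fun l k => by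
    rw [c.coef_sub, hθ, hcoef, Config.coef, Config.coef, classInner_smul_left, sub_self]
  refine ⟨eps, θ - (eps : ℂ) • col c j', he, ?_, horth, ?_⟩
  · refine Exceptional.IsGen.norm_one' (IsGen.sub (ind_isGen _ _) (IsGen.intCast_smul eps (col_isGen j'))) ?_
    have hnorm : classInner θ θ = (c.q : ℂ) + 1 := by
      rw [hθ, inner_ind_orbCount s.ti, s.orbCount_psi, if_pos rfl, if_neg hj, s.orbCount_psi_free j hψ,
        s.orbCount_free_psi j hψ, s.orbCount_free hψ]
      push_cast; ring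
    have h0 : classInner (θ - (eps : ℂ) • col c j') (col c j') = 0 := by
      rw [inner_col]; exact Finset.sum_eq_zero fun l _ => horth l j'
    have hcθ : classInner (col c j') θ = (eps : ℂ) * c.q := by
      rw [← classInner_conj_symm, inner_col]
      simp only [hcoef, hj', coef_col, if_pos, mul_one, Finset.sum_const, Finset.card_univ, c.card_hom₁]
      simp [mul_comm]
    rw [classInner_sub_right, classInner_smul_right, h0, mul_zero, sub_zero, classInner_sub_left,
      classInner_smul_left, hnorm, hcθ]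
    rcases he with rfl | ⟨rfl, -⟩ <;> push_cast <;> ring
  · intro i hi
    by_cases hij : i = j
    · subst hij
      rw [← hj', hθ, add_sub_cancel]
    rw [← ind_add (s.psi i) (s.psi j) ψ, s.ruleD hi hj hij, ← hθ]
    rcases he with rfl | ⟨rfl, hp⟩
    · simp only [tw, if_pos, Int.cast_one, one_smul, hj']
      abel
    · have e := eq_inv_of_three hp hi hj hij
      simp only [tw, if_neg (by norm_num : ¬ (-1 : ℤ) = 1), hj']
      rw [e, hom_inv_inv]
      push_cast
      simp only [neg_smul, one_smul]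
      abel

theorem inner_free_le {ψ ψ' : s.F →* ℂˣ} (hψ : s.IsFree ψ) (hψ' : s.IsFree ψ') :
    classInner (ind s.F ψ ψ') (ind s.F ψ ψ') = ((2 - 2 * orbCount s.ti ψ' ψ : ℝ) : ℂ) ∧
      (classInner (ind s.F ψ ψ') (ind s.F ψ ψ')).re ≤ 2 := by
  have e : classInner (ind s.F ψ ψ') (ind s.F ψ ψ') = ((2 - 2 * orbCount s.ti ψ' ψ : ℝ) : ℂ) := by
    rw [inner_ind_orbCount s.ti, s.orbCount_free hψ, s.orbCount_free hψ', orbCount_symm s.ti ψ ψ']
    push_cast; ring
  refine ⟨e, ?_⟩
  rw [e, Complex.ofReal_re]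
  have : 0 ≤ orbCount s.ti ψ' ψ := by rw [orbCount]; positivity
  linarith

theorem free_diff_orth {ψ ψ' : s.F →* ℂˣ} (hψ : s.IsFree ψ) (hψ' : s.IsFree ψ') (l : c.W₁ →* ℂˣ)
    (k : c.W₂ →* ℂˣ) : c.coef (ind s.F ψ ψ') l k = 0 :=
  c.small_norm (ind_isGen _ _) (s.ind_zero_on_What _ _)
    (s.inner_one (s.free_ne_one hψ) (s.free_ne_one hψ')) (s.inner_free_le hψ hψ').2 l k

/-- Two free characters have the same sign, and their difference induces the difference of the new
constituents. -/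
theorem ruleZ_pair {ψ ψ' : s.F →* ℂˣ} (hψ : s.IsFree ψ) (hψ' : s.IsFree ψ') {eps eps' : ℤ} {Z Z' : G → ℂ}
    (hZ : s.FreeRule ψ eps Z) (hZ' : s.FreeRule ψ' eps' Z') :
    eps = eps' ∧ ind s.F ψ ψ' = Z' - Z ∧ classInner Z Z' = (orbCount s.ti ψ' ψ : ℂ) := by
  classical
  obtain ⟨j, hj, -⟩ := exists_third (c := c) (j := 1)
  have e : ind s.F ψ ψ' = ((eps' : ℂ) • col c (tw eps' j) + Z') - ((eps : ℂ) • col c (tw eps j) + Z) := by
    rw [← hZ.eq j hj, ← hZ'.eq j hj, ← ind_add ψ (s.psi j) ψ', ind_swap (s.psi j) ψ]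
    abel
  have heq : eps = eps' := by
    have h := s.free_diff_orth hψ hψ' 1 (tw eps j)
    rw [e, c.coef_sub, Config.coef, Config.coef, classInner_add_left, classInner_add_left,
      classInner_smul_left, classInner_smul_left] at h
    have o1 := hZ.orth 1 (tw eps j)
    have o2 := hZ'.orth 1 (tw eps j)
    have k1 := coef_col (c := c) (tw eps j) 1 (tw eps j)
    have k2 := coef_col (c := c) (tw eps' j) 1 (tw eps j)
    rw [Config.coef] at o1 o2 k1 k2
    rw [o1, o2, k1, k2, if_pos rfl] at h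
    by_cases hh : tw eps' j = tw eps j
    · rw [if_pos hh] at h
      have : ((eps' : ℂ)) = (eps : ℂ) := by linear_combination h
      exact_mod_cast this.symm
    · rw [if_neg hh] at h
      have : (eps : ℂ) = 0 := by linear_combination -h
      rcases hZ.sign with rfl | ⟨rfl, -⟩ <;> norm_num at this
  subst heq
  have e2 : ind s.F ψ ψ' = Z' - Z := by rw [e]; abel
  refine ⟨rfl, e2, ?_⟩
  have h := (s.inner_free_le hψ hψ').1
  have hn : ∀ {X : G → ℂ}, SignedIrr X → classInner X X = 1 := fun hX => by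
    rcases hX.trichotomy hX with h0 | ⟨-, h1⟩ | ⟨h1, -⟩
    · obtain ⟨t, a, ht, ha⟩ := hX.exists_sign
      rw [ha, classInner_smul_left, classInner_smul_right, classInner_irr_self, map_intCast] at h0
      rcases ht with rfl | rfl <;> norm_num at h0
    · exact h1
    · obtain ⟨t, a, ht, ha⟩ := hX.exists_sign
      have h2 : classInner _ _ = classInner _ _ := congrArg (fun f => classInner f (a : G → ℂ)) h1
      rw [classInner_neg_left, ha, classInner_smul_left, classInner_irr_self] at h2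
      rcases ht with rfl | rfl <;> norm_num at h2
  rw [e2, classInner_sub_left, classInner_sub_right, classInner_sub_right, hn hZ.signed, hn hZ'.signed] at h
  obtain ⟨m, hm⟩ : ∃ m : ℤ, classInner Z Z' = m := by
    refine IsGen.exists_classInner_eq_intCast ?_ ?_
    · rcases hZ.signed with hh | hh
      · exact IsGen.of_irr hh
      · simpa using IsGen.neg (IsGen.of_irr hh)
    · rcases hZ'.signed with hh | hh
      · exact IsGen.of_irr hh
      · simpa using IsGen.neg (IsGen.of_irr hh)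
  have hm' : classInner Z' Z = (m : ℂ) := by rw [← classInner_conj_symm, hm, map_intCast]
  rw [hm, hm'] at h
  push_cast at h
  rw [hm]
  linear_combination (-(1 : ℂ) / 2) * h

end Columns

section Bounds

variable [Fintype (c.W₁ →* ℂˣ)] [Fintype (c.W₂ →* ℂˣ)]

/-- The non-trivial fixed characters and all free ones. -/
abbrev Idx : Type _ := {k : c.W₂ →* ℂˣ // k ≠ 1} ⊕ {ψ : s.F →* ℂˣ // s.IsFree ψ}

/-- The character attached to an index. -/
noncomputable def idxHom : s.Idx → (s.F →* ℂˣ) := Sum.elim (fun k => s.psi k.1) (fun ψ => ψ.1)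

/-- `q N = p - 1 + #free / u`. -/
noncomputable def qN : ℝ :=
  (c.p : ℝ) - 1 + (Nat.card {ψ : s.F →* ℂˣ // s.IsFree ψ} : ℝ) / s.u

/-- `y = 1 / (q N)`. -/
noncomputable def y : ℝ := 1 / s.qN

theorem qN_ge : (c.p : ℝ) - 1 ≤ s.qN := le_add_of_nonneg_right (by positivity)

theorem qN_pos : 0 < s.qN := by
  have h : (3 : ℝ) ≤ c.p := by exact_mod_cast c.p_ge_three
  linarith [s.qN_ge]

theorem y_pos : 0 < s.y := one_div_pos.mpr s.qN_pos

theorem y_le : s.y ≤ 1 / ((c.p : ℝ) - 1) := by
  have h : (3 : ℝ) ≤ c.p := by exact_mod_cast c.p_ge_three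
  exact one_div_le_one_div_of_le (by linarith) s.qN_ge

theorem card_free_ge {ψ : s.F →* ℂˣ} (hψ : s.IsFree ψ) :
    c.q * s.u ≤ Nat.card {φ : s.F →* ℂˣ // s.IsFree φ} := by
  classical
  have hF : (s.F.subgroupOf s.M).index = c.q * s.u := by
    have h := (s.F.subgroupOf s.M).card_mul_index
    rw [Nat.card_congr (Subgroup.subgroupOfEquivOfLe s.ti.le).toEquiv, s.card_M,
      mul_comm _ (Nat.card s.F)] at h
    exact Nat.eq_of_mul_eq_mul_left Nat.card_pos h
  have := finite_hom s.F
  rw [← hF, Subgroup.index]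
  refine Nat.card_le_card_of_injective
    (fun x : s.M ⧸ s.F.subgroupOf s.M => (⟨conjHom s.ti x.out ψ, s.free_conj hψ _⟩ :
      {φ : s.F →* ℂˣ // s.IsFree φ})) fun a b e => ?_
  have e' : conjHom s.ti a.out ψ = conjHom s.ti b.out ψ := congrArg Subtype.val e
  rw [← a.out_eq', ← b.out_eq', QuotientGroup.eq]
  exact mem_subgroupOf.mpr (hψ _ (by rw [conjHom_mul, ← e', conjHom_inv_apply]))

theorem qy_lt_one {ψ : s.F →* ℂˣ} (hψ : s.IsFree ψ) : (c.q : ℝ) * s.y < 1 := by
  have hu : (0 : ℝ) < s.u := by exact_mod_cast s.u_pos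
  have h1 : (c.q : ℝ) ≤ (Nat.card {φ : s.F →* ℂˣ // s.IsFree φ} : ℝ) / s.u := by
    rw [le_div_iff₀ hu]; exact_mod_cast s.card_free_ge hψ
  have h : (3 : ℝ) ≤ c.p := by exact_mod_cast c.p_ge_three
  rw [y, mul_one_div, div_lt_one s.qN_pos, qN]
  linarith

variable [Fintype s.Idx]

/-- The weights of the test functions. -/
noncomputable def wt : s.Idx → ℝ := Sum.elim (fun _ => s.y) (fun _ => s.y / s.u)

theorem sum_wt : ∑ b : s.Idx, s.wt b = 1 := by
  classical
  have := finite_hom s.F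
  have := Fintype.ofFinite {ψ : s.F →* ℂˣ // s.IsFree ψ}
  rw [show (Finset.univ : Finset s.Idx) = Finset.univ.disjSum Finset.univ from Finset.ext fun x => by
      rcases x with x | x <;> simp, Finset.sum_disjSum]
  simp only [wt, Sum.elim_inl, Sum.elim_inr, Finset.sum_const, Finset.card_univ, nsmul_eq_mul]
  rw [Fintype.card_subtype_compl, Fintype.card_subtype_eq, c.card_hom₂, ← Nat.card_eq_fintype_card]
  have hu : (s.u : ℝ) ≠ 0 := Nat.cast_ne_zero.mpr s.u_pos.ne'
  have hn := s.qN_pos.ne'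
  have hp : 1 ≤ c.p := by have := c.p_ge_three; omega
  push_cast [hp]
  rw [y, qN] at *
  field_simp at hn ⊢
  rw [div_self]
  intro h0
  apply hn
  rw [h0]; simp

/-- The test function `Σ w_b Ind (a₀ - b)`. -/
noncomputable def test (a₀ : s.F →* ℂˣ) : G → ℂ :=
  ∑ b : s.Idx, (s.wt b : ℂ) • ind s.F a₀ (s.idxHom b)

theorem test_eq_indFun (a₀ : s.F →* ℂˣ) :
    ∃ φ : s.F → ℂ, φ 1 = 0 ∧ s.test a₀ = indFun s.F φ :=
  ⟨∑ b : s.Idx, (s.wt b : ℂ) • linDiff a₀ (s.idxHom b), by simp [linDiff_one], by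
    rw [indFun_sum]
    exact Finset.sum_congr rfl fun b _ => (indFun_smul _ _ _).symm⟩

theorem sum_wt_orbCount (b : s.Idx) :
    ∑ a : s.Idx, s.wt a * orbCount s.ti (s.idxHom a) (s.idxHom b) = c.q * s.y := by
  classical
  have := finite_hom s.F
  have := Fintype.ofFinite {ψ : s.F →* ℂˣ // s.IsFree ψ}
  rw [show (Finset.univ : Finset s.Idx) = Finset.univ.disjSum Finset.univ from Finset.ext fun x => by
      rcases x with x | x <;> simp, Finset.sum_disjSum]
  rcases b with ⟨j, hj⟩ | ⟨ψ, hψ⟩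
  · simp only [wt, idxHom, Sum.elim_inl, Sum.elim_inr]
    rw [Finset.sum_eq_single (⟨j, hj⟩ : {k : c.W₂ →* ℂˣ // k ≠ 1})
      (fun a _ hne => by rw [s.orbCount_psi, if_neg fun e => hne (Subtype.ext e), mul_zero])
      (fun h => absurd (Finset.mem_univ _) h), s.orbCount_psi, if_pos rfl, if_neg hj,
      Finset.sum_eq_zero (fun a _ => by rw [s.orbCount_free_psi j a.2, mul_zero]), add_zero, mul_comm]
  · simp only [wt, idxHom, Sum.elim_inl, Sum.elim_inr]
    rw [Finset.sum_eq_zero (fun a _ => by rw [s.orbCount_psi_free _ hψ, mul_zero]), zero_add,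
      ← Finset.mul_sum]
    have := Fintype.ofFinite s.M
    have key : ∑ a : {φ : s.F →* ℂˣ // s.IsFree φ}, Nat.card {x : s.M // (a : s.F →* ℂˣ) = conjHom s.ti x ψ} =
        Nat.card s.M := by
      rw [← Nat.card_sigma]
      refine Nat.card_congr
        { toFun := fun x => x.2.1
          invFun := fun x => ⟨⟨conjHom s.ti x ψ, s.free_conj hψ x⟩, x, rfl⟩
          left_inv := fun ⟨⟨a, ha⟩, x, hx⟩ => ?_
          right_inv := fun x => rfl }
      have hxa : a = conjHom s.ti x ψ := hx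
      refine Sigma.subtype_ext (Subtype.ext hxa.symm) rfl
    simp only [orbCount, ← Finset.mul_sum, ← Nat.cast_sum, key, s.card_M]
    have hu : (s.u : ℝ) ≠ 0 := Nat.cast_ne_zero.mpr s.u_pos.ne'
    have hF : (Nat.card s.F : ℝ) ≠ 0 := Nat.cast_ne_zero.mpr Nat.card_pos.ne'
    push_cast
    field_simp

/-- The norm of a test function. -/
theorem inner_test (a₀ : s.F →* ℂˣ) {W : ℝ} (hW : ∑ b : s.Idx, s.wt b * orbCount s.ti (s.idxHom b) a₀ = W) :
    classInner (s.test a₀) (s.test a₀) =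
      ((orbCount s.ti a₀ a₀ - 2 * W + c.q * s.y : ℝ) : ℂ) := by
  rw [test, classInner_sum_left]
  simp only [classInner_smul_left, classInner_sum_right, classInner_smul_right, Complex.conj_ofReal,
    inner_ind_orbCount s.ti, ← Complex.ofReal_mul, ← Complex.ofReal_sum]
  congr 1
  have hW' : ∀ a, ∑ b : s.Idx, s.wt b * (orbCount s.ti a₀ a₀ - orbCount s.ti (s.idxHom a) a₀ -
      orbCount s.ti a₀ (s.idxHom b) + orbCount s.ti (s.idxHom a) (s.idxHom b)) =
      orbCount s.ti a₀ a₀ - orbCount s.ti (s.idxHom a) a₀ - W + c.q * s.y := by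
    intro a
    simp only [mul_add, mul_sub, Finset.sum_add_distrib, Finset.sum_sub_distrib, ← Finset.sum_mul,
      s.sum_wt, one_mul]
    rw [show ∑ b : s.Idx, s.wt b * orbCount s.ti (s.idxHom a) (s.idxHom b) = c.q * s.y from
      (Finset.sum_congr rfl fun b _ => by rw [orbCount_symm]).trans (s.sum_wt_orbCount a),
      show ∑ b : s.Idx, s.wt b * orbCount s.ti a₀ (s.idxHom b) = W from
      (Finset.sum_congr rfl fun b _ => by rw [orbCount_symm]).trans hW]
  rw [Finset.sum_congr rfl fun i _ => (Finset.sum_congr rfl fun b _ => mul_left_comm _ _ _).trans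
    (Finset.mul_sum _ _ _).symm]
  simp only [hW']
  simp only [mul_add, mul_sub, Finset.sum_add_distrib, Finset.sum_sub_distrib, ← Finset.sum_mul,
    s.sum_wt, one_mul, hW]
  ring

theorem mass_ge_of_test (a₀ : s.F →* ℂˣ) {χ : G → ℂ} (hχ : IsClassFunction G χ) :
    Complex.normSq (∑ b : s.Idx, (s.wt b : ℂ) * classInner (ind s.F a₀ (s.idxHom b)) χ) ≤
      (classInner (s.test a₀) (s.test a₀)).re * mass s.F s.M χ := by
  obtain ⟨φ, hφ, e⟩ := s.test_eq_indFun a₀
  have h := normSq_inner_le s.ti hφ hχ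
  rw [← e] at h
  simp only [test, classInner_sum_left, classInner_smul_left] at h ⊢
  exact h

theorem mass_ge_of_value (a₀ : s.F →* ℂˣ) {χ : G → ℂ} (hχ : IsClassFunction G χ) {N v : ℝ} (hN : 0 < N)
    (hNe : classInner (s.test a₀) (s.test a₀) = (N : ℂ))
    (hv : v * v ≤ Complex.normSq (∑ b : s.Idx, (s.wt b : ℂ) * classInner (ind s.F a₀ (s.idxHom b)) χ)) :
    v * v / N ≤ mass s.F s.M χ := by
  have h := hv.trans (s.mass_ge_of_test a₀ hχ)
  rw [hNe, Complex.ofReal_re] at h
  rw [div_le_iff₀ hN]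
  linarith

omit [Fintype s.Idx] in
/-- The mass of a member of the first axis. -/
theorem mass_eta_axis₁ (l : c.W₁ →* ℂˣ) :
    1 / ((c.q : ℝ) * (s.u + s.y)) ≤ mass s.F s.M (c.eta l 1) := by
  classical
  have := finite_hom s.F
  have := Fintype.ofFinite s.Idx
  obtain ⟨j, hj, -⟩ := exists_third (c := c) (j := 1)
  obtain ⟨e, he⟩ : ∃ e : ℤ, c.coef (ind s.F 1 (s.psi j)) l 1 = e :=
    IsGen.exists_classInner_eq_intCast (ind_isGen _ _) (c.eta_isGen l 1)
  have he0 : e ≠ 0 := by
    intro h0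
    have h := (s.congr l 1 1 j e (by rw [s.psi_one]; exact he)).1 rfl hj
    rw [h0] at h
    exact s.q_prime.ne_one (by
      have := Int.eq_one_of_dvd_one (Int.natCast_nonneg _) (by simpa using h : (c.q : ℤ) ∣ 1)
      exact_mod_cast this)
  have hval : ∀ b : s.Idx, classInner (ind s.F 1 (s.idxHom b)) (c.eta l 1) = (e : ℂ) := by
    intro b
    rw [← ind_add 1 (s.psi j) (s.idxHom b), classInner_add_left, show classInner _ _ = _ from he]
    rcases b with ⟨i, hi⟩ | ⟨ψ, hψ⟩
    · simp only [idxHom, Sum.elim_inl]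
      by_cases hji : j = i
      · rw [hji, show ind s.F (s.psi i) (s.psi i) = 0 by
          have := ind_conjHom_eq_zero s.ti (s.psi i) 1
          rwa [conjHom_one] at this]
        simp [classInner]
      · rw [s.ruleD hj hi hji]
        have : c.coef (col c j - col c i) l 1 = 0 := by
          rw [c.coef_sub, coef_col, coef_col, if_neg hj, if_neg hi, sub_zero]
        rw [show classInner _ _ = _ from this, add_zero]
    · simp only [idxHom, Sum.elim_inr]
      obtain ⟨eps, Z, hZ⟩ := s.exists_ruleZ hψ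
      rw [hZ.eq j hj, classInner_add_left, classInner_smul_left,
        show classInner (col c (tw eps j)) (c.eta l 1) = _ from coef_col (tw eps j) l 1,
        show classInner Z (c.eta l 1) = 0 from hZ.orth l 1, if_neg]
      · simp
      · rw [tw]; split_ifs
        · exact hj
        · exact hom_inv_ne_one hj
  have hW : ∑ b : s.Idx, s.wt b * orbCount s.ti (s.idxHom b) 1 = 0 := by
    refine Finset.sum_eq_zero fun b _ => ?_
    rcases b with ⟨i, hi⟩ | ⟨ψ, hψ⟩
    · simp only [idxHom, Sum.elim_inl]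
      rw [← s.psi_one, s.orbCount_psi, if_neg hi, mul_zero]
    · simp only [idxHom, Sum.elim_inr]
      rw [← s.psi_one, s.orbCount_free_psi 1 hψ, mul_zero]
  have hN : classInner (s.test 1) (s.test 1) = (((c.q : ℝ) * (s.u + s.y) : ℝ) : ℂ) := by
    have hT : orbCount s.ti 1 1 = (c.q : ℝ) * s.u := by
      rw [← s.psi_one, s.orbCount_psi, if_pos rfl, if_pos rfl]
    rw [s.inner_test 1 hW, hT]
    push_cast; ring
  have hpos : 0 < (c.q : ℝ) * (s.u + s.y) := by
    have := s.y_pos
    have : (0 : ℝ) < c.q := by exact_mod_cast s.q_prime.pos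
    positivity
  have h := s.mass_ge_of_value 1 (c.eta_isClassFunction l 1) hpos hN (v := |(e : ℝ)|) (by
    simp only [hval, ← Finset.sum_mul, ← Complex.ofReal_sum, s.sum_wt, Complex.ofReal_one, one_mul,
      Complex.normSq_intCast, abs_mul_abs_self]
    exact le_rfl)
  refine le_trans ?_ h
  gcongr
  rw [abs_mul_abs_self]
  have := mul_self_pos.mpr he0
  exact_mod_cast (by omega : 1 ≤ e * e)

omit [Fintype s.Idx] in
/-- The mass of a member off the first axis. -/
theorem mass_eta (l : c.W₁ →* ℂˣ) {k : c.W₂ →* ℂˣ} (hk : k ≠ 1) :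
    (1 - s.y) / c.q ≤ mass s.F s.M (c.eta l k) := by
  classical
  have := finite_hom s.F
  have := Fintype.ofFinite s.Idx
  obtain ⟨eps, heps, heq⟩ : ∃ eps : ℤ, (eps = 1 ∨ (eps = -1 ∧ c.p = 3)) ∧
      ∀ ψ, s.IsFree ψ → ∀ j, j ≠ 1 →
        c.coef (ind s.F (s.psi j) ψ) l k = (eps : ℂ) * if tw eps j = k then 1 else 0 := by
    by_cases hex : ∃ ψ, s.IsFree ψ
    · obtain ⟨ψ₀, hψ₀⟩ := hex
      obtain ⟨eps, Z₀, hZ₀⟩ := s.exists_ruleZ hψ₀
      refine ⟨eps, hZ₀.sign, fun ψ hψ j hj => ?_⟩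
      obtain ⟨eps', Z, hZ⟩ := s.exists_ruleZ hψ
      obtain rfl := (s.ruleZ_pair hψ₀ hψ hZ₀ hZ).1
      rw [hZ.eq j hj, Config.coef, classInner_add_left, classInner_smul_left,
        show classInner (col c (tw eps j)) (c.eta l k) = _ from coef_col (tw eps j) l k,
        show classInner Z (c.eta l k) = 0 from hZ.orth l k, add_zero]
    · exact ⟨1, Or.inl rfl, fun ψ hψ => absurd ⟨ψ, hψ⟩ hex⟩
  set j := tw eps k with hjdef
  have hj : j ≠ 1 := by
    rw [hjdef, tw]; split_ifs
    · exact hk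
    · exact hom_inv_ne_one hk
  have htw : tw eps j = k := by
    rw [hjdef, tw, tw]; split_ifs
    · rfl
    · exact hom_inv_inv k
  have hself : ∀ b : s.Idx, c.coef (ind s.F (s.psi j) (s.idxHom b)) l k =
      (eps : ℂ) * (1 - if b = Sum.inl ⟨j, hj⟩ then 1 else 0) := by
    intro b
    rcases b with ⟨i, hi⟩ | ⟨ψ, hψ⟩
    · simp only [idxHom, Sum.elim_inl]
      by_cases hji : j = i
      · subst hji
        rw [show ind s.F (s.psi j) (s.psi j) = 0 by
          have := ind_conjHom_eq_zero s.ti (s.psi j) 1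
          rwa [conjHom_one] at this, if_pos rfl]
        simp [Config.coef, classInner]
      · rw [s.ruleD hj hi hji, c.coef_sub, coef_col, coef_col,
          if_neg (fun e => hji (Subtype.ext_iff.mp (Sum.inl.inj e)).symm), sub_zero, mul_one]
        rcases heps with rfl | ⟨rfl, hp⟩
        · have hjk : j = k := by rw [hjdef, tw, if_pos rfl]
          rw [if_pos hjk, if_neg (fun e => hji (hjk.trans e.symm))]
          simp
        · have hjk : j = k⁻¹ := by rw [hjdef, tw, if_neg (by norm_num)]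
          have hik : i = k := by rw [eq_inv_of_three hp hi hj (Ne.symm hji), hjk, hom_inv_inv]
          rw [if_pos hik, if_neg (fun e => hji (e.trans hik.symm))]
          simp
    · simp only [idxHom, Sum.elim_inr]
      rw [heq ψ hψ j hj, if_pos htw, if_neg (by simp), sub_zero]
  have hW : ∑ b : s.Idx, s.wt b * orbCount s.ti (s.idxHom b) (s.psi j) = c.q * s.y :=
    s.sum_wt_orbCount (Sum.inl ⟨j, hj⟩)
  have hT : orbCount s.ti (s.psi j) (s.psi j) = (c.q : ℝ) := by rw [s.orbCount_psi, if_pos rfl, if_neg hj]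
  have hN : classInner (s.test (s.psi j)) (s.test (s.psi j)) = (((c.q : ℝ) * (1 - s.y) : ℝ) : ℂ) := by
    rw [s.inner_test _ hW, hT]; push_cast; ring
  have hy1 : s.y < 1 := by
    have h : (3 : ℝ) ≤ c.p := by exact_mod_cast c.p_ge_three
    refine s.y_le.trans_lt ?_
    rw [div_lt_one (by linarith)]; linarith
  have hpos : 0 < (c.q : ℝ) * (1 - s.y) := mul_pos (by exact_mod_cast s.q_prime.pos) (by linarith)
  have h := s.mass_ge_of_value (s.psi j) (c.eta_isClassFunction l k) hpos hN (v := 1 - s.y) (by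
    have e : ∑ b : s.Idx, (s.wt b : ℂ) * classInner (ind s.F (s.psi j) (s.idxHom b)) (c.eta l k) =
        (eps : ℂ) * ((1 - s.y : ℝ) : ℂ) := by
      simp only [show ∀ b, classInner (ind s.F (s.psi j) (s.idxHom b)) (c.eta l k) = _ from hself]
      rw [Finset.sum_congr rfl (fun b _ => mul_left_comm (s.wt b : ℂ) (eps : ℂ) _), ← Finset.mul_sum]
      congr 1
      simp only [mul_sub, mul_one, Finset.sum_sub_distrib, mul_ite, mul_zero, Finset.sum_ite_eq',
        Finset.mem_univ, if_true, ← Complex.ofReal_sum, s.sum_wt]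
      simp [wt]
    rw [e, Complex.normSq_mul, Complex.normSq_ofReal, Complex.normSq_intCast]
    rcases heps with rfl | ⟨rfl, -⟩ <;> simp)
  refine le_trans (le_of_eq ?_) h
  field_simp

omit [Fintype s.Idx] in
/-- The mass of the new constituent of a free character. -/
theorem mass_Z {ψ : s.F →* ℂˣ} (hψ : s.IsFree ψ) {eps : ℤ} {Z : G → ℂ} (hZ : s.FreeRule ψ eps Z) :
    1 - c.q * s.y ≤ mass s.F s.M Z := by
  classical
  have := finite_hom s.F
  have := Fintype.ofFinite s.Idx
  have hZn : classInner Z Z = 1 := by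
    have h := (s.ruleZ_pair hψ hψ hZ hZ).2.2
    rwa [s.orbCount_free hψ, Complex.ofReal_one] at h
  have hval : ∀ b : s.Idx, classInner (ind s.F ψ (s.idxHom b)) Z =
      ((orbCount s.ti (s.idxHom b) ψ - 1 : ℝ) : ℂ) := by
    intro b
    rcases b with ⟨i, hi⟩ | ⟨ψ', hψ'⟩
    · simp only [idxHom, Sum.elim_inl]
      rw [ind_swap (s.psi i) ψ, hZ.eq i hi, s.orbCount_psi_free i hψ, classInner_neg_left, classInner_add_left,
        classInner_smul_left, hZn,
        show classInner (col c (tw eps i)) Z = 0 by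
          rw [← classInner_conj_symm, inner_col, Finset.sum_eq_zero (fun l _ => hZ.orth l _), map_zero]]
      push_cast; ring
    · simp only [idxHom, Sum.elim_inr]
      obtain ⟨eps', Z', hZ'⟩ := s.exists_ruleZ hψ'
      obtain ⟨-, e, hin⟩ := s.ruleZ_pair hψ hψ' hZ hZ'
      rw [e, classInner_sub_left, hZn, ← classInner_conj_symm, hin, Complex.conj_ofReal]
      push_cast; ring
  have hW : ∑ b : s.Idx, s.wt b * orbCount s.ti (s.idxHom b) ψ = c.q * s.y :=
    s.sum_wt_orbCount (Sum.inr ⟨ψ, hψ⟩)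
  have hN : classInner (s.test ψ) (s.test ψ) = ((1 - (c.q : ℝ) * s.y : ℝ) : ℂ) := by
    rw [s.inner_test _ hW, s.orbCount_free hψ]; push_cast; ring
  have hpos : 0 < 1 - (c.q : ℝ) * s.y := by have := s.qy_lt_one hψ; linarith
  have hcl : IsClassFunction G Z := by
    rcases hZ.signed with h | h
    · exact IsIrr.isClassFunction h
    · intro g x; simpa using IsIrr.isClassFunction h g x
  have h := s.mass_ge_of_value ψ hcl hpos hN (v := 1 - (c.q : ℝ) * s.y) (by
    simp only [hval, ← Complex.ofReal_mul, ← Complex.ofReal_sum, mul_sub, mul_one, Finset.sum_sub_distrib,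
      hW, s.sum_wt, Complex.normSq_ofReal]
    exact le_of_eq (by ring))
  refine le_trans (le_of_eq ?_) h
  field_simp

end Bounds

end Side

end CfsgLib.OddLocal.FTFinal
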