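import Cfsg.Agent.Lib.OddLocal.Final.Overlap
import Cfsg.Agent.Lib.OddLocal.Final.OrthCongr
import Cfsg.Agent.Lib.OddLocal.Final.Coef
import Cfsg.Agent.Lib.OddLocal.Final.Rules

/-!
Owner: helper12. Blueprint v2 Step 4, parity lemmas for a maximal subgroup `L` of Type I:
* `A` vanishing on `Ã₁(L)` with `⟨A, 1⟩ = 1` and `Ā − A = P − P̄`: `⟨x_L, A⟩ + ⟨v_L, P⟩` is odd;
* two such `L`, `M`: `h ≤ e (e' + 1)` or `h' ≤ e' (e + 1)`;
* `b` even: `q ^ 2 h ≤ e ‖Ind (1 − ψ)‖`; mirror for `a`;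
* all `C(l,k)` odd and `e ≤ pq`: the other good cosets weigh at most `e / h`.
-/

set_option autoImplicit false
set_option linter.unusedSectionVars false

open scoped ComplexConjugate

namespace CfsgLib.OddLocal.FTFinal

open Subgroup
open CfsgLib.Char CfsgLib.Char.Exceptional
open CfsgLib.DadeMap (avg)
open CfsgLib.OddLocal.Frob12 (rho)
open Cfsg (classInner IsGeneralizedCharacter IsClassFunction conjFun fittingHall IsOfTypeI
  IsMinSimpleOddOrder)

variable {G : Type*} [Group G] [Fintype G] {L : Subgroup G} [Fintype L]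

open scoped Classical in
/-- The conjugate of `Ind_F^G (1 − ψ)`. -/
theorem conj_ind_sub {F : Subgroup G} (ψ : F →* ℂˣ) :
    conjFun (ind F 1 ψ) - ind F 1 ψ = ind F ψ ψ⁻¹ := by
  have := Fintype.ofFinite F
  have h : conjFun (ind F 1 ψ) = ind F 1 ψ⁻¹ := by
    rw [ind, Coh.conjFun_indFun]
    congr 1
    funext f
    simp only [conjFun, linDiff, map_sub, MonoidHom.one_apply, Units.val_one, map_one, MonoidHom.inv_apply,
      Units.val_inv_eq_inv_val]
    rw [Complex.inv_eq_conj (Complex.norm_eq_one_of_pow_eq_one (n := Nat.card F)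
      (by rw [← Units.val_pow_eq_pow_val, ← map_pow, pow_card_eq_one', map_one, Units.val_one])
      Nat.card_pos.ne')]
  rw [h, ← ind_add (1 : F →* ℂˣ) ψ ψ⁻¹, add_sub_cancel_left]

/-- `⟨Ind_F^G (1 − ψ), 1⟩ = 1`. -/
theorem inner_ind_one {F : Subgroup G} {ψ : F →* ℂˣ} (hψ : ψ ≠ 1) :
    classInner (ind F 1 ψ) (fun _ => 1) = 1 := by
  classical
  have := Fintype.ofFinite F
  rw [ind, frobenius_reciprocity F _ (fun _ _ => rfl)]
  show classInner (linDiff 1 ψ) (fun x => ((1 : F →* ℂˣ) x : ℂ)) = 1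
  rw [show linDiff (1 : F →* ℂˣ) ψ = (fun f => ((1 : F →* ℂˣ) f : ℂ)) - fun f => (ψ f : ℂ) from rfl,
    classInner_sub_left, CyclicTI.inner_linear, CyclicTI.inner_linear, if_pos rfl, if_neg hψ, sub_zero]

open scoped Classical in
/-- `‖Ind_F^G (1 − ψ)‖ = |M : F| + |Stab ψ : F|`. -/
theorem ind_one_norm {F M : Subgroup G} [Fintype M] (h : IsTISide F M) {ψ : F →* ℂˣ} (hψ : ψ ≠ 1) :
    classInner (ind F 1 ψ) (ind F 1 ψ) = (Nat.card F : ℂ)⁻¹ *
      ((Nat.card M : ℂ) + (Nat.card {x : M // conjHom h x ψ = ψ} : ℂ)) := by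
  have hone : ∀ x : M, conjHom h x (1 : F →* ℂˣ) = 1 := fun x => MonoidHom.ext fun _ => rfl
  have hne : ∀ x : M, (1 : F →* ℂˣ) ≠ conjHom h x ψ := fun x e => by
    refine hψ (MonoidHom.ext fun f => ?_)
    have hm := h.conj_mem _ x.2 _ f.2
    have h1 := DFunLike.congr_fun e ⟨(x : G) * f * (x : G)⁻¹, hm⟩
    rw [conjHom_apply] at h1
    rw [MonoidHom.one_apply] at h1 ⊢
    rw [show f = (⟨(x : G)⁻¹ * ((x : G) * f * (x : G)⁻¹) * x, by simp [mul_assoc]⟩ : F) from
      Subtype.ext (by simp [mul_assoc])]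
    exact h1.symm
  rw [inner_ind h]
  congr 1
  simp only [hone, if_neg (hne _), if_neg hψ, if_pos, sub_zero]
  rw [Finset.sum_add_distrib, Finset.sum_const, Finset.card_univ, nsmul_one, ← Nat.card_eq_fintype_card,
    Finset.sum_boole, ← Fintype.card_subtype, ← Nat.card_eq_fintype_card]
  simp only [eq_comm]

/-- `‖Ind_F^G (1 − ψ)‖ ≤ |M : F| + |E : F|` when the stabiliser of `ψ` in `M` lies in `E`. -/
theorem ind_one_norm_le {F M E : Subgroup G} [Fintype M] (h : IsTISide F M) {ψ : F →* ℂˣ} (hψ : ψ ≠ 1)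
    (hE : ∀ x : M, conjHom h x ψ = ψ → (x : G) ∈ E) :
    (classInner (ind F 1 ψ) (ind F 1 ψ)).re ≤
      ((Nat.card M : ℝ) + Nat.card E) / Nat.card F := by
  classical
  have hle : (Nat.card {x : M // conjHom h x ψ = ψ} : ℝ) ≤ Nat.card E := by
    refine Nat.cast_le.mpr (Nat.card_le_card_of_injective (fun x => (⟨(x.1 : G), hE x.1 x.2⟩ : E))
      fun a b e => Subtype.ext (Subtype.ext ?_))
    exact congrArg (fun z : E => (z : G)) e
  rw [ind_one_norm h hψ, ← Complex.ofReal_natCast, ← Complex.ofReal_inv, Complex.re_ofReal_mul,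
    Complex.add_re, Complex.natCast_re, Complex.natCast_re, inv_mul_eq_div]
  gcongr

namespace OneData

variable (d : OneData L)

open scoped Classical in
/-- Cauchy–Schwarz against the residual of `x_L`. -/
theorem inner_sq_le (hG : IsMinSimpleOddOrder G) (hL : IsCoatom L) (hI : IsOfTypeI L) {A : G → ℂ}
    (hA0 : ∀ g ∈ tilde L, A g = 0) {K : ℤ} (hK : classInner d.x A = (K : ℂ)) :
    (K : ℝ) ^ 2 ≤
      (classInner A A).re * (((fittingHall ↥L).index : ℝ) / Nat.card (fittingHall ↥L)) := by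
  set s : Finset G := Finset.univ.filter fun g => g ∉ tilde L with hs
  have e : classInner d.x A = (Nat.card G : ℂ)⁻¹ * ∑ g ∈ s, d.x g * conj (A g) := by
    rw [Cfsg.classInner, hs, Finset.sum_filter]
    refine congrArg _ (Finset.sum_congr rfl fun g _ => ?_)
    by_cases hg : g ∈ tilde L
    · rw [if_neg (not_not.mpr hg), hA0 g hg, map_zero, mul_zero]
    · rw [if_pos hg]
  have cs : Complex.normSq (∑ g ∈ s, d.x g * conj (A g)) ≤
      (∑ g ∈ s, Complex.normSq (d.x g)) * ∑ g, Complex.normSq (A g) := by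
    refine le_trans ?_ (mul_le_mul_of_nonneg_left (Finset.sum_le_sum_of_subset_of_nonneg
      (Finset.subset_univ s) fun g _ _ => Complex.normSq_nonneg _)
      (Finset.sum_nonneg fun g _ => Complex.normSq_nonneg _))
    simp only [Complex.normSq_eq_norm_sq]
    refine le_trans ?_ (Finset.sum_mul_sq_le_sq_mul_sq s (fun g => ‖d.x g‖) (fun g => ‖A g‖))
    refine pow_le_pow_left₀ (norm_nonneg _) ((norm_sum_le _ _).trans (le_of_eq ?_)) 2
    exact Finset.sum_congr rfl fun g _ => by rw [norm_mul, Complex.norm_conj]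
  have hres : (Nat.card G : ℝ)⁻¹ * ∑ g ∈ s, Complex.normSq (d.x g) ≤
      ((fittingHall ↥L).index : ℝ) / Nat.card (fittingHall ↥L) := by
    refine le_trans (le_of_eq ?_) (d.residual hG hL hI)
    rw [hs, Finset.sum_filter]
    exact congrArg _ (Finset.sum_congr rfl fun g _ => by split_ifs <;> rfl)
  have hK2 : (K : ℝ) ^ 2 = ((Nat.card G : ℝ)⁻¹) ^ 2 * Complex.normSq (∑ g ∈ s, d.x g * conj (A g)) := by
    have h := congrArg Complex.normSq (hK.symm.trans e)
    rw [Complex.normSq_intCast, Complex.normSq_mul, map_inv₀, Complex.normSq_natCast, mul_inv] at h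
    rw [sq, sq]; exact h
  rw [Frob12.classInner_self_eq_sum, hK2]
  calc ((Nat.card G : ℝ)⁻¹) ^ 2 * Complex.normSq (∑ g ∈ s, d.x g * conj (A g))
      ≤ ((Nat.card G : ℝ)⁻¹) ^ 2 *
          ((∑ g ∈ s, Complex.normSq (d.x g)) * ∑ g, Complex.normSq (A g)) :=
        mul_le_mul_of_nonneg_left cs (by positivity)
    _ = ((Nat.card G : ℝ)⁻¹ * ∑ g, Complex.normSq (A g)) *
          ((Nat.card G : ℝ)⁻¹ * ∑ g ∈ s, Complex.normSq (d.x g)) := by ring
    _ ≤ _ := mul_le_mul_of_nonneg_left hres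
        (mul_nonneg (by positivity) (Finset.sum_nonneg fun g _ => Complex.normSq_nonneg _))

theorem v_orth (hG : IsMinSimpleOddOrder G) (hL : IsCoatom L) (hI : IsOfTypeI L) {A : G → ℂ}
    (hA0 : ∀ g ∈ tilde L, A g = 0) : classInner d.v A = 0 := by
  rw [Cfsg.classInner, Finset.sum_eq_zero, mul_zero]
  intro g _
  by_cases hg : g ∈ tilde L
  · rw [hA0 g hg, map_zero, mul_zero]
  · rw [d.v_zero hG hL hI hg, zero_mul]

variable (c : Config G)

/-- (5d) with a correction: `⟨x_L, A⟩ + ⟨v_L, P⟩` is odd. -/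
theorem parity_correction (c : Config G) (hL : IsCoatom L) (hI : IsOfTypeI L) {A P : G → ℂ}
    (hA : IsGeneralizedCharacter G A) (hA0 : ∀ g ∈ tilde L, A g = 0) (hA1 : classInner A (fun _ => 1) = 1)
    (hP : IsGeneralizedCharacter G P) (hP1 : classInner P (fun _ => 1) = 0) (hxP : classInner d.x P = 0)
    (hconj : conjFun A - A = P - conjFun P) {K B : ℤ} (hK : classInner d.x A = (K : ℂ))
    (hB : classInner d.v P = (B : ℂ)) : Odd (K + B) := by
  refine d.parity_orth c hL hI hA hP ?_ ?_ (d.v_orth c.minimal hL hI hA0) hxP hK hB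
  · funext g
    have h := congrFun hconj g
    simp only [Cfsg.conjFun, Pi.sub_apply, Pi.add_apply, map_sub, map_add, map_one] at h ⊢
    linear_combination h
  · rw [classInner_sub_left, classInner_add_left, hA1, hP1,
      show classInner (fun _ : G => (1 : ℂ)) (fun _ => 1) = 1 from classInner_self_of_irr (trivChar G).2]
    ring

theorem x_zero_mul (hL : IsCoatom L) (hI : IsOfTypeI L) {a b : G} (ha : a ∈ c.W₁) (ha1 : a ≠ 1)
    (hb : b ∈ c.W₂) (hb1 : b ≠ 1) : d.x (a * b) = 0 := by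
  have hbot := c.selfNorm.2.2.1
  refine CyclicTI.eq_zero_of_orth c.selfNorm c.family
    (CfsgLib.Char.IsGen.isClassFunction (d.x_gen c.minimal hL hI)) (d.x_orth c hL hI)
    ⟨a * b, mul_mem (mem_sup_left ha) (mem_sup_right hb)⟩ ?_ ?_
  · intro h
    exact hb1 (mem_bot.mp (hbot ▸ mem_inf.mpr ⟨by simpa using mul_mem (inv_mem ha) h, hb⟩))
  · intro h
    exact ha1 (mem_bot.mp (hbot ▸ mem_inf.mpr ⟨ha, by simpa using mul_mem h (inv_mem hb)⟩))

/-- `q ∣ ⟨x_L, Ind_F^G (1 − ψ)⟩` when `C_F(y) ≤ W₂` for some `y ∈ W₁#` fixing `ψ`. -/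
theorem dvd_left (hL : IsCoatom L) (hI : IsOfTypeI L) (hq : c.q.Prime) {F : Subgroup G} {y : G}
    (hy : y ∈ c.W₁) (hy1 : y ≠ 1) (hcop : (Nat.card F).Coprime c.q) (hnorm : y ∈ normalizer (F : Set G))
    (hfix : ∀ f ∈ F, y * f = f * y → f ∈ c.W₂) {ψ : F →* ℂˣ}
    (hψ : ∀ f f' : F, (f' : G) = y * f * y⁻¹ → ψ f' = ψ f) {K : ℤ}
    (hK : classInner d.x (ind F 1 ψ) = (K : ℂ)) : (c.q : ℤ) ∣ K := by
  have := Fact.mk hq
  have hord : orderOf y = c.q := ((Nat.dvd_prime hq).mp (c.W₁.orderOf_dvd_natCard hy)).resolve_left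
    fun e => hy1 (orderOf_eq_one_iff.mp e)
  refine dvd_inner_ind (W := c.W₂) hord (fun w hw => (c.selfNorm.2.2.2.1 y hy w hw).symm)
    (Nat.Coprime.symm c.coprime_q_p) hcop hnorm hfix hψ (d.x_gen c.minimal hL hI) (fun w hw hw1 => ?_) hK
  rw [← c.selfNorm.2.2.2.1 y hy w hw]
  exact d.x_zero_mul c hL hI hy hy1 hw hw1

/-- `p ∣ ⟨x_L, Ind_F^G (1 − ψ)⟩` when `C_F(y) ≤ W₁` for some `y ∈ W₂#` fixing `ψ`. -/
theorem dvd_right (hL : IsCoatom L) (hI : IsOfTypeI L) (hp : c.p.Prime) {F : Subgroup G} {y : G}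
    (hy : y ∈ c.W₂) (hy1 : y ≠ 1) (hcop : (Nat.card F).Coprime c.p) (hnorm : y ∈ normalizer (F : Set G))
    (hfix : ∀ f ∈ F, y * f = f * y → f ∈ c.W₁) {ψ : F →* ℂˣ}
    (hψ : ∀ f f' : F, (f' : G) = y * f * y⁻¹ → ψ f' = ψ f) {K : ℤ}
    (hK : classInner d.x (ind F 1 ψ) = (K : ℂ)) : (c.p : ℤ) ∣ K := by
  have := Fact.mk hp
  have hord : orderOf y = c.p := ((Nat.dvd_prime hp).mp (c.W₂.orderOf_dvd_natCard hy)).resolve_left
    fun e => hy1 (orderOf_eq_one_iff.mp e)
  refine dvd_inner_ind (W := c.W₁) hord (fun w hw => c.selfNorm.2.2.2.1 w hw y hy)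
    c.coprime_q_p hcop hnorm hfix hψ (d.x_gen c.minimal hL hI) (fun w hw hw1 => ?_) hK
  exact d.x_zero_mul c hL hI hw hw1 hy hy1

theorem x_orth_of_nconj (hG : IsMinSimpleOddOrder G) (hL : IsCoatom L) (hI : IsOfTypeI L) {M : Subgroup G}
    [Fintype M] (d' : OneData M) (hM : IsCoatom M) (hIM : IsOfTypeI M)
    (hne : ∀ g : G, M ≠ L.map (MulAut.conj g).toMonoidHom) : classInner d.x d'.x = 0 := by
  set D := d.x - conjFun d.x with hD
  set D' := d'.x - conjFun d'.x with hD'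
  have hoff : ∀ {N : Subgroup G} [Fintype N] (e : OneData N), IsCoatom N → IsOfTypeI N → ∀ g ∉ tilde N,
      (e.x - conjFun e.x) g = 0 := fun {N} _ e hN hIN g hg => by
    rw [← e.τ₁_conj hG hN hIN, e.x_sub hG hN hIN]
    exact DadeMap.apply_zero fun h => hg ((mem_tilde_iff hG hN).mpr h)
  have h0 : classInner D D' = 0 := by
    rw [Cfsg.classInner, Finset.sum_eq_zero, mul_zero]
    intro g _
    by_cases hg : g ∈ tilde L
    · rw [show D' g = 0 from hoff d' hM hIM g (tilde_disjoint hG hL hM hne hg), map_zero, mul_zero]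
    · rw [show D g = 0 from hoff d hL hI g hg, zero_mul]
  have hDD : classInner D D = 2 := by
    have h1 : classInner (conjFun d.x) d.x = 0 := by
      rw [← classInner_conj_symm, d.x_orth_conj hG hL hI, map_zero]
    have h2 : classInner (conjFun d.x) (conjFun d.x) = 1 := by
      rw [show classInner (conjFun d.x) (conjFun d.x) = conj (classInner d.x d.x) by
        simp [Cfsg.classInner, Cfsg.conjFun, map_sum], d.x_norm hG hL hI, map_one]
    rw [hD, classInner_sub_left, classInner_sub_right, classInner_sub_right, d.x_orth_conj hG hL hI, h1, h2,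
      d.x_norm hG hL hI]
    norm_num
  rcases (d.x_signed hG hL hI).trichotomy (d'.x_signed hG hM hIM) with h | ⟨e, -⟩ | ⟨e, -⟩
  · exact h
  · rw [show D' = D by rw [hD, hD', e], hDD] at h0; norm_num at h0
  · rw [show D' = -D by
      rw [hD, hD', e]; funext g; simp [Cfsg.conjFun]; ring, CyclicTI.inner_neg_right, hDD] at h0
    norm_num at h0

include d c in
/-- Two non-conjugate maximal subgroups of Type I: `h ≤ e (e' + 1)` or `h' ≤ e' (e + 1)`. -/
theorem two_typeOne (hL : IsCoatom L) (hI : IsOfTypeI L) {M : Subgroup G}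
    [Fintype M] (d' : OneData M) (hM : IsCoatom M) (hIM : IsOfTypeI M)
    (hne : ∀ g : G, M ≠ L.map (MulAut.conj g).toMonoidHom) :
    Nat.card (fittingHall ↥L) ≤ (fittingHall ↥L).index * ((fittingHall ↥M).index + 1) ∨
      Nat.card (fittingHall ↥M) ≤ (fittingHall ↥M).index * ((fittingHall ↥L).index + 1) := by
  have hG := c.minimal
  have hz := d.x_orth_of_nconj hG hL hI d' hM hIM hne
  obtain ⟨A, hA⟩ := IsGen.exists_classInner_eq_intCast (d.x_gen hG hL hI) (d'.v_gen hG hM hIM)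
  obtain ⟨B, hB⟩ := IsGen.exists_classInner_eq_intCast (d.v_gen hG hL hI) (d'.x_gen hG hM hIM)
  have h0L : ∀ g ∈ tilde L, d'.v g = 0 := fun g hg => d'.v_zero hG hM hIM (tilde_disjoint hG hL hM hne hg)
  have h0M : ∀ g ∈ tilde M, d.v g = 0 := fun g hg => d.v_zero hG hL hI fun h =>
    tilde_disjoint hG hL hM hne h hg
  have hodd := d.parity_orth c hL hI (d'.v_gen hG hM hIM) (d'.x_gen hG hM hIM)
    (d'.f_real hG hM hIM) (d'.f_one c hM hIM) (d.v_orth hG hL hI h0L) hz hA hB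
  have key : ∀ {N N' : Subgroup G} [Fintype N] [Fintype N'] (e : OneData N) (e' : OneData N'), IsCoatom N →
      IsOfTypeI N → IsCoatom N' → IsOfTypeI N' → (∀ g ∈ tilde N, e'.v g = 0) → ∀ {Z : ℤ}, Z ≠ 0 →
      classInner e.x e'.v = (Z : ℂ) →
      Nat.card (fittingHall ↥N) ≤ (fittingHall ↥N).index * ((fittingHall ↥N').index + 1) := by
    intro N N' _ _ e e' hN hIN hN' hIN' h0 Z hZ hZe
    have h := e.inner_sq_le hG hN hIN h0 hZe
    rw [e'.v_norm hG hN' hIN', Complex.add_re, Complex.natCast_re, Complex.one_re] at h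
    have h1 : (1 : ℝ) ≤ (Z : ℝ) ^ 2 := by
      exact_mod_cast (one_le_sq_iff_one_le_abs _).mpr (Int.one_le_abs hZ)
    have h2 := le_trans h1 h
    rw [mul_div_assoc', one_le_div (Nat.cast_pos.mpr Nat.card_pos)] at h2
    have h3 : ((Nat.card (fittingHall ↥N) : ℕ) : ℝ) ≤
        (((fittingHall ↥N).index * ((fittingHall ↥N').index + 1) : ℕ) : ℝ) := by
      push_cast; linarith
    exact_mod_cast h3
  by_cases hA' : A = 0
  · right
    refine key d' d hM hIM hL hI h0M (Z := B) (fun e => by simp [hA', e] at hodd) ?_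
    rw [← classInner_conj_symm, hB, map_intCast]
  · exact Or.inl (key d d' hL hI hM hIM h0L hA' hA)

end OneData

namespace Coefs

variable {c : Config G} {d : OneData L} (K : Coefs c d)

/-- The column sums have the parity of their first entry. -/
theorem col_parity [Fintype (c.W₁ →* ℂˣ)] (hq : c.q.Prime) (k : c.W₂ →* ℂˣ) :
    Even ((∑ l, K.C l k) - K.C 1 k) := by
  classical
  rw [← Finset.add_sum_erase Finset.univ _ (Finset.mem_univ (1 : c.W₁ →* ℂˣ)), add_sub_cancel_left]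
  rcases (Finset.univ.erase (1 : c.W₁ →* ℂˣ)).eq_empty_or_nonempty with he | ⟨l₀, hl₀⟩
  · rw [he]; simp
  · rw [Finset.sum_congr rfl (g := fun _ => K.C l₀ k) fun l hl => by
      rw [K.rel l k, K.rel l₀ k,
        K.left_const hq (Finset.ne_of_mem_erase hl) (Finset.ne_of_mem_erase hl₀)],
      Finset.sum_const, Finset.card_erase_of_mem (Finset.mem_univ _), Finset.card_univ,
      ← Nat.card_eq_fintype_card, c.card_hom_W₁, nsmul_eq_mul]
    refine Even.mul_right ?_ _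
    obtain ⟨r, hr⟩ := c.minimal.1.of_dvd_nat (Subgroup.card_subgroup_dvd_card c.W₁)
    exact ⟨(r : ℤ), by rw [Config.q, hr]; push_cast; ring⟩

/-- The row sums have the parity of their first entry. -/
theorem row_parity [Fintype (c.W₂ →* ℂˣ)] (hp : c.p.Prime) (l : c.W₁ →* ℂˣ) :
    Even ((∑ k, K.C l k) - K.C l 1) := by
  classical
  rw [← Finset.add_sum_erase Finset.univ _ (Finset.mem_univ (1 : c.W₂ →* ℂˣ)), add_sub_cancel_left]
  rcases (Finset.univ.erase (1 : c.W₂ →* ℂˣ)).eq_empty_or_nonempty with he | ⟨k₀, hk₀⟩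
  · rw [he]; simp
  · rw [Finset.sum_congr rfl (g := fun _ => K.C l k₀) fun k hk => by
      rw [K.rel l k, K.rel l k₀,
        K.right_const hp (Finset.ne_of_mem_erase hk) (Finset.ne_of_mem_erase hk₀)],
      Finset.sum_const, Finset.card_erase_of_mem (Finset.mem_univ _), Finset.card_univ,
      ← Nat.card_eq_fintype_card, c.card_hom_W₂, nsmul_eq_mul]
    refine Even.mul_right ?_ _
    obtain ⟨r, hr⟩ := c.minimal.1.of_dvd_nat (Subgroup.card_subgroup_dvd_card c.W₂)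
    exact ⟨(r : ℤ), by rw [Config.p, hr]; push_cast; ring⟩

/-- `b = 0` when `e < p`. -/
theorem b_eq_zero (hq : c.q.Prime) (hp : c.p.Prime) (he : (fittingHall ↥L).index < c.p)
    {k : c.W₂ →* ℂˣ} (hk : k ≠ 1) : K.C 1 k = 0 := by
  classical
  have := CyclicTI.finite_hom c.W₁
  have := CyclicTI.finite_hom c.W₂
  have := Fintype.ofFinite (c.W₁ →* ℂˣ)
  have := Fintype.ofFinite (c.W₂ →* ℂˣ)
  have : Nontrivial (c.W₁ →* ℂˣ) := Finite.one_lt_card_iff_nontrivial.mp (c.card_hom_W₁ ▸ hq.one_lt)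
  obtain ⟨l₀, hl₀⟩ := exists_ne (1 : c.W₁ →* ℂˣ)
  have h := K.bound_split hq hl₀
  have hq1 : (0 : ℤ) ≤ (c.q : ℤ) - 1 := by have := hq.one_lt; omega
  have h1 : ∑ k' ∈ Finset.univ.erase (1 : c.W₂ →* ℂˣ), K.C 1 k' ^ 2 = ((c.p : ℤ) - 1) * K.C 1 k ^ 2 := by
    rw [Finset.sum_congr rfl fun k' hk' => by rw [K.right_const hp (Finset.ne_of_mem_erase hk') hk],
      Finset.sum_const, Finset.card_erase_of_mem (Finset.mem_univ _), Finset.card_univ, c.card_hom₂,
      nsmul_eq_mul, Nat.cast_sub hp.one_le, Nat.cast_one]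
  by_contra hne
  have h2 : (1 : ℤ) ≤ K.C 1 k ^ 2 := (one_le_sq_iff_one_le_abs _).mpr (Int.one_le_abs hne)
  have h3 : (0 : ℤ) ≤ ((c.q : ℤ) - 1) * (K.C l₀ 1 ^ 2 +
      ∑ k ∈ Finset.univ.erase (1 : c.W₂ →* ℂˣ), (K.C l₀ 1 + K.C 1 k - 1) ^ 2) :=
    mul_nonneg hq1 (add_nonneg (sq_nonneg _) (Finset.sum_nonneg fun _ _ => sq_nonneg _))
  have h4 : (0 : ℤ) ≤ (c.p : ℤ) - 1 := by have := hp.one_lt; omega
  have h5 := le_mul_of_one_le_right h4 h2
  have h6 : ((fittingHall ↥L).index : ℤ) < c.p := by exact_mod_cast he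
  linarith

/-- `b` even: `q ^ 2 ≤ ‖Ind_F^G (1 − ψ)‖ e / h`. -/
theorem col_bound [Fintype (c.W₁ →* ℂˣ)] (hL : IsCoatom L) (hI : IsOfTypeI L) (hq : c.q.Prime)
    {F : Subgroup G} (hdisj : ∀ g ∈ conjSharp F, g ∉ tilde L) {y : G} (hy : y ∈ c.W₁) (hy1 : y ≠ 1)
    (hcop : (Nat.card F).Coprime c.q) (hnorm : y ∈ normalizer (F : Set G))
    (hfix : ∀ f ∈ F, y * f = f * y → f ∈ c.W₂) {ψ : F →* ℂˣ} (hψ1 : ψ ≠ 1)
    (hψ : ∀ f f' : F, (f' : G) = y * f * y⁻¹ → ψ f' = ψ f) {k : c.W₂ →* ℂˣ} (hk : k ≠ 1)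
    (hD : ind F ψ ψ⁻¹ = ∑ l, (c.eta l k - c.eta l k⁻¹)) (hb : Even (K.C 1 k)) :
    (c.q : ℝ) ^ 2 ≤ (classInner (ind F 1 ψ) (ind F 1 ψ)).re *
      (((fittingHall ↥L).index : ℝ) / Nat.card (fittingHall ↥L)) := by
  classical
  have hG := c.minimal
  set P : G → ℂ := ∑ l, c.eta l k with hP
  have hA0 : ∀ g ∈ tilde L, ind F 1 ψ g = 0 := fun g hg => ind_eq_zero_off _ _ fun h => hdisj g h hg
  have hPgen : IsGeneralizedCharacter G P := IsGen.sum _ _ fun l _ => c.eta_isGen l k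
  have hP1 : classInner P (fun _ => 1) = 0 := by
    rw [hP, classInner_sum_left, Finset.sum_eq_zero]
    intro l _
    rw [← c.eta_one_one, c.eta_inner, if_neg fun h => hk h.2]
  have hxP : classInner d.x P = 0 := by
    rw [hP, classInner_sum_right]
    exact Finset.sum_eq_zero fun l _ => d.x_orth_eta c hL hI l k
  have hPc : conjFun P = ∑ l, c.eta l k⁻¹ := by
    rw [← Equiv.sum_comp (Equiv.inv (c.W₁ →* ℂˣ))]
    funext g
    simp only [hP, Cfsg.conjFun, Finset.sum_apply, map_sum, Equiv.inv_apply]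
    exact Finset.sum_congr rfl fun l _ => congrFun (c.eta_conj l k) g
  have hconj : conjFun (ind F 1 ψ) - ind F 1 ψ = P - conjFun P := by
    rw [conj_ind_sub, hD, Finset.sum_sub_distrib, hPc]
  obtain ⟨Z, hZ⟩ := IsGen.exists_classInner_eq_intCast (d.x_gen hG hL hI) (ind_isGen (1 : F →* ℂˣ) ψ)
  have hB : classInner d.v P = ((∑ l, K.C l k : ℤ) : ℂ) := by
    rw [hP, classInner_sum_right, Int.cast_sum]
    exact Finset.sum_congr rfl fun l _ => K.inner l k
  have hodd := d.parity_correction c hL hI (ind_isGen _ _) hA0 (inner_ind_one hψ1) hPgen hP1 hxP hconj hZ hB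
  have hev : Even (∑ l, K.C l k) := by
    have h := (K.col_parity hq k).add hb
    rwa [sub_add_cancel] at h
  have hZ0 : Z ≠ 0 := fun e => by
    rw [e, zero_add] at hodd
    exact (Int.not_odd_iff_even.mpr hev) hodd
  have hdvd := d.dvd_left c hL hI hq hy hy1 hcop hnorm hfix hψ hZ
  refine le_trans ?_ (d.inner_sq_le hG hL hI hA0 hZ)
  have h1 := Int.le_of_dvd (abs_pos.mpr hZ0) ((dvd_abs _ _).mpr hdvd)
  have h2 : (c.q : ℝ) ≤ |(Z : ℝ)| := by exact_mod_cast h1
  rw [← sq_abs (Z : ℝ)]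
  exact pow_le_pow_left₀ (Nat.cast_nonneg _) h2 2

/-- `a` even: `p ^ 2 ≤ ‖Ind_F^G (1 − ψ)‖ e / h`. -/
theorem row_bound [Fintype (c.W₂ →* ℂˣ)] (hL : IsCoatom L) (hI : IsOfTypeI L) (hp : c.p.Prime)
    {F : Subgroup G} (hdisj : ∀ g ∈ conjSharp F, g ∉ tilde L) {y : G} (hy : y ∈ c.W₂) (hy1 : y ≠ 1)
    (hcop : (Nat.card F).Coprime c.p) (hnorm : y ∈ normalizer (F : Set G))
    (hfix : ∀ f ∈ F, y * f = f * y → f ∈ c.W₁) {ψ : F →* ℂˣ} (hψ1 : ψ ≠ 1)
    (hψ : ∀ f f' : F, (f' : G) = y * f * y⁻¹ → ψ f' = ψ f) {l : c.W₁ →* ℂˣ} (hl : l ≠ 1)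
    (hD : ind F ψ ψ⁻¹ = ∑ k, (c.eta l k - c.eta l⁻¹ k)) (ha : Even (K.C l 1)) :
    (c.p : ℝ) ^ 2 ≤ (classInner (ind F 1 ψ) (ind F 1 ψ)).re *
      (((fittingHall ↥L).index : ℝ) / Nat.card (fittingHall ↥L)) := by
  classical
  have hG := c.minimal
  set P : G → ℂ := ∑ k, c.eta l k with hP
  have hA0 : ∀ g ∈ tilde L, ind F 1 ψ g = 0 := fun g hg => ind_eq_zero_off _ _ fun h => hdisj g h hg
  have hPgen : IsGeneralizedCharacter G P := IsGen.sum _ _ fun k _ => c.eta_isGen l k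
  have hP1 : classInner P (fun _ => 1) = 0 := by
    rw [hP, classInner_sum_left, Finset.sum_eq_zero]
    intro k _
    rw [← c.eta_one_one, c.eta_inner, if_neg fun h => hl h.1]
  have hxP : classInner d.x P = 0 := by
    rw [hP, classInner_sum_right]
    exact Finset.sum_eq_zero fun k _ => d.x_orth_eta c hL hI l k
  have hPc : conjFun P = ∑ k, c.eta l⁻¹ k := by
    rw [← Equiv.sum_comp (Equiv.inv (c.W₂ →* ℂˣ))]
    funext g
    simp only [hP, Cfsg.conjFun, Finset.sum_apply, map_sum, Equiv.inv_apply]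
    exact Finset.sum_congr rfl fun k _ => congrFun (c.eta_conj l k) g
  have hconj : conjFun (ind F 1 ψ) - ind F 1 ψ = P - conjFun P := by
    rw [conj_ind_sub, hD, Finset.sum_sub_distrib, hPc]
  obtain ⟨Z, hZ⟩ := IsGen.exists_classInner_eq_intCast (d.x_gen hG hL hI) (ind_isGen (1 : F →* ℂˣ) ψ)
  have hB : classInner d.v P = ((∑ k, K.C l k : ℤ) : ℂ) := by
    rw [hP, classInner_sum_right, Int.cast_sum]
    exact Finset.sum_congr rfl fun k _ => K.inner l k
  have hodd := d.parity_correction c hL hI (ind_isGen _ _) hA0 (inner_ind_one hψ1) hPgen hP1 hxP hconj hZ hB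
  have hev : Even (∑ k, K.C l k) := by
    have h := (K.row_parity hp l).add ha
    rwa [sub_add_cancel] at h
  have hZ0 : Z ≠ 0 := fun e => by
    rw [e, zero_add] at hodd
    exact (Int.not_odd_iff_even.mpr hev) hodd
  have hdvd := d.dvd_right c hL hI hp hy hy1 hcop hnorm hfix hψ hZ
  refine le_trans ?_ (d.inner_sq_le hG hL hI hA0 hZ)
  have h1 := Int.le_of_dvd (abs_pos.mpr hZ0) ((dvd_abs _ _).mpr hdvd)
  have h2 : (c.p : ℝ) ≤ |(Z : ℝ)| := by exact_mod_cast h1
  rw [← sq_abs (Z : ℝ)]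
  exact pow_le_pow_left₀ (Nat.cast_nonneg _) h2 2

open scoped Classical in
/-- All `C(l,k)` odd and `e ≤ pq`: the other good cosets weigh at most `e / h`. -/
theorem weights_le_of_odd (hq : c.q.Prime) (hp : c.p.Prime) {R : Finset (Subgroup G)} (hR : IsReps R)
    (hSR : c.S ∈ R) (hTR : c.T ∈ R) {F F' : Subgroup G} (hFS : IsSide c.S F) (hFT : IsSide c.T F')
    (hLR : L ∈ (R.erase c.S).erase c.T) (hI : IsOfTypeI L) (hodd : ∀ l k, Odd (K.C l k))
    (he : (fittingHall ↥L).index ≤ c.q * c.p) :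
    ∑ M ∈ ((R.erase c.S).erase c.T).erase L, weightGood M F F' ≤
      ((fittingHall ↥L).index : ℝ) / Nat.card (fittingHall ↥L) := by
  have hG := c.minimal
  have hLR' : L ∈ R := Finset.mem_of_mem_erase (Finset.mem_of_mem_erase hLR)
  have hL : IsCoatom L := hR.max L hLR'
  have := CyclicTI.finite_hom c.W₁
  have := CyclicTI.finite_hom c.W₂
  have := Fintype.ofFinite (c.W₁ →* ℂˣ)
  have := Fintype.ofFinite (c.W₂ →* ℂˣ)
  have heq : ∑ l : c.W₁ →* ℂˣ, ∑ k : c.W₂ →* ℂˣ, K.C l k ^ 2 = ((fittingHall ↥L).index : ℤ) := by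
    refine le_antisymm K.bound ?_
    have h1 : ∑ _l : c.W₁ →* ℂˣ, ∑ _k : c.W₂ →* ℂˣ, (1 : ℤ) ≤
        ∑ l : c.W₁ →* ℂˣ, ∑ k : c.W₂ →* ℂˣ, K.C l k ^ 2 :=
      Finset.sum_le_sum fun l _ => Finset.sum_le_sum fun k _ =>
        (one_le_sq_iff_one_le_abs _).mpr (Int.one_le_abs fun e => by simpa [e] using hodd l k)
    simp only [Finset.sum_const, Finset.card_univ, c.card_hom₁, c.card_hom₂, nsmul_eq_mul, mul_one] at h1
    refine le_trans ?_ h1
    exact_mod_cast he
  obtain ⟨x', hx', hv⟩ := K.eq_case hL hI heq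
  have h := residual_split hG c.S_max c.T_max c.S_typeP c.T_typeP hFS hFT hR hSR hTR hLR hI d
  refine le_trans ?_ h
  have hWn : (0 : ℝ) ≤ (Nat.card ↥(c.W₁ ⊔ c.W₂) : ℝ)⁻¹ * ∑ w : ↥(c.W₁ ⊔ c.W₂),
      (if (w : G) ∈ What c.W₁ c.W₂ then Complex.normSq (d.x w) else 0) :=
    mul_nonneg (by positivity) (Finset.sum_nonneg fun w _ => by
      split_ifs
      · exact Complex.normSq_nonneg _
      · exact le_rfl)
  have hSn := mass_nonneg (hFS.isTISide hG) (fun g => if g ∈ tilde L then 0 else d.x g)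
  have hTn := mass_nonneg (hFT.isTISide hG) (fun g => if g ∈ tilde L then 0 else d.x g)
  refine le_trans ?_ (le_add_of_nonneg_left (by linarith))
  refine Finset.sum_le_sum fun M hM => ?_
  have hMR : M ∈ R := Finset.mem_of_mem_erase (Finset.mem_of_mem_erase (Finset.mem_of_mem_erase hM))
  have hMmax := hR.max M hMR
  have hMI : IsOfTypeI M := by
    have hM' := Finset.mem_of_mem_erase hM
    exact typeOne_of_nconj hG c.S_max c.T_max c.S_typeP c.T_typeP hMmax
      (hR.nconj hSR hMR (Finset.ne_of_mem_erase (Finset.mem_of_mem_erase hM')).symm)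
      (hR.nconj hTR hMR (Finset.ne_of_mem_erase hM').symm)
  obtain ⟨d'⟩ := exists_oneData hG hMmax hMI
  obtain ⟨K'⟩ := exists_coefs c hMmax hMI d'
  have hsumodd : Odd (∑ l, ∑ k, K.C l k * K'.C l k) := by
    have hev : Even (∑ l, ∑ k, (K.C l k * K'.C l k - K'.C l k)) :=
      Finset.even_sum _ fun l _ => Finset.even_sum _ fun k _ => by
        obtain ⟨t, ht⟩ := hodd l k
        exact ⟨t * K'.C l k, by rw [ht]; ring⟩
    have hK' : Odd (∑ l, ∑ k, K'.C l k) := by
      have h1 : Even ((∑ l, ∑ k, K'.C l k) - ∑ l, K'.C l 1) := by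
        rw [← Finset.sum_sub_distrib]
        exact Finset.even_sum _ fun l _ => K'.row_parity hp l
      have h2 : Even ((∑ l, K'.C l 1) - K'.C 1 1) := K'.col_parity hq 1
      have h3 := h1.add h2
      rw [sub_add_sub_cancel, K'.one] at h3
      obtain ⟨t, ht⟩ := h3
      exact ⟨t, by omega⟩
    simp only [Finset.sum_sub_distrib] at hev
    have h4 := hev.add_odd hK'
    rwa [sub_add_cancel] at h4
  obtain ⟨Z, hZ⟩ : ∃ Z : ℤ, Z = ∑ l, ∑ k, K.C l k * K'.C l k := ⟨_, rfl⟩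
  have hZ1 : (1 : ℝ) ≤ (Z : ℝ) ^ 2 := by
    exact_mod_cast (one_le_sq_iff_one_le_abs _).mpr (Int.one_le_abs fun e => by
      rw [← hZ, e] at hsumodd; simp at hsumodd)
  have hpos : ∀ a : M, (a : G) ∈ good M F F' →
      Complex.normSq (rho (good M F F') M (Cfsg.supportR M) d.x a) = (Z : ℝ) ^ 2 := by
    intro a ha
    have := Fintype.ofFinite (Cfsg.supportR M (a : G))
    have havg : ∀ f : G → ℂ, avg (Cfsg.supportR M) f a = (Nat.card (Cfsg.supportR M (a : G)) : ℂ)⁻¹ *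
        ∑ u : Cfsg.supportR M (a : G), f ((a : G) * u) := fun f => by
      rw [avg, DadeMap.finsum_coe_subgroup]
    have hv0 : ∀ u : Cfsg.supportR M (a : G), d.v ((a : G) * u) = 0 := fun u =>
      d.v_zero hG hL hI fun hu => by
        refine tilde_disjoint hG hMmax hL (hR.nconj hMR hLR' (Finset.ne_of_mem_erase hM)) ?_ hu
        simpa using mul_mem_tilde ha.1 u.2 1
    have hη : ∀ l k, avg (Cfsg.supportR M) (c.eta l k) a = (K'.C l k : ℂ) := fun l k => by
      have h := K'.rho_eq l k a ha.1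
      rwa [Frob12.rho_of_mem ha.1] at h
    have hx'a : avg (Cfsg.supportR M) x' a = (Z : ℂ) := by
      rw [havg, Finset.sum_congr rfl (g := fun u : Cfsg.supportR M (a : G) =>
        ∑ x : (c.W₁ →* ℂˣ) × (c.W₂ →* ℂˣ), (K.C x.1 x.2 : ℂ) * c.eta x.1 x.2 ((a : G) * u)) fun u _ => by
          have h := congrFun hv ((a : G) * u)
          rw [hv0 u, Pi.sub_apply, Finset.sum_apply] at h
          simp only [Pi.smul_apply, smul_eq_mul] at h
          linear_combination h, Finset.sum_comm, Finset.mul_sum, hZ, Fintype.sum_prod_type]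
      push_cast
      refine Finset.sum_congr rfl fun l _ => Finset.sum_congr rfl fun k _ => ?_
      rw [← Finset.mul_sum, mul_left_comm, ← havg, hη]
    rw [Frob12.rho_of_mem ha]
    rcases hx' with rfl | rfl
    · rw [hx'a, Complex.normSq_intCast, sq]
    · have e : avg (Cfsg.supportR M) (-conjFun d.x) a = -conj (avg (Cfsg.supportR M) d.x a) := by
        rw [havg, havg, map_mul, map_inv₀, map_natCast, map_sum, ← mul_neg, ← Finset.sum_neg_distrib]
        rfl
      rw [e] at hx'a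
      rw [← Complex.normSq_conj, ← neg_neg (conj (avg (Cfsg.supportR M) d.x (a : G))), hx'a,
        Complex.normSq_neg, Complex.normSq_intCast, sq]
  have hsub : good M F F' ⊆ (M : Set G) := (dade_good hG hMmax F F').subset
  have hterm : ∀ a : M, (if (a : G) ∈ good M F F' then (1 : ℝ) else 0) ≤
      Complex.normSq (rho (good M F F') M (Cfsg.supportR M) d.x a) := fun a => by
    by_cases ha : (a : G) ∈ good M F F'
    · rw [if_pos ha, hpos a ha]; exact hZ1
    · rw [if_neg ha]; exact Complex.normSq_nonneg _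
  refine le_trans (le_of_eq ?_) (mul_le_mul_of_nonneg_left (Finset.sum_le_sum fun a _ => hterm a)
    (by positivity))
  rw [Finset.sum_boole, ← Fintype.card_subtype, ← Nat.card_eq_fintype_card, weightGood, ← Nat.card_coe_set_eq,
    Nat.card_congr (Equiv.subtypeSubtypeEquivSubtype fun {a} h => hsub h :
      {a : M // (a : G) ∈ good M F F'} ≃ _), inv_mul_eq_div]

/-- `b` even, on a `Side` with `C_F(y) ≤ W₂`: `q h ≤ e (u + 1)`. -/
theorem col_bound_side [Fintype (c.W₁ →* ℂˣ)] [Fintype (c.W₂ →* ℂˣ)] (s : Side c) (hL : IsCoatom L)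
    (hI : IsOfTypeI L) (hdisj : ∀ g ∈ conjSharp s.F, g ∉ tilde L) {y : G} (hy : y ∈ c.W₁) (hy1 : y ≠ 1)
    (hnorm : y ∈ normalizer (s.F : Set G)) (hfix : ∀ f ∈ s.F, y * f = f * y → f ∈ c.W₂)
    {k : c.W₂ →* ℂˣ} (hk : k ≠ 1) (hψ : ∀ f f' : s.F, (f' : G) = y * f * y⁻¹ → s.psi k f' = s.psi k f)
    (hinv : s.psi k⁻¹ = (s.psi k)⁻¹) (hb : Even (K.C 1 k)) :
    c.q * Nat.card (fittingHall ↥L) ≤ (s.u + 1) * (fittingHall ↥L).index := by
  classical
  have hkk : k ≠ k⁻¹ := by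
    intro e
    refine hk (MonoidHom.ext fun a => ?_)
    have h2 : k a ^ 2 = 1 := by
      have h := congrFun (congrArg DFunLike.coe e) a
      rw [MonoidHom.inv_apply, eq_inv_iff_mul_eq_one] at h
      rw [sq, h]
    have hp : k a ^ c.p = 1 := by rw [← map_pow, Config.p, pow_card_eq_one', map_one]
    obtain ⟨r, hr⟩ := c.minimal.1.of_dvd_nat (Subgroup.card_subgroup_dvd_card c.W₂)
    rw [Config.p, hr, pow_succ, pow_mul, h2, one_pow, one_mul] at hp
    exact hp
  have hk' : k⁻¹ ≠ 1 := hom_inv_ne_one hk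
  have hD : ind s.F (s.psi k) (s.psi k)⁻¹ = ∑ l, (c.eta l k - c.eta l k⁻¹) := by
    rw [← hinv, s.ruleD hk hk' hkk, Finset.sum_sub_distrib]
    rfl
  have hn : (classInner (ind s.F 1 (s.psi k)) (ind s.F 1 (s.psi k))).re = (c.q : ℝ) * (s.u + 1) := by
    rw [← s.psi_one, inner_ind_orbCount s.ti, Complex.ofReal_re, s.orbCount_psi, s.orbCount_psi,
      s.orbCount_psi, s.orbCount_psi, if_pos rfl, if_pos rfl, if_pos rfl, if_neg hk.symm, if_neg hk,
      if_neg hk]
    ring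
  have h := K.col_bound hL hI s.q_prime hdisj hy hy1 s.coprime.symm hnorm hfix (s.psi_ne_one hk) hψ hk hD hb
  have hq0 : (0 : ℝ) < c.q := Nat.cast_pos.mpr s.q_prime.pos
  have hh : (0 : ℝ) < Nat.card (fittingHall ↥L) := Nat.cast_pos.mpr Nat.card_pos
  rw [hn, mul_div_assoc', le_div_iff₀ hh, sq, mul_assoc, mul_assoc] at h
  have h2 := le_of_mul_le_mul_left h hq0
  exact_mod_cast h2

end Coefs

end CfsgLib.OddLocal.FTFinal
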