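import Mathlib.RingTheory.Nilpotent.Defs
import Mathlib.Algebra.Ring.Subring.Basic
import Mathlib.Algebra.Group.Hom.End
import Mathlib.Algebra.CharP.Lemmas
import Mathlib.FieldTheory.Finite.Basic
import Mathlib.Algebra.BigOperators.Group.Finset.Basic

/-!
Owner: helper16. An abelian group of odd order acting on a module of prime exponent which is cyclic over
the group with a one-dimensional fixed space for a normalising element of odd order preserves no
non-degenerate alternating map.
-/

set_option autoImplicit false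
set_option linter.unusedSectionVars false

namespace CfsgLib.OddLocal.Final.SelfDual

/-- An involution of a reduced finite commutative ring commuting with an automorphism of odd order is
trivial, when that automorphism fixes only self-adjoint elements and trivial idempotents. -/
theorem star_eq_id {R : Type*} [CommRing R] [Finite R] (N : ℕ) (hN : Even N) (hN1 : 1 ≤ N)
    (hr : ∀ r : R, r ^ (N + 1) = r) (h2 : ∀ r : R, r + r = 0 → r = 0) (σ st : R →+* R)
    (hst : ∀ r, st (st r) = r) (hcomm : ∀ r, σ (st r) = st (σ r)) {m : ℕ} (hm : Odd m)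
    (hσ : ∀ r, σ^[m] r = r) (hfix : ∀ r, σ r = r → st r = r)
    (hidem : ∀ r, σ r = r → r * r = r → r = 0 ∨ r = 1) : ∀ r, st r = r := by
  classical
  set e : R → R := fun r => r ^ N with he
  have hee : ∀ r, e r * r = r := fun r => by rw [he]; simp only; rw [← pow_succ, hr]
  have hee2 : ∀ r, e r * e r = e r := fun r => by
    have h := hee r
    calc e r * e r = r ^ (N - 1) * (e r * r) := by
          simp only [he]; rw [← mul_assoc, mul_comm (r ^ (N - 1)) (r ^ N), mul_assoc, ← pow_succ,
            Nat.sub_add_cancel hN1]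
      _ = r ^ (N - 1) * r := by rw [h]
      _ = e r := by rw [← pow_succ, Nat.sub_add_cancel hN1]
  have hest : ∀ r, st r = -r → st (e r) = e r := fun r hr' => by
    simp only [he, map_pow, hr', hN.neg_pow]
  obtain ⟨t, ht, htmax⟩ : ∃ t : R, st t = -t ∧ ∀ r, st r = -r → e t * e r = e t → e r = e t := by
    obtain ⟨t, ht, hmax⟩ := Set.exists_max_image {r : R | st r = -r}
      (fun r => Set.ncard {x : R | e r * x = x}) (Set.toFinite _) ⟨0, by simp⟩
    refine ⟨t, ht, fun r hr' hle => ?_⟩
    have hsub : {x : R | e t * x = x} ⊆ {x : R | e r * x = x} := fun x hx => by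
      show e r * x = x
      calc e r * x = e r * (e t * x) := by rw [hx]
        _ = e t * e r * x := by ring
        _ = x := by rw [hle]; exact hx
    have heq := Set.eq_of_subset_of_ncard_le hsub (hmax r hr') (Set.toFinite _)
    have h1 : e t * e r = e r := (heq.ge (hee2 r) : e t * e r = e r)
    rw [← h1, hle]
  have hall : ∀ r, st r = -r → e t * r = r := by
    intro r hr'
    set s := t + (1 - e t) * r with hs
    have hs' : st s = -s := by
      rw [hs, map_add, map_mul, map_sub, map_one, hest t ht, ht, hr']; ring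
    have hz : t * ((1 - e t) * r) = 0 := by
      rw [← mul_assoc, mul_sub, mul_one, mul_comm t, hee, sub_self, zero_mul]
    have hes : e s = e t + e ((1 - e t) * r) := by
      simp only [he, hs]
      obtain ⟨n, rfl⟩ : ∃ n, N = n + 1 := ⟨N - 1, by omega⟩
      have key : ∀ k : ℕ, (t + (1 - e t) * r) ^ (k + 1) = t ^ (k + 1) + ((1 - e t) * r) ^ (k + 1) := by
        intro k
        induction k with
        | zero => simp
        | succ k ih =>
          rw [pow_succ, ih, add_mul, mul_add, mul_add]
          have h1 : t ^ (k + 1) * ((1 - e t) * r) = 0 := by rw [pow_succ, mul_assoc, hz, mul_zero]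
          have h2 : ((1 - e t) * r) ^ (k + 1) * t = 0 := by
            rw [pow_succ, mul_assoc, mul_comm _ t, hz, mul_zero]
          rw [h1, h2, add_zero, zero_add, ← pow_succ, ← pow_succ]
      exact key n
    have hz2 : e t * e ((1 - e t) * r) = 0 := by
      simp only [he]
      rw [← mul_pow, hz, zero_pow (by omega)]
    have h := htmax s hs' (by rw [hes, mul_add, hee2, hz2, add_zero])
    rw [hes, add_eq_left] at h
    have h4 := hee ((1 - e t) * r)
    rw [h, zero_mul] at h4
    have h5 : (1 - e t) * r = 0 := h4.symm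
    rw [sub_mul, one_mul, sub_eq_zero] at h5
    exact h5.symm
  have hσst : ∀ k : ℕ, ∀ r, st r = -r → st (σ^[k] r) = -(σ^[k] r) := by
    intro k
    induction k with
    | zero => intro r hr'; simpa using hr'
    | succ k ih =>
      intro r hr'
      rw [Function.iterate_succ_apply', ← hcomm, ih r hr', map_neg]
  have hiterpow : ∀ k : ℕ, ∀ r, σ^[k] (e r) = e (σ^[k] r) := by
    intro k
    induction k with
    | zero => intro r; rfl
    | succ k ih =>
      intro r
      rw [Function.iterate_succ_apply', Function.iterate_succ_apply', ih]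
      simp only [he, map_pow]
  have hle : ∀ k : ℕ, e t * σ^[k] (e t) = σ^[k] (e t) := by
    intro k
    rw [hiterpow]
    have h := hall _ (hσst k t ht)
    set s := σ^[k] t with hs
    calc e t * e s = e t * (e s * e s) := by rw [hee2]
      _ = e t * s * s ^ (N - 1) * e s := by
          have : s * s ^ (N - 1) = e s := by rw [← pow_succ', Nat.sub_add_cancel hN1]
          rw [mul_assoc (e t) s, this]; ring
      _ = s * s ^ (N - 1) * e s := by rw [h]
      _ = e s := by
          have : s * s ^ (N - 1) = e s := by rw [← pow_succ', Nat.sub_add_cancel hN1]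
          rw [this, hee2]
  have hσe : σ (e t) = e t := by
    obtain ⟨n, rfl⟩ : ∃ n, m = n + 1 := ⟨m - 1, by obtain ⟨j, rfl⟩ := hm; omega⟩
    have h1 := hle 1
    simp only [Function.iterate_one] at h1
    have h2 : σ (e t) * e t = e t := by
      have h3 := congrArg σ (hle n)
      rw [map_mul, ← Function.iterate_succ_apply' (f := σ), hσ] at h3
      exact h3
    rw [← h1, mul_comm, h2]
  rcases hidem _ hσe (hee2 t) with h | h
  · intro r
    have h1 := hall (r - st r) (by rw [map_sub, hst]; ring)
    rw [h, zero_mul] at h1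
    exact (sub_eq_zero.mp h1.symm).symm
  · have hσn : ∀ k : ℕ, σ (∏ i ∈ Finset.range k, σ^[i] t) * t = (∏ i ∈ Finset.range k, σ^[i] t) * σ^[k] t := by
      intro k
      induction k with
      | zero => simp
      | succ k ih =>
        rw [Finset.prod_range_succ, map_mul, ← Function.iterate_succ_apply' (f := σ), mul_right_comm, ih]
    have htu : t * t ^ (N - 1) = 1 := by rw [← pow_succ', Nat.sub_add_cancel hN1]; exact h
    set n := ∏ i ∈ Finset.range m, σ^[i] t with hn
    have hn1 : σ n = n := by
      have := congrArg (fun x => x * t ^ (N - 1)) (hσn m)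
      simp only [hσ, mul_assoc, htu, mul_one] at this
      exact this
    have hn2 : st n = -n := by
      rw [hn, map_prod, Finset.prod_congr rfl (fun i _ => hσst i t ht), Finset.prod_neg, Finset.card_range,
        hm.neg_one_pow, neg_one_mul]
    have hn0 : n = 0 := h2 n (by
      have := hfix n hn1
      rw [hn2] at this
      calc n + n = -(-n) + n := by rw [neg_neg]
        _ = -n + n := by rw [this]; rw [this]
        _ = 0 := neg_add_cancel n)
    have hne : e n = 1 := by
      simp only [he, hn, ← Finset.prod_pow]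
      refine Finset.prod_eq_one fun i _ => ?_
      show e (σ^[i] t) = 1
      rw [← hiterpow, h]; exact Function.iterate_fixed (map_one σ) i
    rw [hn0] at hne
    simp only [he, zero_pow (by omega : N ≠ 0)] at hne
    intro r
    rw [← mul_one (st r), ← mul_one r, ← hne, mul_zero, mul_zero]

variable {A B : Type*} [AddCommGroup A] [Finite A] [AddCommGroup B]

/-- The main statement. -/
theorem subsingleton_of_alternating {V : Type*} [Group V] [Finite V] {q : ℕ} [Fact q.Prime] (hq2 : q ≠ 2)
    (ρ : V →* AddMonoid.End A) (hV : ∀ a b : V, Commute (ρ a) (ρ b))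
    (hcop : (Nat.card V).Coprime q) (hA : ∀ a : A, q • a = 0) (hB : ∀ b : B, b + b = 0 → b = 0)
    (s : AddMonoid.End A) {m : ℕ} (hm : Odd m) (hs : s ^ m = 1)
    (hsn : ∀ v : V, ∃ v' : V, s * ρ v = ρ v' * s)
    (c : A →+ A →+ B) (hc : ∀ x y, c y x = -c x y) (hnd : ∀ z, (∀ x, c x z = 0) → z = 0)
    (hinv : ∀ v : V, ∀ x y, c (ρ v x) (ρ v y) = c x y)
    (hcs : ∀ x y z w, c x y = c z w → c (s x) (s y) = c (s z) (s w))
    (x₀ : A) (hx₀ : s x₀ = x₀) (hfix : ∀ a, s a = a → ∃ n : ℤ, a = n • x₀)
    (hgen : AddSubgroup.closure (Set.range fun v => ρ v x₀) = ⊤) : Subsingleton A := by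
  classical
  have hq := (Fact.out : q.Prime)
  refine ⟨fun a b => sub_eq_zero.mp ?_⟩
  generalize a - b = z
  clear a b
  have : Finite (AddMonoid.End A) := Finite.of_injective (fun f : AddMonoid.End A => (f : A → A))
    DFunLike.coe_injective
  set R := Subring.closure (Set.range ρ) with hR
  let instR : CommRing R :=
    { (inferInstance : Ring R) with
      mul_comm := fun r r' => Subtype.ext (by
        have : ∀ f ∈ R, ∀ g ∈ R, f * g = g * f := by
          intro f hf g hg
          induction hf using Subring.closure_induction with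
          | mem f hf =>
            obtain ⟨v, rfl⟩ := hf
            induction hg using Subring.closure_induction with
            | mem g hg => obtain ⟨w, rfl⟩ := hg; exact hV v w
            | zero => simp
            | one => simp
            | add _ _ _ _ h1 h2 => rw [mul_add, add_mul, h1, h2]
            | neg _ _ h1 => rw [mul_neg, neg_mul, h1]
            | mul x y _ _ h1 h2 => rw [← mul_assoc, h1, mul_assoc, h2, mul_assoc]
          | zero => simp
          | one => simp
          | add _ _ _ _ h1 h2 => rw [add_mul, mul_add, h1, h2]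
          | neg _ _ h1 => rw [neg_mul, mul_neg, h1]
          | mul x y _ _ h1 h2 => rw [mul_assoc, h2, ← mul_assoc, h1, mul_assoc]
        exact this r r.2 r' r'.2) }
  -- generation
  have hsurj : ∀ a : A, ∃ r : R, (r : AddMonoid.End A) x₀ = a := by
    intro a
    have ha : a ∈ AddSubgroup.closure (Set.range fun v => ρ v x₀) := hgen ▸ AddSubgroup.mem_top a
    induction ha using AddSubgroup.closure_induction with
    | mem a ha => obtain ⟨v, rfl⟩ := ha; exact ⟨⟨ρ v, Subring.subset_closure ⟨v, rfl⟩⟩, rfl⟩
    | zero => exact ⟨0, rfl⟩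
    | add _ _ _ _ h1 h2 =>
      obtain ⟨r, rfl⟩ := h1; obtain ⟨r', rfl⟩ := h2; exact ⟨r + r', rfl⟩
    | neg _ _ h1 => obtain ⟨r, rfl⟩ := h1; exact ⟨-r, rfl⟩
  have hext : ∀ r r' : R, (r : AddMonoid.End A) x₀ = (r' : AddMonoid.End A) x₀ → r = r' := by
    intro r r' h
    refine Subtype.ext (AddMonoidHom.ext fun a => ?_)
    obtain ⟨u, rfl⟩ := hsurj a
    show ((r * u : R) : AddMonoid.End A) x₀ = ((r' * u : R) : AddMonoid.End A) x₀
    rw [mul_comm r, mul_comm r']
    show (u : AddMonoid.End A) ((r : AddMonoid.End A) x₀) = (u : AddMonoid.End A) ((r' : AddMonoid.End A) x₀)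
    rw [h]
  -- the adjoint
  have hadj : ∀ r : R, ∃ r' : R, ∀ x y, c ((r : AddMonoid.End A) x) y = c x ((r' : AddMonoid.End A) y) := by
    rintro ⟨r, hr⟩
    induction hr using Subring.closure_induction with
    | mem f hf =>
      obtain ⟨v, rfl⟩ := hf
      refine ⟨⟨ρ v⁻¹, Subring.subset_closure ⟨v⁻¹, rfl⟩⟩, fun x y => ?_⟩
      have h1 := hinv v x (ρ v⁻¹ y)
      rw [show ρ v (ρ v⁻¹ y) = (ρ v * ρ v⁻¹) y from rfl, ← map_mul, mul_inv_cancel, map_one] at h1
      exact h1
    | zero => exact ⟨0, fun x y => by simp⟩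
    | one => exact ⟨1, fun x y => by simp⟩
    | add f g _ _ h1 h2 =>
      obtain ⟨f', hf'⟩ := h1; obtain ⟨g', hg'⟩ := h2
      refine ⟨f' + g', fun x y => ?_⟩
      show c (f x + g x) y = c x ((f' : AddMonoid.End A) y + (g' : AddMonoid.End A) y)
      rw [map_add, AddMonoidHom.add_apply, map_add, hf', hg']
    | neg f _ h1 =>
      obtain ⟨f', hf'⟩ := h1
      refine ⟨-f', fun x y => ?_⟩
      show c (-(f x)) y = c x (-((f' : AddMonoid.End A) y))
      rw [map_neg, AddMonoidHom.neg_apply, map_neg, hf']
    | mul f g _ _ h1 h2 =>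
      obtain ⟨f', hf'⟩ := h1; obtain ⟨g', hg'⟩ := h2
      refine ⟨g' * f', fun x y => ?_⟩
      show c (f (g x)) y = c x ((g' : AddMonoid.End A) ((f' : AddMonoid.End A) y))
      rw [hf', hg']
  choose adj hadj using hadj
  have huniq : ∀ r r' : R, (∀ x y, c ((r : AddMonoid.End A) x) y = c x ((r' : AddMonoid.End A) y)) →
      adj r = r' := by
    intro r r' h
    refine Subtype.ext (AddMonoidHom.ext fun y => sub_eq_zero.mp (hnd _ fun x => ?_))
    rw [map_sub]
    exact sub_eq_zero.mpr ((hadj r x y).symm.trans (h x y))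
  let st : R →+* R :=
    { toFun := adj
      map_one' := huniq 1 1 fun x y => rfl
      map_mul' := fun r r' => huniq _ _ fun x y => by
        rw [mul_comm r r']
        show c ((r' : AddMonoid.End A) ((r : AddMonoid.End A) x)) y =
          c x ((adj r : AddMonoid.End A) ((adj r' : AddMonoid.End A) y))
        rw [hadj, hadj]
      map_zero' := huniq 0 0 fun x y => by simp
      map_add' := fun r r' => huniq _ _ fun x y => by
        show c ((r : AddMonoid.End A) x + (r' : AddMonoid.End A) x) y =
          c x ((adj r : AddMonoid.End A) y + (adj r' : AddMonoid.End A) y)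
        rw [map_add, AddMonoidHom.add_apply, map_add, hadj, hadj] }
  have hstst : ∀ r, st (st r) = r := fun r => huniq _ _ fun x y => by
    show c ((adj r : AddMonoid.End A) x) y = c x ((r : AddMonoid.End A) y)
    rw [hc y, ← hadj, ← hc]
  -- conjugation by `s`
  obtain ⟨n, rfl⟩ : ∃ n, m = n + 1 := ⟨m - 1, by obtain ⟨j, rfl⟩ := hm; omega⟩
  have hs1 : s * s ^ n = 1 := by rw [← pow_succ', hs]
  have hs2 : s ^ n * s = 1 := by rw [← pow_succ, hs]
  have hsR : ∀ r : R, s * (r : AddMonoid.End A) * s ^ n ∈ R := by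
    rintro ⟨r, hr⟩
    induction hr using Subring.closure_induction with
    | mem f hf =>
      obtain ⟨v, rfl⟩ := hf
      obtain ⟨v', hv'⟩ := hsn v
      show s * ρ v * s ^ n ∈ R
      rw [hv', mul_assoc, hs1, mul_one]
      exact Subring.subset_closure ⟨v', rfl⟩
    | zero => show s * 0 * s ^ n ∈ R; rw [mul_zero, zero_mul]; exact R.zero_mem
    | one => show s * 1 * s ^ n ∈ R; rw [mul_one, hs1]; exact R.one_mem
    | add f g _ _ h1 h2 =>
      show s * (f + g) * s ^ n ∈ R
      rw [mul_add, add_mul]; exact R.add_mem h1 h2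
    | neg f _ h1 =>
      show s * (-f) * s ^ n ∈ R
      rw [mul_neg, neg_mul]; exact R.neg_mem h1
    | mul f g _ _ h1 h2 =>
      show s * (f * g) * s ^ n ∈ R
      rw [show s * (f * g) * s ^ n = (s * f * s ^ n) * (s * g * s ^ n) by
        simp only [mul_assoc]; rw [← mul_assoc (s ^ n) s, hs2, one_mul]]
      exact R.mul_mem h1 h2
  let σ : R →+* R :=
    { toFun := fun r => ⟨_, hsR r⟩
      map_one' := Subtype.ext (by show s * 1 * s ^ n = 1; rw [mul_one, hs1])
      map_mul' := fun r r' => Subtype.ext (by
        show s * ((r : AddMonoid.End A) * r') * s ^ n = (s * r * s ^ n) * (s * r' * s ^ n)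
        simp only [mul_assoc]; rw [← mul_assoc (s ^ n) s, hs2, one_mul])
      map_zero' := Subtype.ext (by show s * 0 * s ^ n = 0; rw [mul_zero, zero_mul])
      map_add' := fun r r' => Subtype.ext (by
        show s * ((r : AddMonoid.End A) + r') * s ^ n = s * r * s ^ n + s * r' * s ^ n
        rw [mul_add, add_mul]) }
  have hσiter : ∀ k : ℕ, ∀ r : R, ((σ^[k] r : R) : AddMonoid.End A) = s ^ k * r * (s ^ n) ^ k := by
    intro k
    induction k with
    | zero => intro r; simp
    | succ k ih =>
      intro r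
      rw [Function.iterate_succ_apply', pow_succ' s, pow_succ (s ^ n)]
      show s * ((σ^[k] r : R) : AddMonoid.End A) * s ^ n = _
      rw [ih]; simp only [mul_assoc]
  have hcomm : ∀ r, σ (st r) = st (σ r) := fun r => (huniq (σ r) (σ (st r)) fun x y => by
    show c (s ((r : AddMonoid.End A) ((s ^ n) x))) y = c x (s ((adj r : AddMonoid.End A) ((s ^ n) y)))
    have h1 := hcs _ _ _ _ (hadj r ((s ^ n) x) ((s ^ n) y))
    rw [show s ((s ^ n) y) = (s * s ^ n) y from rfl, show s ((s ^ n) x) = (s * s ^ n) x from rfl, hs1] at h1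
    exact h1).symm
  -- the fixed ring
  have hfx : ∀ r : R, σ r = r → ∃ k : ℤ, r = (k : R) := by
    intro r hr
    have h1 : s ((r : AddMonoid.End A) x₀) = (r : AddMonoid.End A) x₀ := by
      have h2 := congrArg (fun u : R => (u : AddMonoid.End A) (s x₀)) hr
      change s ((r : AddMonoid.End A) ((s ^ n) (s x₀))) = _ at h2
      rw [show (s ^ n) (s x₀) = (s ^ n * s) x₀ from rfl, hs2, hx₀] at h2
      exact h2
    obtain ⟨k, hk⟩ := hfix _ h1
    refine ⟨k, hext _ _ (hk.trans ?_)⟩
    simp
  -- Frobenius
  obtain ⟨k, hk1, hkV⟩ : ∃ k, 1 ≤ k ∧ q ^ k ≡ 1 [MOD Nat.card V] :=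
    ⟨Nat.totient (Nat.card V), Nat.totient_pos.mpr Nat.card_pos, Nat.ModEq.pow_totient hcop.symm⟩
  have hqR : ∀ r : R, q • r = 0 := fun r => Subtype.ext (AddMonoidHom.ext fun a => by
    show q • ((r : AddMonoid.End A) a) = 0
    exact hA _)
  have hfrob : ∀ r : R, r ^ (q ^ k) = r := by
    by_cases hne : Nontrivial R
    · have : CharP R q := CharP.charP_iff_prime_eq_zero hq |>.mpr (by
        have := hqR 1; rwa [nsmul_eq_mul, mul_one] at this)
      rintro ⟨r, hr⟩
      induction hr using Subring.closure_induction with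
      | mem f hf =>
        obtain ⟨v, rfl⟩ := hf
        refine Subtype.ext ?_
        show ρ v ^ (q ^ k) = ρ v
        rw [← map_pow]
        congr 1
        have h1 : v ^ (q ^ k) = v ^ 1 := pow_eq_pow_iff_modEq.mpr (hkV.of_dvd (orderOf_dvd_natCard v))
        rwa [pow_one] at h1
      | zero => exact zero_pow (pow_ne_zero _ hq.ne_zero)
      | one => exact one_pow _
      | add f g hf hg h1 h2 =>
        show (⟨f, hf⟩ + ⟨g, hg⟩ : R) ^ (q ^ k) = ⟨f, hf⟩ + ⟨g, hg⟩
        rw [add_pow_char_pow, h1, h2]
      | neg f hf h1 =>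
        show (-⟨f, hf⟩ : R) ^ (q ^ k) = -⟨f, hf⟩
        rw [neg_pow, neg_one_pow_char_pow, h1, neg_one_mul]
      | mul f g hf hg h1 h2 =>
        show (⟨f, hf⟩ * ⟨g, hg⟩ : R) ^ (q ^ k) = ⟨f, hf⟩ * ⟨g, hg⟩
        rw [mul_pow, h1, h2]
    · rw [not_nontrivial_iff_subsingleton] at hne
      exact fun r => Subsingleton.elim _ _
  have hqk : 1 < q ^ k := Nat.one_lt_pow (by omega) hq.one_lt
  have hid : ∀ r, st r = r := by
    refine star_eq_id (q ^ k - 1) ?_ (by omega) (fun r => by rw [Nat.sub_add_cancel hqk.le]; exact hfrob r)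
      ?_ σ st hstst hcomm hm ?_ ?_ ?_
    · obtain ⟨j, hj⟩ := (hq.odd_of_ne_two hq2).pow (n := k)
      exact ⟨j, by omega⟩
    · intro r hr
      obtain ⟨j, hj⟩ := hq.odd_of_ne_two hq2
      have h1 := hqR r
      rw [hj, add_nsmul, mul_nsmul, one_nsmul, two_nsmul, hr, nsmul_zero, zero_add] at h1
      exact h1
    · intro r
      refine Subtype.ext ?_
      rw [hσiter, hs, ← pow_mul, mul_comm n, pow_mul, hs, one_pow, one_mul, mul_one]
    · intro r hr
      obtain ⟨j, rfl⟩ := hfx r hr
      exact map_intCast st j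
    · intro r hr hrr
      obtain ⟨j, rfl⟩ := hfx r hr
      by_cases hj : (q : ℤ) ∣ j
      · left
        obtain ⟨i, rfl⟩ := hj
        push_cast
        rw [show ((q : R)) = q • (1 : R) by rw [nsmul_eq_mul, mul_one], hqR, zero_mul]
      · right
        obtain ⟨u, w, huw⟩ : IsCoprime j (q : ℤ) :=
          ((Nat.prime_iff_prime_int.mp hq).coprime_iff_not_dvd.mpr hj).symm
        have h0 : (q : R) = 0 := by
          rw [show ((q : R)) = q • (1 : R) by rw [nsmul_eq_mul, mul_one], hqR]
        have hu : (u : R) * (j : R) = 1 := by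
          have h1 := congrArg (fun i : ℤ => (i : R)) huw
          push_cast at h1
          rwa [h0, mul_zero, add_zero] at h1
        calc (j : R) = (u : R) * (j : R) * (j : R) := by rw [hu, one_mul]
          _ = (u : R) * ((j : R) * (j : R)) := by rw [mul_assoc]
          _ = 1 := by rw [hrr, hu]
  -- conclusion
  refine hnd z fun x => ?_
  obtain ⟨r, rfl⟩ := hsurj x
  obtain ⟨r', rfl⟩ := hsurj z
  refine hB _ ?_
  have h1 : c ((r : AddMonoid.End A) x₀) ((r' : AddMonoid.End A) x₀) =
      c ((r' : AddMonoid.End A) x₀) ((r : AddMonoid.End A) x₀) := by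
    rw [hadj r, hadj r', show adj r = r from hid r, show adj r' = r' from hid r']
    show c x₀ (((r * r' : R) : AddMonoid.End A) x₀) = c x₀ (((r' * r : R) : AddMonoid.End A) x₀)
    rw [mul_comm]
  conv_lhs => arg 2; rw [h1, hc]
  exact add_neg_cancel _

end CfsgLib.OddLocal.Final.SelfDual
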