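import Cfsg.Agent.Lib.OddLocal.Final.FixedCongr
import Cfsg.Agent.Lib.OddLocal.Final.Rules
import Cfsg.Agent.Lib.OddLocal.Final.Overlap
import Cfsg.Agent.Lib.OddLocal.Final.FreeInst

/-!
Owner: helper27. The Fitting side of a configuration whose `S` is of type III or IV and whose `T` is of
type II (blueprint v2, Step III-a): `F(S) = Q₁ × (Q₀ C)` with `Q₁ = [H, U]`, `Q₀ = C_H(U)`,
`C = C_U(H)`; the `W₁`-fixed linear characters of `F(S)` and the congruence of L2 for them.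
-/

set_option autoImplicit false
set_option linter.unusedSectionVars false

open scoped commutatorElement

namespace CfsgLib.OddLocal.FTFinal

open Subgroup
open CfsgLib.Char CfsgLib.TwoGroups
open CfsgLib.OddLocal.Final (KernelModule Fixes Regular kernelOne kernelZero)
open Cfsg (classInner IsClassFunction IsGeneralizedCharacter indFun)

/-- The members of a group fixed by an element of prime order count it modulo that prime. -/
theorem card_modEq_inf {G : Type*} [Group G] [Finite G] {N W B : Subgroup G} {r : ℕ} [Fact r.Prime]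
    (hW : Nat.card W = r) (hn : W ≤ normalizer (N : Set G))
    (hfix : ∀ w ∈ W, w ≠ 1 → N ⊓ centralizer ({w} : Set G) = B) :
    Nat.card N ≡ Nat.card B [MOD r] := by
  let _ : MulAction W N :=
    { smul := fun w u => ⟨(w : G) * u * (w : G)⁻¹, (mem_normalizer_iff.mp (hn w.2) u).mp u.2⟩
      one_smul := fun u => Subtype.ext (by show ((1 : W) : G) * u * ((1 : W) : G)⁻¹ = u; simp)
      mul_smul := fun a b u => Subtype.ext (by
        show ((a * b : W) : G) * u * ((a * b : W) : G)⁻¹ = a * (b * u * (b : G)⁻¹) * (a : G)⁻¹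
        simp [mul_assoc]) }
  have h := (IsPGroup.of_card (n := 1) (by rw [hW, pow_one])).card_modEq_card_fixedPoints (p := r) (G := W)
    (α := N)
  obtain ⟨w, hw, hw1⟩ := W.bot_or_exists_ne_one.resolve_left fun e =>
    (Fact.out : r.Prime).ne_one (by rw [← hW, e, card_bot])
  suffices h1 : Nat.card (MulAction.fixedPoints W N) = Nat.card B by rwa [h1] at h
  refine Nat.card_congr
    { toFun := fun u => ⟨(u : N), (hfix w hw hw1).le ⟨(u : N).2, mem_centralizer_singleton_iff.mpr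
        (mul_inv_eq_iff_eq_mul.mp (congrArg Subtype.val (u.2 ⟨w, hw⟩))).symm⟩⟩
      invFun := fun b => ⟨⟨b, ((hfix w hw hw1).ge b.2).1⟩, fun v => Subtype.ext ?_⟩
      left_inv := fun u => rfl
      right_inv := fun b => rfl }
  show (v : G) * b * (v : G)⁻¹ = b
  by_cases hv : (v : G) = 1
  · simp [hv]
  · rw [← mem_centralizer_singleton_iff.mp ((hfix v v.2 hv).ge b.2).2, mul_inv_cancel_right]

theorem inr_mk {G : Type*} [Group G] [Fintype G] {W₁ W₂ : Subgroup G}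
    (hW : Cfsg.IsSelfNormalizingCyclic W₁ W₂) (k : W₂ →* ℂˣ) {b : G} (hb : b ∈ W₂)
    (hb' : b ∈ W₁ ⊔ W₂) : CyclicTI.inr hW k ⟨b, hb'⟩ = k ⟨b, hb⟩ := by
  have e : (⟨b, hb'⟩ : ↥(W₁ ⊔ W₂)) = CyclicTI.prodEquiv hW (1, ⟨b, hb⟩) :=
    Subtype.ext (by simp [CyclicTI.coe_prodEquiv])
  rw [e, CyclicTI.inr, MonoidHom.comp_apply, (CyclicTI.proj_prodEquiv hW _).2]

namespace Config

variable {G : Type*} [Group G] [Fintype G] (c : Config G)

/-- `S` of type III or IV, `T` of type II. -/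
structure IsThree : Prop where
  s34 : Cfsg.IsOfTypeIII c.S ∨ Cfsg.IsOfTypeIV c.S
  tII : Cfsg.IsOfTypeII c.T

/-- `C_U(H)`. -/
abbrev centU : Subgroup G := c.U ⊓ centralizer (Cfsg.fittingHallOf c.S : Set G)

/-- `|U : C_U(H)|`. -/
noncomputable abbrev idx : ℕ := (centralizer (kernelOne c.S c.U : Set G)).relIndex c.U

namespace IsThree

variable {c} (h : c.IsThree)
include h

theorem exists_data : ∃ W U' X : Subgroup G,
    Cfsg.IsTypePWith c.S W U' X ∧ U' ≠ ⊥ ∧ (Nat.card W).Prime := by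
  rcases h.s34 with ⟨W, U', X, hP, hU, hW, -⟩ | ⟨W, U', X, hP, hU, hW, -⟩ <;>
    exact ⟨W, U', X, hP, hU, hW⟩

theorem p_prime : c.p.Prime := (Final.typeTwo_facts c.T_typeP h.tII).2.1

theorem q_prime : c.q.Prime := by
  obtain ⟨W, U', X, hP, -, hW⟩ := h.exists_data
  have h1 := OddLocal.IsComplIn_card_mul hP.W₁_compl
  have h2 := OddLocal.IsComplIn_card_mul c.S_typeP.W₁_compl
  rwa [q, ← Nat.eq_of_mul_eq_mul_left Nat.card_pos (h1.trans h2.symm)]

theorem U_ne : c.U ≠ ⊥ := by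
  intro e
  obtain ⟨W, U', X, hP, hU, -⟩ := h.exists_data
  refine hU (eq_bot_iff.mpr fun u hu => ?_)
  obtain ⟨a, ha, b, hb, rfl⟩ := c.S_typeP.U_compl.2.2.2 u (hP.U_compl.2.1 hu)
  rw [e, mem_bot] at hb
  subst hb
  exact hP.U_compl.2.2.1.le (mem_inf.mpr ⟨by simpa using ha, hu⟩)

theorem kernel : KernelModule c.p c.q (kernelOne c.S c.U) c.U c.W₁ c.W₂ :=
  Final.kernelModule_one c.S_typeP h.U_ne h.p_prime h.q_prime c.minimal.1

theorem isSide : IsSide c.S ⁅c.S, c.S⁆ :=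
  sigmaCore_eq_of_typeThreeFour c.minimal c.S_max h.s34 ▸
    isSide_core c.minimal c.S_max (TypesExclusive.isOfTypeP_of_three h.s34)

theorem tiDerived : IsTISide ⁅c.S, c.S⁆ c.S := h.isSide.isTISide c.minimal

theorem fitting_eq : Cfsg.fittingOf c.S = Cfsg.fittingHallOf c.S ⊔ c.centU :=
  Cfsg.Agent.S1387.result c.S c.W₁ c.U c.W₂ c.S_typeP

theorem tiFitting : IsTISide (Cfsg.fittingOf c.S) c.S where
  le := c.S_typeP.fitting_le.trans (commutator_le_self _)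
  conj_mem m hm f hf :=
    (mem_normalizer_iff.mp (FittingSigma.le_normalizer_fittingOf c.S hm) f).mp hf
  ti g f hf hf1 hg :=
    h.tiDerived.ti g f (c.S_typeP.fitting_le hf) hf1 (c.S_typeP.fitting_le hg)

theorem U_normalizes_H : c.U ≤ normalizer (Cfsg.fittingHallOf c.S : Set G) :=
  (le_sup_left).trans (Final.typeP_sup_normalizes c.S_typeP)

theorem centU_eq : c.centU = c.U ⊓ centralizer (kernelOne c.S c.U : Set G) := by
  have K := Final.kernelBasic c.S_typeP h.U_ne h.p_prime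
  refine le_antisymm (inf_le_inf_left _ (Subgroup.centralizer_le K.le)) (le_inf inf_le_left ?_)
  rw [le_centralizer_iff, ← K.sup]
  exact sup_le (le_centralizer_iff.mp inf_le_right)
    (inf_le_right.trans (Subgroup.centralizer_le inf_le_left))

theorem idx_mul : Nat.card c.centU * c.idx = Nat.card c.U := by
  rw [Config.idx, ← inf_relIndex_right, inf_comm, ← h.centU_eq, ← relIndex_bot_left c.centU,
    ← relIndex_bot_left c.U]
  exact relIndex_mul_relIndex ⊥ _ c.U bot_le inf_le_left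

theorem idx_modEq : c.idx ≡ 1 [MOD c.q] := h.kernel.index_modEq

theorem idx_large : 2 * c.q + 1 ≤ c.idx := by
  have h1 := h.idx_modEq
  have h2 : c.idx ≠ 1 := h.kernel.index_ne_one
  have h3 : Odd c.idx := (c.minimal.1.of_dvd_nat (Subgroup.card_subgroup_dvd_card c.U)).of_dvd_nat
    h.kernel.index_dvd
  obtain ⟨j, hj⟩ := h3
  have hq := c.q_ge_three
  rw [Nat.ModEq, Nat.one_mod_eq_one.mpr (by omega)] at h1
  have := Nat.div_add_mod c.idx c.q
  by_contra hlt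
  have hd : c.idx / c.q ≤ 2 := by
    rw [Nat.le_iff_lt_add_one, Nat.div_lt_iff_lt_mul (by omega)]; omega
  obtain ⟨i, hi⟩ : ∃ i, c.q = 2 * i + 1 := c.minimal.1.of_dvd_nat (Subgroup.card_subgroup_dvd_card c.W₁)
  interval_cases hd' : c.idx / c.q <;> omega

/-- `m = h u` with `h ∈ H`, `u ∈ U`. -/
theorem exists_mul {m : G} (hm : m ∈ ⁅c.S, c.S⁆) :
    ∃ a ∈ Cfsg.fittingHallOf c.S, ∃ u ∈ c.U, m = a * u :=
  c.S_typeP.U_compl.2.2.2 m hm

theorem centU_normalizes : c.centU ≤ normalizer (Cfsg.fittingHallOf c.S : Set G) :=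
  inf_le_left.trans h.U_normalizes_H

theorem inf_centU : Cfsg.fittingHallOf c.S ⊓ c.centU = ⊥ :=
  le_bot_iff.mp ((inf_le_inf_left _ inf_le_left).trans c.S_typeP.U_compl.2.2.1.le)

theorem card_fitting : Nat.card (Cfsg.fittingOf c.S) =
    Nat.card (Cfsg.fittingHallOf c.S) * Nat.card c.centU := by
  refine (OddLocal.IsComplIn_card_mul ⟨h.fitting_eq ▸ le_sup_left, h.fitting_eq ▸ le_sup_right,
    h.inf_centU, fun m hm => ?_⟩).symm
  obtain ⟨a, ha, b, hb, e⟩ :=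
    (OddLocal.mem_sup_of_le_normalizer h.centU_normalizes).mp (h.fitting_eq ▸ hm)
  exact ⟨a, ha, b, hb, e⟩

theorem card_derived : Nat.card ↥⁅c.S, c.S⁆ = c.idx * Nat.card (Cfsg.fittingOf c.S) := by
  rw [h.card_fitting, ← OddLocal.IsComplIn_card_mul c.S_typeP.U_compl, ← h.idx_mul]
  ring

theorem card_S : Nat.card c.S = c.q * c.idx * Nat.card (Cfsg.fittingOf c.S) := by
  rw [mul_assoc, ← h.card_derived, q, mul_comm, OddLocal.IsComplIn_card_mul c.S_typeP.W₁_compl]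

theorem coprime_derived : c.q.Coprime (Nat.card ↥⁅c.S, c.S⁆) :=
  TypeP.coprime_W₁_derived c.S_typeP

theorem coprime_fitting : c.q.Coprime (Nat.card (Cfsg.fittingOf c.S)) :=
  h.coprime_derived.coprime_dvd_right (card_dvd_of_le c.S_typeP.fitting_le)

theorem fix_derived {y : G} (hy : y ∈ c.W₁) (hy1 : y ≠ 1) :
    ⁅c.S, c.S⁆ ⊓ centralizer ({y} : Set G) = c.W₂ := c.S_typeP.W₂_centralizer y hy hy1

theorem fix_fitting {y : G} (hy : y ∈ c.W₁) (hy1 : y ≠ 1) :
    Cfsg.fittingOf c.S ⊓ centralizer ({y} : Set G) = c.W₂ := by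
  refine le_antisymm ((inf_le_inf_right _ c.S_typeP.fitting_le).trans (h.fix_derived hy hy1).le)
    (le_inf ?_ ((h.fix_derived hy hy1).ge.trans inf_le_right))
  rw [h.fitting_eq]
  exact (c.S_typeP.W₂_le.trans inf_le_left).trans le_sup_left

theorem fitting_modEq : Nat.card (Cfsg.fittingOf c.S) ≡ c.p [MOD c.q] := by
  have := Fact.mk h.q_prime
  exact card_modEq_inf rfl (c.S_typeP.W₁_compl.2.1.trans (FittingSigma.le_normalizer_fittingOf c.S))
    fun w hw hw1 => h.fix_fitting hw hw1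

/-- `Q₀ C`, the complement of `Q₁` in the Fitting subgroup. -/
theorem rest_facts : kernelZero c.S c.U ⊔ c.centU ≤ centralizer (kernelOne c.S c.U : Set G) ∧
    kernelOne c.S c.U ⊓ (kernelZero c.S c.U ⊔ c.centU) = ⊥ ∧
    kernelOne c.S c.U ⊔ (kernelZero c.S c.U ⊔ c.centU) = Cfsg.fittingOf c.S := by
  obtain ⟨-, -, -, hsup, hdis, hcom, -⟩ :=
    Final.kernel_split c.S_typeP h.U_ne h.p_prime c.minimal.1
  refine ⟨sup_le hcom ((h.centU_eq.le).trans inf_le_right), ?_, ?_⟩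
  · refine eq_bot_iff.mpr fun x hx => ?_
    have hn : c.centU ≤ normalizer (kernelZero c.S c.U : Set G) :=
      inf_le_left.trans (le_sup_left.trans (Final.kernelBasic c.S_typeP h.U_ne h.p_prime).norm_zero)
    obtain ⟨a, ha, b, hb, e⟩ := (OddLocal.mem_sup_of_le_normalizer hn).mp (mem_inf.mp hx).2
    have hbH : b ∈ Cfsg.fittingHallOf c.S := by
      rw [show b = a⁻¹ * x by rw [e]; group]
      exact mul_mem (inv_mem ha.1) ((Final.kernelBasic c.S_typeP h.U_ne h.p_prime).le (mem_inf.mp hx).1)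
    have hb1 : b = 1 := mem_bot.mp (h.inf_centU ▸ mem_inf.mpr ⟨hbH, hb⟩)
    rw [hb1, mul_one] at e
    exact hdis.le (mem_inf.mpr ⟨(mem_inf.mp hx).1, e ▸ ha⟩)
  · rw [← sup_assoc, hsup, h.fitting_eq]

theorem rest_normal : c.U ⊔ c.W₁ ≤ normalizer ((kernelZero c.S c.U ⊔ c.centU : Subgroup G) : Set G) := by
  intro g hg
  refine Transfer.map_conj_eq_self_iff.mp ?_
  rw [Subgroup.map_sup,
    Transfer.map_conj_eq_self_iff.mpr ((Final.kernelBasic c.S_typeP h.U_ne h.p_prime).norm_zero hg)]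
  congr 1
  refine Transfer.map_conj_eq_self_iff.mpr ?_
  refine (?_ : c.U ⊔ c.W₁ ≤ normalizer (c.centU : Set G)) hg
  refine (le_inf (sup_le le_normalizer c.S_typeP.U_normal) fun x hx => ?_).trans
    inf_normalizer_le_normalizer_inf
  have hH := Final.typeP_sup_normalizes c.S_typeP hx
  refine mem_normalizer_iff.mpr fun y => ?_
  simp only [SetLike.mem_coe, mem_centralizer_iff]
  constructor
  · intro hy z hz
    have hz' : x⁻¹ * z * x ∈ Cfsg.fittingHallOf c.S := by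
      simpa using (mem_normalizer_iff.mp (inv_mem hH) z).mp hz
    calc z * (x * y * x⁻¹) = x * (x⁻¹ * z * x * y) * x⁻¹ := by group
      _ = x * (y * (x⁻¹ * z * x)) * x⁻¹ := by rw [hy _ hz']
      _ = _ := by group
  · intro hy z hz
    have hz' : x * z * x⁻¹ ∈ Cfsg.fittingHallOf c.S := (mem_normalizer_iff.mp hH z).mp hz
    calc z * y = x⁻¹ * (x * z * x⁻¹ * (x * y * x⁻¹)) * x := by group
      _ = x⁻¹ * (x * y * x⁻¹ * (x * z * x⁻¹)) * x := by rw [hy _ hz']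
      _ = _ := by group

/-- The projection of the Fitting subgroup on `Q₁`. -/
theorem exists_proj : ∃ π : Cfsg.fittingOf c.S →* kernelOne c.S c.U,
    ∀ (a r : G) (ha : a ∈ kernelOne c.S c.U), r ∈ kernelZero c.S c.U ⊔ c.centU →
      ∀ har : a * r ∈ Cfsg.fittingOf c.S, π ⟨a * r, har⟩ = ⟨a, ha⟩ := by
  obtain ⟨hcom, hdis, hsup⟩ := h.rest_facts
  set R := kernelZero c.S c.U ⊔ c.centU
  let f : kernelOne c.S c.U × R →* Cfsg.fittingOf c.S :=
    MonoidHom.noncommCoprod (inclusion (hsup ▸ le_sup_left)) (inclusion (hsup ▸ le_sup_right))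
      fun a r => Subtype.ext (mem_centralizer_iff.mp (hcom r.2) a a.2)
  have hf : Function.Bijective f := by
    refine ⟨(injective_iff_map_eq_one f).mpr fun x hx => ?_, fun m => ?_⟩
    · obtain ⟨a, r⟩ := x
      have e : (a : G) * r = 1 := congrArg Subtype.val hx
      have ha : (a : G) = 1 := by
        refine mem_bot.mp (hdis ▸ mem_inf.mpr ⟨a.2, ?_⟩)
        rw [eq_inv_of_mul_eq_one_left e]; exact inv_mem r.2
      rw [ha, one_mul] at e
      exact Prod.ext (Subtype.ext ha) (Subtype.ext e)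
    · have hn : R ≤ normalizer (kernelOne c.S c.U : Set G) :=
        hcom.trans (Subgroup.centralizer_le_normalizer _)
      obtain ⟨a, ha, r, hr, e⟩ := (OddLocal.mem_sup_of_le_normalizer hn).mp (hsup.ge m.2)
      exact ⟨(⟨a, ha⟩, ⟨r, hr⟩), Subtype.ext e.symm⟩
  refine ⟨(MonoidHom.fst _ _).comp (MulEquiv.ofBijective f hf).symm.toMonoidHom,
    fun a r ha hr har => ?_⟩
  have e : (MulEquiv.ofBijective f hf).symm ⟨a * r, har⟩ = (⟨a, ha⟩, ⟨r, hr⟩) :=
    (MulEquiv.symm_apply_eq _).mpr (Subtype.ext rfl)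
  exact congrArg Prod.fst e

/-- The `W₁`-fixed character of `Q₁` extending `k`. -/
noncomputable def alpha (k : c.W₂ →* ℂˣ) : kernelOne c.S c.U →* ℂˣ :=
  Classical.choose (h.kernel.fixed_restrict.2 k)

theorem alpha_fixed (k : c.W₂ →* ℂˣ) : ∀ w ∈ c.W₁, Fixes (kernelOne c.S c.U) w (h.alpha k) :=
  (Classical.choose_spec (h.kernel.fixed_restrict.2 k)).1

theorem alpha_restrict (k : c.W₂ →* ℂˣ) : (h.alpha k).comp (inclusion h.kernel.le) = k :=
  (Classical.choose_spec (h.kernel.fixed_restrict.2 k)).2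

theorem alpha_one : h.alpha 1 = 1 :=
  h.kernel.fixed_restrict.1 _ 1 (h.alpha_fixed 1) (fun _ _ _ _ _ => rfl) (h.alpha_restrict 1)

theorem alpha_ne_one {k : c.W₂ →* ℂˣ} (hk : k ≠ 1) : h.alpha k ≠ 1 := fun e =>
  hk (by rw [← h.alpha_restrict k, e]; rfl)

/-- The `W₁`-fixed character of the Fitting subgroup attached to `k`. -/
noncomputable def psi (k : c.W₂ →* ℂˣ) : Cfsg.fittingOf c.S →* ℂˣ :=
  (h.alpha k).comp (Classical.choose h.exists_proj)

theorem psi_mul (k : c.W₂ →* ℂˣ) {a r : G} (ha : a ∈ kernelOne c.S c.U)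
    (hr : r ∈ kernelZero c.S c.U ⊔ c.centU) (har : a * r ∈ Cfsg.fittingOf c.S) :
    h.psi k ⟨a * r, har⟩ = h.alpha k ⟨a, ha⟩ := by
  show h.alpha k (Classical.choose h.exists_proj ⟨a * r, har⟩) = _
  rw [Classical.choose_spec h.exists_proj a r ha hr har]

theorem psi_one : h.psi 1 = 1 := by
  rw [psi, h.alpha_one]; rfl

theorem kernelOne_le : kernelOne c.S c.U ≤ Cfsg.fittingOf c.S := h.rest_facts.2.2 ▸ le_sup_left

theorem psi_of_mem (k : c.W₂ →* ℂˣ) {a : G} (ha : a ∈ kernelOne c.S c.U)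
    (har : a ∈ Cfsg.fittingOf c.S) : h.psi k ⟨a, har⟩ = h.alpha k ⟨a, ha⟩ := by
  have h1 := h.psi_mul k ha (one_mem _) (by rwa [mul_one])
  simpa using h1

theorem psi_W₂ (k : c.W₂ →* ℂˣ) {b : G} (hb : b ∈ c.W₂) (hbF : b ∈ Cfsg.fittingOf c.S) :
    h.psi k ⟨b, hbF⟩ = k ⟨b, hb⟩ := by
  rw [h.psi_of_mem k (h.kernel.le hb)]
  exact DFunLike.congr_fun (h.alpha_restrict k) ⟨b, hb⟩

/-- Conjugation by `U W₁` acts on the characters through its action on `Q₁`. -/
theorem fixes_psi_iff (k k' : c.W₂ →* ℂˣ) {g : G} (hg : g ∈ c.U ⊔ c.W₁) :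
    (∀ f f' : Cfsg.fittingOf c.S, (f' : G) = g * f * g⁻¹ → h.psi k f' = h.psi k' f) ↔
      ∀ a a' : kernelOne c.S c.U, (a' : G) = g * a * g⁻¹ → h.alpha k a' = h.alpha k' a := by
  constructor
  · intro hh a a' e
    have h1 := hh ⟨a, h.kernelOne_le a.2⟩ ⟨a', h.kernelOne_le a'.2⟩ e
    rwa [h.psi_of_mem k a'.2, h.psi_of_mem k' a.2] at h1
  · intro hh f f' e
    obtain ⟨hcom, -, hsup⟩ := h.rest_facts
    obtain ⟨a, ha, r, hr, e1⟩ := (OddLocal.mem_sup_of_le_normalizer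
      (hcom.trans (Subgroup.centralizer_le_normalizer _))).mp (hsup.ge f.2)
    have hga : g * a * g⁻¹ ∈ kernelOne c.S c.U := h.kernel.conj_mem hg ha
    have hgr : g * r * g⁻¹ ∈ kernelZero c.S c.U ⊔ c.centU :=
      (mem_normalizer_iff.mp (h.rest_normal hg) r).mp hr
    have e2 : (f' : G) = g * a * g⁻¹ * (g * r * g⁻¹) := by rw [e, e1]; group
    have e1' : f = ⟨a * r, e1 ▸ f.2⟩ := Subtype.ext e1
    have e2' : f' = ⟨g * a * g⁻¹ * (g * r * g⁻¹), e2 ▸ f'.2⟩ := Subtype.ext e2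
    rw [e1', e2', h.psi_mul k hga hgr, h.psi_mul k' ha hr]
    exact hh ⟨a, ha⟩ ⟨_, hga⟩ rfl

theorem psi_fixed (k : c.W₂ →* ℂˣ) {w : G} (hw : w ∈ c.W₁) (f f' : Cfsg.fittingOf c.S)
    (e : (f' : G) = w * f * w⁻¹) : h.psi k f' = h.psi k f :=
  (h.fixes_psi_iff k k (mem_sup_right hw)).mpr (h.alpha_fixed k w hw) f f' e

/-- An element of `U` carrying one fixed character to another lies in `C_U(H)`. -/
theorem mem_centU_of_carry {k k' : c.W₂ →* ℂˣ} (hk' : k' ≠ 1) {u : G} (hu : u ∈ c.U)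
    (hh : ∀ a a' : kernelOne c.S c.U, (a' : G) = u * a * u⁻¹ → h.alpha k a' = h.alpha k' a) :
    u ∈ c.centU := by
  have := Fact.mk h.q_prime
  have hQn : ∀ {g : G}, g ∈ c.U ⊔ c.W₁ → ∀ {a : G}, a ∈ kernelOne c.S c.U →
      g * a * g⁻¹ ∈ kernelOne c.S c.U := fun hg _ ha => h.kernel.conj_mem hg ha
  have hcw : ∀ w ∈ c.W₁, u⁻¹ * (w * u * w⁻¹) ∈ c.centU := by
    intro w hw
    have hwu : w * u * w⁻¹ ∈ c.U := h.kernel.conj_U hw hu
    rw [h.centU_eq]
    refine mem_inf.mpr ⟨mul_mem (inv_mem hu) hwu,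
      h.kernel.regular_of_fixed (h.alpha_ne_one hk') (h.alpha_fixed k') _ (mul_mem (inv_mem hu) hwu) ?_⟩
    intro a a' e
    have h1 : w⁻¹ * a * w ∈ kernelOne c.S c.U := by
      simpa using hQn (mem_sup_right (inv_mem hw) : w⁻¹ ∈ c.U ⊔ c.W₁) a.2
    have h2 : u * (w⁻¹ * a * w) * u⁻¹ ∈ kernelOne c.S c.U := hQn (mem_sup_left hu) h1
    have h3 : w * (u * (w⁻¹ * a * w) * u⁻¹) * w⁻¹ ∈ kernelOne c.S c.U := hQn (mem_sup_right hw) h2
    have e' : (w * (u * (w⁻¹ * a * w) * u⁻¹) * w⁻¹ : G) = u * (a' : G) * u⁻¹ := by rw [e]; group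
    calc h.alpha k' a' = h.alpha k ⟨_, h3⟩ := (hh a' ⟨_, h3⟩ e').symm
      _ = h.alpha k ⟨_, h2⟩ := h.alpha_fixed k w hw ⟨_, h2⟩ ⟨_, h3⟩ rfl
      _ = h.alpha k' ⟨_, h1⟩ := hh ⟨_, h1⟩ ⟨_, h2⟩ rfl
      _ = h.alpha k' a := (h.alpha_fixed k' w hw ⟨_, h1⟩ a (by
          show (a : G) = w * (w⁻¹ * a * w) * w⁻¹; group)).symm
  have hn : c.W₁ ≤ normalizer (c.centU : Set G) := by
    intro g hg
    have h1 := h.rest_normal
    refine Transfer.map_conj_eq_self_iff.mp (eq_of_le_of_card_ge ?_ (Transfer.card_map_conj g _).ge)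
    rintro _ ⟨x, hx, rfl⟩
    refine mem_inf.mpr ⟨h.kernel.conj_U hg hx.1, ?_⟩
    refine mem_centralizer_iff.mpr fun z hz => ?_
    have hgH : g ∈ normalizer (Cfsg.fittingHallOf c.S : Set G) :=
      Final.typeP_sup_normalizes c.S_typeP (mem_sup_right hg)
    have hz' : g⁻¹ * z * g ∈ Cfsg.fittingHallOf c.S := by
      simpa using (mem_normalizer_iff.mp (inv_mem hgH) z).mp hz
    show z * (g * x * g⁻¹) = g * x * g⁻¹ * z
    calc z * (g * x * g⁻¹) = g * (g⁻¹ * z * g * x) * g⁻¹ := by group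
      _ = g * (x * (g⁻¹ * z * g)) * g⁻¹ := by rw [mem_centralizer_iff.mp hx.2 _ hz']
      _ = _ := by group
  have : IsCyclic c.W₁ := c.S_typeP.W₁_cyclic
  obtain ⟨n, hn', hc⟩ := Core.exists_centralizing_in_coset hn
    (h.coprime_derived.coprime_dvd_right
      (card_dvd_of_le (inf_le_left.trans c.S_typeP.U_compl.2.1)))
    (Or.inl (Group.isSolvable_of_comm fun a b => IsCyclic.commGroup.mul_comm a b)) hcw
  obtain ⟨w, hw, hw1⟩ := c.W₁.bot_or_exists_ne_one.resolve_left c.S_typeP.W₁_ne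
  have hun : u * n = 1 := Final.typeP_fpf c.S_typeP hw hw1 (mul_mem hu hn'.1)
    (mem_centralizer_iff.mp hc w hw)
  rw [eq_inv_of_mul_eq_one_left hun]
  exact inv_mem hn'

/-- An element of `S` carrying one fixed character to another: the characters agree and it lies in
`F(S) W₁`. -/
theorem carry {k k' : c.W₂ →* ℂˣ} (hk' : k' ≠ 1) (x : c.S)
    (e : h.psi k = FTFinal.conjHom h.tiFitting x (h.psi k')) :
    k = k' ∧ ∃ f ∈ Cfsg.fittingOf c.S, ∃ w ∈ c.W₁, (x : G) = f * w := by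
  have hS : ⁅c.S, c.S⁆ ≤ c.S := commutator_le_self _
  obtain ⟨m, hm, w, hw, hx⟩ := c.S_typeP.W₁_compl.2.2.2 x x.2
  obtain ⟨a, ha, u, hu, rfl⟩ := h.exists_mul hm
  have haF : a ∈ Cfsg.fittingOf c.S := h.fitting_eq ▸ mem_sup_left ha
  have hxe : x = ⟨a, h.tiFitting.le haF⟩ * ⟨u, hS (c.S_typeP.U_compl.2.1 hu)⟩ *
      ⟨w, c.S_typeP.W₁_compl.2.1 hw⟩ := Subtype.ext hx
  rw [hxe, FTFinal.conjHom_mul, FTFinal.conjHom_mul, FTFinal.conjHom_of_mem h.tiFitting _ haF] at e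
  have hw' : FTFinal.conjHom h.tiFitting ⟨w, c.S_typeP.W₁_compl.2.1 hw⟩ (h.psi k') = h.psi k' := by
    refine MonoidHom.ext fun f => ?_
    rw [FTFinal.conjHom_apply]
    exact (h.psi_fixed k' hw _ f (by simp [mul_assoc])).symm
  rw [hw'] at e
  have hh : ∀ a a' : kernelOne c.S c.U, (a' : G) = u * a * u⁻¹ → h.alpha k a' = h.alpha k' a :=
    (h.fixes_psi_iff k k' (mem_sup_left hu)).mp fun f f' ef => by
      rw [e, FTFinal.conjHom_apply]
      congr 1
      exact Subtype.ext (by simp [ef, mul_assoc])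
  have hu' := h.mem_centU_of_carry hk' hu hh
  refine ⟨?_, a * u, mul_mem haF (h.fitting_eq ▸ mem_sup_right hu'), w, hw, hx⟩
  refine MonoidHom.ext fun b => ?_
  have hbQ := h.kernel.le b.2
  have hconj : u * (b : G) * u⁻¹ = b := by
    rw [← mem_centralizer_iff.mp ((h.centU_eq.le hu').2) b hbQ, mul_inv_cancel_right]
  have h1 := hh ⟨b, hbQ⟩ ⟨b, hbQ⟩ hconj.symm
  have r : ∀ j : c.W₂ →* ℂˣ, j b = h.alpha j ⟨b, hbQ⟩ := fun j =>
    (DFunLike.congr_fun (h.alpha_restrict j) b).symm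
  rw [r k, r k', h1]

theorem card_stab {k : c.W₂ →* ℂˣ} (hk : k ≠ 1) :
    Nat.card {x : c.S // h.psi k = FTFinal.conjHom h.tiFitting x (h.psi k)} =
      c.q * Nat.card (Cfsg.fittingOf c.S) := by
  have hinf : Cfsg.fittingOf c.S ⊓ c.W₁ = ⊥ :=
    le_bot_iff.mp ((inf_le_inf_right _ c.S_typeP.fitting_le).trans c.S_typeP.W₁_compl.2.2.1.le)
  rw [mul_comm, q, ← Nat.card_prod]
  refine (Nat.card_eq_of_bijective (fun fw : Cfsg.fittingOf c.S × c.W₁ =>
    (⟨⟨(fw.1 : G) * fw.2, mul_mem (h.tiFitting.le fw.1.2) (c.S_typeP.W₁_compl.2.1 fw.2.2)⟩, ?_⟩ :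
      {x : c.S // h.psi k = FTFinal.conjHom h.tiFitting x (h.psi k)})) ⟨?_, ?_⟩).symm
  · refine Eq.symm ?_
    rw [show (⟨(fw.1 : G) * fw.2, _⟩ : c.S) =
      ⟨fw.1, h.tiFitting.le fw.1.2⟩ * ⟨fw.2, c.S_typeP.W₁_compl.2.1 fw.2.2⟩ from rfl,
      FTFinal.conjHom_mul, FTFinal.conjHom_of_mem h.tiFitting _ fw.1.2]
    refine MonoidHom.ext fun f => ?_
    rw [FTFinal.conjHom_apply]
    exact (h.psi_fixed k fw.2.2 _ f (by simp [mul_assoc])).symm
  · rintro ⟨a, v⟩ ⟨b, w⟩ e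
    have e' : (a : G) * v = b * w := congrArg (fun z => ((z.1 : c.S) : G)) e
    have h1 : (b : G)⁻¹ * a = w * (v : G)⁻¹ := by
      rw [eq_mul_inv_iff_mul_eq, mul_assoc, e', inv_mul_cancel_left]
    have h2 : (b : G)⁻¹ * a = 1 :=
      mem_bot.mp (hinf ▸ mem_inf.mpr ⟨mul_mem (inv_mem b.2) a.2, h1 ▸ mul_mem w.2 (inv_mem v.2)⟩)
    have h3 : (a : G) = b := (inv_mul_eq_one.mp h2).symm
    rw [h3] at e'
    exact Prod.ext (Subtype.ext h3) (Subtype.ext (mul_left_cancel e'))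
  · rintro ⟨x, hx⟩
    obtain ⟨-, f, hf, w, hw, e⟩ := h.carry hk x hx
    exact ⟨(⟨f, hf⟩, ⟨w, hw⟩), Subtype.ext (Subtype.ext e.symm)⟩

theorem nconj (k k' : c.W₂ →* ℂˣ) (x : c.S)
    (e : h.psi k = FTFinal.conjHom h.tiFitting x (h.psi k')) : k = k' := by
  by_cases hk' : k' = 1
  · subst hk'
    rw [h.psi_one, FTFinal.conjHom_trivial] at e
    refine MonoidHom.ext fun b => ?_
    have hbF : (b : G) ∈ Cfsg.fittingOf c.S := h.kernelOne_le (h.kernel.le b.2)
    rw [← h.psi_W₂ k b.2 hbF, e]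
    rfl
  · exact (h.carry hk' x e).1

theorem disj_derived : ∀ g ∈ What c.W₁ c.W₂, g ∉ conjSharp ⁅c.S, c.S⁆ := fun g hg =>
  whatG_not_derived c.S_typeP ⟨1, g, hg, by simp⟩ le_rfl

theorem disj_fitting : ∀ g ∈ What c.W₁ c.W₂, g ∉ conjSharp (Cfsg.fittingOf c.S) := fun g hg =>
  whatG_not_derived c.S_typeP ⟨1, g, hg, by simp⟩ c.S_typeP.fitting_le

/-- The congruence of L2 for a subgroup fixed by `W₁` and a fixed character with restriction `j`. -/
theorem congr_fixed {N : Subgroup G} [Fintype N] (hN : c.W₁ ≤ normalizer (N : Set G))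
    (hfix : ∀ y ∈ c.W₁, y ≠ 1 → N ⊓ centralizer ({y} : Set G) = c.W₂) (θ : N →* ℂˣ)
    (j : c.W₂ →* ℂˣ) (hθ : ∀ w ∈ c.W₁, ∀ f f' : N, (f' : G) = w * f * w⁻¹ → θ f' = θ f)
    (hres : ∀ b : c.W₂, ∀ hb : (b : G) ∈ N, θ ⟨b, hb⟩ = j b) (l : c.W₁ →* ℂˣ) (k : c.W₂ →* ℂˣ)
    [Decidable (j = k)] :
    ∃ m D : ℤ, classInner (fun x : N => c.eta l k x) (fun x : N => (θ x : ℂ)) = m ∧
      c.eta l k 1 = D ∧ (c.q : ℤ) ∣ (Nat.card N : ℤ) * m - (D - 1) - (if j = k then (c.p : ℤ) else 0) := by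
  classical
  obtain ⟨y, hy, hy1⟩ := c.W₁.bot_or_exists_ne_one.resolve_left c.S_typeP.W₁_ne
  have hord : orderOf y = c.q :=
    ((Nat.dvd_prime h.q_prime).mp (c.W₁.orderOf_dvd_natCard hy)).resolve_left fun e =>
      hy1 (orderOf_eq_one_iff.mp e)
  obtain ⟨m, D, hm, hD, hd⟩ := family_fixed_congr c.selfNorm c.family N hy h.q_prime hord
    (fun x hx => (mem_normalizer_iff.mp (hN hy) x).mp hx) (hfix y hy hy1) θ
    (fun x => hθ y hy x _ rfl)
    (CyclicTI.inl c.selfNorm l * CyclicTI.inr c.selfNorm k)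
  refine ⟨m, D, hm, hD, ?_⟩
  convert hd using 3
  · constructor
    · intro e b
      rw [hres b, e, MonoidHom.mul_apply, CyclicTI.inl_apply_W₂ c.selfNorm l _ b.2, one_mul, inr_mk _ _ b.2]
    · intro e
      refine MonoidHom.ext fun b => ?_
      have h1 := e b
      rwa [hres b, MonoidHom.mul_apply, CyclicTI.inl_apply_W₂ c.selfNorm l _ b.2, one_mul, inr_mk _ _ b.2] at h1
  · rfl


open scoped Classical in
theorem side_congr (l : c.W₁ →* ℂˣ) (k i j : c.W₂ →* ℂˣ) (C : ℤ)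
    (hC : c.coef (ind (Cfsg.fittingOf c.S) (h.psi i) (h.psi j)) l k = C) :
    (i = k → j ≠ k → (c.q : ℤ) ∣ C - 1) ∧ (i ≠ k → j = k → (c.q : ℤ) ∣ C + 1) := by
  have := Fintype.ofFinite (Cfsg.fittingOf c.S)
  have hN := c.S_typeP.W₁_compl.2.1.trans (FittingSigma.le_normalizer_fittingOf c.S)
  have hfix := fun y (hy : y ∈ c.W₁) hy1 => h.fix_fitting (y := y) hy hy1
  obtain ⟨m, D, hm, hD, hd⟩ := h.congr_fixed hN hfix (h.psi i) i (fun w hw => h.psi_fixed i hw)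
    (fun b hb => h.psi_W₂ i b.2 hb) l k
  obtain ⟨m', D', hm', hD', hd'⟩ := h.congr_fixed hN hfix (h.psi j) j (fun w hw => h.psi_fixed j hw)
    (fun b hb => h.psi_W₂ j b.2 hb) l k
  have hDD : D = D' := by exact_mod_cast hD.symm.trans hD'
  have hCm : C = m - m' := by
    rw [Config.coef, ind, frobenius_reciprocity _ _ (c.eta_isClassFunction l k)] at hC
    rw [show linDiff (h.psi i) (h.psi j) = (fun f => (h.psi i f : ℂ)) - fun f => (h.psi j f : ℂ) from rfl,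
      classInner_sub_left, ← classInner_conj_symm, hm, ← classInner_conj_symm _ (fun f => (h.psi j f : ℂ)),
      hm', map_intCast, map_intCast] at hC
    exact_mod_cast hC.symm
  have hmod : (c.q : ℤ) ∣ (c.p : ℤ) - Nat.card (Cfsg.fittingOf c.S) :=
    Nat.modEq_iff_dvd.mp h.fitting_modEq
  have hcop : IsCoprime (c.q : ℤ) (c.p : ℤ) := Int.isCoprime_iff_nat_coprime.mpr (by simpa using c.coprime_q_p)
  subst hDD hCm
  have key : (c.q : ℤ) ∣ (c.p : ℤ) * ((m - m') - ((if i = k then 1 else 0) - (if j = k then 1 else 0))) := by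
    have h1 := (dvd_sub hd hd').add (hmod.mul_right (m - m'))
    rw [show (c.p : ℤ) * ((m - m') - ((if i = k then 1 else 0) - (if j = k then 1 else 0))) =
      ((Nat.card (Cfsg.fittingOf c.S) : ℤ) * m - (D - 1) - (if i = k then (c.p : ℤ) else 0)) -
        ((Nat.card (Cfsg.fittingOf c.S) : ℤ) * m' - (D - 1) - (if j = k then (c.p : ℤ) else 0)) +
      ((c.p : ℤ) - Nat.card (Cfsg.fittingOf c.S)) * (m - m') by split_ifs <;> ring]
    exact h1
  have h2 := hcop.dvd_of_dvd_mul_left key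
  refine ⟨fun e e' => ?_, fun e e' => ?_⟩
  · simpa [e, e'] using h2
  · rw [if_neg e, if_pos e', zero_sub, sub_neg_eq_add] at h2
    exact h2

/-- The Fitting side of `S`. -/
noncomputable def side : Side c where
  F := Cfsg.fittingOf c.S
  M := c.S
  u := c.idx
  ti := h.tiFitting
  psi := h.psi
  psi_one := h.psi_one
  card_M := h.card_S
  card_stab := fun _ hk => h.card_stab hk
  nconj := h.nconj
  disj := h.disj_fitting
  q_prime := h.q_prime
  coprime := h.coprime_fitting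
  congr := h.side_congr

end IsThree

end Config

end CfsgLib.OddLocal.FTFinal
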