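import Cfsg.Agent.Lib.OddLocal.Final.Count
import Cfsg.Agent.Lib.OddLocal.Final.SideTwo
import Cfsg.Agent.Lib.OddLocal.Final.NormData
import Cfsg.Agent.Lib.OddLocal.Final.Finish

/-!
Owner: helper5. Step 3 of the endgame for a type II side `S`, with the other side given by a mass bound:
if `p < q` (the mirror) the side is full, and if `q < p` then `C_U(S_F) = 1` and `U` is of Galois shape of
index `1` or `q`, or diagonal and not cyclic with `q = 3`.
-/

set_option autoImplicit false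
set_option linter.unusedSectionVars false

namespace CfsgLib.OddLocal.FTFinal

open Subgroup
open CfsgLib.OddLocal.Final (KernelModule Fixes Regular IsFree IsGalois Diag card_modEq_one typeTwo_facts)

variable {G : Type*} [Group G] [Fintype G]

/-- An odd number congruent to `1` modulo an odd `q` is `1` or at least `2 q + 1`. -/
theorem two_mul_add_one_le_of {q n : ℕ} (hq2 : 2 ≤ q) (hq : Odd q) (hn : Odd n) (h : n ≡ 1 [MOD q]) (h1 : n ≠ 1) :
    2 * q + 1 ≤ n := by
  obtain ⟨a, rfl⟩ := hn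
  obtain ⟨b, rfl⟩ := hq
  have hd : 2 * b + 1 ∣ 2 * a := by
    have := (Nat.modEq_iff_dvd' (by omega : 1 ≤ 2 * a + 1)).mp h.symm
    simpa using this
  have ha : a ≠ 0 := fun e => h1 (by omega)
  have : 2 * b + 1 ∣ a :=
    (Nat.Coprime.dvd_of_dvd_mul_left ((Nat.prime_two.coprime_iff_not_dvd.mpr (by omega)).symm) hd)
  have := Nat.le_of_dvd (Nat.pos_of_ne_zero ha) this
  omega

theorem two_pow_ge {n : ℕ} (hn : 5 ≤ n) : 2 * n + 1 ≤ 2 ^ (n - 1) := by
  induction n, hn using Nat.le_induction with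
  | base => norm_num
  | succ n hn ih =>
    obtain ⟨k, rfl⟩ : ∃ k, n = k + 1 := ⟨n - 1, by omega⟩
    simp only [Nat.add_sub_cancel, pow_succ] at *
    omega

/-- An odd `u` dividing `(p - 1) ^ n` leaves a factor `2 ^ n`. -/
theorem two_pow_dvd_of {p n u j : ℕ} (hp : Odd p) (hu : Odd u) (h : (p - 1) ^ n = u * j) : 2 ^ n ∣ j := by
  refine (Nat.Coprime.pow_left n ((Nat.prime_two.coprime_iff_not_dvd).mpr ?_)).dvd_of_dvd_mul_left
    ((pow_dvd_pow_of_dvd (b := p - 1) ?_ n).trans (dvd_of_eq h))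
  · obtain ⟨a, rfl⟩ := hu; omega
  · obtain ⟨a, rfl⟩ := hp; exact ⟨a, by omega⟩

theorem odd_geom {p q u j : ℕ} (hp : Odd p) (hq : Odd q) (h : u * j * (p - 1) = p ^ q - 1) (hp2 : 2 ≤ p) :
    Odd (u * j) := by
  have h2 := Nat.geomSum_eq hp2 q
  rw [← h, Nat.mul_div_cancel _ (by omega)] at h2
  rw [← h2, ← ZMod.natCast_eq_one_iff_odd]
  push_cast
  rw [ZMod.natCast_eq_one_iff_odd.mpr hp]
  simp [ZMod.natCast_eq_one_iff_odd.mpr hq]

theorem geom_modEq {p q u j : ℕ} (hq : q.Prime) (hp2 : 2 ≤ p) (hlt : p < q) (h : u * j * (p - 1) = p ^ q - 1) :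
    u * j ≡ 1 [MOD q] := by
  have := Fact.mk hq
  have h1 := congrArg (Nat.cast (R := ZMod q)) h
  push_cast [show 1 ≤ p by omega, Nat.one_le_pow q p (by omega)] at h1
  rw [ZMod.pow_card] at h1
  have hne : ((p : ZMod q) - 1) ≠ 0 := by
    intro e
    have : ((p - 1 : ℕ) : ZMod q) = 0 := by push_cast [show 1 ≤ p by omega]; exact e
    have := Nat.le_of_dvd (by omega) ((ZMod.natCast_eq_zero_iff _ _).mp this)
    omega
  refine (ZMod.natCast_eq_natCast_iff _ _ _).mp ?_
  push_cast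
  exact mul_right_cancel₀ hne (by rw [one_mul]; exact h1)

namespace Config

variable (c : Config G) (hII : Cfsg.IsOfTypeII c.S) (hp : c.p.Prime)

include hII hp

theorem odd_q : Odd c.q := c.minimal.1.of_dvd_nat (card_subgroup_dvd_card c.W₁)

theorem odd_p : Odd c.p := c.minimal.1.of_dvd_nat (card_subgroup_dvd_card c.W₂)

theorem index_mul_card_C : Nat.card c.C * (centralizer (c.H : Set G)).relIndex c.U = Nat.card c.U := by
  rw [← inf_relIndex_right, inf_comm, ← relIndex_bot_left c.C, ← relIndex_bot_left c.U]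
  exact relIndex_mul_relIndex ⊥ c.C c.U bot_le inf_le_left

theorem odd_index : Odd ((centralizer (c.H : Set G)).relIndex c.U) :=
  (c.minimal.1.of_dvd_nat (card_subgroup_dvd_card c.U)).of_dvd_nat (c.kernelTwo hII hp).index_dvd

theorem odd_C : Odd (Nat.card c.C) := c.minimal.1.of_dvd_nat (card_subgroup_dvd_card c.C)

theorem C_modEq : Nat.card c.C ≡ 1 [MOD c.q] := by
  have K := c.kernelTwo hII hp
  have := Fact.mk K.prime_q
  refine card_modEq_one K.card_left (fun w hw => mem_normalizer_iff.mpr fun x => ⟨fun hx => ?_, fun hx => ?_⟩)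
    fun w hw hw1 u hu => K.fpf w hw hw1 u (mem_inf.mp hu).1
  · simpa using c.conj_C hII hp (g := w⁻¹) (mem_sup_right (inv_mem hw)) hx
  · simpa [mul_assoc] using c.conj_C hII hp (g := w) (mem_sup_right hw) hx

theorem index_ge : 2 * c.q + 1 ≤ (centralizer (c.H : Set G)).relIndex c.U :=
  two_mul_add_one_le_of (c.kernelTwo hII hp).prime_q.two_le (c.odd_q hII hp) (c.odd_index hII hp)
    (c.kernelTwo hII hp).index_modEq (c.kernelTwo hII hp).index_ne_one

theorem C_ge (hC : c.C ≠ ⊥) : 2 * c.q + 1 ≤ Nat.card c.C :=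
  two_mul_add_one_le_of (c.kernelTwo hII hp).prime_q.two_le (c.odd_q hII hp) (c.odd_C hII hp)
    (c.C_modEq hII hp) fun e => hC (eq_bot_of_card_eq _ e)

theorem qN_ge_galois (hgal : IsGalois c.H c.U) {j : ℕ}
    (hj : (centralizer (c.H : Set G)).relIndex c.U * j * (c.p - 1) = c.p ^ c.q - 1) :
    ((c.p : ℝ) - 1) * ((Nat.card c.C * j : ℕ) : ℝ) ≤ (c.sideTwo hII hp).qN := by
  refine le_trans (le_of_eq ?_) (c.qN_two_ge hII hp)
  rw [(c.kernelTwo hII hp).card_regular_galois hgal, ← hj]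
  have hu : ((centralizer (c.H : Set G)).relIndex c.U : ℝ) ≠ 0 :=
    Nat.cast_ne_zero.mpr (by have := c.index_ge hII hp; omega)
  push_cast [hp.one_lt.le]
  field_simp

theorem qN_ge_diag {x : G} (D : Diag c.H c.U c.W₁ x) {j : ℕ}
    (hj : (c.p - 1) ^ (c.q - 1) = (centralizer (c.H : Set G)).relIndex c.U * j) :
    ((c.p : ℝ) - 1) * ((Nat.card c.C * j : ℕ) : ℝ) ≤ (c.sideTwo hII hp).qN := by
  refine le_trans ?_ (c.qN_two_ge hII hp)
  have h := (c.kernelTwo hII hp).card_regular_diag D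
  rw [hj] at h
  have h' := (Nat.cast_le (α := ℝ)).mpr h
  push_cast [hp.one_lt.le] at h'
  have hu : (0 : ℝ) < ((centralizer (c.H : Set G)).relIndex c.U : ℝ) :=
    Nat.cast_pos.mpr (by have := c.index_ge hII hp; omega)
  have hC : (0 : ℝ) < Nat.card c.C := Nat.cast_pos.mpr Nat.card_pos
  rw [le_div_iff₀ hu]
  push_cast
  refine le_trans ?_ (mul_le_mul_of_nonneg_left h' hC.le)
  have hj0 : (0 : ℝ) ≤ (j : ℝ) := Nat.cast_nonneg _
  have hq0 : (0 : ℝ) ≤ (c.q : ℝ) := Nat.cast_nonneg _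
  nlinarith [mul_nonneg (mul_nonneg hC.le hu.le) (mul_nonneg hj0 hq0)]

theorem y_le_of_qN {k : ℕ} (hk : 1 ≤ k) (h : ((c.p : ℝ) - 1) * k ≤ (c.sideTwo hII hp).qN) :
    (c.sideTwo hII hp).y ≤ 1 / (((c.p : ℝ) - 1) * k) := by
  refine one_div_le_one_div_of_le (mul_pos ?_ (by exact_mod_cast hk)) h
  have : (2 : ℝ) ≤ c.p := by exact_mod_cast hp.two_le
  linarith

/-- Without free characters the kernel is as small as possible. -/
theorem le_one_of_no_free (hno : ∀ ψ, ¬ (c.sideTwo hII hp).IsFree ψ) {k : ℕ}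
    (h : ((c.p : ℝ) - 1) * k ≤ (c.sideTwo hII hp).qN) : k ≤ 1 := by
  have : IsEmpty {ψ : (c.sideTwo hII hp).F →* ℂˣ // (c.sideTwo hII hp).IsFree ψ} := ⟨fun ψ => hno ψ.1 ψ.2⟩
  rw [Side.qN, Nat.card_of_isEmpty (α := {ψ : (c.sideTwo hII hp).F →* ℂˣ // (c.sideTwo hII hp).IsFree ψ}),
    Nat.cast_zero, zero_div, add_zero] at h
  have h2 : (2 : ℝ) ≤ c.p := by exact_mod_cast hp.two_le
  exact_mod_cast (mul_le_iff_le_one_right (by linarith : (0 : ℝ) < (c.p : ℝ) - 1)).mp h

/-- With `C = 1` and `U` full there is no free character. -/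
theorem no_free_of_full (hC : c.C = ⊥) (hgal : IsGalois c.H c.U)
    (hj : (centralizer (c.H : Set G)).relIndex c.U * (c.p - 1) = c.p ^ c.q - 1) :
    ∀ ψ, ¬ (c.sideTwo hII hp).IsFree ψ := by
  intro ψ hψ
  have K := c.kernelTwo hII hp
  have h1 := K.card_free_add
  rw [K.card_regular_galois hgal, ← hj, mul_comm (c.p - 1)] at h1
  have := CfsgLib.CyclicTI.finite_hom c.H
  have hF : Cfsg.fittingOf c.S = c.H := by rw [c.fitting_S, hC, sup_bot_eq]
  have hfree : IsFree c.H c.U c.W₁ (ψ.comp (inclusion c.H_le_fitting)) := by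
    intro g hg hfix
    have hgS : g ∈ c.S := (sup_le c.U_le_S c.W₁_le_S) hg
    have hx : ψ = conjHom (c.sideTwo hII hp).ti ⟨g, hgS⟩ ψ := by
      refine MonoidHom.ext fun f => ?_
      rw [conjHom_apply]
      have hfH : (f : G) ∈ c.H := hF.le f.2
      have ha : g⁻¹ * (f : G) * g ∈ c.H := by
        simpa using K.conj_mem (inv_mem hg) hfH
      exact hfix ⟨_, ha⟩ ⟨_, hfH⟩ (by show (f : G) = g * (g⁻¹ * (f : G) * g) * g⁻¹; group)
    have hgH : g ∈ c.H := hF.le (hψ _ hx)
    exact mem_centralizer_iff.mpr fun z hz => K.commute_H hz hgH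
  have h0 : Nat.card {α : c.H →* ℂˣ // IsFree c.H c.U c.W₁ α} = 0 := by omega
  have : 0 < Nat.card {α : c.H →* ℂˣ // IsFree c.H c.U c.W₁ α} :=
    Nat.card_pos_iff.mpr ⟨⟨⟨_, hfree⟩⟩, Finite.of_injective _ Subtype.val_injective⟩
  omega

/-- What the mirror must satisfy for the counting. -/
structure MassBound (F' : Subgroup G) (v : ℕ) (x : ℝ) : Prop where
  side : IsSide c.T F'
  bound : x ≤ 1 / ((c.q : ℝ) - 1)
  mass : ∀ l : c.W₁ →* ℂˣ, l ≠ 1 →
    (1 - x - 1 / v) / c.p + ((Nat.card F' : ℝ) - 1) / Nat.card c.T ≤ mass F' c.T (c.eta l 1)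

/-- The mirror side (`p < q`) is full. -/
theorem full_of_lt (hlt : c.p < c.q) {F' : Subgroup G} {v : ℕ} {x : ℝ} (hT : c.MassBound F' v x)
    (hv : 2 * c.p + 1 ≤ v) (hv5 : c.p = 3 → c.q = 5 → 31 ≤ v) (hv7 : c.p = 3 → c.q = 7 → 19 ≤ v) :
    c.C = ⊥ ∧ IsGalois c.H c.U ∧
      (centralizer (c.H : Set G)).relIndex c.U * (c.p - 1) = c.p ^ c.q - 1 := by
  have K := c.kernelTwo hII hp
  have hq := K.prime_q
  have hq5 : 5 ≤ c.q := by
    have := c.p_ge_three
    have := Nat.odd_iff.mp (c.odd_q hII hp)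
    omega
  have hbig : ∀ k : ℕ, 2 * c.q + 1 ≤ k → ((c.p : ℝ) - 1) * k ≤ (c.sideTwo hII hp).qN → False := by
    intro k hk h
    have hno : ∀ ψ, ¬ (c.sideTwo hII hp).IsFree ψ :=
      (c.sideTwo hII hp).not_free hq hp hlt rfl (isSide_typeTwo c.minimal c.S_max c.S_typeP hII) hT.side
        hv hv5 hv7 hT.bound hT.mass (c.index_ge hII hp) fun ψ _ => by
          have h2 : ((c.p : ℝ) - 1) * ((2 * c.q + 1 : ℕ) : ℝ) ≤ (c.sideTwo hII hp).qN := by
            refine le_trans (mul_le_mul_of_nonneg_left (Nat.cast_le.mpr hk) ?_) h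
            have : (2 : ℝ) ≤ c.p := by exact_mod_cast hp.two_le
            linarith
          have := c.y_le_of_qN hII hp (by omega) h2
          push_cast at this
          exact this
    have := c.le_one_of_no_free hII hp hno h
    omega
  rcases K.galois_or_diag with hgal | ⟨x₀, D⟩
  · obtain ⟨-, -, -, ⟨j, hj⟩, -⟩ := K.galois_facts hgal
    rw [mul_right_comm] at hj
    have hj' := hj.symm
    have h := c.qN_ge_galois hII hp hgal hj'
    have hj0 : j ≠ 0 := by
      rintro rfl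
      simp only [mul_zero, zero_mul] at hj'
      have : 1 < c.p ^ c.q := Nat.one_lt_pow hq.ne_zero hp.one_lt
      omega
    by_cases hC : c.C = ⊥
    · rw [hC, card_bot, one_mul] at h
      by_cases hj1 : j = 1
      · subst hj1
        exact ⟨hC, hgal, by simpa using hj'⟩
      · refine (hbig j ?_ h).elim
        have hm := geom_modEq hq hp.two_le hlt hj'
        have hjm : j ≡ 1 [MOD c.q] := by
          have h2 := ((K.index_modEq).mul_right j).symm.trans hm
          rwa [one_mul] at h2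
        exact two_mul_add_one_le_of hq.two_le (c.odd_q hII hp)
          (Nat.odd_mul.mp (odd_geom (c.odd_p hII hp) (c.odd_q hII hp) hj' hp.two_le)).2 hjm hj1
    · exact (hbig _ (le_trans (c.C_ge hII hp hC) (Nat.le_mul_of_pos_right _ (Nat.pos_of_ne_zero hj0))) h).elim
  · obtain ⟨j, hj⟩ := D.index_dvd_pow K
    refine (hbig _ ?_ (c.qN_ge_diag hII hp D hj)).elim
    have hj0 : 0 < j := Nat.pos_of_ne_zero fun e => by
      rw [e, mul_zero] at hj
      exact pow_ne_zero _ (by have := hp.two_le; omega) hj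
    have h2 := Nat.le_of_dvd hj0 (two_pow_dvd_of (c.odd_p hII hp) (c.odd_index hII hp) hj)
    exact le_trans ((two_pow_ge hq5).trans h2) (Nat.le_mul_of_pos_left j Nat.card_pos)

/-- The side with `q < p`. -/
theorem cases_of_lt (hlt : c.q < c.p) {F' : Subgroup G} {v : ℕ} {x : ℝ} (hT : c.MassBound F' v x)
    (hv : 121 ≤ v) :
    (c.SGalois ∧ ∃ i, Nat.card c.U * i * (c.p - 1) = c.p ^ c.q - 1 ∧ (i = 1 ∨ (i = c.q ∧ c.q ∣ c.p - 1))) ∨
      (c.q = 3 ∧ c.C = ⊥ ∧ ¬ IsCyclic c.U ∧ ∃ x₀, Diag c.H c.U c.W₁ x₀) := by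
  have K := c.kernelTwo hII hp
  have hq := K.prime_q
  have hq3 := c.q_ge_three
  have hp5 : 5 ≤ c.p := by
    have := Nat.odd_iff.mp (c.odd_p hII hp)
    omega
  have hbound : ∀ k : ℕ, 2 ≤ k → ((c.p : ℝ) - 1) * k ≤ (c.sideTwo hII hp).qN →
      (c.q = 3 → k ≤ 7) ∧ (c.q = 3 → 11 ≤ c.p → k < 7) ∧ (5 ≤ c.q → k < 2 * c.q + 1) := by
    intro k hk h
    obtain ⟨ψ, hψ⟩ : ∃ ψ, (c.sideTwo hII hp).IsFree ψ := by
      by_contra hno
      push Not at hno
      have := c.le_one_of_no_free hII hp hno h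
      omega
    exact (c.sideTwo hII hp).index_bound hq hp hlt rfl (isSide_typeTwo c.minimal c.S_max c.S_typeP hII)
      hT.side hψ hv hT.bound hT.mass (c.index_ge hII hp) (c.y_le_of_qN hII hp (by omega) h)
  have hq35 : c.q = 3 ∨ 5 ≤ c.q := by
    have := Nat.odd_iff.mp (c.odd_q hII hp)
    omega
  rcases K.galois_or_diag with hgal | ⟨x₀, D⟩
  · left
    obtain ⟨-, -, -, ⟨j, hj⟩, -⟩ := K.galois_facts hgal
    rw [mul_right_comm] at hj
    have hj' := hj.symm
    have h := c.qN_ge_galois hII hp hgal hj'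
    have hj0 : j ≠ 0 := by
      rintro rfl
      simp only [mul_zero, zero_mul] at hj'
      have : 1 < c.p ^ c.q := Nat.one_lt_pow hq.ne_zero hp.one_lt
      omega
    have hC : c.C = ⊥ := by
      by_contra hC
      have h2 := c.C_ge hII hp hC
      have hle : Nat.card c.C ≤ Nat.card c.C * j := Nat.le_mul_of_pos_right _ (Nat.pos_of_ne_zero hj0)
      obtain ⟨b3, b11, b5⟩ := hbound _ (by omega) h
      rcases hq35 with h3 | h5
      · have h7 : Nat.card c.C = 7 := by have := b3 h3; omega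
        have hj1 : j = 1 := by
          have := b3 h3
          rw [h7] at this
          omega
        rcases prime_cases hp hp5 with hp' | hp' | hp'
        · subst hj1
          rw [mul_one, h3, hp'] at hj'
          norm_num at hj'
          have hu : (centralizer (c.H : Set G)).relIndex c.U = 31 := by omega
          obtain ⟨hU, -, hUc, -⟩ := typeTwo_facts c.S_typeP hII
          have h31 := Final.prime_dvd_index c.minimal c.S_max c.T_max c.S_typeP c.T_typeP hII hU hUc
            (r := 7) (by norm_num) (dvd_of_eq h7.symm)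
          rw [show (centralizer (Cfsg.fittingHallOf c.S : Set G)).relIndex c.U = 31 from hu] at h31
          norm_num at h31
        · have hd : 7 ∣ Nat.card c.U := h7 ▸ card_dvd_of_le inf_le_left
          have := Nat.eq_one_of_dvd_coprimes K.cop_p hd (dvd_of_eq hp'.symm)
          omega
        · have := b11 h3 hp'
          omega
      · have := b5 h5
        omega
    rw [hC, card_bot, one_mul] at h
    have hUu : (centralizer (c.H : Set G)).relIndex c.U = Nat.card c.U := by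
      rw [← c.index_mul_card_C hII hp, hC, card_bot, one_mul]
    rw [hUu] at hj'
    refine ⟨⟨hII, hp, hq, hlt, hgal, hC⟩, j, hj', index_cases hp hq hq3 hlt hj' ?_⟩
    by_cases hj2 : j < 2
    · exact Or.inl (by omega)
    obtain ⟨b3, b11, b5⟩ := hbound j (by omega) h
    rcases hq35 with h3 | h5
    · rcases prime_cases hp hp5 with hp' | hp' | hp'
      · exact Or.inr ⟨h3, Or.inl hp', b3 h3⟩
      · exact Or.inr ⟨h3, Or.inr hp', b3 h3⟩
      · exact Or.inl (by have := b11 h3 hp'; omega)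
    · exact Or.inl (b5 h5)
  · right
    obtain ⟨j, hj⟩ := D.index_dvd_pow K
    have hj0 : 0 < j := Nat.pos_of_ne_zero fun e => by
      rw [e, mul_zero] at hj
      exact pow_ne_zero _ (by omega) hj
    have h2 := Nat.le_of_dvd hj0 (two_pow_dvd_of (c.odd_p hII hp) (c.odd_index hII hp) hj)
    have hle : j ≤ Nat.card c.C * j := Nat.le_mul_of_pos_left j Nat.card_pos
    have h4 : 4 ≤ 2 ^ (c.q - 1) :=
      le_trans (by norm_num : 4 ≤ 2 ^ 2) (Nat.pow_le_pow_right (by norm_num) (by omega))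
    obtain ⟨b3, b11, b5⟩ := hbound _ (by omega) (c.qN_ge_diag hII hp D hj)
    rcases hq35 with h3 | h5
    swap
    · have := b5 h5
      have := two_pow_ge h5
      omega
    have hk7 := b3 h3
    have hC : c.C = ⊥ := by
      by_contra hC
      have h7 := c.C_ge hII hp hC
      have : 7 * 4 ≤ Nat.card c.C * j := Nat.mul_le_mul (by omega) (by omega)
      omega
    refine ⟨h3, hC, fun hcyc => ?_, x₀, D⟩
    have := hcyc
    have hdvd := D.card_dvd_of_isCyclic K hC
    have hUu : (centralizer (c.H : Set G)).relIndex c.U = Nat.card c.U := by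
      rw [← c.index_mul_card_C hII hp, hC, card_bot, one_mul]
    rw [hUu] at hj
    rw [hC, card_bot, one_mul] at hk7
    obtain ⟨t, ht⟩ := hdvd
    have hodd := Nat.odd_iff.mp (hUu ▸ c.odd_index hII hp)
    have hpe : (c.p - 1) % 2 = 0 := by have := Nat.odd_iff.mp (c.odd_p hII hp); omega
    rw [h3, show (3 - 1 : ℕ) = 2 from rfl, sq] at hj
    nth_rewrite 1 [ht] at hj
    rw [mul_assoc] at hj
    have hjt : t * (c.p - 1) = j := Nat.eq_of_mul_eq_mul_left Nat.card_pos hj
    have ht2 : 2 ≤ t := by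
      rcases t with _ | _ | t
      · omega
      · rw [Nat.zero_add, mul_one] at ht; omega
      · omega
    have : 2 * 4 ≤ t * (c.p - 1) := Nat.mul_le_mul ht2 (by omega)
    omega

end Config

/-- A side of index `v` with mass `(1 - x) / p` qualifies. -/
theorem Config.MassBound.of_card {c : Config G} {F' : Subgroup G} {v : ℕ} {x : ℝ} (hside : IsSide c.T F')
    (hcard : Nat.card c.T = c.p * v * Nat.card F') (hbound : x ≤ 1 / ((c.q : ℝ) - 1))
    (hmass : ∀ l : c.W₁ →* ℂˣ, l ≠ 1 → (1 - x) / c.p ≤ FTFinal.mass F' c.T (c.eta l 1)) :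
    c.MassBound F' v x where
  side := hside
  bound := hbound
  mass l hl := by
    refine le_trans ?_ (hmass l hl)
    have hp0 : (0 : ℝ) < c.p := by exact_mod_cast (show 0 < c.p by have := c.p_ge_three; omega)
    have hv : (0 : ℝ) < v := by
      rcases Nat.eq_zero_or_pos v with e | e
      · rw [e, mul_zero, zero_mul] at hcard
        exact absurd hcard Nat.card_pos.ne'
      · exact_mod_cast e
    have hPT : ((Nat.card F' : ℝ) - 1) / Nat.card c.T ≤ 1 / ((c.p : ℝ) * v) := by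
      rw [hcard]
      push_cast
      have : (0 : ℝ) < Nat.card F' := Nat.cast_pos.mpr Nat.card_pos
      rw [div_le_div_iff₀ (by positivity) (by positivity)]
      nlinarith [mul_pos hp0 hv]
    rw [show (1 - x - 1 / (v : ℝ)) / c.p = (1 - x) / c.p - 1 / ((c.p : ℝ) * v) by field_simp]
    linarith

end CfsgLib.OddLocal.FTFinal
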