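import Cfsg.Agent.Lib.OddLocal.Final.NormW1
import Cfsg.Agent.Lib.OddLocal.Final.SelfDual
import Cfsg.Agent.Lib.Core.Coprime

/-!
Owner: helper16. The kernel of a subgroup of type P with `V ≠ 1` (blueprint F3): `Q = [Q, V] × C_Q(V)`,
the first factor elementary abelian of order `q ^ p` containing `W₁`, the second one with `W₂` fixed point free.
-/

set_option autoImplicit false
set_option linter.unusedSectionVars false

namespace CfsgLib.OddLocal.Final

open Subgroup
open CfsgLib.TwoGroups
open scoped commutatorElement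

variable {G : Type*} [Group G] [Finite G] {T W V X Y : Subgroup G}

local notation "𝐐" => Cfsg.fittingHallOf T

theorem typeP_isSolvable (T : Subgroup G) : Group.IsSolvable ↥(Cfsg.fittingHallOf T) := by
  have : Group.IsNilpotent ↥(Cfsg.fittingHallOf T) := fittingHallOf_nilpotent T
  infer_instance

theorem typeP_sup_le (hP : Cfsg.IsTypePWith T W V X) : V ⊔ W ≤ T :=
  sup_le (hP.U_compl.2.1.trans (TypeP.derived_le hP)) hP.W₁_compl.2.1

theorem typeP_sup_normalizes (hP : Cfsg.IsTypePWith T W V X) : V ⊔ W ≤ normalizer (𝐐 : Set G) :=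
  (typeP_sup_le hP).trans (typeP_le_normalizer hP)

theorem typeP_inf_W (hP : Cfsg.IsTypePWith T W V X) (hY : Y ≤ 𝐐) :
    Y ⊓ centralizer (W : Set G) = Y ⊓ X := by
  obtain ⟨w, hw, hw1⟩ := W.bot_or_exists_ne_one.resolve_left hP.W₁_ne
  refine le_antisymm (fun y hy => ⟨hy.1, (hP.W₂_centralizer w hw hw1).le
    (mem_inf.mpr ⟨hP.U_compl.1 (hY hy.1),
      mem_centralizer_singleton_iff.mpr (mem_centralizer_iff.mp hy.2 w hw).symm⟩)⟩)
    (le_inf inf_le_left fun y hy => mem_centralizer_iff.mpr fun e he =>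
      hP.selfNormalizing.2.2.2.1 e he y (mem_inf.mp hy).2)

/-- The fixed point formula for `V W` on an invariant subgroup of `T_F`. -/
theorem typeP_formula (hP : Cfsg.IsTypePWith T W V X) (hY : Y ≤ 𝐐) (hn : V ⊔ W ≤ normalizer (Y : Set G)) :
    Nat.card ↥(Y ⊓ X ⊓ centralizer (V : Set G)) ^ Nat.card W * Nat.card Y =
      Nat.card ↥(Y ⊓ X) ^ Nat.card W * Nat.card ↥(Y ⊓ centralizer (V : Set G)) := by
  have hfpf : ∀ e ∈ W, e ≠ 1 → ∀ u ∈ V, e * u = u * e → u = 1 := fun e he he1 u hu hc =>
    typeP_fpf hP he he1 hu hc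
  have hVW : V ⊓ W = ⊥ := (eq_bot_iff_forall _).mpr fun y hy => by
    by_contra hy1
    exact hy1 (hfpf y hy.2 hy1 y hy.1 rfl)
  have hcop : (Nat.card Y).Coprime (Nat.card ↥(V ⊔ W)) := by
    refine Nat.Coprime.coprime_dvd_right (sup_comm V W ▸ Core.card_sup_dvd W V hP.U_normal) ?_
    refine Nat.Coprime.mul_right ?_ ?_
    · exact ((TypeP.coprime_W₁_derived hP).coprime_dvd_right
        (card_dvd_of_le (hY.trans hP.U_compl.1))).symm
    · exact (TypeP.coprime_H_U hP).coprime_dvd_left (card_dvd_of_le hY)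
  have : Group.IsSolvable Y := CfsgLib.Core.isSolvable_of_le (typeP_isSolvable T) hY
  have hf := CfsgLib.FrobFix.formula_subgroup V W Y hVW
    (fun e he u hu => (mem_normalizer_iff.mp (hP.U_normal he) u).mp hu) hfpf
    (fun x hx y hy => (mem_normalizer_iff.mp (hn hx) y).mp hy) inferInstance hcop
  have h3 := typeP_inf_W hP hY
  have h2 : Y ⊓ centralizer ((V ⊔ W : Subgroup G) : Set G) = Y ⊓ X ⊓ centralizer (V : Set G) := by
    refine le_antisymm (le_inf ?_ (inf_le_right.trans (Subgroup.centralizer_le (le_sup_left : V ≤ V ⊔ W))))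
      (le_inf (inf_le_left.trans inf_le_left) (le_centralizer_iff.mp (sup_le ?_ ?_)))
    · exact (inf_le_inf_left _ (Subgroup.centralizer_le (le_sup_right : W ≤ V ⊔ W))).trans h3.le
    · exact le_centralizer_iff.mp inf_le_right
    · exact le_centralizer_iff.mp (inf_le_left.trans (h3.ge.trans inf_le_right))
  rwa [h2, h3] at hf

/-- `W₁ ∩ C(V) = 1`. -/
theorem typeP_inf_centralizer (hP : Cfsg.IsTypePWith T W V X) (hV : V ≠ ⊥) (hq : (Nat.card X).Prime) :
    X ⊓ centralizer (V : Set G) = ⊥ := by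
  rcases (Nat.dvd_prime hq).mp (card_dvd_of_le (inf_le_left : X ⊓ centralizer (V : Set G) ≤ X)) with h | h
  · exact card_eq_one.mp h
  exfalso
  have hXC : X ≤ centralizer (V : Set G) := inf_eq_left.mp (eq_of_le_of_card_ge inf_le_left h.ge)
  have hXQ : X ≤ 𝐐 := hP.W₂_le.trans inf_le_left
  have hf := typeP_formula hP le_rfl (typeP_sup_normalizes hP)
  rw [inf_eq_right.mpr hXQ, inf_eq_left.mpr hXC] at hf
  refine hV (TypeP.eq_bot_of_le_centralizer hP (le_centralizer_iff.mp ?_))
  exact inf_eq_left.mp (eq_of_le_of_card_ge inf_le_left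
    (Nat.eq_of_mul_eq_mul_left (pow_pos Nat.card_pos _) hf).le)

theorem typeP_card (hP : Cfsg.IsTypePWith T W V X) (hV : V ≠ ⊥) (hq : (Nat.card X).Prime)
    (hY : Y ≤ 𝐐) (hn : V ⊔ W ≤ normalizer (Y : Set G)) :
    Nat.card Y = Nat.card ↥(Y ⊓ X) ^ Nat.card W * Nat.card ↥(Y ⊓ centralizer (V : Set G)) := by
  have h := typeP_formula hP hY hn
  have h1 : Y ⊓ X ⊓ centralizer (V : Set G) = ⊥ :=
    le_bot_iff.mp ((inf_le_inf_right _ inf_le_right).trans (typeP_inf_centralizer hP hV hq).le)
  rwa [h1, card_bot, one_pow, one_mul] at h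

/-- `Q₁ = [Q, V]`. -/
abbrev kernelOne (T V : Subgroup G) : Subgroup G := ⁅Cfsg.fittingHallOf T, V⁆

/-- `Q₀ = C_Q(V)`. -/
abbrev kernelZero (T V : Subgroup G) : Subgroup G := Cfsg.fittingHallOf T ⊓ centralizer (V : Set G)

/-- The part of the statement not needing the self-duality. -/
structure KernelBasic (T W V X : Subgroup G) : Prop where
  le : kernelOne T V ≤ Cfsg.fittingHallOf T
  norm : Cfsg.fittingHallOf T ⊔ (V ⊔ W) ≤ normalizer (kernelOne T V : Set G)
  norm_zero : V ⊔ W ≤ normalizer (kernelZero T V : Set G)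
  sup : kernelOne T V ⊔ kernelZero T V = Cfsg.fittingHallOf T
  comm : ⁅kernelOne T V, V⁆ = kernelOne T V
  X_le : X ≤ kernelOne T V
  invariant : ∀ Y : Subgroup G, Y ≤ kernelOne T V → kernelOne T V ≤ normalizer (Y : Set G) →
    V ⊔ W ≤ normalizer (Y : Set G) → Y ≠ kernelOne T V → Y ≤ centralizer (V : Set G)
  pgroup : IsPGroup (Nat.card X) ↥(kernelOne T V)
  commute : kernelZero T V ≤ centralizer (kernelOne T V : Set G)

theorem kernelBasic (hP : Cfsg.IsTypePWith T W V X) (hV : V ≠ ⊥) (hq : (Nat.card X).Prime) :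
    KernelBasic T W V X := by
  have := Fact.mk hq
  have hVQ : V ≤ normalizer (𝐐 : Set G) := le_sup_left.trans (typeP_sup_normalizes hP)
  have hWQ : W ≤ normalizer (𝐐 : Set G) := le_sup_right.trans (typeP_sup_normalizes hP)
  have hcop : (Nat.card V).Coprime (Nat.card 𝐐) := (TypeP.coprime_H_U hP).symm
  have hsol : Group.IsSolvable V ∨ Group.IsSolvable 𝐐 := Or.inr (typeP_isSolvable T)
  set Q₁ := kernelOne T V with hQ₁
  set Q₀ := kernelZero T V with hQ₀
  have hle : Q₁ ≤ 𝐐 := Core.commutator_le_of_normalizes hVQ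
  have hWQ₁ : W ≤ normalizer (Q₁ : Set G) := fun g hg => by
    rw [← Transfer.map_conj_eq_self_iff, hQ₁, map_commutator,
      Transfer.map_conj_eq_self_iff.mpr (hWQ hg), Transfer.map_conj_eq_self_iff.mpr (hP.U_normal hg)]
  have hQQ₁ : 𝐐 ⊔ V ≤ normalizer (Q₁ : Set G) :=
    Core.le_normalizer_commutator_self (A := V) (K := 𝐐)
  have hnorm : 𝐐 ⊔ (V ⊔ W) ≤ normalizer (Q₁ : Set G) :=
    sup_le (le_sup_left.trans hQQ₁) (sup_le (le_sup_right.trans hQQ₁) hWQ₁)
  have hCW : ∀ g, g ∈ normalizer (V : Set G) → g ∈ normalizer (centralizer (V : Set G) : Set G) := by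
    intro g hg
    refine mem_normalizer_iff.mpr fun c => ⟨fun hc => mem_centralizer_iff.mpr fun v hv => ?_,
      fun hc => mem_centralizer_iff.mpr fun v hv => ?_⟩
    · have hv' : g⁻¹ * v * g ∈ V := by simpa using (mem_normalizer_iff.mp (inv_mem hg) v).mp hv
      calc v * (g * c * g⁻¹) = g * (g⁻¹ * v * g * c) * g⁻¹ := by group
        _ = g * (c * (g⁻¹ * v * g)) * g⁻¹ := by rw [mem_centralizer_iff.mp hc _ hv']
        _ = _ := by group
    · have hv' : g * v * g⁻¹ ∈ V := (mem_normalizer_iff.mp hg v).mp hv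
      calc v * c = g⁻¹ * (g * v * g⁻¹ * (g * c * g⁻¹)) * g := by group
        _ = g⁻¹ * (g * c * g⁻¹ * (g * v * g⁻¹)) * g := by rw [mem_centralizer_iff.mp hc _ hv']
        _ = _ := by group
  have hnormZ : V ⊔ W ≤ normalizer (Q₀ : Set G) :=
    (le_inf (typeP_sup_normalizes hP) (sup_le (fun g hg => hCW g (le_normalizer hg))
      fun g hg => hCW g (hP.U_normal hg))).trans inf_normalizer_le_normalizer_inf
  have hsup : Q₁ ⊔ Q₀ = 𝐐 := Core.commutator_sup_centralizer hVQ hcop hsol
  have hcomm : ⁅Q₁, V⁆ = Q₁ := Core.commutator_commutator_eq hVQ hcop hsol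
  have hne : ¬ Q₁ ≤ centralizer (V : Set G) := fun h => by
    refine hV (TypeP.eq_bot_of_le_centralizer hP (le_centralizer_iff.mp ?_))
    have h1 : Q₁ = ⊥ := hcomm ▸ commutator_eq_bot_iff_le_centralizer.mpr h
    exact commutator_eq_bot_iff_le_centralizer.mp h1
  have hX : X ≤ Q₁ := by
    rcases (Nat.dvd_prime hq).mp (card_dvd_of_le (inf_le_right : Q₁ ⊓ X ≤ X)) with h | h
    · refine absurd (inf_eq_left.mp (eq_of_le_of_card_ge inf_le_left ?_)) hne
      rw [typeP_card hP hV hq hle (le_sup_right.trans hnorm), h, one_pow, one_mul]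
    · exact inf_eq_right.mp (eq_of_le_of_card_ge inf_le_right h.ge)
  have hinv : ∀ Y : Subgroup G, Y ≤ Q₁ → Q₁ ≤ normalizer (Y : Set G) → V ⊔ W ≤ normalizer (Y : Set G) →
      Y ≠ Q₁ → Y ≤ centralizer (V : Set G) := by
    intro Y hY hQY hVY hne'
    rcases (Nat.dvd_prime hq).mp (card_dvd_of_le (inf_le_right : Y ⊓ X ≤ X)) with h | h
    · refine inf_eq_left.mp (eq_of_le_of_card_ge inf_le_left ?_)
      rw [typeP_card hP hV hq (hY.trans hle) hVY, h, one_pow, one_mul]
    exfalso
    set D := Q₁ ⊓ centralizer (V : Set G) with hD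
    have hDn : V ⊔ W ≤ normalizer (D : Set G) :=
      (le_inf (le_sup_right.trans hnorm) (sup_le (fun g hg => hCW g (le_normalizer hg))
        fun g hg => hCW g (hP.U_normal hg))).trans inf_normalizer_le_normalizer_inf
    have hYD : Y ⊔ D ≤ Q₁ := sup_le hY inf_le_left
    have heq : Y ⊔ D = Q₁ := by
      refine eq_of_le_of_card_ge hYD ?_
      rw [typeP_card hP hV hq hle (le_sup_right.trans hnorm),
        typeP_card hP hV hq (hYD.trans hle)
          (fun g hg => Transfer.map_conj_eq_self_iff.mp (by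
            rw [Subgroup.map_sup, Transfer.map_conj_eq_self_iff.mpr (hVY hg), Transfer.map_conj_eq_self_iff.mpr (hDn hg)]))]
      refine Nat.mul_le_mul (Nat.pow_le_pow_left ?_ _) (Nat.le_of_dvd Nat.card_pos (card_dvd_of_le ?_))
      · exact (Nat.le_of_dvd Nat.card_pos (card_dvd_of_le inf_le_right)).trans
          (h.ge.trans (Nat.le_of_dvd Nat.card_pos (card_dvd_of_le (inf_le_inf_right X le_sup_left))))
      · exact le_inf le_sup_right inf_le_right
    refine hne' (le_antisymm hY ?_)
    rw [← hcomm, commutator_le]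
    intro g hg v hv
    obtain ⟨y, hy, d, hd, rfl⟩ := (Core.mem_sup_iff_mul' (inf_le_left.trans hQY : D ≤ normalizer (Y : Set G))).mp
      (by rw [sup_comm, heq]; exact hg)
    have hdv : ⁅d, v⁆ = 1 :=
      commutatorElement_eq_one_iff_mul_comm.mpr (mem_centralizer_iff.mp (mem_inf.mp hd).2 v hv).symm
    rw [commutatorElement_mul_left_eq_conj_mul, hdv, mul_one, mul_inv_cancel, one_mul, commutatorElement_def,
      show y * v * y⁻¹ * v⁻¹ = y * (v * y⁻¹ * v⁻¹) by group]
    exact mul_mem hy ((mem_normalizer_iff.mp (hVY (mem_sup_left hv)) y⁻¹).mp (inv_mem hy))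
  have hQ₁q : IsPGroup (Nat.card X) Q₁ := by
    obtain ⟨P⟩ : Nonempty (Sylow (Nat.card X) Q₁) := inferInstance
    have : Group.IsNilpotent 𝐐 := fittingHallOf_nilpotent T
    have hn : Group.IsNilpotent Q₁ := Group.nilpotent_of_mulEquiv (subgroupOfEquivOfLe hle)
    have : (P : Subgroup Q₁).Normal :=
      ((Group.isNilpotent_of_finite_tfae (G := ↥Q₁)).out 0 3 rfl rfl).mp hn _ inferInstance P
    have : (P : Subgroup Q₁).Characteristic := P.characteristic_of_normal ‹_›
    set Y := (P : Subgroup Q₁).map Q₁.subtype with hY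
    by_cases he : Y = Q₁
    · rw [← he]; exact P.2.map _
    exfalso
    have hc := hinv Y (map_subtype_le _)
      (le_normalizer.trans (OddLocal.PLengthEndgame.normalizer_le_char Q₁ (P : Subgroup Q₁)))
      ((le_sup_right.trans hnorm).trans (OddLocal.PLengthEndgame.normalizer_le_char Q₁ (P : Subgroup Q₁))) he
    have hXY : X ≤ Y := by
      intro x hx
      refine ⟨⟨x, hX hx⟩, ?_, rfl⟩
      have hxp : IsPGroup (Nat.card X) (X.subgroupOf Q₁) :=
        (IsPGroup.of_card (n := 1) (by rw [pow_one])).comap_subtype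
      obtain ⟨P', hP'⟩ := hxp.exists_le_sylow
      let _ := Sylow.unique_of_normal P ‹_›
      rw [Subsingleton.elim P' P] at hP'
      exact hP' hx
    have := (le_inf le_rfl (hXY.trans hc)).trans (typeP_inf_centralizer hP hV hq).le
    rw [le_bot_iff] at this
    exact hP.selfNormalizing.2.1 this
  have hcommute : Q₀ ≤ centralizer (Q₁ : Set G) := by
    set C := ⁅Q₁, Q₀⁆ with hC
    have hCQ : C ≤ Q₁ := Core.commutator_le_of_normalizes (inf_le_left.trans (le_sup_left.trans hnorm))
    have hCn : V ⊔ W ≤ normalizer (C : Set G) := fun g hg => by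
      rw [← Transfer.map_conj_eq_self_iff, hC, map_commutator,
        Transfer.map_conj_eq_self_iff.mpr (hnorm (mem_sup_right hg)),
        Transfer.map_conj_eq_self_iff.mpr (hnormZ hg)]
    by_cases hQ1b : Q₁ = ⊥
    · rw [hQ1b]
      exact fun g _ => mem_centralizer_iff.mpr fun h hh => by rw [mem_bot.mp hh, one_mul, mul_one]
    have hCne : C ≠ Q₁ := by
      intro he
      refine hQ1b ?_
      have : Group.IsNilpotent 𝐐 := fittingHallOf_nilpotent T
      have key : ∀ k, Q₁ ≤ (𝐐).lowerCentralSeries k := by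
        intro k
        induction k with
        | zero => exact hle
        | succ k ih =>
          rw [Subgroup.lowerCentralSeries_succ, ← he]
          exact commutator_mono ih inf_le_left
      obtain ⟨k, hk⟩ := (Subgroup.isNilpotent_iff_lowerCentralSeries 𝐐).mp ‹Group.IsNilpotent 𝐐›
      exact le_bot_iff.mp (hk ▸ key k)
    have hCV := hinv C hCQ (normalizer_commutator_ge_left Q₁ Q₀) hCn hCne
    have h4 : ⁅⁅Q₁, V⁆, Q₀⁆ = ⊥ := by
      refine commutator_commutator_eq_bot_of_rotate ?_ ?_
      · rw [commutator_eq_bot_iff_le_centralizer.mpr (le_centralizer_iff.mp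
          (inf_le_right : Q₀ ≤ centralizer (V : Set G))), commutator_bot_left]
      · rw [commutator_comm Q₀ Q₁]
        exact commutator_eq_bot_iff_le_centralizer.mpr hCV
    rw [hcomm, commutator_comm] at h4
    exact commutator_eq_bot_iff_le_centralizer.mp h4
  exact ⟨hle, hnorm, hnormZ, hsup, hcomm, hX, hinv, hQ₁q, hcommute⟩

/-- Conjugation on a subgroup it normalizes. -/
def conjHom (Q₁ : Subgroup G) (g : G) (hg : g ∈ normalizer (Q₁ : Set G)) : Q₁ →* Q₁ where
  toFun x := ⟨g * x * g⁻¹, (mem_normalizer_iff.mp hg x).mp x.2⟩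
  map_one' := Subtype.ext (by simp)
  map_mul' x y := Subtype.ext (by simp [mul_assoc])

theorem conjHom_center (Q₁ : Subgroup G) (g : G) (hg : g ∈ normalizer (Q₁ : Set G)) :
    center Q₁ ≤ (center Q₁).comap (conjHom Q₁ g hg) := by
  intro z hz
  refine mem_center_iff.mpr fun y => ?_
  have hy : g⁻¹ * (y : G) * g ∈ Q₁ := by simpa using (mem_normalizer_iff.mp (inv_mem hg) y).mp y.2
  have h := congrArg Subtype.val (mem_center_iff.mp hz ⟨_, hy⟩)
  refine Subtype.ext ?_
  change (y : G) * (g * z * g⁻¹) = g * z * g⁻¹ * y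
  change g⁻¹ * (y : G) * g * z = (z : G) * (g⁻¹ * y * g) at h
  calc (y : G) * (g * z * g⁻¹) = g * (g⁻¹ * y * g * z) * g⁻¹ := by group
    _ = g * ((z : G) * (g⁻¹ * y * g)) * g⁻¹ := by rw [h]
    _ = _ := by group

/-- F3: the splitting of `T_F`. -/
theorem kernel_split (hP : Cfsg.IsTypePWith T W V X) (hV : V ≠ ⊥) (hq : (Nat.card X).Prime)
    (hodd : Odd (Nat.card G)) :
    Cfsg.IsElementaryAbelian (Nat.card X) (kernelOne T V) ∧
      Nat.card (kernelOne T V) = Nat.card X ^ Nat.card W ∧ X ≤ kernelOne T V ∧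
      kernelOne T V ⊔ kernelZero T V = 𝐐 ∧ kernelOne T V ⊓ kernelZero T V = ⊥ ∧
      kernelZero T V ≤ centralizer (kernelOne T V : Set G) ∧
      kernelZero T V ⊓ centralizer (W : Set G) = ⊥ := by
  classical
  have := Fact.mk hq
  have K := kernelBasic hP hV hq
  set Q₁ := kernelOne T V with hQ₁
  set q := Nat.card X with hqdef
  obtain ⟨w, hwgen⟩ := (@IsCyclic.exists_generator W _ hP.W₁_cyclic)
  have hfix0 := typeP_inf_centralizer hP hV hq
  have hnQ : V ⊔ W ≤ normalizer (Q₁ : Set G) := le_sup_right.trans K.norm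
  have hVW : ∀ g : ↥(V ⊔ W), (g : G) ∈ normalizer (Q₁ : Set G) := fun g => hnQ g.2
  -- `Q₁` is abelian
  have hab : IsMulCommutative Q₁ := by
    by_contra hnab
    set Z := center Q₁ with hZdef
    have hZtop : Z ≠ ⊤ := fun e => hnab ⟨⟨fun a b => mem_center_iff.mp (e ▸ mem_top b : b ∈ Z) a⟩⟩
    have hchar : ∀ N : Subgroup Q₁, N.Characteristic → Q₁ ⊔ (V ⊔ W) ≤ normalizer (N.map Q₁.subtype : Set G) :=
      fun N _ => (sup_le le_normalizer hnQ).trans (OddLocal.PLengthEndgame.normalizer_le_char Q₁ N)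
    have proper : ∀ N : Subgroup Q₁, N ≠ ⊤ → N.map Q₁.subtype ≠ Q₁ := fun N hN e => hN (by
      rw [← comap_map_eq_self_of_injective Q₁.subtype_injective N, e]
      exact subgroupOf_eq_top.mpr le_rfl)
    have hZV : Z.map Q₁.subtype ≤ centralizer (V : Set G) :=
      K.invariant _ (map_subtype_le _) (le_sup_left.trans (hchar Z inferInstance))
        (le_sup_right.trans (hchar Z inferInstance)) (proper Z hZtop)
    have hDZ : ∀ x : Q₁, (x : G) ∈ centralizer (V : Set G) → x ∈ Z := fun x hx =>
      mem_center_iff.mpr fun y => Subtype.ext (mem_centralizer_iff.mp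
        (K.commute (mem_inf.mpr ⟨K.le x.2, hx⟩)) y y.2)
    have : Nontrivial Q₁ := (Subgroup.nontrivial_iff_ne_bot Q₁).mpr fun e => hP.selfNormalizing.2.1
      (le_bot_iff.mp (e ▸ K.X_le))
    have : Group.IsNilpotent Q₁ := K.pgroup.isNilpotent
    have hdne : _root_.commutator Q₁ ≠ ⊤ :=
      (Group.IsSolvable.commutator_lt_top_of_nontrivial Q₁).ne
    have hder : _root_.commutator Q₁ ≤ Z := fun x hx => hDZ x
      (K.invariant _ (map_subtype_le _) (le_sup_left.trans (hchar _ inferInstance))
        (le_sup_right.trans (hchar _ inferInstance)) (proper _ hdne) ⟨x, hx, rfl⟩)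
    have hc2 : ∀ a b : Q₁, ⁅a, b⁆ ∈ Z := fun a b => hder (commutator_mem_commutator (mem_top a) (mem_top b))
    -- invariant normal subgroups over the centre
    have big : ∀ N : Subgroup Q₁, Z ≤ N → (∀ g : ↥(V ⊔ W), N ≤ N.comap (conjHom Q₁ g (hVW g))) →
        (∃ x ∈ X, ∃ hx : x ∈ Q₁, x ≠ 1 ∧ (⟨x, hx⟩ : Q₁) ∈ N) → N = ⊤ := by
      intro N hZN hN hx
      by_contra hne
      have hn2 : V ⊔ W ≤ normalizer (N.map Q₁.subtype : Set G) := fun g hg => by
        refine Transfer.map_conj_eq_self_iff.mp (eq_of_le_of_card_ge ?_ (Transfer.card_map_conj g _).ge)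
        rintro _ ⟨_, ⟨y, hy, rfl⟩, rfl⟩
        exact ⟨_, hN ⟨g, hg⟩ hy, rfl⟩
      have hn1 : Q₁ ≤ normalizer (N.map Q₁.subtype : Set G) := fun g hg => by
        refine Transfer.map_conj_eq_self_iff.mp (eq_of_le_of_card_ge ?_ (Transfer.card_map_conj g _).ge)
        rintro _ ⟨_, ⟨y, hy, rfl⟩, rfl⟩
        refine ⟨⁅(⟨g, hg⟩ : Q₁), y⁆ * y, mul_mem (hZN (hc2 _ _)) hy, ?_⟩
        simp [commutatorElement_def]
      obtain ⟨x, hxX, hxQ, hx1, hxN⟩ := hx
      exact hx1 (mem_bot.mp (hfix0.le ⟨hxX, K.invariant _ (map_subtype_le _) hn1 hn2 (proper N hne)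
        ⟨_, hxN, rfl⟩⟩))
    obtain ⟨x₁, hx₁X, hx₁1⟩ := X.bot_or_exists_ne_one.resolve_left hP.selfNormalizing.2.1
    -- exponent `q` modulo the centre
    have hpow : ∀ y : Q₁, y ^ q ∈ Z := by
      let qcomm : CommGroup (Q₁ ⧸ Z) :=
        { (inferInstance : Group (Q₁ ⧸ Z)) with
          mul_comm := fun a b => by
            obtain ⟨a, rfl⟩ := QuotientGroup.mk_surjective a
            obtain ⟨b, rfl⟩ := QuotientGroup.mk_surjective b
            rw [← QuotientGroup.mk_mul, ← QuotientGroup.mk_mul, QuotientGroup.eq]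
            simpa [commutatorElement_def, mul_assoc] using hc2 b⁻¹ a⁻¹ }
      let f : Q₁ →* Q₁ ⧸ Z := (powMonoidHom q).comp (QuotientGroup.mk' Z)
      have hkmem : ∀ y : Q₁, y ∈ f.ker ↔ y ^ q ∈ Z := fun y => by
        simp [f, MonoidHom.mem_ker, ← QuotientGroup.mk_pow, QuotientGroup.eq_one_iff]
      have hker : f.ker = ⊤ := by
        refine big f.ker (fun z hz => (hkmem z).mpr (pow_mem hz q)) (fun g y hy => ?_)
          ⟨x₁, hx₁X, K.X_le hx₁X, hx₁1, (hkmem _).mpr ?_⟩
        · rw [mem_comap, hkmem, ← map_pow]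
          exact conjHom_center Q₁ g (hVW g) ((hkmem y).mp hy)
        · have h1 : (⟨x₁, K.X_le hx₁X⟩ : Q₁) ^ q = 1 := Subtype.ext (by
            simpa [hqdef] using orderOf_dvd_iff_pow_eq_one.mp (X.orderOf_dvd_natCard hx₁X))
          rw [h1]; exact one_mem _
      exact fun y => (hkmem y).mp (hker ▸ mem_top y)
    let qcomm : CommGroup (Q₁ ⧸ Z) :=
      { (inferInstance : Group (Q₁ ⧸ Z)) with
        mul_comm := fun a b => by
          obtain ⟨a, rfl⟩ := QuotientGroup.mk_surjective a
          obtain ⟨b, rfl⟩ := QuotientGroup.mk_surjective b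
          rw [← QuotientGroup.mk_mul, ← QuotientGroup.mk_mul, QuotientGroup.eq]
          simpa [commutatorElement_def, mul_assoc] using hc2 b⁻¹ a⁻¹ }
    -- the action
    let π₀ : ↥(V ⊔ W) → AddMonoid.End (Additive (Q₁ ⧸ Z)) := fun g =>
      MonoidHom.toAdditive (QuotientGroup.map Z Z (conjHom Q₁ g (hVW g)) (conjHom_center Q₁ g (hVW g)))
    have π_mk : ∀ (g : ↥(V ⊔ W)) (y : Q₁), π₀ g (Additive.ofMul (QuotientGroup.mk y)) =
        Additive.ofMul (QuotientGroup.mk (conjHom Q₁ g (hVW g) y)) := fun g y => rfl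
    let π : ↥(V ⊔ W) →* AddMonoid.End (Additive (Q₁ ⧸ Z)) :=
      { toFun := π₀
        map_one' := AddMonoidHom.ext fun a => by
          obtain ⟨y, hy⟩ := QuotientGroup.mk_surjective a.toMul
          rw [show a = Additive.ofMul (QuotientGroup.mk y) from hy.symm ▸ rfl]
          refine (π_mk 1 y).trans ?_
          show _ = Additive.ofMul (QuotientGroup.mk y)
          congr 2
          exact Subtype.ext (by simp [conjHom])
        map_mul' := fun g h => AddMonoidHom.ext fun a => by
          obtain ⟨y, hy⟩ := QuotientGroup.mk_surjective a.toMul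
          rw [show a = Additive.ofMul (QuotientGroup.mk y) from hy.symm ▸ rfl]
          show π₀ (g * h) _ = π₀ g (π₀ h _)
          rw [π_mk, π_mk, π_mk]
          congr 2
          exact Subtype.ext (by simp [conjHom, mul_assoc]) }
    let ρ : V →* AddMonoid.End (Additive (Q₁ ⧸ Z)) := π.comp (inclusion le_sup_left)
    let s : AddMonoid.End (Additive (Q₁ ⧸ Z)) := π (inclusion le_sup_right w)
    -- the pairing
    have hcm : ∀ a b z : Q₁, z ∈ Z → ⁅a * z, b⁆ = ⁅a, b⁆ ∧ ⁅a, b * z⁆ = ⁅a, b⁆ := fun a b z hz => by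
      have h1 : ∀ t : Q₁, ⁅z, t⁆ = 1 ∧ ⁅t, z⁆ = 1 := fun t =>
        ⟨commutatorElement_eq_one_iff_mul_comm.mpr (mem_center_iff.mp hz t).symm,
          commutatorElement_eq_one_iff_mul_comm.mpr (mem_center_iff.mp hz t)⟩
      constructor
      · rw [commutatorElement_mul_left_eq_conj_mul, (h1 b).1]; group
      · rw [commutatorElement_mul_right_eq_mul_conj, (h1 a).2]; group
    have hml : ∀ a a' b : Q₁, ⁅a * a', b⁆ = ⁅a, b⁆ * ⁅a', b⁆ := fun a a' b => by
      rw [commutatorElement_mul_left_eq_conj_mul, mem_center_iff.mp (hc2 a' b) a, mul_inv_cancel_right,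
        ← mem_center_iff.mp (hc2 a' b) ⁅a, b⁆]
    have hanti : ∀ a b : Q₁, ⁅b, a⁆ = ⁅a, b⁆⁻¹ := fun a b => (commutatorElement_inv a b).symm
    have hmr : ∀ a b b' : Q₁, ⁅a, b * b'⁆ = ⁅a, b⁆ * ⁅a, b'⁆ := fun a b b' => by
      rw [hanti (b * b') a, hml, mul_inv_rev, ← hanti b' a, ← hanti b a]
      exact (mem_center_iff.mp (hc2 a b') _).symm
    let zcomm : CommGroup Z :=
      { (inferInstance : Group Z) with mul_comm := fun a b => Subtype.ext (mem_center_iff.mp b.2 a) }
    let c₁ : Q₁ → (Q₁ ⧸ Z →* Z) := fun a => QuotientGroup.lift Z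
      { toFun := fun b => (⟨⁅a, b⁆, hc2 a b⟩ : Z)
        map_one' := Subtype.ext (commutatorElement_one_right a)
        map_mul' := fun b b' => Subtype.ext (hmr a b b') }
      (fun b hb => Subtype.ext (commutatorElement_eq_one_iff_mul_comm.mpr (mem_center_iff.mp hb a)))
    have c₁_mk : ∀ a b : Q₁, ((c₁ a (QuotientGroup.mk b) : Z) : Q₁) = ⁅a, b⁆ := fun a b => rfl
    let c₂ : Q₁ ⧸ Z →* (Q₁ ⧸ Z →* Z) := QuotientGroup.lift Z
      { toFun := c₁
        map_one' := MonoidHom.ext fun b => by
          obtain ⟨b, rfl⟩ := QuotientGroup.mk_surjective b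
          exact Subtype.ext (by rw [c₁_mk]; exact commutatorElement_one_left b)
        map_mul' := fun a a' => MonoidHom.ext fun b => by
          obtain ⟨b, rfl⟩ := QuotientGroup.mk_surjective b
          refine Subtype.ext ?_
          rw [c₁_mk]
          exact hml a a' b }
      (fun z hz => MonoidHom.ext fun b => by
        obtain ⟨b, rfl⟩ := QuotientGroup.mk_surjective b
        refine Subtype.ext ?_
        show ⁅z, b⁆ = 1
        exact commutatorElement_eq_one_iff_mul_comm.mpr (mem_center_iff.mp hz b).symm)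
    let c : Additive (Q₁ ⧸ Z) →+ Additive (Q₁ ⧸ Z) →+ Additive Z :=
      { toFun := fun a => MonoidHom.toAdditive (c₂ a.toMul)
        map_zero' := by ext b; simp
        map_add' := fun a a' => by ext b; simp }
    have c_mk : ∀ a b : Q₁, (((c (Additive.ofMul (QuotientGroup.mk a)) (Additive.ofMul (QuotientGroup.mk b))).toMul : Z) : Q₁)
        = ⁅a, b⁆ := fun a b => rfl
    have hout : ∀ a : Additive (Q₁ ⧸ Z), ∃ y : Q₁, a = Additive.ofMul (QuotientGroup.mk y) := fun a => by
      obtain ⟨y, hy⟩ := QuotientGroup.mk_surjective a.toMul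
      exact ⟨y, hy.symm ▸ rfl⟩
    have hcj : ∀ (g : ↥(V ⊔ W)) (a b : Q₁),
        ⁅conjHom Q₁ g (hVW g) a, conjHom Q₁ g (hVW g) b⁆ = conjHom Q₁ g (hVW g) ⁅a, b⁆ :=
      fun g a b => (map_commutatorElement _ a b).symm
    have hsub : Subsingleton (Additive (Q₁ ⧸ Z)) := by
      refine SelfDual.subsingleton_of_alternating (q := q) ?_ ρ ?_ ?_ ?_ ?_ s (m := Nat.card W) ?_ ?_ ?_
        c ?_ ?_ ?_ ?_ (Additive.ofMul (QuotientGroup.mk ⟨x₁, K.X_le hx₁X⟩)) ?_ ?_ ?_
      · intro e
        have h1 : q ∣ Nat.card G := X.card_subgroup_dvd_card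
        rw [e] at h1
        exact Nat.not_even_iff_odd.mpr hodd (even_iff_two_dvd.mpr h1)
      · intro a b
        refine AddMonoidHom.ext fun x => ?_
        obtain ⟨y, rfl⟩ := hout x
        show ρ a (ρ b _) = ρ b (ρ a _)
        simp only [ρ, MonoidHom.comp_apply]
        change π₀ _ (π₀ _ _) = π₀ _ (π₀ _ _)
        rw [π_mk, π_mk, π_mk, π_mk]
        congr 2
        refine Subtype.ext ?_
        show (a : G) * (b * y * (b : G)⁻¹) * (a : G)⁻¹ = (b : G) * (a * y * (a : G)⁻¹) * (b : G)⁻¹
        have hy : (b : G) * (a * y * (a : G)⁻¹) * (b : G)⁻¹ ∈ 𝐐 := by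
          have hQn := typeP_sup_normalizes hP
          exact (mem_normalizer_iff.mp (hQn (mem_sup_left b.2)) _).mp
            ((mem_normalizer_iff.mp (hQn (mem_sup_left a.2)) _).mp (K.le y.2))
        have h2 := mem_centralizer_iff.mp
          (TypeP.U_derived_le hP (commutator_mem_commutator a.2 b.2)) _ hy
        calc (a : G) * (b * y * (b : G)⁻¹) * (a : G)⁻¹
            = ⁅(a : G), (b : G)⁆ * ((b : G) * (a * y * (a : G)⁻¹) * (b : G)⁻¹) * ⁅(a : G), (b : G)⁆⁻¹ := by
              rw [commutatorElement_def]; group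
          _ = _ := by rw [← h2, mul_inv_cancel_right]
      · obtain ⟨k, hk⟩ := K.pgroup.exists_card_eq
        refine (TypeP.coprime_H_U hP).symm.coprime_dvd_right ?_
        exact (dvd_of_eq rfl).trans (card_dvd_of_le (K.X_le.trans K.le))
      · intro a
        obtain ⟨y, rfl⟩ := hout a
        rw [← ofMul_pow, ← QuotientGroup.mk_pow, (QuotientGroup.eq_one_iff _).mpr (hpow y)]
        rfl
      · intro b hb
        have hb' : b.toMul * b.toMul = 1 := congrArg Additive.toMul hb
        have ho : orderOf b.toMul ∣ 2 := orderOf_dvd_of_pow_eq_one (by rw [pow_two]; exact hb')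
        have ho2 : orderOf b.toMul ∣ Nat.card G := by
          rw [← orderOf_coe, ← orderOf_coe]; exact orderOf_dvd_natCard _
        have hc' : Nat.Coprime 2 (Nat.card G) := hodd.coprime_two_left
        exact Additive.toMul.injective ((orderOf_eq_one_iff.mp (Nat.eq_one_of_dvd_coprimes hc' ho ho2) : b.toMul = 1))
      · exact hodd.of_dvd_nat W.card_subgroup_dvd_card
      · show π _ ^ _ = 1
        rw [← map_pow, ← map_pow, pow_card_eq_one', map_one, map_one]
      · intro v
        refine ⟨⟨(w : G) * v * (w : G)⁻¹, (mem_normalizer_iff.mp (hP.U_normal w.2) v).mp v.2⟩, ?_⟩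
        show π _ * π _ = π _ * π _
        rw [← map_mul, ← map_mul]
        congr 1
        exact Subtype.ext (by simp [mul_assoc])
      · intro x y
        obtain ⟨a, rfl⟩ := hout x
        obtain ⟨b, rfl⟩ := hout y
        apply Additive.toMul.injective
        refine Subtype.ext ?_
        rw [toMul_neg, Subgroup.coe_inv, c_mk, c_mk]
        exact hanti a b
      · intro z hz
        obtain ⟨b, rfl⟩ := hout z
        have : b ∈ Z := mem_center_iff.mpr fun a => commutatorElement_eq_one_iff_mul_comm.mp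
          (congrArg (fun t : Additive Z => ((t.toMul : Z) : Q₁)) (hz (Additive.ofMul (QuotientGroup.mk a))))
        rw [(QuotientGroup.eq_one_iff b).mpr this]; rfl
      · intro v x y
        obtain ⟨a, rfl⟩ := hout x
        obtain ⟨b, rfl⟩ := hout y
        apply Additive.toMul.injective
        refine Subtype.ext ?_
        show (((c (π₀ _ _) (π₀ _ _)).toMul : Z) : Q₁) = _
        rw [π_mk, π_mk, c_mk, c_mk, hcj]
        refine Subtype.ext ?_
        show (v : G) * (⁅a, b⁆ : Q₁) * (v : G)⁻¹ = (⁅a, b⁆ : Q₁)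
        rw [mem_centralizer_iff.mp (hZV ⟨_, hc2 a b, rfl⟩ : ((⁅a, b⁆ : Q₁) : G) ∈ centralizer (V : Set G)) v v.2,
          mul_inv_cancel_right]
      · intro x y z u h
        obtain ⟨a, rfl⟩ := hout x
        obtain ⟨b, rfl⟩ := hout y
        obtain ⟨a', rfl⟩ := hout z
        obtain ⟨b', rfl⟩ := hout u
        have h' : ⁅a, b⁆ = ⁅a', b'⁆ := by
          have := congrArg (fun t : Additive Z => ((t.toMul : Z) : Q₁)) h
          simpa only [c_mk] using this
        apply Additive.toMul.injective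
        refine Subtype.ext ?_
        show (((c (π₀ _ _) (π₀ _ _)).toMul : Z) : Q₁) = (((c (π₀ _ _) (π₀ _ _)).toMul : Z) : Q₁)
        rw [π_mk, π_mk, π_mk, π_mk, c_mk, c_mk, hcj, hcj, h']
      · show π₀ _ _ = _
        rw [π_mk]
        congr 2
        refine Subtype.ext ?_
        show (w : G) * x₁ * (w : G)⁻¹ = x₁
        rw [hP.selfNormalizing.2.2.2.1 w w.2 x₁ hx₁X, mul_inv_cancel_right]
      · intro a ha
        obtain ⟨y, rfl⟩ := hout a
        have hstab : ∀ g : W, π (inclusion le_sup_right g) (Additive.ofMul (QuotientGroup.mk y))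
            = Additive.ofMul (QuotientGroup.mk y) := by
          let St : Subgroup W :=
            { carrier := {g | π (inclusion le_sup_right g) (Additive.ofMul (QuotientGroup.mk y))
                = Additive.ofMul (QuotientGroup.mk y)}
              one_mem' := by simp [map_one]
              mul_mem' := fun {g h} hg hh => by
                show π (inclusion le_sup_right (g * h)) _ = _
                rw [map_mul, map_mul]
                show π _ (π _ _) = _
                rw [hh]; exact hg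
              inv_mem' := fun {g} hg => by
                show π (inclusion le_sup_right g⁻¹) _ = _
                conv_lhs => rw [← hg]
                show (π (inclusion le_sup_right g⁻¹) * π (inclusion le_sup_right g)) _ = _
                rw [← map_mul, ← map_mul, inv_mul_cancel, map_one, map_one]; rfl }
          intro g
          have hle : zpowers w ≤ St := zpowers_le.mpr ha
          exact hle (hwgen g)
        obtain ⟨n, hn, hyn⟩ := Core.exists_centralizing_in_coset (A := W) (N := Z.map Q₁.subtype) (k := (y : G))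
          (le_sup_right.trans (le_sup_right.trans (hchar Z inferInstance)))
          ((((TypeP.coprime_W₁_derived hP).coprime_dvd_right
            (card_dvd_of_le (((map_subtype_le Z).trans K.le).trans hP.U_compl.1)))))
          (Or.inl (have := hP.W₁_cyclic; have := IsCyclic.isMulCommutative (α := W);
            isSolvable_of_comm (fun a b => this.is_comm.comm a b)))
          (fun g hg => by
            have h1 := hstab ⟨g, hg⟩
            change π₀ _ _ = _ at h1
            rw [π_mk] at h1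
            have h2 : (QuotientGroup.mk (conjHom Q₁ g (hVW ⟨g, mem_sup_right hg⟩) y) : Q₁ ⧸ Z) = QuotientGroup.mk y :=
              h1
            exact ⟨_, (QuotientGroup.eq.mp h2.symm), rfl⟩)
        obtain ⟨n', hn', rfl⟩ := hn
        have hyX : (y : G) * n' ∈ X := ((typeP_inf_W hP K.le).le
          (mem_inf.mpr ⟨mul_mem y.2 n'.2, hyn⟩)).2
        have hgenX : X = zpowers x₁ := by
          refine (eq_of_le_of_card_ge (zpowers_le.mpr hx₁X) ?_).symm
          rw [Nat.card_zpowers, orderOf_eq_prime (orderOf_dvd_iff_pow_eq_one.mp (X.orderOf_dvd_natCard hx₁X)) hx₁1]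
        obtain ⟨i, hi⟩ := mem_zpowers_iff.mp (hgenX ▸ hyX)
        refine ⟨i, ?_⟩
        rw [← ofMul_zpow, ← QuotientGroup.mk_zpow]
        congr 1
        rw [QuotientGroup.eq]
        have : y⁻¹ * (⟨x₁, K.X_le hx₁X⟩ : Q₁) ^ i = n' := Subtype.ext (by simp [hi])
        rw [this]; exact hn'
      · set A' := AddSubgroup.closure (Set.range fun v : V => ρ v (Additive.ofMul (QuotientGroup.mk ⟨x₁, K.X_le hx₁X⟩)))
          with hA'
        have hstab : ∀ g : ↥(V ⊔ W), ∀ a ∈ A', π g a ∈ A' := by
          let St : Subgroup ↥(V ⊔ W) :=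
            { carrier := {g | ∀ a ∈ A', π g a ∈ A'}
              one_mem' := fun a ha => by rw [map_one]; exact ha
              mul_mem' := fun {g h} hg hh a ha => by
                rw [map_mul]; exact hg _ (hh a ha)
              inv_mem' := fun {g} hg a ha => by
                have : Finite A' := inferInstance
                let f : A' → A' := fun a => ⟨π g a, hg a a.2⟩
                have hf : Function.Injective f := fun u v e => by
                  have e' : π g u = π g v := congrArg Subtype.val e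
                  have := congrArg (π g⁻¹) e'
                  change (π g⁻¹ * π g) _ = (π g⁻¹ * π g) _ at this
                  rw [← map_mul, inv_mul_cancel, map_one] at this
                  exact Subtype.ext this
                obtain ⟨⟨u, hu⟩, hfu⟩ := (Finite.injective_iff_surjective.mp hf) ⟨a, ha⟩
                have e : π g u = a := congrArg Subtype.val hfu
                rw [← e]
                show (π g⁻¹ * π g) u ∈ A'
                rw [← map_mul, inv_mul_cancel, map_one]
                exact hu }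
          have hV' : V.subgroupOf (V ⊔ W) ≤ St := by
            intro g hg a ha
            induction ha using AddSubgroup.closure_induction with
            | mem a ha =>
              obtain ⟨v, rfl⟩ := ha
              refine AddSubgroup.subset_closure ⟨⟨g, mem_subgroupOf.mp hg⟩ * v, ?_⟩
              show π _ _ = π g (π _ _)
              change _ = (π g * π _) _
              rw [← map_mul]
              rfl
            | zero => rw [map_zero]; exact zero_mem _
            | add _ _ _ _ h1 h2 => rw [map_add]; exact add_mem h1 h2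
            | neg _ _ h1 => rw [map_neg]; exact neg_mem h1
          have hW' : W.subgroupOf (V ⊔ W) ≤ St := by
            intro g hg a ha
            induction ha using AddSubgroup.closure_induction with
            | mem a ha =>
              obtain ⟨v, rfl⟩ := ha
              refine AddSubgroup.subset_closure ⟨⟨(g : G) * v * (g : G)⁻¹,
                (mem_normalizer_iff.mp (hP.U_normal (mem_subgroupOf.mp hg)) v).mp v.2⟩, ?_⟩
              show π₀ _ _ = π g (π₀ _ _)
              change _ = π₀ g _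
              rw [π_mk, π_mk]
              show _ = π₀ g (Additive.ofMul _)
              rw [π_mk]
              congr 2
              refine Subtype.ext ?_
              show (g : G) * v * (g : G)⁻¹ * x₁ * ((g : G) * v * (g : G)⁻¹)⁻¹ =
                (g : G) * (v * x₁ * (v : G)⁻¹) * (g : G)⁻¹
              have h3 : (g : G) * x₁ = x₁ * g := hP.selfNormalizing.2.2.2.1 g (mem_subgroupOf.mp hg) x₁ hx₁X
              have h4 : (g : G)⁻¹ * x₁ * g = x₁ := by rw [mul_assoc, ← h3, ← mul_assoc, inv_mul_cancel, one_mul]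
              calc (g : G) * v * (g : G)⁻¹ * x₁ * ((g : G) * v * (g : G)⁻¹)⁻¹
                  = (g : G) * v * ((g : G)⁻¹ * x₁ * g) * (v : G)⁻¹ * (g : G)⁻¹ := by group
                _ = _ := by rw [h4]; group
            | zero => rw [map_zero]; exact zero_mem _
            | add _ _ _ _ h1 h2 => rw [map_add]; exact add_mem h1 h2
            | neg _ _ h1 => rw [map_neg]; exact neg_mem h1
          intro g
          refine (?_ : (⊤ : Subgroup ↥(V ⊔ W)) ≤ St) (mem_top g)
          rw [← subgroupOf_self (V ⊔ W), subgroupOf_sup le_sup_left le_sup_right]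
          exact sup_le hV' hW'
        let N : Subgroup Q₁ :=
          { carrier := {y | Additive.ofMul (QuotientGroup.mk y : Q₁ ⧸ Z) ∈ A'}
            one_mem' := A'.zero_mem
            mul_mem' := fun {a b} ha hb => A'.add_mem ha hb
            inv_mem' := fun {a} ha => A'.neg_mem ha }
        have hNtop : N = ⊤ := by
          refine big N (fun z hz => ?_) (fun g y hy => hstab g _ hy) ⟨x₁, hx₁X, K.X_le hx₁X, hx₁1, ?_⟩
          · show Additive.ofMul (QuotientGroup.mk z : Q₁ ⧸ Z) ∈ A'
            rw [(QuotientGroup.eq_one_iff z).mpr hz]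
            exact A'.zero_mem
          · show _ ∈ A'
            refine AddSubgroup.subset_closure ⟨1, ?_⟩
            show (ρ 1) _ = _
            rw [map_one]; rfl
        refine eq_top_iff.mpr fun a _ => ?_
        obtain ⟨y, rfl⟩ := hout a
        exact (hNtop ▸ mem_top y : y ∈ N)
    refine hZtop (eq_top_iff.mpr fun y _ => (QuotientGroup.eq_one_iff y).mp ?_)
    exact Additive.ofMul.injective (Subsingleton.elim _ _)
  -- consequences
  have hVn : V ≤ normalizer (Q₁ : Set G) := le_sup_left.trans hnQ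
  have hdis : Q₁ ⊓ kernelZero T V = ⊥ := by
    have h1 := Core.abelian_inf_eq_bot hVn ((TypeP.coprime_H_U hP).symm.coprime_dvd_right (card_dvd_of_le K.le))
    rw [K.comm] at h1
    refine le_bot_iff.mp (le_trans ?_ h1.le)
    exact le_inf (le_inf inf_le_left (inf_le_right.trans inf_le_right)) inf_le_left
  have hcard : Nat.card Q₁ = q ^ Nat.card W := by
    have h1 := typeP_card hP hV hq K.le hnQ
    rw [inf_eq_right.mpr K.X_le] at h1
    have h2 : Q₁ ⊓ centralizer (V : Set G) = ⊥ :=
      le_bot_iff.mp ((le_inf inf_le_left (le_inf (inf_le_left.trans K.le) inf_le_right)).trans hdis.le)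
    rwa [h2, card_bot, mul_one] at h1
  refine ⟨⟨hab, fun x hx => ?_⟩, hcard, K.X_le, K.sup, hdis, K.commute,
    le_bot_iff.mp ((le_inf ((inf_le_inf_right _ inf_le_left).trans
      ((typeP_inf_W hP le_rfl).le.trans inf_le_right)) (inf_le_left.trans inf_le_right)).trans hfix0.le)⟩
  let Ω : Subgroup G :=
    { carrier := {y | y ∈ Q₁ ∧ y ^ q = 1}
      one_mem' := ⟨one_mem _, one_pow _⟩
      mul_mem' := fun {a b} ha hb => ⟨mul_mem ha.1 hb.1, by
        have h : Commute a b := congrArg Subtype.val (hab.is_comm.comm ⟨a, ha.1⟩ ⟨b, hb.1⟩)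
        rw [h.mul_pow, ha.2, hb.2, one_mul]⟩
      inv_mem' := fun {a} ha => ⟨inv_mem ha.1, by rw [inv_pow, ha.2, inv_one]⟩ }
  have hΩn : ∀ g ∈ normalizer (Q₁ : Set G), g ∈ normalizer (Ω : Set G) := fun g hg => by
    refine Transfer.map_conj_eq_self_iff.mp (eq_of_le_of_card_ge ?_ (Transfer.card_map_conj g _).ge)
    rintro _ ⟨y, hy, rfl⟩
    exact ⟨(mem_normalizer_iff.mp hg y).mp hy.1, by
      show (g * y * g⁻¹) ^ q = 1
      rw [conj_pow, hy.2, mul_one, mul_inv_cancel]⟩
  by_contra hne
  have hΩ : Ω ≤ centralizer (V : Set G) := K.invariant Ω (fun y hy => hy.1)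
    (fun g hg => hΩn g (le_normalizer hg)) (fun g hg => hΩn g (hnQ hg))
    (fun e => hne (e.ge hx).2)
  obtain ⟨x₁, hx₁X, hx₁1⟩ := X.bot_or_exists_ne_one.resolve_left hP.selfNormalizing.2.1
  exact hx₁1 (mem_bot.mp (hfix0.le ⟨hx₁X, hΩ ⟨K.X_le hx₁X,
    orderOf_dvd_iff_pow_eq_one.mp (X.orderOf_dvd_natCard hx₁X)⟩⟩))

end CfsgLib.OddLocal.Final
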