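import Cfsg.Agent.Lib.OddLocal.Final.TypeThreeChars

/-!
Owner: helper12. The interface between Step III-a and the assembly of the branch with a subgroup of type III
or IV: what Step III-a proves of such a side (in the orientation where `c.S` is the type III/IV subgroup).
-/

set_option autoImplicit false

open scoped commutatorElement

namespace CfsgLib.OddLocal.FTFinal

open Subgroup
open CfsgLib.OddLocal.Final (kernelZero)

variable {G : Type*} [Group G] [Fintype G]

namespace Config

/-- The shape of a side of type III or IV after Step III-a. -/
structure ThreeShape (c : Config G) : Prop where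
  lt : c.p < c.q
  zero_bot : kernelZero c.S c.U = ⊥
  centU_derived : c.centU = ⁅c.U, c.U⁆
  pattern : ∀ ξ : c.der →* ℂˣ, ξ ≠ 1 → ∀ (l : c.W₁ →* ℂˣ) (k : c.W₂ →* ℂˣ) [Decidable (l = 1)],
    c.coef (ind c.der 1 ξ) l k = if l = 1 then 1 else 0

end Config

end CfsgLib.OddLocal.FTFinal
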