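import Cfsg.Agent.Lib.OddLocal.Final.SideThree
import Cfsg.Agent.Lib.Char.Exceptional.Coherence
import Cfsg.Agent.Lib.OddLocal.Final.DerivedIndex
import Mathlib.GroupTheory.Abelianization.Finite

/-!
Owner: helper27. Step III-a of the FT blueprint, first half: the linear characters `ξ` of `S'` for `S` of
type III or IV (free for `W₁`), the two possible patterns of the coefficients of `Ind (1 − ξ)` at the
members of the family, and the orthonormal family `X ξ` with `Ind (ξ − ξ') = X ξ − X ξ'`.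
-/

set_option autoImplicit false
set_option linter.unusedSectionVars false

open scoped commutatorElement

namespace CfsgLib.OddLocal.FTFinal

open Subgroup
open CfsgLib.Char CfsgLib.CyclicTI CfsgLib.TwoGroups
open Cfsg (classInner IsClassFunction IsGeneralizedCharacter indFun conjFun)

variable {G : Type*} [Group G] [Fintype G]

/-- Inducing a function of a subgroup gives zero off its conjugates, outside the identity. -/
theorem indFun_eq_zero_off' {F : Subgroup G} (φ : F → ℂ) {g : G} (hg1 : g ≠ 1) (hg : g ∉ conjSharp F) :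
    indFun F φ g = 0 := by
  simp only [Cfsg.indFun]
  rw [Finset.sum_eq_zero, mul_zero]
  intro x _
  refine extendByZero_of_notMem _ _ fun hx => hg ⟨x, _, hx, fun h1 => hg1 ?_, by group⟩
  calc g = x * (x⁻¹ * g * x) * x⁻¹ := by group
    _ = 1 := by rw [h1]; group

/-- An exponent congruent to one modulo `|F|` fixes the linear characters. -/
theorem hom_pow_eq_self {F : Subgroup G} {n : ℕ} (h1 : n ≡ 1 [MOD Nat.card F]) (a : F →* ℂˣ) :
    a ^ n = a := MonoidHom.ext fun f => by
  rw [MonoidHom.pow_apply, ← map_pow]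
  congr 1
  conv_rhs => rw [← pow_one f]
  exact pow_eq_pow_iff_modEq.mpr (h1.of_dvd (orderOf_dvd_natCard f))

/-- The principal coefficient of the difference of two non-principal characters. -/
theorem inner_ind_const {F : Subgroup G} {a b : F →* ℂˣ} (ha : a ≠ 1) (hb : b ≠ 1) :
    classInner (ind F a b) (fun _ => 1) = 0 := by
  classical
  have := Fintype.ofFinite F
  rw [ind, frobenius_reciprocity _ _ (fun _ _ => rfl)]
  rw [show linDiff a b = (fun f => (a f : ℂ)) - fun f => (b f : ℂ) from rfl,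
    show (fun _ : F => (1 : ℂ)) = (fun f => (((1 : F →* ℂˣ) f : ℂˣ) : ℂ)) from funext fun f => by simp,
    classInner_sub_left, inner_linear, inner_linear, if_neg ha, if_neg hb, sub_zero]

namespace Config

variable {c : Config G}

/-- `S'`. -/
abbrev der (c : Config G) : Subgroup G := ⁅c.S, c.S⁆

namespace IsThree

variable (h : c.IsThree)
include h

theorem W₁_norm_der : c.W₁ ≤ normalizer (c.der : Set G) :=
  c.S_typeP.W₁_compl.2.1.trans h.isSide.normal

/-- A linear character of `S'` fixed by an element of `W₁#` is trivial. -/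
theorem eq_one_of_fixed {ξ : c.der →* ℂˣ} {w : G} (hw : w ∈ c.W₁) (hw1 : w ≠ 1)
    (hfix : ∀ f f' : c.der, (f' : G) = w * f * w⁻¹ → ξ f' = ξ f) : ξ = 1 := by
  classical
  have := Fact.mk h.q_prime
  have hgen : c.W₁ = zpowers w := by
    refine (eq_of_le_of_card_ge (zpowers_le.mpr hw) ?_).symm
    rw [Nat.card_zpowers, orderOf_eq_prime (p := c.q)
      (orderOf_dvd_iff_pow_eq_one.mp (c.W₁.orderOf_dvd_natCard hw)) hw1, q]
  have hN2 : c.W₁ ≤ normalizer ((⁅c.der, c.der⁆ : Subgroup G) : Set G) := fun g hg =>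
    Transfer.map_conj_eq_self_iff.mp (by
      rw [map_commutator, Transfer.map_conj_eq_self_iff.mpr (h.W₁_norm_der hg)])
  let σ : c.der →* c.der := Final.conjHom c.der w (h.W₁_norm_der hw)
  let f : Abelianization c.der →* Abelianization c.der :=
    { toFun := fun a => Abelianization.map σ a * a⁻¹
      map_one' := by simp
      map_mul' := fun a b => by rw [map_mul, mul_inv, mul_mul_mul_comm] }
  have hf : Function.Injective f := by
    refine (injective_iff_map_eq_one f).mpr fun a ha => ?_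
    obtain ⟨x, rfl⟩ : ∃ x, Abelianization.of x = a := QuotientGroup.mk_surjective a
    have h1 : Abelianization.of (σ x) = Abelianization.of x := by
      have h2 : Abelianization.map σ (Abelianization.of x) * (Abelianization.of x)⁻¹ = 1 := ha
      rwa [Abelianization.map_of, mul_inv_eq_one] at h2
    have hx : (x : G)⁻¹ * (w * x * w⁻¹) ∈ ⁅c.der, c.der⁆ := by
      rw [← map_subtype_commutator]
      exact ⟨x⁻¹ * σ x, QuotientGroup.eq.mp h1.symm, rfl⟩
    have hall : ∀ v ∈ c.W₁, (x : G)⁻¹ * (v * x * v⁻¹) ∈ ⁅c.der, c.der⁆ := by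
      intro v hv
      rw [hgen] at hv
      obtain ⟨n, rfl⟩ := (mem_powers_iff_mem_zpowers (G := G)).mpr hv
      dsimp only
      induction n with
      | zero => simp
      | succ n ih =>
        rw [show (x : G)⁻¹ * (w ^ (n + 1) * x * (w ^ (n + 1))⁻¹) = ((x : G)⁻¹ * (w ^ n * x * (w ^ n)⁻¹)) *
          (w ^ n * ((x : G)⁻¹ * (w * x * w⁻¹)) * (w ^ n)⁻¹) by rw [pow_succ]; group]
        exact mul_mem (ih (hgen ▸ npow_mem_zpowers w n))
          ((mem_normalizer_iff.mp (hN2 (pow_mem hw n)) _).mp hx)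
    have : IsCyclic c.W₁ := c.S_typeP.W₁_cyclic
    obtain ⟨n, hn, hc⟩ := Core.exists_centralizing_in_coset hN2
      (h.coprime_derived.coprime_dvd_right (card_dvd_of_le (commutator_le_self _)))
      (Or.inl (Group.isSolvable_of_comm fun a b => IsCyclic.commGroup.mul_comm a b)) hall
    have hxn : (x : G) * n ∈ c.W₂ := (h.fix_derived hw hw1).le
      (mem_inf.mpr ⟨mul_mem x.2 (commutator_le_self _ hn),
        mem_centralizer_singleton_iff.mpr (mem_centralizer_iff.mp hc w hw).symm⟩)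
    have hx2 : (x : G) ∈ ⁅c.der, c.der⁆ := by
      have h3 : (x : G) * n ∈ ⁅c.der, c.der⁆ := (c.S_typeP.W₂_le hxn).2
      simpa using mul_mem h3 (inv_mem hn)
    rw [← map_subtype_commutator] at hx2
    obtain ⟨y, hy, e⟩ := hx2
    rw [show y = x from Subtype.ext e] at hy
    exact (QuotientGroup.eq_one_iff x).mpr hy
  refine MonoidHom.ext fun x => ?_
  obtain ⟨a, ha⟩ := (Finite.injective_iff_surjective.mp hf) (Abelianization.of x)
  obtain ⟨y, rfl⟩ : ∃ y, Abelianization.of y = a := QuotientGroup.mk_surjective a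
  have h2 : Abelianization.of (σ y * y⁻¹) = Abelianization.of x := by
    rw [map_mul, map_inv]; simpa [f] using ha
  have h3 := congrArg (Abelianization.lift ξ) h2
  simp only [Abelianization.lift_apply_of] at h3
  rw [← h3, map_mul, map_inv, hfix y (σ y) rfl, mul_inv_cancel, MonoidHom.one_apply]

/-- The stabiliser of a non-principal linear character of `S'` is `S'`. -/
theorem stab_xi {ξ : c.der →* ℂˣ} (hξ : ξ ≠ 1) {x : c.S}
    (e : ξ = FTFinal.conjHom h.tiDerived x ξ) : (x : G) ∈ c.der := by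
  obtain ⟨m, hm, w, hw, hx⟩ := c.S_typeP.W₁_compl.2.2.2 x x.2
  rw [hx]
  by_cases hw1 : w = 1
  · rw [hw1, mul_one]; exact hm
  refine absurd (h.eq_one_of_fixed hw hw1 fun f f' ef => ?_) hξ
  have hxe : x = ⟨m, commutator_le_self _ hm⟩ * ⟨w, c.S_typeP.W₁_compl.2.1 hw⟩ := Subtype.ext hx
  rw [hxe, FTFinal.conjHom_mul, FTFinal.conjHom_of_mem h.tiDerived _ hm] at e
  conv_lhs => rw [e]
  rw [FTFinal.conjHom_apply]
  congr 1
  exact Subtype.ext (by simp [ef, mul_assoc])

theorem card_S_der : Nat.card c.S = c.q * Nat.card c.der := by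
  rw [q, mul_comm, OddLocal.IsComplIn_card_mul c.S_typeP.W₁_compl]

theorem orb_one : orbCount h.tiDerived 1 1 = c.q := by
  rw [orbCount, Nat.card_congr (Equiv.subtypeUnivEquiv fun x => (FTFinal.conjHom_trivial h.tiDerived x).symm),
    h.card_S_der, Nat.cast_mul, mul_comm (c.q : ℝ), ← mul_assoc,
    inv_mul_cancel₀ (Nat.cast_ne_zero.mpr Nat.card_pos.ne'), one_mul]

theorem orb_zero {a b : c.der →* ℂˣ} (hab : ∀ x : c.S, a ≠ FTFinal.conjHom h.tiDerived x b) :
    orbCount h.tiDerived a b = 0 := by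
  have : IsEmpty {x : c.S // a = FTFinal.conjHom h.tiDerived x b} := ⟨fun x => hab x.1 x.2⟩
  rw [orbCount, Nat.card_of_isEmpty (α := {x : c.S // a = FTFinal.conjHom h.tiDerived x b}), Nat.cast_zero,
    mul_zero]

theorem orb_self {ξ : c.der →* ℂˣ} (hξ : ξ ≠ 1) : orbCount h.tiDerived ξ ξ = 1 := by
  rw [orbCount, show Nat.card {x : c.S // ξ = FTFinal.conjHom h.tiDerived x ξ} = Nat.card c.der from
    Nat.card_congr
      { toFun := fun x => ⟨(x.1 : G), h.stab_xi hξ x.2⟩
        invFun := fun f => ⟨⟨f, commutator_le_self _ f.2⟩,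
          (FTFinal.conjHom_of_mem h.tiDerived _ f.2 ξ).symm⟩
        left_inv := fun x => rfl
        right_inv := fun f => rfl },
    inv_mul_cancel₀ (Nat.cast_ne_zero.mpr Nat.card_pos.ne')]

open scoped Classical in
theorem orb_eq (a : c.der →* ℂˣ) {b : c.der →* ℂˣ} (hb : b ≠ 1) :
    orbCount h.tiDerived a b = if ∃ x : c.S, a = FTFinal.conjHom h.tiDerived x b then 1 else 0 := by
  split_ifs with hx
  · obtain ⟨x, rfl⟩ := hx
    rw [orbCount_symm, orbCount_conj_right, h.orb_self hb]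
  · exact h.orb_zero fun x e => hx ⟨x, e⟩

theorem ne_one_conj {a b : c.der →* ℂˣ} (ha : a ≠ 1) {x : c.S}
    (e : a = FTFinal.conjHom h.tiDerived x b) : b ≠ 1 := by
  rintro rfl
  exact ha (e.trans (FTFinal.conjHom_trivial h.tiDerived x))

theorem orb_one_left {ξ : c.der →* ℂˣ} (hξ : ξ ≠ 1) : orbCount h.tiDerived ξ 1 = 0 :=
  h.orb_zero fun x e => hξ (e.trans (FTFinal.conjHom_trivial h.tiDerived x))

theorem orb_one_right {ξ : c.der →* ℂˣ} (hξ : ξ ≠ 1) : orbCount h.tiDerived 1 ξ = 0 := by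
  rw [orbCount_symm, h.orb_one_left hξ]

theorem inner_G1 {a b : c.der →* ℂˣ} (ha : a ≠ 1) (hb : b ≠ 1) :
    classInner (ind c.der 1 a) (ind c.der 1 b) = (((c.q : ℝ) + orbCount h.tiDerived a b : ℝ) : ℂ) := by
  rw [inner_ind_orbCount h.tiDerived, h.orb_one, h.orb_one_left ha, h.orb_one_right hb, sub_zero, sub_zero]

/-- A non-principal character is not conjugate to its inverse. -/
theorem not_conj_inv {ξ : c.der →* ℂˣ} (hξ : ξ ≠ 1) (x : c.S) :
    ξ ≠ FTFinal.conjHom h.tiDerived x ξ⁻¹ := by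
  intro e
  have e2 : ξ = FTFinal.conjHom h.tiDerived (x * x) ξ := by
    conv_lhs => rw [e]
    rw [FTFinal.conjHom_mul]
    congr 1
    rw [FTFinal.conjHom_map_inv] at e
    conv_lhs => rw [e, hom_inv_inv]
  have hx2 : (x : G) * x ∈ c.der := h.stab_xi hξ e2
  have hsq : ∀ {A : Subgroup G} (a : A), a * a = 1 → a = 1 := fun {A} a ha => by
    have hd : orderOf a ∣ 2 := orderOf_dvd_of_pow_eq_one (by rw [pow_two, ha])
    have hodd : Odd (orderOf a) :=
      (c.minimal.1.of_dvd_nat A.card_subgroup_dvd_card).of_dvd_nat (orderOf_dvd_natCard a)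
    rcases (Nat.dvd_prime Nat.prime_two).mp hd with h1 | h1
    · exact orderOf_eq_one_iff.mp h1
    · rw [h1] at hodd; exact absurd hodd (by decide)
  have hx : (x : G) ∈ c.der := by
    obtain ⟨j, hj⟩ : Odd (orderOf (x : G)) := c.minimal.1.of_dvd_nat (orderOf_dvd_natCard _)
    have hp : (x : G) * ((x : G) * x) ^ j = 1 := by
      rw [← pow_two, ← pow_mul, ← pow_succ', ← hj, pow_orderOf_eq_one]
    rw [eq_inv_of_mul_eq_one_left hp]
    exact inv_mem (pow_mem hx2 j)
  rw [FTFinal.conjHom_of_mem h.tiDerived _ hx] at e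
  refine hξ (MonoidHom.ext fun y => ?_)
  have h1 : ξ y * ξ y = 1 := by
    nth_rewrite 2 [e]
    exact mul_inv_cancel _
  have hord : orderOf (ξ y) ∣ 2 := orderOf_dvd_of_pow_eq_one (by rw [pow_two, h1])
  have hodd : Odd (orderOf (ξ y)) :=
    (c.minimal.1.of_dvd_nat (Subgroup.card_subgroup_dvd_card c.der)).of_dvd_nat
      (orderOf_dvd_of_pow_eq_one (by rw [← map_pow, pow_card_eq_one', map_one]))
  rcases (Nat.dvd_prime Nat.prime_two).mp hord with h2 | h2
  · exact orderOf_eq_one_iff.mp h2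
  · rw [h2] at hodd; exact absurd hodd (by decide)

theorem ind_What (a b : c.der →* ℂˣ) : ∀ g ∈ What c.W₁ c.W₂, ind c.der a b g = 0 := fun g hg =>
  ind_eq_zero_off a b (h.disj_derived g hg)

/-- Differences of non-principal characters are orthogonal to the family. -/
theorem coef_diff {a b : c.der →* ℂˣ} (ha : a ≠ 1) (hb : b ≠ 1) (l : c.W₁ →* ℂˣ) (k : c.W₂ →* ℂˣ) :
    c.coef (ind c.der a b) l k = 0 := by
  classical
  refine c.small_norm (ind_isGen a b) (h.ind_What a b) (inner_ind_const ha hb) ?_ l k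
  rw [inner_ind_orbCount h.tiDerived, Complex.ofReal_re, h.orb_self ha, h.orb_self hb]
  have hab : 0 ≤ orbCount h.tiDerived b a := by rw [orbCount]; positivity
  have hba : 0 ≤ orbCount h.tiDerived a b := by rw [orbCount]; positivity
  linarith

theorem coef_G1_eq {a b : c.der →* ℂˣ} (ha : a ≠ 1) (hb : b ≠ 1) (l : c.W₁ →* ℂˣ) (k : c.W₂ →* ℂˣ) :
    c.coef (ind c.der 1 a) l k = c.coef (ind c.der 1 b) l k := by
  rw [← ind_add 1 b a, coef, classInner_add_left]
  show c.coef _ l k + c.coef _ l k = c.coef _ l k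
  rw [h.coef_diff hb ha, add_zero]

theorem ind_galois {n : ℕ} (hn : n.Coprime (Nat.card G)) (h1 : n ≡ 1 [MOD Nat.card c.der])
    (a b : c.der →* ℂˣ) : (fun g => ind c.der a b (g ^ n)) = ind c.der a b := by
  rw [ind_apply_pow hn, hom_pow_eq_self h1, hom_pow_eq_self h1]

/-- The two patterns of the coefficients of `Ind (1 − ξ)`. -/
theorem pattern : (∀ ξ : c.der →* ℂˣ, ξ ≠ 1 → ∀ (l : c.W₁ →* ℂˣ) (k : c.W₂ →* ℂˣ)
      [Decidable (k = 1)], c.coef (ind c.der 1 ξ) l k = if k = 1 then 1 else 0) ∨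
    (c.p < c.q ∧ ∀ ξ : c.der →* ℂˣ, ξ ≠ 1 → ∀ (l : c.W₁ →* ℂˣ) (k : c.W₂ →* ℂˣ)
      [Decidable (l = 1)], c.coef (ind c.der 1 ξ) l k = if l = 1 then 1 else 0) := by
  classical
  by_cases hne : ∃ ξ : c.der →* ℂˣ, ξ ≠ 1
  swap
  · exact Or.inl fun ξ hξ => absurd ⟨ξ, hξ⟩ hne
  obtain ⟨ξ, hξ⟩ := hne
  have := CyclicTI.finite_hom c.W₁
  have := CyclicTI.finite_hom c.W₂
  have := Fintype.ofFinite (c.W₁ →* ℂˣ)
  have := Fintype.ofFinite (c.W₂ →* ℂˣ)
  set θ := ind c.der 1 ξ with hθ
  obtain ⟨C, hC⟩ := c.exists_icoef (ind_isGen (1 : c.der →* ℂˣ) ξ)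
  have h11 : C 1 1 = 1 := by
    have e := c.coef_one_one θ
    rw [hθ, hC, ind, frobenius_reciprocity _ _ (fun _ _ => rfl),
      show linDiff (1 : c.der →* ℂˣ) ξ = (fun f => (((1 : c.der →* ℂˣ) f : ℂˣ) : ℂ)) - fun f => (ξ f : ℂ)
        from rfl,
      show (fun _ : c.der => (1 : ℂ)) = (fun f => (((1 : c.der →* ℂˣ) f : ℂˣ) : ℂ)) from funext fun f => by simp,
      classInner_sub_left, inner_linear, inner_linear, if_pos rfl, if_neg hξ, sub_zero] at e
    exact_mod_cast e
  have hadd : ∀ l k, C l k = C l 1 + C 1 k - 1 := by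
    intro l k
    have e := c.coef_add (ind_isClassFunction _ _) (h.ind_What 1 ξ) l k
    rw [hC, hC, hC, hC, h11] at e
    exact_mod_cast e
  obtain ⟨l₀, hl₀⟩ := Fintype.exists_ne_of_one_lt_card
    (by rw [c.card_hom₁]; have := c.q_ge_three; omega : 1 < Fintype.card (c.W₁ →* ℂˣ)) 1
  have hA : ∀ l, l ≠ 1 → C l 1 = C l₀ 1 := by
    intro l hl
    have e := c.coef_axis₁ h.q_prime (Subgroup.card_subgroup_dvd_card c.der) h.coprime_derived
      (θ := θ) (fun n hn h1 l k => by rw [hθ, h.ind_galois hn h1]) hl₀ hl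
    rw [hθ, hC, hC] at e
    exact_mod_cast e
  set A := C l₀ 1
  have hBinv : ∀ k, C 1 k⁻¹ = C 1 k := by
    intro k
    have e := c.coef_conj (ind_isGen (1 : c.der →* ℂˣ) ξ) 1 k
    have hc : conjFun (ind c.der 1 ξ) = ind c.der 1 ξ⁻¹ := by
      rw [ind, Coh.conjFun_indFun]
      congr 1
      funext f
      simp only [conjFun, linDiff, map_sub, MonoidHom.one_apply, Units.val_one, map_one, MonoidHom.inv_apply,
        Units.val_inv_eq_inv_val]
      rw [Complex.inv_eq_conj (Complex.norm_eq_one_of_pow_eq_one (n := Nat.card c.der)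
        (by rw [← Units.val_pow_eq_pow_val, ← map_pow, pow_card_eq_one', map_one, Units.val_one])
        Nat.card_pos.ne')]
    have h1' : ((1 : c.W₁ →* ℂˣ))⁻¹ = 1 := MonoidHom.ext fun a => inv_one
    rw [hc, h.coef_G1_eq (hom_inv_ne_one hξ) hξ, hC, hC, h1'] at e
    exact_mod_cast e.symm
  have hnorm : classInner θ θ = ((c.q + 1 : ℕ) : ℂ) := by
    rw [hθ, h.inner_G1 hξ hξ, h.orb_self hξ]
    push_cast; ring
  have hb := c.bessel_eta θ
  rw [hnorm, Complex.natCast_re] at hb
  simp only [hθ, hC, Complex.normSq_intCast] at hb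
  have hZ : ∑ k, ∑ l, C l k * C l k ≤ (c.q : ℤ) + 1 := by
    rw [Finset.sum_comm]
    have : ((∑ l, ∑ k, C l k * C l k : ℤ) : ℝ) ≤ ((c.q + 1 : ℕ) : ℤ) := by push_cast at hb ⊢; linarith
    exact_mod_cast this
  have hcol : ∀ k, ∑ l, C l k * C l k = C 1 k * C 1 k + ((c.q : ℤ) - 1) * (A + C 1 k - 1) ^ 2 := by
    intro k
    rw [← Finset.add_sum_erase _ _ (Finset.mem_univ (1 : c.W₁ →* ℂˣ)),
      Finset.sum_congr rfl (g := fun _ => (A + C 1 k - 1) ^ 2) fun l hl => by
        rw [hadd l k, hA l (Finset.ne_of_mem_erase hl), pow_two],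
      Finset.sum_const, Finset.card_erase_of_mem (Finset.mem_univ _), Finset.card_univ, c.card_hom₁,
      nsmul_eq_mul, Nat.cast_sub h.q_prime.one_le, Nat.cast_one]
  rw [← Finset.add_sum_erase _ _ (Finset.mem_univ (1 : c.W₂ →* ℂˣ)), hcol 1, h11] at hZ
  simp only [add_sub_cancel_right, mul_one] at hZ
  have hq3 : (3 : ℤ) ≤ c.q := by exact_mod_cast c.q_ge_three
  set F : (c.W₂ →* ℂˣ) → ℤ := fun k => C 1 k * C 1 k + ((c.q : ℤ) - 1) * (A + C 1 k - 1) ^ 2 with hF
  rw [Finset.sum_congr rfl (g := F) fun k _ => hcol k] at hZ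
  have hF0 : ∀ k, 0 ≤ F k := fun k =>
    add_nonneg (mul_self_nonneg _) (mul_nonneg (by linarith) (sq_nonneg _))
  have hpair : ∀ k, k ≠ 1 → 2 * F k ≤ ∑ k ∈ Finset.univ.erase (1 : c.W₂ →* ℂˣ), F k := by
    intro k hk
    have hne' : k ≠ k⁻¹ := fun e => hk (by
      refine MonoidHom.ext fun a => ?_
      have h1 : k a * k a = 1 := by
        nth_rewrite 2 [e]; exact mul_inv_cancel _
      have hd : orderOf (k a) ∣ 2 := orderOf_dvd_of_pow_eq_one (by rw [pow_two, h1])
      have ho : Odd (orderOf (k a)) :=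
        (c.minimal.1.of_dvd_nat (Subgroup.card_subgroup_dvd_card c.W₂)).of_dvd_nat
          (orderOf_dvd_of_pow_eq_one (by rw [← map_pow, pow_card_eq_one', map_one]))
      rcases (Nat.dvd_prime Nat.prime_two).mp hd with h2 | h2
      · exact orderOf_eq_one_iff.mp h2
      · rw [h2] at ho; exact absurd ho (by decide))
    have he : F k⁻¹ = F k := by simp only [hF, hBinv k]
    rw [two_mul]
    nth_rewrite 2 [← he]
    exact Finset.add_le_sum (fun i _ => hF0 i) (Finset.mem_erase.mpr ⟨hk, Finset.mem_univ _⟩)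
      (Finset.mem_erase.mpr ⟨hom_inv_ne_one hk, Finset.mem_univ _⟩) hne'
  have hmain : ∀ η : c.der →* ℂˣ, η ≠ 1 → ∀ l k, c.coef (ind c.der 1 η) l k = (C l k : ℂ) := fun η hη l k =>
    (h.coef_G1_eq hη hξ l k).trans (hC l k)
  by_cases hA0 : A = 0
  · right
    have hB : ∀ k, k ≠ 1 → C 1 k = 1 := by
      intro k hk
      by_contra hB1
      have h1 := hpair k hk
      have h2 : (1 : ℤ) ≤ (A + C 1 k - 1) ^ 2 := by
        rw [hA0, zero_add, one_le_sq_iff_one_le_abs]
        exact Int.one_le_abs (sub_ne_zero.mpr hB1)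
      have h3 : ((c.q : ℤ) - 1) * 1 ≤ ((c.q : ℤ) - 1) * (A + C 1 k - 1) ^ 2 :=
        mul_le_mul_of_nonneg_left h2 (by linarith)
      have h4 : ((c.q : ℤ) - 1) ≤ F k := by
        rw [hF]; nlinarith [mul_self_nonneg (C 1 k)]
      rw [hA0] at hZ
      nlinarith
    have hlt : c.p < c.q := by
      have h5 : ∑ k ∈ Finset.univ.erase (1 : c.W₂ →* ℂˣ), F k = (c.p : ℤ) - 1 := by
        rw [Finset.sum_congr rfl (g := fun _ => (1 : ℤ)) fun k hk => by
            simp [hF, hA0, hB k (Finset.ne_of_mem_erase hk)],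
          Finset.sum_const, Finset.card_erase_of_mem (Finset.mem_univ _), Finset.card_univ, c.card_hom₂,
          nsmul_eq_mul, mul_one, Nat.cast_sub h.p_prime.one_le, Nat.cast_one]
      rw [h5, hA0] at hZ
      have h6 : c.p ≤ c.q + 1 := by
        have : (c.p : ℤ) ≤ (c.q : ℤ) + 1 := by nlinarith
        exact_mod_cast this
      obtain ⟨i, hi⟩ : Odd c.q := c.minimal.1.of_dvd_nat (Subgroup.card_subgroup_dvd_card c.W₁)
      obtain ⟨j, hj⟩ : Odd c.p := c.minimal.1.of_dvd_nat (Subgroup.card_subgroup_dvd_card c.W₂)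
      have hne'' : c.p ≠ c.q := fun e => by
        have := c.coprime_q_p
        rw [e, Nat.coprime_self] at this
        exact h.q_prime.ne_one this
      omega
    refine ⟨hlt, fun η hη l k _ => ?_⟩
    rw [hmain η hη]
    by_cases hl : l = 1
    · subst hl
      rw [if_pos rfl]
      by_cases hk : k = 1
      · rw [hk, h11, Int.cast_one]
      · rw [hB k hk, Int.cast_one]
    · rw [if_neg hl, hadd l k, hA l hl, hA0]
      by_cases hk : k = 1
      · rw [hk, h11]; simp
      · rw [hB k hk]; simp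
  · left
    have hA2 : 1 ≤ A ^ 2 := (one_le_sq_iff_one_le_abs _).mpr (Int.one_le_abs hA0)
    have h0 : 0 ≤ ∑ k ∈ Finset.univ.erase (1 : c.W₂ →* ℂˣ), F k := Finset.sum_nonneg fun k _ => hF0 k
    have hA1 : A * A = 1 := by
      by_contra hne1
      have : 4 ≤ A ^ 2 := by
        have h2 : 2 ≤ |A| := by
          rcases lt_or_ge |A| 2 with h2 | h2
          · have : |A| = 1 := le_antisymm (by omega) (Int.one_le_abs hA0)
            exact absurd (by rw [← abs_mul_abs_self, this]; norm_num) hne1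
          · exact h2
        nlinarith [abs_mul_abs_self A]
      nlinarith
    have hB : ∀ k, k ≠ 1 → C 1 k = 1 - A := by
      intro k hk
      by_contra hB1
      have h2 : (1 : ℤ) ≤ (A + C 1 k - 1) ^ 2 :=
        (one_le_sq_iff_one_le_abs _).mpr (Int.one_le_abs (by omega))
      have h4 : ((c.q : ℤ) - 1) ≤ F k := by
        rw [hF]
        nlinarith [mul_self_nonneg (C 1 k), mul_le_mul_of_nonneg_left h2 (show (0 : ℤ) ≤ (c.q : ℤ) - 1 by linarith)]
      have := hpair k hk
      nlinarith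
    have hA' : A = 1 := by
      rcases mul_self_eq_one_iff.mp hA1 with e | e
      · exact e
      · exfalso
        obtain ⟨k, hk⟩ := Fintype.exists_ne_of_one_lt_card
          (by rw [c.card_hom₂]; have := c.p_ge_three; omega : 1 < Fintype.card (c.W₂ →* ℂˣ)) 1
        have h4 : F k = 4 := by
          rw [hF]
          simp only [hB k hk, e]
          ring
        have := hpair k hk
        nlinarith
    intro η hη l k _
    rw [hmain η hη]
    by_cases hl : l = 1
    · subst hl
      by_cases hk : k = 1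
      · subst hk; rw [if_pos rfl, h11, Int.cast_one]
      · rw [if_neg hk, hB k hk, hA']; simp
    · rw [hadd l k, hA l hl, hA']
      by_cases hk : k = 1
      · subst hk; rw [if_pos rfl, h11]; simp
      · rw [if_neg hk, hB k hk, hA']; simp

theorem finite_xi : Finite (c.der →* ℂˣ) := CyclicTI.finite_hom c.der

/-- Representatives of the orbits of the non-principal linear characters of `S'`. -/
theorem exists_orbitReps : ∃ R : Finset (c.der →* ℂˣ), (∀ r ∈ R, r ≠ 1) ∧
    (∀ r ∈ R, ∀ r' ∈ R, ∀ x : c.S, r = FTFinal.conjHom h.tiDerived x r' → r = r') ∧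
    (∀ ξ, ξ ≠ 1 → ∃ r ∈ R, ∃ x : c.S, ξ = FTFinal.conjHom h.tiDerived x r) ∧
    ⁅c.der, c.der⁆.relIndex c.der ≤ c.q * R.card + 1 := by
  classical
  have := h.finite_xi
  have := Fintype.ofFinite (c.der →* ℂˣ)
  let st : Setoid {ξ : c.der →* ℂˣ // ξ ≠ 1} :=
    { r := fun a b => ∃ x : c.S, a.1 = FTFinal.conjHom h.tiDerived x b.1
      iseqv := ⟨fun a => ⟨1, (FTFinal.conjHom_one h.tiDerived _).symm⟩,
        fun {a b} ⟨x, e⟩ => ⟨x⁻¹, by rw [e, FTFinal.conjHom_inv_apply]⟩,
        fun {a b d} ⟨x, e⟩ ⟨y, e'⟩ => ⟨x * y, by rw [e, e', FTFinal.conjHom_mul]⟩⟩ }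
  let cls : {ξ : c.der →* ℂˣ // ξ ≠ 1} → Quotient st := Quotient.mk st
  have := Fintype.ofFinite (Quotient st)
  let R : Finset (c.der →* ℂˣ) := Finset.univ.image fun Q : Quotient st => Q.out.1
  have hmem : ∀ r ∈ R, ∃ Q : Quotient st, Q.out.1 = r := fun r hr => by
    obtain ⟨Q, -, e⟩ := Finset.mem_image.mp hr
    exact ⟨Q, e⟩
  refine ⟨R, fun r hr => ?_, fun r hr r' hr' x e => ?_, fun ξ hξ => ?_, ?_⟩
  · obtain ⟨Q, rfl⟩ := hmem r hr
    exact Q.out.2
  · obtain ⟨Q, rfl⟩ := hmem r hr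
    obtain ⟨Q', rfl⟩ := hmem r' hr'
    have : Q = Q' := by
      rw [← Q.out_eq, ← Q'.out_eq]
      exact Quotient.sound ⟨x, e⟩
    rw [this]
  · refine ⟨(cls ⟨ξ, hξ⟩).out.1, Finset.mem_image.mpr ⟨_, Finset.mem_univ _, rfl⟩, ?_⟩
    exact st.symm (Quotient.exact ((cls ⟨ξ, hξ⟩).out_eq))
  · have hcard : Nat.card (c.der →* ℂˣ) = ⁅c.der, c.der⁆.relIndex c.der := by
      rw [Nat.card_congr (Abelianization.lift (G := c.der) (A := ℂˣ)),
        CommGroup.card_monoidHom_of_hasEnoughRootsOfUnity, ← map_subtype_commutator, relIndex, subgroupOf,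
        comap_map_eq_self_of_injective c.der.subtype_injective]
      rfl
    have hfib : ∀ Q : Quotient st,
        (Finset.univ.filter fun a => cls a = Q).card ≤ c.q := by
      intro Q
      rw [show c.q = (Finset.univ : Finset c.W₁).card by rw [Finset.card_univ, ← Nat.card_eq_fintype_card, q]]
      refine le_trans (le_of_eq (Finset.card_image_of_injective _ Subtype.val_injective).symm)
        ((Finset.card_le_card (t := Finset.univ.image fun w : c.W₁ =>
          FTFinal.conjHom h.tiDerived ⟨w, c.S_typeP.W₁_compl.2.1 w.2⟩ Q.out.1) ?_).trans Finset.card_image_le)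
      intro a ha
      obtain ⟨b, hb, rfl⟩ := Finset.mem_image.mp ha
      obtain ⟨x, e⟩ : ∃ x : c.S, b.1 = FTFinal.conjHom h.tiDerived x Q.out.1 :=
        Quotient.exact ((Finset.mem_filter.mp hb).2.trans Q.out_eq.symm)
      obtain ⟨m, hm, w, hw, hx⟩ := c.S_typeP.W₁_compl.2.2.2 x x.2
      refine Finset.mem_image.mpr ⟨⟨w, hw⟩, Finset.mem_univ _, ?_⟩
      rw [show x = ⟨m, commutator_le_self _ hm⟩ * ⟨w, c.S_typeP.W₁_compl.2.1 hw⟩ from Subtype.ext hx,
        FTFinal.conjHom_mul, FTFinal.conjHom_of_mem h.tiDerived _ hm] at e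
      exact e.symm
    have h1 := Finset.card_le_mul_card_image (f := cls)
      (Finset.univ : Finset {ξ : c.der →* ℂˣ // ξ ≠ 1}) c.q fun Q _ => hfib Q
    have h2 : (Finset.univ.image cls).card ≤ R.card := by
      rw [Finset.card_image_of_injective (f := fun Q : Quotient st => Q.out.1) _ fun Q Q' e => by
        rw [← Q.out_eq, ← Q'.out_eq, show Q.out = Q'.out from Subtype.ext e]]
      exact Finset.card_le_univ _
    rw [Finset.card_univ, Fintype.card_subtype_compl, Fintype.card_subtype_eq, ← Nat.card_eq_fintype_card,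
      hcard] at h1
    have := Nat.mul_le_mul_left c.q h2
    omega

theorem idx_le_relIndex : c.idx ≤ ⁅c.der, c.der⁆.relIndex c.der := by
  rw [Final.derived_index c.S_typeP h.U_ne h.p_prime c.minimal.1]
  exact (Nat.le_mul_of_pos_left _ (Nat.pos_of_ne_zero index_ne_zero_of_finite)).trans
    (Nat.le_mul_of_pos_left _ (Nat.pos_of_ne_zero index_ne_zero_of_finite))

set_option maxHeartbeats 1000000 in
/-- An orthonormal family carrying the differences. -/
theorem exists_family : ∃ X : (c.der →* ℂˣ) → G → ℂ,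
    (∀ ξ, ξ ≠ 1 → SignedIrr (X ξ) ∧ ∀ l k, c.coef (X ξ) l k = 0) ∧
    (∀ a b, a ≠ 1 → b ≠ 1 → classInner (X a) (X b) = (orbCount h.tiDerived a b : ℂ)) ∧
    (∀ a b, a ≠ 1 → b ≠ 1 → ind c.der a b = X a - X b) := by
  classical
  obtain ⟨R, hR1, hR2, hR3, hR4⟩ := h.exists_orbitReps
  have hN : 2 ≤ R.card := by
    have h1 := h.idx_large
    have h2 := h.idx_le_relIndex
    by_contra hlt
    have : c.q * R.card ≤ c.q * 1 := Nat.mul_le_mul_left _ (by omega)
    have := c.q_ge_three
    omega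
  let fn : (c.der →* ℂˣ) → c.der → ℂ := fun a f => (a f : ℂ)
  have hfn : Function.Injective fn := fun a b e =>
    MonoidHom.ext fun f => Units.ext (congrFun e f)
  let S : Set (c.der → ℂ) := ↑(R.image fn)
  have hS : ∀ φ ∈ S, ∃ r ∈ R, fn r = φ := fun φ hφ => Finset.mem_image.mp hφ
  have hirr : ∀ φ ∈ S, Cfsg.IsIrrCharacter c.der φ := fun φ hφ => by
    obtain ⟨r, -, rfl⟩ := hS φ hφ
    exact isIrrCharacter_linear r
  have hdeg : ∀ φ ∈ S, ∀ φ' ∈ S, φ 1 = φ' 1 := fun φ hφ φ' hφ' => by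
    obtain ⟨r, -, rfl⟩ := hS φ hφ
    obtain ⟨r', -, rfl⟩ := hS φ' hφ'
    simp [fn]
  have htwo : ∃ φ ∈ S, ∃ φ' ∈ S, φ ≠ φ' := by
    obtain ⟨r, hr, r', hr', hne⟩ := Finset.one_lt_card.mp hN
    exact ⟨fn r, Finset.mem_image_of_mem _ hr, fn r', Finset.mem_image_of_mem _ hr', fun e => hne (hfn e)⟩
  have hsum : ∀ α ∈ Cfsg.zspan S, ∃ n : (c.der →* ℂˣ) → ℤ, α = ∑ r ∈ R, (n r : ℂ) • fn r := by
    intro α hα
    obtain ⟨n, hn⟩ := Exceptional.mem_zspan_iff_sum.1 hα
    exact ⟨fun r => n (fn r), by rw [hn, Finset.sum_image fun a _ b _ e => hfn e]⟩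
  have hτ : Cfsg.IsLinearIsometryOn (Cfsg.zspanOn S ({1}ᶜ : Set c.der)) (fun α => indFun c.der α) := by
    refine ⟨fun α _ β _ => indFun_add _ _ _, fun α _ n => ?_, fun α hα β hβ => ?_, fun α hα => ?_⟩
    · dsimp only
      rw [← Int.cast_smul_eq_zsmul ℂ, indFun_smul, Int.cast_smul_eq_zsmul]
    · have h0 : α 1 = 0 := hα.2 1 (by simp)
      obtain ⟨a, rfl⟩ := hsum α hα.1
      obtain ⟨b, rfl⟩ := hsum β hβ.1
      dsimp only
      rw [inner_indFun h.tiDerived h0]
      have key : ∀ x : c.S, classInner (∑ r ∈ R, (a r : ℂ) • fn r)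
          (fun f : c.der => (∑ r ∈ R, (b r : ℂ) • fn r)
            ⟨(x : G)⁻¹ * f * x, by simpa using h.tiDerived.conj_mem _ (c.S.inv_mem x.2) _ f.2⟩) =
          if (x : G) ∈ c.der then classInner (∑ r ∈ R, (a r : ℂ) • fn r) (∑ r ∈ R, (b r : ℂ) • fn r) else 0 := by
        intro x
        rw [show (fun f : c.der => (∑ r ∈ R, (b r : ℂ) • fn r)
            ⟨(x : G)⁻¹ * f * x, by simpa using h.tiDerived.conj_mem _ (c.S.inv_mem x.2) _ f.2⟩) =
            ∑ r ∈ R, (b r : ℂ) • fn (FTFinal.conjHom h.tiDerived x r) from funext fun f => by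
              simp only [Finset.sum_apply, Pi.smul_apply]; rfl]
        have hval : ∀ r ∈ R, ∀ r' ∈ R, classInner (fn r) (fn (FTFinal.conjHom h.tiDerived x r')) =
            if (x : G) ∈ c.der then classInner (fn r) (fn r') else 0 := by
          intro r hr r' hr'
          split_ifs with hx
          · rw [FTFinal.conjHom_of_mem h.tiDerived _ hx]
          · rw [inner_linear, if_neg]
            intro e
            obtain rfl := hR2 r hr r' hr' x e
            exact hx (h.stab_xi (hR1 r hr) e)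
        simp only [classInner_sum_left, classInner_sum_right, classInner_smul_left, classInner_smul_right]
        rw [Finset.sum_congr rfl fun r' hr' => congrArg (_ * ·)
          (Finset.sum_congr rfl fun r hr => congrArg (_ * ·) (hval r hr r' hr'))]
        split_ifs <;> simp
      rw [Finset.sum_congr rfl fun x _ => key x, ← Finset.sum_filter, Finset.sum_const, nsmul_eq_mul,
        ← Fintype.card_subtype, ← Nat.card_eq_fintype_card,
        show Nat.card {x : c.S // (x : G) ∈ c.der} = Nat.card c.der from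
          Nat.card_congr (subgroupOfEquivOfLe (commutator_le_self c.S)).toEquiv, ← mul_assoc,
        inv_mul_cancel₀ (Nat.cast_ne_zero.mpr Nat.card_pos.ne'), one_mul]
    · obtain ⟨a, rfl⟩ := hsum α hα.1
      exact IsGen.indFun (IsGen.sum _ _ fun r _ =>
        IsGen.intCast_smul _ (IsGen.of_irr (isIrrCharacter_linear r)))
  have hτ1 : ∀ α ∈ Cfsg.zspanOn S ({1}ᶜ : Set c.der), indFun c.der α 1 = 0 := fun α hα => by
    rw [indFun_apply_one, hα.2 1 (by simp), mul_zero]
  obtain ⟨ε, f, hε, hf, hinj, hdiff⟩ := Exceptional.const_degree_family hirr hdeg htwo hτ hτ1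
  have hrep : ∀ a : c.der →* ℂˣ, ∃ r : c.der →* ℂˣ, a ≠ 1 →
      r ∈ R ∧ ∃ x : c.S, a = FTFinal.conjHom h.tiDerived x r := fun a => by
    by_cases ha : a ≠ 1
    · obtain ⟨r, hr, hx⟩ := hR3 a ha
      exact ⟨r, fun _ => ⟨hr, hx⟩⟩
    · exact ⟨1, fun h1 => absurd h1 ha⟩
  choose rep hrep using hrep
  have hrmem : ∀ a, a ≠ 1 → fn (rep a) ∈ S := fun a ha => Finset.mem_image_of_mem _ (hrep a ha).1
  let X : (c.der →* ℂˣ) → G → ℂ := fun a => ε • f (fn (rep a))
  have hsigned : ∀ a, a ≠ 1 → SignedIrr (X a) := fun a ha => by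
    rcases hε with rfl | rfl
    · exact Or.inl (by simpa [X] using hf _ (hrmem a ha))
    · exact Or.inr (by simpa [X] using hf _ (hrmem a ha))
  have hεε : ε * (starRingEnd ℂ) ε = 1 := by rcases hε with rfl | rfl <;> simp
  have hinner : ∀ a b, a ≠ 1 → b ≠ 1 → classInner (X a) (X b) = (orbCount h.tiDerived a b : ℂ) := by
    intro a b ha hb
    obtain ⟨hra, x, hx⟩ := hrep a ha
    obtain ⟨hrb, y, hy⟩ := hrep b hb
    show classInner (ε • f (fn (rep a))) (ε • f (fn (rep b))) = _
    rw [classInner_smul_left, classInner_smul_right, ← mul_assoc, hεε, one_mul,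
      Exceptional.classInner_of_irr (hf _ (hrmem a ha)) (hf _ (hrmem b hb))]
    have ho : orbCount h.tiDerived a b = orbCount h.tiDerived (rep a) (rep b) :=
      calc orbCount h.tiDerived a b = orbCount h.tiDerived a (rep b) :=
            (congrArg (orbCount h.tiDerived a) hy).trans (orbCount_conj_right h.tiDerived _ _ y)
        _ = orbCount h.tiDerived (rep b) a := orbCount_symm h.tiDerived _ _
        _ = orbCount h.tiDerived (rep b) (rep a) :=
            (congrArg (orbCount h.tiDerived (rep b)) hx).trans (orbCount_conj_right h.tiDerived _ _ x)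
        _ = _ := orbCount_symm h.tiDerived _ _
    rw [ho]
    by_cases e : rep a = rep b
    · rw [if_pos (by rw [e]), e, h.orb_self (hR1 _ hrb), Complex.ofReal_one]
    · rw [if_neg fun e' => e (hfn (hinj _ (hrmem a ha) _ (hrmem b hb) e')),
        h.orb_zero fun z ez => e (hR2 _ hra _ hrb z ez), Complex.ofReal_zero]
  have hind : ∀ a b, a ≠ 1 → b ≠ 1 → ind c.der a b = X a - X b := by
    intro a b ha hb
    obtain ⟨hra, x, hx⟩ := hrep a ha
    obtain ⟨hrb, y, hy⟩ := hrep b hb
    have h1 : ind c.der (rep a) a = 0 :=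
      (congrArg (ind c.der (rep a)) hx).trans (ind_conjHom_eq_zero h.tiDerived _ x)
    have h2 : ind c.der (rep b) b = 0 :=
      (congrArg (ind c.der (rep b)) hy).trans (ind_conjHom_eq_zero h.tiDerived _ y)
    have h3 : ind c.der a b = ind c.der (rep a) (rep b) := by
      rw [← ind_add a (rep b) b, h2, add_zero, ← ind_add a (rep a) (rep b),
        ind_swap (rep a) a, h1, neg_zero, zero_add]
    rw [h3, show ind c.der (rep a) (rep b) = indFun c.der (fn (rep a) - fn (rep b)) from rfl,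
      hdiff _ (hrmem a ha) _ (hrmem b hb), smul_sub]
  clear_value X
  refine ⟨X, fun a ha => ⟨hsigned a ha, fun l k => ?_⟩, hinner, hind⟩
  -- a member of the family would occur in two orthogonal members
  obtain ⟨r', hr', hne⟩ := Finset.exists_mem_ne hN (rep a)
  have hb : r' ≠ 1 := hR1 r' hr'
  have hab : classInner (X a) (X r') = 0 := by
    rw [hinner a r' ha hb, h.orb_zero, Complex.ofReal_zero]
    intro z ez
    obtain ⟨hra, x, hx⟩ := hrep a ha
    refine hne (hR2 r' hr' _ hra (z⁻¹ * x) ?_)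
    rw [FTFinal.conjHom_mul, ← hx, ez, FTFinal.conjHom_inv_apply]
  have hd : c.coef (X a) l k - c.coef (X r') l k = 0 := by
    rw [← c.coef_sub, ← hind a r' ha hb, h.coef_diff ha hb]
  rcases (hsigned a ha).trichotomy (c.eta_irr_or_neg l k) with e | ⟨e, e'⟩ | ⟨e, e'⟩
  · exact e
  all_goals
    exfalso
    have h4 : c.coef (X r') l k = classInner (X a) (c.eta l k) := (sub_eq_zero.mp hd).symm
    rw [e'] at h4
    rw [e] at hab
  · rw [← classInner_conj_symm, show classInner (X r') (c.eta l k) = c.coef (X r') l k from rfl, h4,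
      map_one] at hab
    exact one_ne_zero hab
  · rw [classInner_neg_left, ← classInner_conj_symm,
      show classInner (X r') (c.eta l k) = c.coef (X r') l k from rfl, h4, map_neg, map_one, neg_neg] at hab
    exact one_ne_zero hab

end IsThree

end Config

end CfsgLib.OddLocal.FTFinal
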