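import Cfsg.Agent.Lib.OddLocal.Final.TypeThreeChars
import Cfsg.Agent.Lib.Char.TI

/-!
Owner: helper27. Step III-a of the FT blueprint: the functions `μ_k = Ind_{F(S)}^G ψ_k − v · Ind_{S'}^G ξ`, their
norms, their inner products with the functions induced from `S'`, and the congruence of their coefficients.
-/

set_option autoImplicit false
set_option linter.unusedSectionVars false

open scoped commutatorElement ComplexConjugate

namespace CfsgLib.OddLocal.FTFinal

open Subgroup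
open CfsgLib.Char CfsgLib.CyclicTI CfsgLib.TwoGroups
open Cfsg (classInner IsClassFunction IsGeneralizedCharacter indFun)

variable {G : Type*} [Group G] [Fintype G]

namespace Config

variable {c : Config G}

namespace IsThree

variable (h : c.IsThree)
include h

theorem fitting_le_der : Cfsg.fittingOf c.S ≤ c.der := c.S_typeP.fitting_le

/-- A linear character of the Fitting subgroup on its copy inside `S'`. -/
noncomputable def restHom (φ : Cfsg.fittingOf c.S →* ℂˣ) :
    (Cfsg.fittingOf c.S).subgroupOf c.der →* ℂˣ :=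
  φ.comp (subgroupOfEquivOfLe h.fitting_le_der).toMonoidHom

open scoped Classical in
/-- `Ind_{F(S)}^{S'} φ`. -/
noncomputable def theta (φ : Cfsg.fittingOf c.S →* ℂˣ) : c.der → ℂ :=
  indFun ((Cfsg.fittingOf c.S).subgroupOf c.der) fun x => (h.restHom φ x : ℂ)

/-- Linear characters of `S'` are trivial on `W₂`. -/
theorem xi_W₂ (η : c.der →* ℂˣ) {b : G} (hb : b ∈ c.W₂) (hb' : b ∈ c.der) : η ⟨b, hb'⟩ = 1 := by
  have h1 : b ∈ ⁅c.der, c.der⁆ := (c.S_typeP.W₂_le hb).2
  rw [← map_subtype_commutator] at h1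
  obtain ⟨y, hy, e⟩ := h1
  rw [show (⟨b, hb'⟩ : c.der) = y from Subtype.ext e.symm]
  exact Abelianization.commutator_subset_ker η hy

/-- No conjugate of a non-principal fixed character extends to a linear character of `S'`. -/
theorem psi_ne_res {k : c.W₂ →* ℂˣ} (hk : k ≠ 1) (x : c.S) (η : c.der →* ℂˣ) :
    FTFinal.conjHom h.tiFitting x (h.psi k) ≠ η.comp (inclusion h.fitting_le_der) := by
  intro e
  refine hk (MonoidHom.ext fun b => ?_)
  have hbF : (b : G) ∈ Cfsg.fittingOf c.S := h.kernelOne_le (h.kernel.le b.2)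
  have hm : (x : G) * b * (x : G)⁻¹ ∈ Cfsg.fittingOf c.S := h.tiFitting.conj_mem _ x.2 _ hbF
  have h1 := DFunLike.congr_fun e ⟨_, hm⟩
  rw [FTFinal.conjHom_apply] at h1
  have h2 : FTFinal.conjHom h.tiDerived x⁻¹ η ⟨b, h.fitting_le_der hbF⟩ = 1 := h.xi_W₂ _ b.2 _
  rw [FTFinal.conjHom_apply] at h2
  rw [← h.psi_W₂ k b.2 hbF, MonoidHom.one_apply, ← h2]
  refine ((congrArg (h.psi k) (Subtype.ext ?_)).trans h1).trans (congrArg η (Subtype.ext ?_))
  · show (b : G) = (x : G)⁻¹ * ((x : G) * b * (x : G)⁻¹) * x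
    group
  · show (x : G) * b * (x : G)⁻¹ = ((x⁻¹ : c.S) : G)⁻¹ * b * ((x⁻¹ : c.S) : G)
    simp

open scoped Classical in
theorem theta_class (φ : Cfsg.fittingOf c.S →* ℂˣ) : IsClassFunction c.der (h.theta φ) :=
  isClassFunction_indFun _ _

open scoped Classical in
theorem theta_one (φ : Cfsg.fittingOf c.S →* ℂˣ) : h.theta φ 1 = (c.idx : ℂ) := by
  rw [theta, indFun_apply_one, map_one, Units.val_one, mul_one]
  refine congrArg _ (Nat.eq_of_mul_eq_mul_left (Nat.card_pos (α := (Cfsg.fittingOf c.S).subgroupOf c.der)) ?_)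
  rw [card_mul_index, Nat.card_congr (subgroupOfEquivOfLe h.fitting_le_der).toEquiv, h.card_derived, mul_comm]

open scoped Classical in
/-- The inner product of an induced character with a linear one that does not restrict to it. -/
theorem inner_theta_hom {φ : Cfsg.fittingOf c.S →* ℂˣ} {η : c.der →* ℂˣ}
    (hne : φ ≠ η.comp (inclusion h.fitting_le_der)) :
    classInner (h.theta φ) (fun m => (η m : ℂ)) = 0 := by
  rw [theta, frobenius_reciprocity _ _ (IsIrr.isClassFunction (isIrrCharacter_linear η))]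
  refine (inner_linear (h.restHom φ) (η.comp ((Cfsg.fittingOf c.S).subgroupOf c.der).subtype)).trans
    (if_neg fun e => hne ?_)
  refine MonoidHom.ext fun f => ?_
  exact DFunLike.congr_fun e ⟨⟨f, h.fitting_le_der f.2⟩, mem_subgroupOf.mpr f.2⟩

open scoped Classical in
/-- A conjugate of an induced character is induced from the conjugate. -/
theorem theta_conj (φ : Cfsg.fittingOf c.S →* ℂˣ) (x : c.S) (m : c.der) :
    h.theta φ ⟨(x : G)⁻¹ * m * x, by simpa using h.tiDerived.conj_mem _ (c.S.inv_mem x.2) _ m.2⟩ =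
      h.theta (FTFinal.conjHom h.tiFitting x φ) m := by
  simp only [theta, Cfsg.indFun]
  congr 1
  have hxd : ∀ d : c.der, (x : G)⁻¹ * d * x ∈ c.der := fun d => by
    simpa using h.tiDerived.conj_mem _ (c.S.inv_mem x.2) _ d.2
  have hxd' : ∀ d : c.der, (x : G) * d * (x : G)⁻¹ ∈ c.der := fun d => h.tiDerived.conj_mem _ x.2 _ d.2
  let e : c.der ≃ c.der :=
    { toFun := fun d => ⟨_, hxd d⟩
      invFun := fun d => ⟨_, hxd' d⟩
      left_inv := fun d => Subtype.ext (by
        show (x : G) * ((x : G)⁻¹ * d * x) * (x : G)⁻¹ = d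
        group)
      right_inv := fun d => Subtype.ext (by
        show (x : G)⁻¹ * ((x : G) * d * (x : G)⁻¹) * x = d
        group) }
  refine (Fintype.sum_equiv e _ _ fun d => ?_).symm
  by_cases hd : d⁻¹ * m * d ∈ (Cfsg.fittingOf c.S).subgroupOf c.der
  · have hd' : (e d)⁻¹ * ⟨(x : G)⁻¹ * m * x, hxd m⟩ * e d ∈ (Cfsg.fittingOf c.S).subgroupOf c.der := by
      refine mem_subgroupOf.mpr ?_
      have h1 := h.tiFitting.conj_mem _ (c.S.inv_mem x.2) _ (mem_subgroupOf.mp hd)
      simpa [e, mul_assoc] using h1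
    rw [extendByZero_of_mem _ _ hd, extendByZero_of_mem _ _ hd']
    refine congrArg Units.val (congrArg φ (Subtype.ext ?_))
    show (x : G)⁻¹ * ((d : G)⁻¹ * m * d) * x =
      ((x : G)⁻¹ * d * x)⁻¹ * ((x : G)⁻¹ * m * x) * ((x : G)⁻¹ * d * x)
    group
  · rw [extendByZero_of_notMem _ _ hd, extendByZero_of_notMem]
    intro hd'
    refine hd (mem_subgroupOf.mpr ?_)
    have h1 := h.tiFitting.conj_mem _ x.2 _ (mem_subgroupOf.mp hd')
    simpa [e, mul_assoc] using h1

open scoped Classical in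
theorem inner_theta (φ φ' : Cfsg.fittingOf c.S →* ℂˣ) :
    classInner (h.theta φ) (h.theta φ') = (Nat.card (Cfsg.fittingOf c.S) : ℂ)⁻¹ *
      ∑ m : c.der, (if φ = FTFinal.conjHom h.tiFitting ⟨m, commutator_le_self _ m.2⟩ φ' then 1 else 0) := by
  rw [theta, frobenius_reciprocity _ _ (h.theta_class φ')]
  have hval : ∀ f : (Cfsg.fittingOf c.S).subgroupOf c.der, h.theta φ' f =
      (Nat.card (Cfsg.fittingOf c.S) : ℂ)⁻¹ * ∑ m : c.der,
        (h.restHom (FTFinal.conjHom h.tiFitting ⟨m, commutator_le_self _ m.2⟩ φ') f : ℂ) := by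
    intro f
    rw [theta, Cfsg.indFun, Nat.card_congr (subgroupOfEquivOfLe h.fitting_le_der).toEquiv]
    refine congrArg _ (Finset.sum_congr rfl fun m _ => ?_)
    rw [extendByZero_of_mem _ _ (show m⁻¹ * (f : c.der) * m ∈ (Cfsg.fittingOf c.S).subgroupOf c.der from
      mem_subgroupOf.mpr (by
        have h1 := h.tiFitting.conj_mem _ (c.S.inv_mem (commutator_le_self _ m.2)) _ (mem_subgroupOf.mp f.2)
        simpa [mul_assoc] using h1))]
    rfl
  rw [show (fun f : (Cfsg.fittingOf c.S).subgroupOf c.der => h.theta φ' f) =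
      (Nat.card (Cfsg.fittingOf c.S) : ℂ)⁻¹ • ∑ m : c.der, fun f =>
        (h.restHom (FTFinal.conjHom h.tiFitting ⟨m, commutator_le_self _ m.2⟩ φ') f : ℂ) from funext fun f => by
      rw [Pi.smul_apply, Finset.sum_apply, smul_eq_mul]; exact hval f,
    classInner_smul_right, map_inv₀, map_natCast, classInner_sum_right]
  refine congrArg _ (Finset.sum_congr rfl fun m _ => ?_)
  rw [inner_linear]
  refine if_congr ?_ rfl rfl
  exact MonoidHom.cancel_right (f := (subgroupOfEquivOfLe h.fitting_le_der).toMonoidHom)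
    (MulEquiv.surjective _)

/-- `Ind_F^{S'} ψ_k − v ξ`. -/
noncomputable def phi (k : c.W₂ →* ℂˣ) (ξ : c.der →* ℂˣ) : c.der → ℂ :=
  h.theta (h.psi k) - (c.idx : ℂ) • fun m => (ξ m : ℂ)

/-- `μ_k = Ind_F^G ψ_k − v · Ind_{S'}^G ξ`. -/
noncomputable def mu (k : c.W₂ →* ℂˣ) (ξ : c.der →* ℂˣ) : G → ℂ :=
  indFun (Cfsg.fittingOf c.S) (fun f => (h.psi k f : ℂ)) - (c.idx : ℂ) • indFun c.der (fun m => (ξ m : ℂ))

open scoped Classical in
theorem mu_eq (k : c.W₂ →* ℂˣ) (ξ : c.der →* ℂˣ) : h.mu k ξ = indFun c.der (h.phi k ξ) := by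
  rw [phi, indFun_sub, indFun_smul, mu]
  congr 1
  exact (indFun_indFun _ _ h.fitting_le_der fun f => (h.psi k f : ℂ)).symm

theorem phi_one (k : c.W₂ →* ℂˣ) (ξ : c.der →* ℂˣ) : h.phi k ξ 1 = 0 := by
  rw [phi, Pi.sub_apply, Pi.smul_apply, h.theta_one, map_one, Units.val_one, smul_eq_mul, mul_one, sub_self]

theorem mu_gen (k : c.W₂ →* ℂˣ) (ξ : c.der →* ℂˣ) : IsGeneralizedCharacter G (h.mu k ξ) := by
  refine IsGen.sub (IsGen.indFun (IsGen.of_irr (isIrrCharacter_linear _))) ?_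
  have h1 := IsGen.intCast_smul (c.idx : ℤ) (IsGen.indFun (G := G) (IsGen.of_irr (isIrrCharacter_linear ξ)))
  simpa using h1

theorem inner_mu (k : c.W₂ →* ℂˣ) (ξ : c.der →* ℂˣ) {χ : G → ℂ} (hχ : IsClassFunction G χ)
    [Fintype (Cfsg.fittingOf c.S)] [Fintype c.der] :
    classInner (h.mu k ξ) χ = classInner (fun f => (h.psi k f : ℂ)) (fun f : Cfsg.fittingOf c.S => χ f) -
      (c.idx : ℂ) * classInner (fun m => (ξ m : ℂ)) (fun m : c.der => χ m) := by
  rw [mu, classInner_sub_left, classInner_smul_left, frobenius_reciprocity _ _ hχ, frobenius_reciprocity _ _ hχ]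

theorem mu_What (k : c.W₂ →* ℂˣ) (ξ : c.der →* ℂˣ) : ∀ g ∈ What c.W₁ c.W₂, h.mu k ξ g = 0 := by
  intro g hg
  have hg1 : g ≠ 1 := fun e => hg.2 (Or.inl (e ▸ one_mem _))
  rw [mu, Pi.sub_apply, Pi.smul_apply, indFun_eq_zero_off' _ hg1 (h.disj_fitting g hg),
    indFun_eq_zero_off' _ hg1 (h.disj_derived g hg), smul_zero, sub_zero]

theorem mu_const {k : c.W₂ →* ℂˣ} (hk : k ≠ 1) {ξ : c.der →* ℂˣ} (hξ : ξ ≠ 1) :
    classInner (h.mu k ξ) (fun _ => 1) = 0 := by
  classical
  rw [h.inner_mu k ξ (fun _ _ => rfl)]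
  have e : ∀ {F : Subgroup G}, (fun _ : F => (1 : ℂ)) = fun f => (((1 : F →* ℂˣ) f : ℂˣ) : ℂ) :=
    fun {F} => funext fun f => by simp
  rw [e, e, inner_linear, inner_linear, if_neg (show h.psi k ≠ 1 from fun e => h.side.psi_ne_one hk e), if_neg hξ, mul_zero, sub_zero]

theorem mu_galois {n : ℕ} (hn : n.Coprime (Nat.card G)) (h1 : n ≡ 1 [MOD Nat.card c.der])
    (k : c.W₂ →* ℂˣ) (ξ : c.der →* ℂˣ) : (fun g => h.mu k ξ (g ^ n)) = h.mu k ξ := by
  have hF : n ≡ 1 [MOD Nat.card (Cfsg.fittingOf c.S)] := h1.of_dvd (card_dvd_of_le h.fitting_le_der)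
  funext g
  simp only [mu, Pi.sub_apply, Pi.smul_apply, indFun_apply_pow hn]
  have e1 : (fun f : Cfsg.fittingOf c.S => (h.psi k (f ^ n) : ℂ)) = fun f => (h.psi k f : ℂ) :=
    funext fun f => by rw [map_pow, ← MonoidHom.pow_apply, hom_pow_eq_self hF]
  have e2 : (fun m : c.der => (ξ (m ^ n) : ℂ)) = fun m => (ξ m : ℂ) :=
    funext fun f => by rw [map_pow, ← MonoidHom.pow_apply, hom_pow_eq_self h1]
  rw [e1, e2]

open scoped Classical in
theorem inner_phi_hom {k : c.W₂ →* ℂˣ} (hk : k ≠ 1) (ξ η : c.der →* ℂˣ) :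
    classInner (h.phi k ξ) (fun m => (η m : ℂ)) = -(if ξ = η then (c.idx : ℂ) else 0) := by
  rw [phi, classInner_sub_left, classInner_smul_left, inner_linear,
    h.inner_theta_hom (fun e => h.psi_ne_res hk 1 η (by rw [FTFinal.conjHom_one]; exact e))]
  split_ifs <;> simp

/-- The inner products with the functions induced from linear characters of `S'`. -/
theorem inner_mu_ind {k : c.W₂ →* ℂˣ} (hk : k ≠ 1) (ξ a b : c.der →* ℂˣ) :
    classInner (h.mu k ξ) (ind c.der a b) =
      -((c.idx : ℂ) * ((orbCount h.tiDerived ξ a : ℂ) - (orbCount h.tiDerived ξ b : ℂ))) := by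
  classical
  rw [h.mu_eq, ind, inner_indFun h.tiDerived (h.phi_one k ξ)]
  have key : ∀ x : c.S, classInner (h.phi k ξ) (fun m : c.der => linDiff a b
      ⟨(x : G)⁻¹ * m * x, by simpa using h.tiDerived.conj_mem _ (c.S.inv_mem x.2) _ m.2⟩) =
      -(c.idx : ℂ) * ((if ξ = FTFinal.conjHom h.tiDerived x a then 1 else 0) -
        (if ξ = FTFinal.conjHom h.tiDerived x b then 1 else 0)) := fun x => by
    rw [show (fun m : c.der => linDiff a b
      ⟨(x : G)⁻¹ * m * x, by simpa using h.tiDerived.conj_mem _ (c.S.inv_mem x.2) _ m.2⟩) =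
      (fun m => (FTFinal.conjHom h.tiDerived x a m : ℂ)) - fun m => (FTFinal.conjHom h.tiDerived x b m : ℂ)
      from rfl, classInner_sub_right, h.inner_phi_hom hk, h.inner_phi_hom hk]
    split_ifs <;> ring
  rw [Finset.sum_congr rfl fun x _ => key x, ← Finset.mul_sum, Finset.sum_sub_distrib, Finset.sum_boole,
    Finset.sum_boole, ← Fintype.card_subtype, ← Fintype.card_subtype]
  simp only [orbCount, Nat.card_eq_fintype_card]
  push_cast
  ring

set_option maxHeartbeats 1000000 in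
/-- The inner products of the `μ_k`. -/
theorem inner_mu_mu {i j : c.W₂ →* ℂˣ} (hi : i ≠ 1) (hj : j ≠ 1) [Decidable (i = j)] {ξ : c.der →* ℂˣ}
    (hξ : ξ ≠ 1) :
    classInner (h.mu i ξ) (h.mu j ξ) = (if i = j then (c.q : ℂ) else 0) + (c.idx : ℂ) ^ 2 := by
  classical
  rw [h.mu_eq, h.mu_eq, inner_indFun h.tiDerived (h.phi_one i ξ)]
  have hF : (Nat.card (Cfsg.fittingOf c.S) : ℂ) ≠ 0 := Nat.cast_ne_zero.mpr Nat.card_pos.ne'
  have key : ∀ x : c.S, classInner (h.phi i ξ) (fun m : c.der => h.phi j ξ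
      ⟨(x : G)⁻¹ * m * x, by simpa using h.tiDerived.conj_mem _ (c.S.inv_mem x.2) _ m.2⟩) =
      (Nat.card (Cfsg.fittingOf c.S) : ℂ)⁻¹ * (∑ m : c.der,
          (if h.psi i = FTFinal.conjHom h.tiFitting (⟨m, commutator_le_self _ m.2⟩ * x) (h.psi j) then 1 else 0)) +
        (c.idx : ℂ) ^ 2 * (if ξ = FTFinal.conjHom h.tiDerived x ξ then 1 else 0) := fun x => by
    have e : (fun m : c.der => h.phi j ξ
        ⟨(x : G)⁻¹ * m * x, by simpa using h.tiDerived.conj_mem _ (c.S.inv_mem x.2) _ m.2⟩) =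
        h.theta (FTFinal.conjHom h.tiFitting x (h.psi j)) -
          (c.idx : ℂ) • fun m => (FTFinal.conjHom h.tiDerived x ξ m : ℂ) := by
      funext m
      simp only [phi, Pi.sub_apply, Pi.smul_apply, h.theta_conj]
      rfl
    have h0 : classInner (fun m => (ξ m : ℂ)) (h.theta (FTFinal.conjHom h.tiFitting x (h.psi j))) = 0 := by
      rw [← classInner_conj_symm, h.inner_theta_hom (h.psi_ne_res hj x ξ), map_zero]
    rw [e, classInner_sub_right, classInner_smul_right, h.inner_phi_hom hi, map_natCast]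
    rw [show classInner (h.phi i ξ) (h.theta (FTFinal.conjHom h.tiFitting x (h.psi j))) =
      classInner (h.theta (h.psi i)) (h.theta (FTFinal.conjHom h.tiFitting x (h.psi j))) from by
        rw [phi, classInner_sub_left, classInner_smul_left, h0, mul_zero, sub_zero],
      h.inner_theta]
    simp only [← FTFinal.conjHom_mul]
    split_ifs <;> ring
  rw [Finset.sum_congr rfl fun x _ => key x, Finset.sum_add_distrib, ← Finset.mul_sum, ← Finset.mul_sum,
    Finset.sum_comm]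
  have hre : ∀ m : c.der, (∑ x : c.S,
      (if h.psi i = FTFinal.conjHom h.tiFitting (⟨m, commutator_le_self _ m.2⟩ * x) (h.psi j) then (1 : ℂ) else 0)) =
      (Nat.card (Cfsg.fittingOf c.S) : ℂ) * if i = j then (c.q : ℂ) else 0 := fun m => by
    rw [show (∑ x : c.S, if h.psi i = FTFinal.conjHom h.tiFitting (⟨m, commutator_le_self _ m.2⟩ * x) (h.psi j)
        then (1 : ℂ) else 0) = ∑ x : c.S, if h.psi i = FTFinal.conjHom h.tiFitting x (h.psi j) then (1 : ℂ) else 0
      from Equiv.sum_comp (Equiv.mulLeft (⟨m, commutator_le_self _ m.2⟩ : c.S))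
      (fun x => if h.psi i = FTFinal.conjHom h.tiFitting x (h.psi j) then (1 : ℂ) else 0),
      Finset.sum_boole, ← Fintype.card_subtype, ← Nat.card_eq_fintype_card]
    split_ifs with hij
    · subst hij
      rw [h.card_stab hi]; push_cast; ring
    · have : IsEmpty {x : c.S // h.psi i = FTFinal.conjHom h.tiFitting x (h.psi j)} :=
        ⟨fun x => hij (h.nconj i j x.1 x.2)⟩
      rw [Nat.card_of_isEmpty (α := {x : c.S // h.psi i = FTFinal.conjHom h.tiFitting x (h.psi j)}),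
        Nat.cast_zero, mul_zero]
  have hξc : (∑ x : c.S, if ξ = FTFinal.conjHom h.tiDerived x ξ then (1 : ℂ) else 0) = Nat.card c.der := by
    have e := h.orb_self hξ
    rw [orbCount, inv_mul_eq_one₀ (Nat.cast_ne_zero.mpr Nat.card_pos.ne'), Nat.cast_inj] at e
    rw [Finset.sum_boole, ← Fintype.card_subtype, ← Nat.card_eq_fintype_card, ← e]
  rw [Finset.sum_congr rfl fun m _ => hre m, Finset.sum_const, Finset.card_univ, nsmul_eq_mul,
    ← Nat.card_eq_fintype_card, hξc]
  have hd : (Nat.card c.der : ℂ) ≠ 0 := Nat.cast_ne_zero.mpr Nat.card_pos.ne'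
  field_simp

/-- The congruence between the coefficients of `μ_k` and of `Ind (1 − ξ)`. -/
theorem mu_congr {k₀ : c.W₂ →* ℂˣ} (ξ : c.der →* ℂˣ) (l : c.W₁ →* ℂˣ) (k : c.W₂ →* ℂˣ)
    [Decidable (k₀ = k)] [Decidable (1 = k)] {E C : ℤ} (hE : c.coef (h.mu k₀ ξ) l k = E)
    (hC : c.coef (ind c.der 1 ξ) l k = C) :
    (c.q : ℤ) ∣ E - C - ((if k₀ = k then 1 else 0) - (if 1 = k then 1 else 0)) := by
  classical
  have hNF := c.S_typeP.W₁_compl.2.1.trans (FittingSigma.le_normalizer_fittingOf c.S)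
  obtain ⟨m, D, hm, hD, hd⟩ := h.congr_fixed hNF (fun y hy hy1 => h.fix_fitting hy hy1) (h.psi k₀) k₀
    (fun w hw => h.psi_fixed k₀ hw) (fun b hb => h.psi_W₂ k₀ b.2 hb) l k
  obtain ⟨m', D', hm', hD', hd'⟩ := h.congr_fixed h.W₁_norm_der (fun y hy hy1 => h.fix_derived hy hy1)
    (1 : c.der →* ℂˣ) 1 (fun _ _ _ _ _ => rfl) (fun _ _ => rfl) l k
  have hDD : D = D' := by exact_mod_cast hD.symm.trans hD'
  subst hDD
  obtain ⟨n, hn⟩ := IsGen.exists_classInner_eq_intCast (IsGen.of_irr (isIrrCharacter_linear ξ))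
    (IsGen.restrict c.der (c.eta_isGen l k))
  have hmm : E - (c.idx : ℤ) * C = m - (c.idx : ℤ) * m' := by
    have e1 : classInner (fun f => (h.psi k₀ f : ℂ)) (fun f : Cfsg.fittingOf c.S => c.eta l k f) = (m : ℂ) := by
      rw [← classInner_conj_symm, hm, map_intCast]
    have e2 : classInner (fun f => (((1 : c.der →* ℂˣ) f : ℂˣ) : ℂ)) (fun f : c.der => c.eta l k f) = (m' : ℂ) := by
      rw [← classInner_conj_symm, hm', map_intCast]
    rw [Config.coef, h.inner_mu k₀ ξ (c.eta_isClassFunction l k), e1, hn] at hE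
    rw [Config.coef, ind, frobenius_reciprocity _ _ (c.eta_isClassFunction l k),
      show linDiff (1 : c.der →* ℂˣ) ξ = (fun f => (((1 : c.der →* ℂˣ) f : ℂˣ) : ℂ)) - fun f => (ξ f : ℂ) from rfl,
      classInner_sub_left, e2, hn] at hC
    have hE' : m - (c.idx : ℤ) * n = E := by exact_mod_cast hE
    have hC' : m' - n = C := by exact_mod_cast hC
    rw [← hE', ← hC']; ring
  have hmod : (c.q : ℤ) ∣ (c.p : ℤ) - Nat.card (Cfsg.fittingOf c.S) := Nat.modEq_iff_dvd.mp h.fitting_modEq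
  have hv : (c.q : ℤ) ∣ 1 - c.idx := by
    have := Nat.modEq_iff_dvd.mp h.idx_modEq
    exact_mod_cast this
  have hcop : IsCoprime (c.q : ℤ) (c.p : ℤ) := Int.isCoprime_iff_nat_coprime.mpr (by simpa using c.coprime_q_p)
  set δ : ℤ := (if k₀ = k then 1 else 0) - (if 1 = k then 1 else 0) with hδ
  have key : (c.q : ℤ) ∣ (c.p : ℤ) * (E - (c.idx : ℤ) * C - δ) := by
    have h1 := (dvd_sub hd hd').add (hmod.mul_right (m - (c.idx : ℤ) * m'))
    rw [h.card_derived, Nat.cast_mul] at h1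
    rw [hmm]
    obtain ⟨t, ht⟩ := h1
    refine ⟨t, ?_⟩
    rw [← ht, hδ]
    split_ifs <;> ring
  obtain ⟨t, ht⟩ := (hcop.dvd_of_dvd_mul_left key).sub (hv.mul_right C)
  exact ⟨t, by rw [← ht]; ring⟩

end IsThree

end Config

end CfsgLib.OddLocal.FTFinal
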