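import Cfsg.Agent.Lib.OddLocal.Final.TypeThreeMu
import Cfsg.Agent.Lib.OddLocal.Final.Count
import Cfsg.Agent.Lib.OddLocal.Final.Swap
import Cfsg.Agent.Lib.OddLocal.Final.Parity
import Cfsg.Agent.Lib.OddLocal.Final.ThreeShape

/-!
Owner: helper27. Step III-a of the FT blueprint, `S` of type III or IV and `T` of type II:

* `IsThree.not_row`: the pattern `C(l,1) = 1` of `Ind (1 − ξ)` is impossible (mass of `ξ'` against the weights);
* `IsThree.lt`, `IsThree.col`: so `p < q` and `C(l,k) = [l = 1]`;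
* `IsThree.kernelZero_eq_bot`, `IsThree.centU_eq_derived`, `IsThree.derived_two_eq`: `Q₀ = 1`,
  `C_U(H) = U'` and `S'' = F(S)`.
-/

set_option autoImplicit false
set_option linter.unusedSectionVars false

open scoped commutatorElement ComplexConjugate

namespace CfsgLib.OddLocal.FTFinal

open Subgroup
open CfsgLib.Char CfsgLib.CyclicTI CfsgLib.TwoGroups
open CfsgLib.DadeMap (avg)
open CfsgLib.OddLocal.Frob12 (rho)
open CfsgLib.OddLocal.Final (kernelOne kernelZero)
open Cfsg (classInner IsClassFunction IsGeneralizedCharacter indFun)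

variable {G : Type*} [Group G] [Fintype G]

/-- `[S' : S'']` is too large for `E ≠ 0`. -/
theorem row_arith {q v N : ℕ} (hq : 3 ≤ q) (hN : 1 ≤ N) (hv : v ≤ q * N + 1) {E : ℤ} (hE : (q : ℤ) ∣ E)
    (h : ((q : ℤ) - 1) * E ^ 2 * (1 + (N : ℤ) * ((q : ℤ) - 1)) - 2 * v * ((q : ℤ) - 1) * E ≤ q) : E = 0 := by
  by_contra hne
  set e : ℤ := |E| with he
  have hqe : (q : ℤ) ≤ e := Int.le_of_dvd (abs_pos.mpr hne) ((dvd_abs _ _).mpr hE)
  have hqZ : (3 : ℤ) ≤ q := by exact_mod_cast hq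
  have hNZ : (1 : ℤ) ≤ N := by exact_mod_cast hN
  have hvZ : (v : ℤ) ≤ q * N + 1 := by exact_mod_cast hv
  have hsq : E ^ 2 = e * e := by rw [he, abs_mul_abs_self, sq]
  have hEe : E ≤ e := le_abs_self E
  set a : ℤ := 1 + (N : ℤ) * ((q : ℤ) - 1) with ha
  have ha0 : 0 ≤ a := by rw [ha]; nlinarith
  have h1 : 1 ≤ e * a - 2 * v := by
    have : (q : ℤ) * a ≤ e * a := mul_le_mul_of_nonneg_right hqe ha0
    rw [ha] at this ⊢
    nlinarith [mul_le_mul_of_nonneg_left hqZ (show (0 : ℤ) ≤ (N : ℤ) * q by positivity)]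
  have h2 : ((q : ℤ) - 1) * (e * (e * a - 2 * v)) ≤ q := by
    have : 2 * (v : ℤ) * ((q : ℤ) - 1) * E ≤ 2 * (v : ℤ) * ((q : ℤ) - 1) * e :=
      mul_le_mul_of_nonneg_left hEe (mul_nonneg (by positivity) (by linarith))
    rw [hsq] at h
    linarith
  have h3 : ((q : ℤ) - 1) * (e * 1) ≤ ((q : ℤ) - 1) * (e * (e * a - 2 * v)) :=
    mul_le_mul_of_nonneg_left (mul_le_mul_of_nonneg_left h1 (by linarith)) (by linarith)
  nlinarith [mul_le_mul_of_nonneg_left hqe (show (0 : ℤ) ≤ (q : ℤ) - 1 by linarith)]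

namespace Config

variable {c : Config G}

namespace IsThree

variable (h : c.IsThree)
include h

theorem index_V : 2 * c.p + 1 ≤ (centralizer (c.swap.H : Set G)).relIndex c.V ∧
    Nat.card c.T = c.p * (centralizer (c.swap.H : Set G)).relIndex c.V * Nat.card (Cfsg.fittingOf c.T) := by
  have K := Final.kernelModule_two c.T_typeP h.tII h.q_prime
  refine ⟨?_, c.swap.card_S h.tII h.q_prime⟩
  set u := (centralizer (Cfsg.fittingHallOf c.T : Set G)).relIndex c.V with hu
  show 2 * c.p + 1 ≤ u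
  have h1 : u ≡ 1 [MOD c.p] := K.index_modEq
  have h2 : u ≡ 1 [MOD 2] := Nat.odd_iff.mp
    ((c.minimal.1.of_dvd_nat (Subgroup.card_subgroup_dvd_card c.V)).of_dvd_nat K.index_dvd)
  have hcop : Nat.Coprime 2 c.p := (c.minimal.1.of_dvd_nat (Subgroup.card_subgroup_dvd_card c.W₂)).coprime_two_left
  have h3 : u ≡ 1 [MOD 2 * c.p] := (Nat.modEq_and_modEq_iff_modEq_mul hcop).mp ⟨h2, h1⟩
  have h4 : u ≠ 1 := K.index_ne_one
  have h5 : u ≠ 0 := fun e => by rw [Nat.ModEq, e] at h2; simp at h2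
  have := Nat.le_of_dvd (by omega) ((Nat.modEq_iff_dvd' (by omega)).mp h3.symm)
  omega

theorem card_G_ge : 400 * c.p ≤ Nat.card G := by
  have hq := c.q_ge_three
  have hp := c.p_ge_three
  have hv := h.idx_large
  have hF : c.p ^ 3 ≤ Nat.card (Cfsg.fittingOf c.S) :=
    calc c.p ^ 3 ≤ c.p ^ c.q := Nat.pow_le_pow_right (by omega) hq
      _ = Nat.card (kernelOne c.S c.U) := h.kernel.card.symm
      _ ≤ _ := Nat.le_of_dvd Nat.card_pos (card_dvd_of_le h.kernelOne_le)
  have hi : 3 ≤ c.S.index := by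
    obtain ⟨j, hj⟩ : Odd c.S.index := c.minimal.1.of_dvd_nat c.S.index_dvd_card
    have : c.S.index ≠ 1 := fun e => c.S_max.1 (Subgroup.index_eq_one.mp e)
    omega
  rw [← c.S.card_mul_index, h.card_S]
  calc 400 * c.p ≤ 567 * c.p := Nat.mul_le_mul_right _ (by norm_num)
    _ ≤ 63 * c.p ^ 3 := by
      have : 3 * 3 * c.p ≤ c.p * c.p * c.p := Nat.mul_le_mul_right _ (Nat.mul_le_mul hp hp)
      calc 567 * c.p = 63 * (3 * 3 * c.p) := by ring
        _ ≤ 63 * (c.p * c.p * c.p) := Nat.mul_le_mul_left _ this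
        _ = _ := by ring
    _ = 3 * 7 * c.p ^ 3 * 3 := by ring
    _ ≤ c.q * c.idx * Nat.card (Cfsg.fittingOf c.S) * c.S.index :=
      Nat.mul_le_mul (Nat.mul_le_mul (Nat.mul_le_mul hq (by omega)) hF) hi

set_option maxHeartbeats 1000000 in
open scoped Classical in
/-- The pattern `C(l,1) = 1` is impossible. -/
theorem not_row (hrow : ∀ ξ : c.der →* ℂˣ, ξ ≠ 1 → ∀ (l : c.W₁ →* ℂˣ) (k : c.W₂ →* ℂˣ),
    c.coef (ind c.der 1 ξ) l k = if k = 1 then 1 else 0) : False := by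
  have hG := c.minimal
  have := CyclicTI.finite_hom c.W₁
  have := CyclicTI.finite_hom c.W₂
  have := Fintype.ofFinite (c.W₁ →* ℂˣ)
  have := Fintype.ofFinite (c.W₂ →* ℂˣ)
  have : Nontrivial (c.W₁ →* ℂˣ) := Finite.one_lt_card_iff_nontrivial.mp (c.card_hom_W₁ ▸ h.q_prime.one_lt)
  obtain ⟨l₀, hl₀⟩ := exists_ne (1 : c.W₁ →* ℂˣ)
  obtain ⟨R, hR1, hR2, -, hR4⟩ := h.exists_orbitReps
  have hvN : c.idx ≤ c.q * R.card + 1 := h.idx_le_relIndex.trans hR4
  have hN : 1 ≤ R.card := by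
    by_contra hlt
    have := h.idx_large
    have := c.q_ge_three
    rw [show R.card = 0 by omega, mul_zero] at hvN
    omega
  obtain ⟨ξ, hξR⟩ := Finset.card_pos.mp hN
  have hξ := hR1 ξ hξR
  let Y : (c.der →* ℂˣ) → G → ℂ := fun η => Side.col c 1 - ind c.der 1 η
  have hcolcoef : ∀ η, η ≠ 1 → ∀ l k, c.coef (Y η) l k = 0 := fun η hη l k => by
    rw [c.coef_sub, Side.coef_col, hrow η hη]
    by_cases hk : (1 : c.W₂ →* ℂˣ) = k
    · rw [if_pos hk, if_pos hk.symm, sub_self]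
    · rw [if_neg hk, if_neg (Ne.symm hk), sub_self]
  have hcol : ∀ θ : G → ℂ, classInner θ (Side.col c 1) = ∑ l, c.coef θ l 1 := fun θ => Side.inner_col θ 1
  have hGP : ∀ η : c.der →* ℂˣ, η ≠ 1 → classInner (ind c.der 1 η) (Side.col c 1) = (c.q : ℂ) := fun η hη => by
    rw [hcol, Finset.sum_congr rfl fun l _ => (hrow η hη l 1).trans (if_pos rfl), Finset.sum_const,
      Finset.card_univ, c.card_hom₁, nsmul_one]
  have hPP : classInner (Side.col c 1) (Side.col c 1) = (c.q : ℂ) := by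
    rw [hcol, Finset.sum_congr rfl fun l _ => (Side.coef_col 1 l 1).trans (if_pos rfl), Finset.sum_const,
      Finset.card_univ, c.card_hom₁, nsmul_one]
  have hYY : ∀ a b : c.der →* ℂˣ, a ≠ 1 → b ≠ 1 →
      classInner (Y a) (Y b) = (orbCount h.tiDerived a b : ℂ) := fun a b ha hb => by
    show classInner (Side.col c 1 - _) (Side.col c 1 - _) = _
    rw [classInner_sub_left, classInner_sub_right, classInner_sub_right, hPP, h.inner_G1 ha hb, hGP a ha,
      show classInner (Side.col c 1) (ind c.der 1 b) = conj (classInner (ind c.der 1 b) (Side.col c 1)) from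
        (classInner_conj_symm _ _).symm, hGP b hb, map_natCast]
    push_cast; ring
  -- coefficients of `μ_k`
  have hmu : ∀ k, k ≠ 1 → (∀ l, c.coef (h.mu k ξ) l 1 = 0) ∧
      ∀ r ∈ R, classInner (h.mu k ξ) (Y r) = -((c.idx : ℂ) * (orbCount h.tiDerived ξ r : ℂ)) := by
    intro k hk
    obtain ⟨C, hC⟩ := c.exists_icoef (h.mu_gen k ξ)
    have h11 : C 1 1 = 0 := by
      have e := c.coef_one_one (h.mu k ξ)
      rw [h.mu_const hk hξ, hC] at e
      exact_mod_cast e
    set E := C l₀ 1 with hEdef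
    have hl : ∀ l, l ≠ 1 → C l 1 = E := fun l hl => by
      have e := c.coef_axis₁ h.q_prime (Subgroup.card_subgroup_dvd_card c.der) h.coprime_derived
        (θ := h.mu k ξ) (fun n hn h1 l k' => by rw [h.mu_galois hn h1]) hl₀ hl
      rw [hC, hC] at e
      exact_mod_cast e
    have hqE : (c.q : ℤ) ∣ E := by
      have e := h.mu_congr ξ l₀ 1 (hC l₀ 1) (C := 1) (by rw [hrow ξ hξ, if_pos rfl]; simp) (k₀ := k)
      rwa [if_neg hk, if_pos rfl, zero_sub, sub_neg_eq_add, sub_add_cancel] at e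
    have hsum : ∀ r ∈ R, classInner (h.mu k ξ) (Y r) =
        ((((c.q : ℤ) - 1) * E - (if r = ξ then (c.idx : ℤ) else 0) : ℤ) : ℂ) := by
      intro r hr
      show classInner _ (Side.col c 1 - _) = _
      rw [classInner_sub_right, hcol, h.inner_mu_ind hk, h.orb_one_left hξ,
        ← Finset.add_sum_erase _ _ (Finset.mem_univ (1 : c.W₁ →* ℂˣ)), hC, h11,
        Finset.sum_congr rfl fun l hl' => (hC l 1).trans (by rw [hl l (Finset.ne_of_mem_erase hl')]),
        Finset.sum_const, Finset.card_erase_of_mem (Finset.mem_univ _), Finset.card_univ, c.card_hom₁,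
        nsmul_eq_mul, Nat.cast_sub h.q_prime.one_le]
      split_ifs with hr'
      · rw [hr', h.orb_self hξ]; push_cast; ring
      · rw [h.orb_zero fun x e => hr' (hR2 ξ hξR r hr x e).symm]; push_cast; ring
    have hb := c.bessel R Y (fun a ha b hb hne => by
        rw [hYY a b (hR1 a ha) (hR1 b hb), h.orb_zero fun x e => hne (hR2 a ha b hb x e), Complex.ofReal_zero])
      (fun a ha => by rw [hYY a a (hR1 a ha) (hR1 a ha), h.orb_self (hR1 a ha), Complex.ofReal_one])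
      (fun a ha l k' => hcolcoef a (hR1 a ha) l k') (h.mu k ξ)
    rw [Finset.sum_congr (s₁ := R) rfl (f := fun r => Complex.normSq (classInner (h.mu k ξ) (Y r)))
        (g := fun r => (((((c.q : ℤ) - 1) * E - (if r = ξ then (c.idx : ℤ) else 0)) *
          (((c.q : ℤ) - 1) * E - (if r = ξ then (c.idx : ℤ) else 0)) : ℤ) : ℝ))
        fun r hr => by rw [hsum r hr, Complex.normSq_intCast]; push_cast; ring,
      h.inner_mu_mu hk hk hξ, if_pos rfl] at hb
    simp only [hC, Complex.normSq_intCast, Complex.add_re, Complex.natCast_re, ← Nat.cast_pow] at hb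
    have hZ : ∑ l, ∑ k', C l k' * C l k' +
        ∑ r ∈ R, (((c.q : ℤ) - 1) * E - (if r = ξ then (c.idx : ℤ) else 0)) *
          (((c.q : ℤ) - 1) * E - (if r = ξ then (c.idx : ℤ) else 0)) ≤ (c.q : ℤ) + (c.idx : ℤ) ^ 2 := by
      rw [← Int.cast_le (R := ℝ)]
      push_cast at hb ⊢
      linarith
    have hlow : ((c.q : ℤ) - 1) * E ^ 2 ≤ ∑ l, ∑ k', C l k' * C l k' := by
      refine le_trans ?_ (Finset.sum_le_sum (f := fun l => C l 1 * C l 1) fun l _ =>
        Finset.single_le_sum (f := fun k' => C l k' * C l k') (fun j _ => mul_self_nonneg _) (Finset.mem_univ 1))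
      rw [← Finset.add_sum_erase _ _ (Finset.mem_univ (1 : c.W₁ →* ℂˣ)), h11,
        Finset.sum_congr rfl fun l hl' => by rw [hl l (Finset.ne_of_mem_erase hl')],
        Finset.sum_const, Finset.card_erase_of_mem (Finset.mem_univ _), Finset.card_univ, c.card_hom₁,
        nsmul_eq_mul, Nat.cast_sub h.q_prime.one_le, sq]
      simp
    have hR' : ∑ r ∈ R, (((c.q : ℤ) - 1) * E - (if r = ξ then (c.idx : ℤ) else 0)) *
          (((c.q : ℤ) - 1) * E - (if r = ξ then (c.idx : ℤ) else 0)) =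
        (R.card : ℤ) * (((c.q : ℤ) - 1) * E) ^ 2 +
          ((c.idx : ℤ) ^ 2 - 2 * (c.idx : ℤ) * (((c.q : ℤ) - 1) * E)) := by
      rw [Finset.sum_congr rfl (g := fun r => (((c.q : ℤ) - 1) * E) ^ 2 +
          if r = ξ then (c.idx : ℤ) ^ 2 - 2 * (c.idx : ℤ) * (((c.q : ℤ) - 1) * E) else 0)
        (fun r _ => by split_ifs <;> ring),
        Finset.sum_add_distrib, Finset.sum_const, Finset.sum_ite_eq', if_pos hξR, nsmul_eq_mul]
    have hE0 : E = 0 := row_arith c.q_ge_three hN hvN hqE (by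
      rw [hR'] at hZ
      linarith [hlow, hZ, show ((c.q : ℤ) - 1) * E ^ 2 * (1 + (R.card : ℤ) * ((c.q : ℤ) - 1)) =
        ((c.q : ℤ) - 1) * E ^ 2 + (R.card : ℤ) * (((c.q : ℤ) - 1) * E) ^ 2 by ring])
    refine ⟨fun l => ?_, fun r hr => ?_⟩
    · rw [hC]
      by_cases hl' : l = 1
      · rw [hl', h11, Int.cast_zero]
      · rw [hl l hl', hE0, Int.cast_zero]
    · rw [hsum r hr, hE0, mul_zero, zero_sub]
      split_ifs with hr'
      · rw [hr', h.orb_self hξ]; push_cast; ring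
      · rw [h.orb_zero fun x e => hr' (hR2 ξ hξR r hr x e).symm]; push_cast; ring
  -- the test function
  set T₀ := (Finset.univ : Finset (c.W₂ →* ℂˣ)).erase 1 with hT₀
  have hT₀c : (T₀.card : ℂ) = (c.p : ℂ) - 1 := by
    rw [hT₀, Finset.card_erase_of_mem (Finset.mem_univ _), Finset.card_univ, c.card_hom₂,
      Nat.cast_sub h.p_prime.one_le, Nat.cast_one]
  set φ : c.der → ℂ := ∑ k ∈ T₀, h.phi k ξ with hφdef
  have hφ : φ 1 = 0 := by
    rw [hφdef, Finset.sum_apply, Finset.sum_eq_zero fun k _ => h.phi_one k ξ]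
  have hΦ : indFun c.der φ = ∑ k ∈ T₀, h.mu k ξ := by
    rw [hφdef, indFun_sum]
    exact Finset.sum_congr rfl fun k _ => (h.mu_eq k ξ).symm
  set χ := Y ξ with hχdef
  have hχc : IsClassFunction G χ := fun g y => by
    show Side.col c 1 _ - ind c.der 1 ξ _ = Side.col c 1 g - ind c.der 1 ξ g
    rw [IsGen.isClassFunction (Side.col_isGen 1) g y, ind_isClassFunction 1 ξ g y]
  have hχn : classInner χ χ = 1 := by rw [hχdef, hYY ξ ξ hξ hξ, h.orb_self hξ, Complex.ofReal_one]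
  have hΦχ : classInner (indFun c.der φ) χ = -(((c.p : ℂ) - 1) * c.idx) := by
    rw [hΦ, classInner_sum_left, Finset.sum_congr rfl fun k hk => by
        rw [hχdef, (hmu k (Finset.ne_of_mem_erase hk)).2 ξ hξR, h.orb_self hξ, Complex.ofReal_one, mul_one],
      Finset.sum_const, nsmul_eq_mul, hT₀c]
    ring
  have hΦΦ : classInner (indFun c.der φ) (indFun c.der φ) =
      ((((c.p : ℝ) - 1) * c.q + ((c.p : ℝ) - 1) ^ 2 * (c.idx : ℝ) ^ 2 : ℝ) : ℂ) := by
    rw [hΦ, classInner_sum_left, Finset.sum_congr rfl (g := fun _ => (c.q : ℂ) + (T₀.card : ℂ) * (c.idx : ℂ) ^ 2)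
      fun i hi => by
        rw [classInner_sum_right, Finset.sum_congr rfl fun j hj =>
          h.inner_mu_mu (Finset.ne_of_mem_erase hi) (Finset.ne_of_mem_erase hj) hξ,
          Finset.sum_add_distrib, Finset.sum_ite_eq, if_pos hi, Finset.sum_const, nsmul_eq_mul],
      Finset.sum_const, nsmul_eq_mul, hT₀c]
    push_cast; ring
  set K : ℝ := ((c.p : ℝ) - 1) * (c.idx : ℝ) ^ 2 / c.q with hK
  have hp3 : (3 : ℝ) ≤ c.p := by exact_mod_cast c.p_ge_three
  have hq3 : (3 : ℝ) ≤ c.q := by exact_mod_cast c.q_ge_three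
  have hv0 : (0 : ℝ) < c.idx := by
    exact_mod_cast (show 0 < c.idx by have := h.idx_large; omega)
  have hK0 : 0 < K := div_pos (mul_pos (by linarith) (pow_pos hv0 2)) (by linarith)
  have hmass : K / (K + 1) ≤ mass c.der c.S χ := by
    have e := normSq_inner_le h.tiDerived hφ hχc
    rw [hΦχ, hΦΦ, Complex.ofReal_re, Complex.normSq_neg,
      show ((c.p : ℂ) - 1) * c.idx = ((((c.p : ℝ) - 1) * c.idx : ℝ) : ℂ) by push_cast; ring,
      Complex.normSq_ofReal] at e
    have hpos : 0 < ((c.p : ℝ) - 1) * c.q + ((c.p : ℝ) - 1) ^ 2 * (c.idx : ℝ) ^ 2 :=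
      add_pos_of_pos_of_nonneg (mul_pos (by linarith) (by linarith)) (by positivity)
    refine le_trans (le_of_eq ?_) ((div_le_iff₀' hpos).mpr e)
    have hq0 : (c.q : ℝ) ≠ 0 := by linarith
    have hden : ((c.p : ℝ) - 1) * (c.idx : ℝ) ^ 2 + c.q ≠ 0 := by nlinarith
    rw [hK, div_add_one hq0, div_div_div_cancel_right₀ hq0, div_eq_div_iff hden hpos.ne']
    ring
  obtain ⟨Rp, hRp, hSR, hTR⟩ := exists_reps c.S_max c.T_max
    (T_ne_S c.minimal c.S_max c.T_max c.S_typeP c.T_typeP)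
  have hFT := isSide_typeTwo hG c.T_max c.T_typeP h.tII
  have hnorm := norm_ge_good hG c.S_max c.T_max c.S_typeP c.T_typeP h.isSide hFT hRp hSR hTR hχc
  rw [hχn, Complex.one_re] at hnorm
  have hid := weight_identity_good hG c.S_max c.T_max c.S_typeP c.T_typeP h.isSide hFT hRp hSR hTR
  set R' := (Rp.erase c.S).erase c.T with hR'
  have hsum : ∑ M ∈ R', weightGood M c.der (Cfsg.fittingOf c.T) ≤ ∑ M ∈ R', (Nat.card M : ℝ)⁻¹ *
      ∑ a : M, Complex.normSq (rho (good M c.der (Cfsg.fittingOf c.T)) M (Cfsg.supportR M) χ a) := by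
    refine Finset.sum_le_sum fun M hM' => ?_
    have hMR : M ∈ Rp := Finset.mem_of_mem_erase (Finset.mem_of_mem_erase hM')
    have hMmax := hRp.max M hMR
    have hMI : Cfsg.IsOfTypeI M := typeOne_of_nconj hG c.S_max c.T_max c.S_typeP c.T_typeP hMmax
      (hRp.nconj hSR hMR (Finset.ne_of_mem_erase (Finset.mem_of_mem_erase hM')).symm)
      (hRp.nconj hTR hMR (Finset.ne_of_mem_erase hM').symm)
    obtain ⟨d⟩ := exists_oneData hG hMmax hMI
    obtain ⟨Kc⟩ := exists_coefs c hMmax hMI d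
    have hodd : Odd (∑ l, Kc.C l 1) := by
      have h1 := Kc.col_parity h.q_prime 1
      rw [Kc.one] at h1
      obtain ⟨t, ht⟩ := h1
      exact ⟨t, by omega⟩
    have hz : (∑ l, Kc.C l 1) ≠ 0 := fun e => by rw [e] at hodd; simp at hodd
    have hrho : ∀ a : M, (a : G) ∈ good M c.der (Cfsg.fittingOf c.T) →
        rho (good M c.der (Cfsg.fittingOf c.T)) M (Cfsg.supportR M) χ a = ((∑ l, Kc.C l 1 : ℤ) : ℂ) := by
      intro a ha
      have := Fintype.ofFinite (Cfsg.supportR M (a : G))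
      have hval : ∀ r : Cfsg.supportR M (a : G), χ ((a : G) * r) = ∑ l, c.eta l 1 ((a : G) * r) := fun r => by
        show Side.col c 1 _ - ind c.der 1 ξ _ = _
        rw [ind_eq_zero_off _ _ (ha.2 r r.2).1, sub_zero, Side.col, Finset.sum_apply]
      have hl : ∀ l, (Nat.card (Cfsg.supportR M (a : G)) : ℂ)⁻¹ *
          ∑ r : Cfsg.supportR M (a : G), c.eta l 1 ((a : G) * r) = (Kc.C l 1 : ℂ) := fun l => by
        rw [← Kc.rho_eq l 1 a ha.1, Frob12.rho_of_mem ha.1, avg, DadeMap.finsum_coe_subgroup]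
      rw [Frob12.rho_of_mem ha, avg, DadeMap.finsum_coe_subgroup, Finset.sum_congr rfl fun r _ => hval r,
        Finset.sum_comm, Finset.mul_sum, Finset.sum_congr rfl fun l _ => hl l]
      push_cast; rfl
    have hsub := (dade_good hG hMmax c.der (Cfsg.fittingOf c.T)).subset
    have hw : weightGood M c.der (Cfsg.fittingOf c.T) = (Nat.card M : ℝ)⁻¹ *
        ∑ a : M, (if (a : G) ∈ good M c.der (Cfsg.fittingOf c.T) then (1 : ℝ) else 0) := by
      rw [Finset.sum_boole, ← Fintype.card_subtype, ← Nat.card_eq_fintype_card, weightGood,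
        ← Nat.card_coe_set_eq, Nat.card_congr (Equiv.subtypeSubtypeEquivSubtype fun {a} h => hsub h :
          {a : M // (a : G) ∈ good M c.der (Cfsg.fittingOf c.T)} ≃ _), inv_mul_eq_div]
    rw [hw]
    refine mul_le_mul_of_nonneg_left (Finset.sum_le_sum fun a _ => ?_) (by positivity)
    by_cases ha : (a : G) ∈ good M c.der (Cfsg.fittingOf c.T)
    · rw [if_pos ha, hrho a ha, Complex.normSq_intCast]
      exact_mod_cast (mul_self_pos.mpr hz : 0 < (∑ l, Kc.C l 1) * (∑ l, Kc.C l 1))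
    · rw [if_neg ha]; exact Complex.normSq_nonneg _
  obtain ⟨hu, hT⟩ := h.index_V
  set u := (centralizer (c.swap.H : Set G)).relIndex c.V
  have hS1 : ((Nat.card c.der : ℝ) - 1) / Nat.card c.S ≤ 1 / c.q := by
    rw [h.card_S_der, Nat.cast_mul]
    have : (0 : ℝ) < Nat.card c.der := Nat.cast_pos.mpr Nat.card_pos
    rw [div_le_div_iff₀ (by positivity) (by positivity)]
    nlinarith
  have hu7 : (7 : ℝ) ≤ u := by exact_mod_cast (show 7 ≤ u by have := c.p_ge_three; omega)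
  have hT1 : ((Nat.card (Cfsg.fittingOf c.T) : ℝ) - 1) / Nat.card c.T ≤ 1 / ((c.p : ℝ) * u) := by
    rw [hT, Nat.cast_mul, Nat.cast_mul]
    have : (0 : ℝ) < Nat.card (Cfsg.fittingOf c.T) := Nat.cast_pos.mpr Nat.card_pos
    rw [div_le_div_iff₀ (by positivity) (by positivity)]
    nlinarith
  have hg : (0 : ℝ) ≤ (Nat.card G : ℝ)⁻¹ * Complex.normSq (χ 1) :=
    mul_nonneg (by positivity) (Complex.normSq_nonneg _)
  have hWhat : (0 : ℝ) ≤ (Nat.card ↥(c.W₁ ⊔ c.W₂) : ℝ)⁻¹ * ∑ w : ↥(c.W₁ ⊔ c.W₂),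
      (if (w : G) ∈ What c.W₁ c.W₂ then Complex.normSq (χ w) else 0) :=
    mul_nonneg (by positivity) (Finset.sum_nonneg fun w _ => by
      split_ifs
      · exact Complex.normSq_nonneg _
      · exact le_rfl)
  have hTmass := mass_nonneg (hFT.isTISide hG) χ
  have heps : (Nat.card G : ℝ)⁻¹ ≤ 1 / (400 * (c.p : ℝ)) := by
    rw [one_div]
    gcongr
    exact_mod_cast h.card_G_ge
  refine typeThree_B_one (q := c.p) (p := c.q) c.p_ge_three c.q_ge_three (u := u) (v := c.idx) hu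
    h.idx_large (W := K + 1) (ε := 1 / (400 * (c.p : ℝ))) (by rw [hK]; linarith) le_rfl ?_
  rw [show (Nat.card c.W₁ : ℝ) = c.q from rfl, show (Nat.card c.W₂ : ℝ) = c.p from rfl] at hid
  have hKK : K / (K + 1) = 1 - 1 / (K + 1) := by
    field_simp
    ring
  have e : (1 / (c.p : ℝ)) * (1 - 1 / c.q - 1 / u) =
      1 - ((c.q : ℝ) - 1) * ((c.p : ℝ) - 1) / ((c.q : ℝ) * c.p) - 1 / c.q - 1 / ((c.p : ℝ) * u) := by
    have hp0 : (c.p : ℝ) ≠ 0 := by linarith
    have hq0 : (c.q : ℝ) ≠ 0 := by linarith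
    have hu0 : (u : ℝ) ≠ 0 := by linarith
    field_simp
    ring
  rw [e]
  linarith

/-- `p < q` and the pattern of `Ind (1 − ξ)`. -/
theorem col : c.p < c.q ∧ ∀ ξ : c.der →* ℂˣ, ξ ≠ 1 → ∀ (l : c.W₁ →* ℂˣ) (k : c.W₂ →* ℂˣ)
    [Decidable (l = 1)], c.coef (ind c.der 1 ξ) l k = if l = 1 then 1 else 0 := by
  classical
  rcases h.pattern with hrow | hcol
  · exact (h.not_row fun ξ hξ l k => hrow ξ hξ l k).elim
  · exact hcol

theorem lt : c.p < c.q := h.col.1

set_option maxHeartbeats 1000000 in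
/-- `[S' : S''] < (2 q + 1) v`. -/
theorem relIndex_lt : ⁅c.der, c.der⁆.relIndex c.der < (2 * c.q + 1) * c.idx := by
  classical
  have := CyclicTI.finite_hom c.W₁
  have := CyclicTI.finite_hom c.W₂
  have := Fintype.ofFinite (c.W₁ →* ℂˣ)
  have := Fintype.ofFinite (c.W₂ →* ℂˣ)
  have : Nontrivial (c.W₁ →* ℂˣ) := Finite.one_lt_card_iff_nontrivial.mp (c.card_hom_W₁ ▸ h.q_prime.one_lt)
  have : Nontrivial (c.W₂ →* ℂˣ) := Finite.one_lt_card_iff_nontrivial.mp (c.card_hom_W₂ ▸ h.p_prime.one_lt)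
  obtain ⟨l₀, hl₀⟩ := exists_ne (1 : c.W₁ →* ℂˣ)
  obtain ⟨k, hk⟩ := exists_ne (1 : c.W₂ →* ℂˣ)
  obtain ⟨R, hR1, hR2, -, hR4⟩ := h.exists_orbitReps
  obtain ⟨X, hX1, hX2, hX3⟩ := h.exists_family
  have hv := h.idx_large
  rcases R.eq_empty_or_nonempty with rfl | ⟨ξ, hξR⟩
  · rw [Finset.card_empty, mul_zero, zero_add] at hR4
    exact lt_of_le_of_lt hR4 (by have := c.q_ge_three; nlinarith)
  have hξ := hR1 ξ hξR
  obtain ⟨C, hC⟩ := c.exists_icoef (h.mu_gen k ξ)
  have h11 : C 1 1 = 0 := by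
    have e := c.coef_one_one (h.mu k ξ)
    rw [h.mu_const hk hξ, hC] at e
    exact_mod_cast e
  have hadd : ∀ l k', C l k' = C l 1 + C 1 k' := by
    intro l k'
    have e := c.coef_add (IsGen.isClassFunction (h.mu_gen k ξ)) (h.mu_What k ξ) l k'
    rw [hC, hC, hC, hC, h11, Int.cast_zero, sub_zero] at e
    exact_mod_cast e
  set E := C l₀ 1 with hEdef
  have hl : ∀ l, l ≠ 1 → C l 1 = E := fun l hl => by
    have e := c.coef_axis₁ h.q_prime (Subgroup.card_subgroup_dvd_card c.der) h.coprime_derived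
      (θ := h.mu k ξ) (fun n hn h1 l k' => by rw [h.mu_galois hn h1]) hl₀ hl
    rw [hC, hC] at e
    exact_mod_cast e
  have hE0 : E ≠ 0 := by
    intro e0
    have e := h.mu_congr ξ l₀ 1 (hC l₀ 1) (C := 0) (by rw [h.col.2 ξ hξ, if_neg hl₀]; simp) (k₀ := k)
    rw [← hEdef, e0, if_neg hk, if_pos rfl] at e
    have := Int.le_of_dvd one_pos (by simpa using e : (c.q : ℤ) ∣ 1)
    have := c.q_ge_three
    omega
  obtain ⟨s₀, hs₀⟩ := IsGen.exists_classInner_eq_intCast (h.mu_gen k ξ)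
    (show IsGeneralizedCharacter G (X ξ) by
      rcases (hX1 ξ hξ).1 with hh | hh
      · exact IsGen.of_irr hh
      · simpa using IsGen.neg (IsGen.of_irr hh))
  set s : ℤ := s₀ + c.idx with hsdef
  have hcoef : ∀ r ∈ R, classInner (h.mu k ξ) (X r) = ((s - if r = ξ then (c.idx : ℤ) else 0 : ℤ) : ℂ) := by
    intro r hr
    by_cases hr' : r = ξ
    · subst hr'
      rw [if_pos rfl, hs₀, hsdef]; simp
    · have e := h.inner_mu_ind hk ξ ξ r
      rw [hX3 ξ r hξ (hR1 r hr), classInner_sub_right, hs₀, h.orb_self hξ,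
        h.orb_zero fun x e' => hr' (hR2 ξ hξR r hr x e').symm] at e
      rw [if_neg hr', hsdef]
      push_cast at e ⊢
      linear_combination -e
  have hb := c.bessel R X (fun a ha b hb hne => by
      rw [hX2 a b (hR1 a ha) (hR1 b hb), h.orb_zero fun x e => hne (hR2 a ha b hb x e), Complex.ofReal_zero])
    (fun a ha => by rw [hX2 a a (hR1 a ha) (hR1 a ha), h.orb_self (hR1 a ha), Complex.ofReal_one])
    (fun a ha l k' => (hX1 a (hR1 a ha)).2 l k') (h.mu k ξ)
  rw [Finset.sum_congr (s₁ := R) rfl (f := fun r => Complex.normSq (classInner (h.mu k ξ) (X r)))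
      (g := fun r => (((s - if r = ξ then (c.idx : ℤ) else 0) * (s - if r = ξ then (c.idx : ℤ) else 0) : ℤ) : ℝ))
      fun r hr => by rw [hcoef r hr, Complex.normSq_intCast]; push_cast; ring,
    h.inner_mu_mu hk hk hξ, if_pos rfl] at hb
  simp only [hC, Complex.normSq_intCast, Complex.add_re, Complex.natCast_re, ← Nat.cast_pow] at hb
  have hZ : ∑ k', ∑ l, C l k' * C l k' + ∑ r ∈ R, (s - if r = ξ then (c.idx : ℤ) else 0) *
      (s - if r = ξ then (c.idx : ℤ) else 0) ≤ (c.q : ℤ) + (c.idx : ℤ) ^ 2 := by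
    rw [Finset.sum_comm, ← Int.cast_le (R := ℝ)]
    push_cast at hb ⊢
    linarith
  have hR' : ∑ r ∈ R, (s - if r = ξ then (c.idx : ℤ) else 0) * (s - if r = ξ then (c.idx : ℤ) else 0) =
      (R.card : ℤ) * s ^ 2 + ((c.idx : ℤ) ^ 2 - 2 * (c.idx : ℤ) * s) := by
    rw [Finset.sum_congr rfl (g := fun r => s ^ 2 +
        if r = ξ then (c.idx : ℤ) ^ 2 - 2 * (c.idx : ℤ) * s else 0) (fun r _ => by split_ifs <;> ring),
      Finset.sum_add_distrib, Finset.sum_const, Finset.sum_ite_eq', if_pos hξR, nsmul_eq_mul]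
  have hE1 : 1 ≤ E * E := by have := mul_self_pos.mpr hE0; omega
  have hq1 : (2 : ℤ) ≤ (c.q : ℤ) - 1 := by have := c.q_ge_three; omega
  have hcolsum : ∀ k', ((∑ l, C l k' * C l k') : ℤ) = C 1 k' * C 1 k' + ((c.q : ℤ) - 1) * (E + C 1 k') ^ 2 := by
    intro k'
    rw [← Finset.add_sum_erase _ _ (Finset.mem_univ (1 : c.W₁ →* ℂˣ)),
      Finset.sum_congr rfl (g := fun _ => (E + C 1 k') ^ 2) fun l hl' => by
        rw [hadd l k', hl l (Finset.ne_of_mem_erase hl'), pow_two],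
      Finset.sum_const, Finset.card_erase_of_mem (Finset.mem_univ _), Finset.card_univ, c.card_hom₁,
      nsmul_eq_mul, Nat.cast_sub h.q_prime.one_le, Nat.cast_one]
  have hcost : ((c.q : ℤ) - 1) + ((c.p : ℤ) - 1) ≤ ∑ k', ∑ l, C l k' * C l k' := by
    rw [← Finset.add_sum_erase _ _ (Finset.mem_univ (1 : c.W₂ →* ℂˣ))]
    refine add_le_add ?_ ?_
    · rw [hcolsum 1, h11]
      nlinarith
    · refine le_trans ?_ (Finset.sum_le_sum (f := fun _ => (1 : ℤ)) fun k' _ => ?_)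
      · rw [Finset.sum_const, Finset.card_erase_of_mem (Finset.mem_univ _), Finset.card_univ, c.card_hom₂,
          nsmul_eq_mul, mul_one, Nat.cast_sub h.p_prime.one_le, Nat.cast_one]
      · rw [hcolsum k']
        by_cases h0 : C 1 k' = 0
        · rw [h0]; nlinarith
        · have := mul_self_pos.mpr h0
          nlinarith [sq_nonneg (E + C 1 k'), mul_nonneg (show (0 : ℤ) ≤ (c.q : ℤ) - 1 by linarith)
            (sq_nonneg (E + C 1 k'))]
  have hp3 : (3 : ℤ) ≤ c.p := by exact_mod_cast c.p_ge_three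
  rw [hR'] at hZ
  have hlt : (R.card : ℤ) * s ^ 2 - 2 * (c.idx : ℤ) * s < 0 := by linarith
  have hN : (R.card : ℤ) + 1 ≤ 2 * c.idx := by
    rcases lt_trichotomy s 0 with hs | hs | hs
    · nlinarith [mul_nonneg (Int.natCast_nonneg R.card) (sq_nonneg s)]
    · rw [hs] at hlt; simp at hlt
    · have h1 : (R.card : ℤ) * s < 2 * c.idx := lt_of_mul_lt_mul_right (by linarith) hs.le
      nlinarith
  have hN' : R.card + 1 ≤ 2 * c.idx := by exact_mod_cast hN
  have := Nat.mul_le_mul_left c.q hN'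
  have hq := c.q_ge_three
  nlinarith

/-- `Q₀ = 1` and `C_U([H, U]) = U'`. -/
theorem small : kernelZero c.S c.U = ⊥ ∧ c.U ⊓ centralizer (kernelOne c.S c.U : Set G) = ⁅c.U, c.U⁆ := by
  by_contra hne
  have h1 := Final.derived_index_ge c.S_typeP h.U_ne h.p_prime h.q_prime c.minimal.1
    (not_and_or.mp hne)
  exact absurd h.relIndex_lt (not_lt.mpr h1)

theorem kernelZero_eq_bot : kernelZero c.S c.U = ⊥ := h.small.1

theorem centU_eq_derived : c.centU = ⁅c.U, c.U⁆ := h.centU_eq.trans h.small.2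

/-- `H = [H, U]`. -/
theorem kernelOne_eq : kernelOne c.S c.U = Cfsg.fittingHallOf c.S := by
  have K := Final.kernelBasic c.S_typeP h.U_ne h.p_prime
  have e := K.sup
  rwa [h.kernelZero_eq_bot, sup_bot_eq] at e

/-- `S'' = F(S)`. -/
theorem derived_two_eq : ⁅c.der, c.der⁆ = Cfsg.fittingOf c.S := by
  refine eq_of_le_of_card_ge (c.S_typeP.derived_two_le.trans c.S_typeP.fitting_eq.le) ?_
  have hrel : ⁅c.der, c.der⁆.relIndex c.der = c.idx := by
    rw [Final.derived_index c.S_typeP h.U_ne h.p_prime c.minimal.1, h.kernelZero_eq_bot, relIndex_bot_right,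
      one_mul, h.small.2, relIndex_self, one_mul]
  have h1 : Nat.card ↥⁅c.der, c.der⁆ * c.idx = Nat.card c.der := by
    rw [← hrel, ← relIndex_bot_left ⁅c.der, c.der⁆, ← relIndex_bot_left c.der]
    exact relIndex_mul_relIndex ⊥ _ c.der bot_le (commutator_le_self _)
  rw [h.card_derived, mul_comm] at h1
  exact (Nat.eq_of_mul_eq_mul_left (show 0 < c.idx by have := h.idx_large; omega) h1).ge

theorem fittingHall_card : Nat.card (Cfsg.fittingHallOf c.S) = c.p ^ c.q := h.kernelOne_eq ▸ h.kernel.card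

theorem fittingHall_elementary : Cfsg.IsElementaryAbelian c.p (Cfsg.fittingHallOf c.S) :=
  h.kernelOne_eq ▸ h.kernel.elem

theorem psi_inv (k : c.W₂ →* ℂˣ) : h.psi k⁻¹ = (h.psi k)⁻¹ := by
  have ha : h.alpha k⁻¹ = (h.alpha k)⁻¹ := by
    refine h.kernel.fixed_restrict.1 _ _ (h.alpha_fixed k⁻¹)
      (fun w hw x x' e => congrArg Inv.inv (h.alpha_fixed k w hw x x' e)) ?_
    rw [h.alpha_restrict]
    exact MonoidHom.ext fun w => congrArg Inv.inv (DFunLike.congr_fun (h.alpha_restrict k) w).symm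
  rw [psi, psi, ha]
  rfl

/-- The shape of a side of type III or IV. -/
theorem shape : c.ThreeShape where
  lt := h.lt
  zero_bot := h.kernelZero_eq_bot
  centU_derived := h.centU_eq_derived
  pattern := h.col.2

end IsThree

end Config

end CfsgLib.OddLocal.FTFinal
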